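import Groth.Agent.Et18.H0Lift.Supports
import Groth.Agent.VarietyLib.GeomField
import Groth.Agent.FlatMorWeight.Comp
import Mathlib.AlgebraicGeometry.Geometrically.Connected
import Mathlib.AlgebraicGeometry.Geometrically.Irreducible

/-!
# Descent of sections along universally open morphisms with connected fibres
-/

set_option autoImplicit false
set_option backward.isDefEq.respectTransparency.types false
set_option backward.isDefEq.respectTransparency false

universe u

open CategoryTheory CategoryTheory.Limits AlgebraicGeometry Opposite TopologicalSpace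

namespace Groth.Agent.Et18.H0Lift

variable {T T' : Scheme.{u}} (m : T' ⟶ T) (G : EtCoh.Ab T)

theorem mono_unit [Surjective m] : Mono ((EtCoh.pullPushAdj m).unit.app G) := by
  refine mono_of_stalks_family (ι := ULift.{u + 1} T') (fun y => algPoint T' y.down ≫ m) (fun x => ?_)
    _ fun y => ?_
  · obtain ⟨y, rfl⟩ := m.surjective x
    exact ⟨⟨y⟩, congrArg m (algPoint_default T' y)⟩
  · intro a b hab
    refine (bijective_toPull m ⟨algPoint T' y.down, rfl⟩ G).1 ?_
    exact congrArg ((fibreNat m (algPoint T' y.down ≫ m) AddCommGrpCat.{u + 1}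
      ⟨algPoint T' y.down, rfl⟩).app ((EtCoh.pull m).obj G)) hab

/-- The difference of two presentations is the pull back of the difference. -/
theorem diffAt_map (σ : EtCoh.sect ((EtCoh.pull m).obj G) (EtCoh.top T')) {V R : T.Etale} (p : R ⟶ V)
    (s : EtCoh.sect G V) :
    ((EtCoh.pull m).obj G).obj.map ((EtCoh.bc m).map p).op (diffAt m G σ V s) =
      diffAt m G σ R (G.obj.map p.op s) := by
  refine (map_sub _ _ _).trans (congrArg₂ (· - ·) ?_ ?_)
  · exact (ConcreteCategory.congr_hom (((EtCoh.pullPushAdj m).unit.app G).hom.naturality p.op) s).symm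
  · rw [← ConcreteCategory.comp_apply, ← Functor.map_comp, ← op_comp]
    exact congrArg (fun k => ((EtCoh.pull m).obj G).obj.map (Quiver.Hom.op k) σ)
      ((EtCore.topIsTerminal T').hom_ext _ _)

theorem diffAt_sub (σ : EtCoh.sect ((EtCoh.pull m).obj G) (EtCoh.top T')) (R : T.Etale)
    (s t : EtCoh.sect G R) : diffAt m G σ R s - diffAt m G σ R t = uAt m G R (s - t) := by
  exact (sub_sub_sub_cancel_right _ _ _).trans (map_sub _ _ _).symm

theorem notMem_sectSupp_zero {X : Scheme.{u}} (F : EtCoh.Ab X) (U : X.Etale) (x : U.left) :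
    x ∉ EtShriek.sectSupp F U 0 := fun h => h U (𝟙 U) ⟨x, rfl⟩ (map_zero _)

theorem notMem_sectSupp_sub {X : Scheme.{u}} (F : EtCoh.Ab X) (U : X.Etale) (s t : EtCoh.sect F U)
    (x : U.left) (hs : x ∉ EtShriek.sectSupp F U s) (ht : x ∉ EtShriek.sectSupp F U t) :
    x ∉ EtShriek.sectSupp F U (s - t) := by
  obtain ⟨v, hv⟩ := exists_fiber_point (algPoint X (U.hom x)) U x (algPoint_default X _).symm
  rw [← hv] at hs ht ⊢
  rw [← gm_eq_zero_iff] at hs ht ⊢
  exact (map_sub _ _ _).trans ((congrArg₂ (· - ·) hs ht).trans (sub_zero 0))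

/-- The support of a difference meets connected fibres in open subsets. -/
theorem isOpen_sectSupp_fibre (σ : EtCoh.sect ((EtCoh.pull m).obj G) (EtCoh.top T')) (V : T.Etale)
    (s : EtCoh.sect G V) (v : V.left) :
    ∀ c : ((EtCoh.bc m).obj V).left, c ∈ EtShriek.sectSupp _ _ (diffAt m G σ V s) →
      EtShriek.prV m V c = v →
      ∃ N : Set ((EtCoh.bc m).obj V).left, IsOpen N ∧ c ∈ N ∧
        ∀ c' ∈ N, EtShriek.prV m V c' = v → c' ∈ EtShriek.sectSupp _ _ (diffAt m G σ V s) := by
  intro c hc hcv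
  obtain ⟨W, t, b, hb, hbd⟩ := exists_local_at m G σ (((EtCoh.bc m).obj V).hom c)
  -- a common point of the fibre product
  let η' := algPoint T' (((EtCoh.bc m).obj V).hom c)
  let ξ : FibrePts m (η' ≫ m) := ⟨η', rfl⟩
  obtain ⟨cv, hcv'⟩ := exists_fiber_point η' ((EtCoh.bc m).obj V) c (algPoint_default T' _).symm
  obtain ⟨bw, hbw⟩ := exists_fiber_point η' ((EtCoh.bc m).obj W) b (hb.trans (algPoint_default T' _).symm)
  let R : T.Etale := Scheme.Etale.mk (pullback.fst V.hom W.hom ≫ V.hom)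
  let p : R ⟶ V := MorphismProperty.Over.homMk (pullback.fst V.hom W.hom) rfl
  let q : R ⟶ W := MorphismProperty.Over.homMk (pullback.snd V.hom W.hom) pullback.condition.symm
  let fib := (Scheme.pointSmallEtale (η' ≫ m)).fiber
  let ev := (bcLiftEquiv m _ ξ V).symm cv
  let ew := (bcLiftEquiv m _ ξ W).symm bw
  let er : fib.obj R := Over.homMk (pullback.lift ev.left ew.left ((Over.w ev).trans (Over.w ew).symm))
    (by
      change pullback.lift _ _ _ ≫ pullback.fst V.hom W.hom ≫ V.hom = _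
      rw [pullback.lift_fst_assoc]
      exact Over.w ev)
  have hp : fib.map p er = ev := Over.OverMorphism.ext (pullback.lift_fst _ _ _)
  have hq : fib.map q er = ew := Over.OverMorphism.ext (pullback.lift_snd _ _ _)
  let r' : ((EtCoh.bc m).obj R).left := fiberPt (bcLift m _ ξ R er)
  have hnatP : ∀ (A : T.Etale) (π : R ⟶ A),
      EtShriek.prV m A (((EtCoh.bc m).map π).left r') = π.left (EtShriek.prV m R r') := fun A π =>
    congrArg (fun k => k r') (EtCoh.isPullback_bc_map m π).w
  have hpt : ∀ (A : T.Etale) (π : R ⟶ A),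
      ((EtCoh.bc m).map π).left r' = fiberPt (bcLift m _ ξ A (fib.map π er)) := by
    intro A π
    refine (fiberPt_map ((EtCoh.bc m).map π) (bcLift m _ ξ R er)).trans (congrArg fiberPt ?_)
    refine (bcLiftEquiv m _ ξ A).symm.injective (Over.OverMorphism.ext ?_)
    change ((bcLift m _ ξ R er).left ≫ ((EtCoh.bc m).map π).left) ≫ EtShriek.prV m A =
      (bcLift m _ ξ A (fib.map π er)).left ≫ EtShriek.prV m A
    have e1 : ((EtCoh.bc m).map π).left ≫ EtShriek.prV m A = EtShriek.prV m R ≫ π.left :=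
      (EtCoh.isPullback_bc_map m π).w
    rw [Category.assoc, e1]
    refine (Category.assoc _ _ _).symm.trans ?_
    exact (congrArg (· ≫ π.left) (pullback.lift_fst _ _ _)).trans (pullback.lift_fst _ _ _).symm
  have hrc : ((EtCoh.bc m).map p).left r' = c :=
    (hpt V p).trans ((congrArg fiberPt ((congrArg _ hp).trans ((bcLiftEquiv m _ ξ V).apply_symm_apply cv))).trans hcv')
  have hrb : ((EtCoh.bc m).map q).left r' = b :=
    (hpt W q).trans ((congrArg fiberPt ((congrArg _ hq).trans ((bcLiftEquiv m _ ξ W).apply_symm_apply bw))).trans hbw)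
  let r := EtShriek.prV m R r'
  have hrv : p.left r = v := (hnatP V p).symm.trans ((congrArg _ hrc).trans hcv)
  let D := G.obj.map p.op s - G.obj.map q.op t
  have hdD : ∀ z, z ∈ EtShriek.sectSupp ((EtCoh.pull m).obj G) ((EtCoh.bc m).obj R)
      (((EtCoh.pull m).obj G).obj.map ((EtCoh.bc m).map p).op (diffAt m G σ V s) -
        ((EtCoh.pull m).obj G).obj.map ((EtCoh.bc m).map q).op (diffAt m G σ W t)) ↔
      EtShriek.prV m R z ∈ EtShriek.sectSupp G R D := fun z => by
    rw [diffAt_map, diffAt_map, diffAt_sub, mem_sectSupp_unit]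
  let S : Set ((EtCoh.bc m).obj R).left :=
    ((EtCoh.bc m).map q).left ⁻¹' (EtShriek.sectSupp _ _ (diffAt m G σ W t))ᶜ
  have hrS : r' ∈ S := by rw [Set.mem_preimage, hrb]; exact hbd
  have hrD : r ∈ EtShriek.sectSupp G R D := by
    by_contra hcon
    refine (mem_sectSupp_map _ ((EtCoh.bc m).map p) (diffAt m G σ V s) r').not.1 ?_ (hrc.symm ▸ hc)
    intro h1
    refine hcon ((hdD r').1 ?_)
    by_contra h2
    have h3 : r' ∉ EtShriek.sectSupp _ _
        (((EtCoh.pull m).obj G).obj.map ((EtCoh.bc m).map q).op (diffAt m G σ W t)) :=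
      fun h => hrS ((mem_sectSupp_map _ ((EtCoh.bc m).map q) _ r').1 h)
    have h4 := notMem_sectSupp_sub _ _ _ _ r' h2 (fun h => h3 (by
      have := notMem_sectSupp_sub _ _ 0 _ r' (notMem_sectSupp_zero _ _ _) h3
      rw [zero_sub] at this
      exact absurd h this))
    rw [sub_neg_eq_add, sub_add_cancel] at h4
    exact h4 h1
  -- isolate `r` in its fibre
  have : Etale p.left := etale_left p
  have := FlatMorWeight.locallyQuasiFinite_of_etale p.left
  have hdisc : DiscreteTopology ↥(p.left ⁻¹' {v}) := (p.left.isDiscrete_preimage_singleton v).to_subtype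
  obtain ⟨O, hO, hOr⟩ := isOpen_induced_iff.1 (isOpen_discrete ({⟨r, hrv⟩} : Set ↥(p.left ⁻¹' {v})))
  have : Etale ((EtCoh.bc m).map p).left := etale_left _
  refine ⟨((EtCoh.bc m).map p).left '' (S ∩ EtShriek.prV m R ⁻¹' O),
    ((EtCoh.bc m).map p).left.isOpenMap _ (((isClosed_sectSupp _ _ _).isOpen_compl.preimage
      (((EtCoh.bc m).map q).left).continuous).inter (hO.preimage (EtShriek.prV m R).continuous)),
    ⟨r', ⟨hrS, ((Set.ext_iff.1 hOr ⟨r, hrv⟩).2 rfl)⟩, hrc⟩, ?_⟩
  rintro _ ⟨z, ⟨hzS, hzO⟩, rfl⟩ hzv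
  have hzp : p.left (EtShriek.prV m R z) = v :=
    (congrArg (fun k => k z) (EtCoh.isPullback_bc_map m p).w).symm.trans hzv
  have hzr : EtShriek.prV m R z = r :=
    congrArg Subtype.val ((Set.ext_iff.1 hOr ⟨EtShriek.prV m R z, hzp⟩).1 hzO)
  by_contra hcon
  have hz := (hdD z).2 (hzr.symm ▸ hrD)
  exact notMem_sectSupp_sub _ _ _ _ z (fun h => hcon ((mem_sectSupp_map _ _ _ z).1 h))
    (fun h => hzS ((mem_sectSupp_map _ _ _ z).1 h)) hz

/-- Global sections descend along surjective universally open morphisms with connected fibres. -/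
theorem bijective_unit_of_connected_fibres [Surjective m] [UniversallyOpen m] [GeometricallyConnected m] :
    Function.Bijective (((EtCoh.pullPushAdj m).unit.app G).hom.app (op (EtCoh.top T))) := by
  have := mono_unit m G
  refine ⟨app_injective_of_mono _ _, fun σ₁ => ?_⟩
  let e : EtCoh.top T' ⟶ (EtCoh.bc m).obj (EtCoh.top T) :=
    MorphismProperty.Over.homMk (pullback.lift m (𝟙 T') ((Category.comp_id m).trans (Category.id_comp m).symm))
      (pullback.lift_snd _ _ _)
  let σ := ((EtCoh.pull m).obj G).obj.map e.op σ₁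
  refine mem_range_of_local G ((EtCoh.pullPushAdj m).unit.app G) (EtCoh.top T) σ₁ fun x => ?_
  obtain ⟨y, rfl⟩ := m.surjective x
  obtain ⟨V, t, c, hc, hcd⟩ := exists_local_at m G σ y
  let φ := EtShriek.prV m V
  have : UniversallyOpen φ := inferInstanceAs (UniversallyOpen (pullback.fst V.hom m))
  have : GeometricallyConnected φ := inferInstanceAs (GeometricallyConnected (pullback.fst V.hom m))
  have hfib : ∀ v : V.left, (∃ c, φ c = v ∧ c ∉ EtShriek.sectSupp _ _ (diffAt m G σ V t)) →
      ∀ c, φ c = v → c ∉ EtShriek.sectSupp _ _ (diffAt m G σ V t) := by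
    rintro v ⟨c₀, hc₀, hc₀d⟩ c₁ hc₁ hc₁d
    have hpre : _root_.IsPreconnected (φ ⁻¹' {v}) := (φ.isConnected_preimage_singleton v).isPreconnected
    choose N hNo hcN hN using fun (z : {z : ((EtCoh.bc m).obj V).left //
        z ∈ EtShriek.sectSupp _ _ (diffAt m G σ V t) ∧ φ z = v}) =>
      isOpen_sectSupp_fibre m G σ V t v z.1 z.2.1 z.2.2
    obtain ⟨z, hzv, hz1, hz2⟩ := hpre (⋃ z, N z) (EtShriek.sectSupp _ _ (diffAt m G σ V t))ᶜ
      (isOpen_iUnion hNo) (isClosed_sectSupp _ _ _).isOpen_compl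
      (fun z hz => by
        by_cases hzd : z ∈ EtShriek.sectSupp _ _ (diffAt m G σ V t)
        · exact Or.inl (Set.mem_iUnion.2 ⟨⟨z, hzd, hz⟩, hcN ⟨z, hzd, hz⟩⟩)
        · exact Or.inr hzd)
      ⟨c₁, hc₁, Set.mem_iUnion.2 ⟨⟨c₁, hc₁d, hc₁⟩, hcN ⟨c₁, hc₁d, hc₁⟩⟩⟩ ⟨c₀, hc₀, hc₀d⟩
    obtain ⟨w, hw⟩ := Set.mem_iUnion.1 hz1
    exact hz2 (hN w z hw hzv)
  let O : V.left.Opens := ⟨φ '' (EtShriek.sectSupp _ _ (diffAt m G σ V t))ᶜ,
    φ.isOpenMap _ (isClosed_sectSupp _ _ _).isOpen_compl⟩
  let W := etalePiece V O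
  let ι := etalePieceHom V O
  refine ⟨W, (EtCore.topIsTerminal T).from W, G.obj.map ι.op t, ⟨⟨φ c, c, hcd, rfl⟩, ?_⟩, ?_⟩
  · have h1 : ((EtCore.topIsTerminal T).from W).left = W.hom :=
      (Category.comp_id _).symm.trans (Over.w ((EtCore.topIsTerminal T).from W).hom)
    refine (congrArg (fun k : W.left ⟶ T => k ⟨φ c, c, hcd, rfl⟩) h1).trans ?_
    change V.hom (φ c) = m y
    refine (congrArg (fun k : pullback V.hom m ⟶ T => k c) pullback.condition).trans ?_
    exact congrArg m hc
  · refine sub_eq_zero.1 (eq_zero_of_sectSupp_eq_empty ((EtCoh.pull m).obj G) ((EtCoh.bc m).obj W)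
      (uAt m G W (G.obj.map ι.op t) -
        ((EtCoh.pull m).obj G).obj.map ((EtCoh.bc m).map ((EtCore.topIsTerminal T).from W)).op σ₁)
      (Set.eq_empty_iff_forall_notMem.2 fun z hz => ?_))
    have hσ₁ : ((EtCoh.pull m).obj G).obj.map ((EtCoh.bc m).map ((EtCore.topIsTerminal T).from W)).op σ₁ =
        ((EtCoh.pull m).obj G).obj.map ((EtCore.topIsTerminal T').from ((EtCoh.bc m).obj W)).op σ := by
      change _ = ((EtCoh.pull m).obj G).obj.map _ (((EtCoh.pull m).obj G).obj.map e.op σ₁)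
      rw [← ConcreteCategory.comp_apply, ← Functor.map_comp, ← op_comp]
      refine congrArg (fun k => ((EtCoh.pull m).obj G).obj.map (Quiver.Hom.op k) σ₁) ?_
      have : Mono ((EtCoh.bc m).obj (EtCoh.top T)).hom := mono_bc_top_hom m
      exact etaleHom_ext ((cancel_mono ((EtCoh.bc m).obj (EtCoh.top T)).hom).1
        ((Over.w ((EtCoh.bc m).map ((EtCore.topIsTerminal T).from W)).hom).trans
          (Over.w ((EtCore.topIsTerminal T').from ((EtCoh.bc m).obj W) ≫ e).hom).symm))
    rw [hσ₁] at hz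
    change z ∈ EtShriek.sectSupp _ _ (diffAt m G σ W (G.obj.map ι.op t)) at hz
    rw [← diffAt_map, mem_sectSupp_map] at hz
    have hsq : φ (((EtCoh.bc m).map ι).left z) = (EtShriek.prV m W z).1 :=
      congrArg (fun k => k z) (EtCoh.isPullback_bc_map m ι).w
    obtain ⟨c₀, hc₀d, hc₀⟩ := (EtShriek.prV m W z).2
    exact hfib _ ⟨c₀, hc₀.trans hsq.symm, hc₀d⟩ _ rfl hz

/-- A field extension of a separably closed field has geometrically connected spectrum. -/
theorem geometricallyConnected_algSpec (k K : Type u) [Field k] [IsSepClosed k] [Field K] [Algebra k K] :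
    GeometricallyConnected (Spec.map (CommRingCat.ofHom (algebraMap k K))) := by
  have h := VarietyLib.geometricallyIrreducible_algSpec k K
  constructor
  intro L _ g Z q p pb
  have : IrreducibleSpace Z := h.1 g q p pb
  infer_instance

end Groth.Agent.Et18.H0Lift
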