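import Groth.Agent.HenselLib.LocalHens
import Mathlib.FieldTheory.IsSepClosed

/-!
# The residue field of the hull at a separably closed field is separably closed
-/

set_option autoImplicit false

universe u

open IsLocalRing Polynomial

namespace Groth.Agent.Et18.H0Lift

open HenselLib

variable (R : Type u) [CommRing R] (Ω : Type u) [Field Ω] [IsSepClosed Ω] [Algebra R Ω]

theorem exists_root_hull (f : (Hull R Ω)[X]) (hf : f.Monic) (x : Ω)
    (h0 : f.eval₂ (hullPt R Ω).toRingHom x = 0) (h1 : f.derivative.eval₂ (hullPt R Ω).toRingHom x ≠ 0) :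
    ∃ a : Hull R Ω, f.IsRoot a ∧ hullPt R Ω a = x := by
  obtain ⟨S, G, hG, rfl⟩ := exists_monic_rep f hf
  have hcomp : (hullPt R Ω).toRingHom.comp (ι S).toRingHom = S.pt.toRingHom :=
    RingHom.ext fun y => hullPt_ι S y
  rw [eval₂_map, hcomp] at h0
  rw [derivative_map, eval₂_map, hcomp] at h1
  let E : StandardEtalePair S.Ring :=
    { f := G, monic_f := hG, g := Polynomial.derivative G, cond := ⟨1, 0, 1, by ring⟩ }
  algebraize [S.pt.toRingHom]
  have : IsScalarTower R S.Ring Ω := IsScalarTower.of_algHom S.pt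
  have hE : E.HasMap (S := Ω) x := ⟨h0, isUnit_iff_ne_zero.mpr h1⟩
  let τ : E.Ring →ₐ[S.Ring] Ω := E.lift _ hE
  let : Algebra R E.Ring := ((algebraMap S.Ring E.Ring).comp (algebraMap R S.Ring)).toAlgebra
  have : IsScalarTower R S.Ring E.Ring :=
    IsScalarTower.of_algebraMap_eq (R := R) (S := S.Ring) (A := E.Ring) fun _ => rfl
  have : Algebra.Etale R E.Ring := Algebra.Etale.comp R S.Ring E.Ring
  obtain ⟨T, c, e, he, hc⟩ := S.exists_hom (τ.restrictScalars R)
    (IsScalarTower.toAlgHom R S.Ring E.Ring) (AlgHom.ext fun y => τ.commutes y)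
  refine ⟨ι T (e.symm E.X), ?_, ?_⟩
  · rw [IsRoot, eval_map]
    have h3 : (ι S).toRingHom = (ι T).toRingHom.comp c.map.toRingHom :=
      RingHom.ext fun y => (ι_map c y).symm
    rw [h3]
    refine (hom_eval₂ G c.map.toRingHom (ι T).toRingHom (e.symm E.X)).symm.trans ?_
    have h5 : aeval E.X G = 0 := E.hasMap_X.1
    rw [aeval_def] at h5
    have h6 : c.map.toRingHom = e.symm.toAlgHom.toRingHom.comp (algebraMap S.Ring E.Ring) := by
      rw [hc]; rfl
    have h7 : G.eval₂ c.map.toRingHom (e.symm E.X) = 0 := by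
      rw [h6]
      exact (hom_eval₂ G (algebraMap S.Ring E.Ring) e.symm.toAlgHom.toRingHom E.X).symm.trans
        ((congrArg e.symm h5).trans (map_zero _))
    rw [h7, map_zero]
  · rw [hullPt_ι, ← he, e.apply_symm_apply]
    exact E.lift_X x hE

theorem isSepClosed_residueField_hull [IsLocalRing (Hull R Ω)] :
    IsSepClosed (ResidueField (Hull R Ω)) := by
  have : IsLocalHom (hullPt R Ω).toRingHom := isLocalHom_hullPt
  refine IsSepClosed.of_exists_root _ fun p hp hirr hsep => ?_
  obtain ⟨f, hfp, -, hf⟩ :=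
    lifts_and_degree_eq_and_monic (map_surjective (residue _) residue_surjective p) hp
  let ψ : ResidueField (Hull R Ω) →+* Ω := ResidueField.lift (hullPt R Ω).toRingHom
  have hψ : ψ.comp (residue _) = (hullPt R Ω).toRingHom := rfl
  obtain ⟨x, hx⟩ := IsSepClosed.exists_root (p.map ψ)
    (by rw [degree_map]; exact (degree_pos_of_irreducible hirr).ne') hsep.map
  have h0 : f.eval₂ (hullPt R Ω).toRingHom x = 0 := by
    rw [← hψ, ← eval₂_map, hfp, ← eval_map]
    exact hx
  have h1 : f.derivative.eval₂ (hullPt R Ω).toRingHom x ≠ 0 := by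
    rw [← hψ, ← eval₂_map, ← derivative_map, hfp, ← eval_map, ← derivative_map]
    intro h
    exact (hsep.map (f := ψ)).aeval_derivative_ne_zero (x := x) (by simpa [IsRoot] using hx)
      (by simpa using h)
  obtain ⟨a, ha, -⟩ := exists_root_hull R Ω f hf x h0 h1
  refine ⟨residue _ a, ?_⟩
  change p.eval _ = 0
  rw [← hfp, eval_map, eval₂_at_apply, ha.eq_zero, map_zero]

end Groth.Agent.Et18.H0Lift
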