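import Groth.Agent.Et18.H0Lift.PullSetsOf
import Groth.Agent.Et18.SecPullBaseChange

/-!
# From base change for abelian sheaves to base change for sheaves of sets
-/

set_option autoImplicit false
set_option backward.isDefEq.respectTransparency.types false
set_option backward.isDefEq.respectTransparency false

universe u

open CategoryTheory CategoryTheory.Limits AlgebraicGeometry Opposite

namespace Groth.Agent.Et18.H0Lift

variable {X Y X' Y' : Scheme.{u}} (f : X ⟶ Y) (g : Y' ⟶ Y) (f' : X' ⟶ Y') (g' : X' ⟶ X)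
  (w : g' ≫ f = f' ≫ g)

/-- The base change morphism for sheaves of sets as a natural transformation. -/
noncomputable def bcNatSh : EtDesc.pushSh f ⋙ EtDesc.pullSh g ⟶ EtDesc.pullSh g' ⋙ EtDesc.pushSh f' where
  app F := EtBC.baseChange0Sh f g f' g' w F
  naturality F G a := by
    unfold EtBC.baseChange0Sh
    refine ((EtDesc.adjSh g).homEquiv_naturality_left_symm _ _).symm.trans
      (Eq.trans (congrArg _ ?_) ((EtDesc.adjSh g).homEquiv_naturality_right_symm _ _))
    simp only [Category.assoc]
    rw [← Functor.map_comp_assoc]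
    have h1 : a ≫ (EtDesc.adjSh g').unit.app G =
        (EtDesc.adjSh g').unit.app F ≫ (EtDesc.pushSh g').map ((EtDesc.pullSh g').map a) :=
      (EtDesc.adjSh g').unit.naturality a
    rw [h1, Functor.map_comp_assoc]
    congr 1
    exact ((EtDesc.pushCompSh f g').hom ≫ (EtBC.pushCongrSh w).hom ≫
      (EtDesc.pushCompSh g f').inv).naturality ((EtDesc.pullSh g').map a)

theorem baseChange0Sh_setsOf (G : EtCoh.Ab X) :
    EtBC.baseChange0Sh f g f' g' w ((setsOf X).obj G) ≫ (EtDesc.pushSh f').map (pullSetsHom g' G) =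
      pullSetsHom g ((EtCoh.push f).obj G) ≫ (setsOf Y').map (EtCoh.baseChange0 f g f' g' w G) := by
  apply ((EtDesc.adjSh g).homEquiv _ _).injective
  refine ((EtDesc.adjSh g).homEquiv_unit _ _ _).trans
    (Eq.trans ?_ ((EtDesc.adjSh g).homEquiv_unit _ _ _).symm)
  refine Sheaf.hom_ext (NatTrans.ext (funext fun V => ?_))
  change ((EtDesc.adjSh g).unit.app ((EtDesc.pushSh f).obj ((setsOf X).obj G))).hom.app V ≫
      (EtBC.baseChange0Sh f g f' g' w ((setsOf X).obj G)).hom.app (op ((EtCoh.bc g).obj V.unop)) ≫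
      (pullSetsHom g' G).hom.app (op ((EtCoh.bc f').obj ((EtCoh.bc g).obj V.unop))) =
    ((EtDesc.adjSh g).unit.app ((setsOf Y).obj ((EtCoh.push f).obj G))).hom.app V ≫
      (pullSetsHom g ((EtCoh.push f).obj G)).hom.app (op ((EtCoh.bc g).obj V.unop)) ≫
      (forget AddCommGrpCat.{u + 1}).map
        ((EtCoh.baseChange0 f g f' g' w G).hom.app (op ((EtCoh.bc g).obj V.unop)))
  rw [← Category.assoc, ← Category.assoc (((EtDesc.adjSh g).unit.app
    ((setsOf Y).obj ((EtCoh.push f).obj G))).hom.app V)]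
  refine (congrArg (· ≫ _) (unit_baseChange0Sh f g f' g' w ((setsOf X).obj G) V.unop)).trans ?_
  refine Eq.trans ?_ (congrArg (· ≫ _) (unit_pullSetsHom g ((EtCoh.push f).obj G) V.unop)).symm
  refine Eq.trans ?_ ((forget AddCommGrpCat.{u + 1}).map_comp _ _)
  refine Eq.trans ?_ (congrArg (forget AddCommGrpCat.{u + 1}).map
    (unit_baseChange0 f g f' g' w G V.unop)).symm
  refine Eq.trans ?_ ((forget AddCommGrpCat.{u + 1}).map_comp _ _).symm
  refine ((Category.assoc _ _ _).trans (congrArg (_ ≫ ·)
    ((pullSetsHom g' G).hom.naturality (bcSquareHom f g f' g' w V.unop).op))).trans ?_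
  exact (Category.assoc _ _ _).symm.trans
    (congrArg (· ≫ _) (unit_pullSetsHom g' G ((EtCoh.bc f).obj V.unop)))

/-- Base change for sheaves of sets follows from base change for abelian sheaves. -/
theorem isIso_baseChange0Sh_of_ab (h : ∀ G : EtCoh.Ab X, IsIso (EtCoh.baseChange0 f g f' g' w G))
    (F : EtDesc.Sh X) : IsIso (EtBC.baseChange0Sh f g f' g' w F) := by
  have := ((EtDesc.adjSh f).rightAdjoint_preservesLimits :
    PreservesLimitsOfSize.{0, 0} (EtDesc.pushSh f))
  have := ((EtDesc.adjSh f').rightAdjoint_preservesLimits :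
    PreservesLimitsOfSize.{0, 0} (EtDesc.pushSh f'))
  refine isIso_app_of_setsOf (bcNatSh f g f' g' w) (fun G => ?_) F
  have := h G
  have := isIso_pullSetsHom g ((EtCoh.push f).obj G)
  have := isIso_pullSetsHom g' G
  have : IsIso (EtBC.baseChange0Sh f g f' g' w ((setsOf X).obj G) ≫
      (EtDesc.pushSh f').map (pullSetsHom g' G)) := by
    rw [baseChange0Sh_setsOf]; exact IsIso.comp_isIso
  change IsIso (EtBC.baseChange0Sh f g f' g' w ((setsOf X).obj G))
  exact IsIso.of_isIso_comp_right (EtBC.baseChange0Sh f g f' g' w ((setsOf X).obj G))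
    ((EtDesc.pushSh f').map (pullSetsHom g' G))

end Groth.Agent.Et18.H0Lift
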