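import Groth.Agent.Et18.H0Lift.ProperStalk

/-!
# Proper base change for the direct image
-/

set_option autoImplicit false
set_option backward.isDefEq.respectTransparency.types false
set_option backward.isDefEq.respectTransparency false

universe u

open CategoryTheory CategoryTheory.Limits AlgebraicGeometry Opposite TopologicalSpace

namespace Groth.Agent.Et18.H0Lift

variable {X T T' : Scheme.{u}} (a : T' ⟶ T) (b : T ⟶ X) (F : EtCoh.Ab X)

/-- The comparison of inverse images on `pullAt`. -/
theorem compHom_pullAt (U : X.Etale) (l : T' ⟶ U.left) (hl : l ≫ U.hom = a ≫ b)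
    (l' : T' ⟶ ((EtCoh.bc b).obj U).left) (hl' : l' ≫ ((EtCoh.bc b).obj U).hom = a)
    (h : l' ≫ EtShriek.prV b U = l) (t : EtCoh.sect F U) :
    (compHom a b F).hom.app (op (EtCoh.top T')) (pullAt F U l hl t) =
      pullAt ((EtCoh.pull b).obj F) ((EtCoh.bc b).obj U) l' hl' (uAt b F U t) := by
  have hc : sectionHom U l hl ≫ bcPair a b U = sectionHom ((EtCoh.bc b).obj U) l' hl' := by
    refine hom_ext_bc_bc a b U _ _ ?_
    change ((sectionHom U l hl).left ≫ (bcPair a b U).left) ≫ _ ≫ _ =
      (sectionHom ((EtCoh.bc b).obj U) l' hl').left ≫ _ ≫ _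
    rw [Category.assoc, bcPair_fst_fst, sectionHom_fst, ← Category.assoc, sectionHom_fst, h]
  refine (ConcreteCategory.congr_hom ((compHom a b F).hom.naturality (sectionHom U l hl).op)
    (uAt (a ≫ b) F U t)).trans ?_
  refine (congrArg (((EtCoh.pull a).obj ((EtCoh.pull b).obj F)).obj.map (sectionHom U l hl).op)
    (unit_compHom a b F U t)).trans ?_
  rw [← ConcreteCategory.comp_apply, ← Functor.map_comp, ← op_comp, hc]

variable {Y X' Y' : Scheme.{u}} (f : X ⟶ Y) (g : Y' ⟶ Y) (f' : X' ⟶ Y') (g' : X' ⟶ X)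
  (h : IsPullback g' f' f g) {Ω : Type u} [Field Ω] [IsSepClosed Ω] (η' : Spec (CommRingCat.of Ω) ⟶ Y')

theorem toFibreSec_baseChange0 (e : (EtCoh.stalk (η' ≫ g)).obj ((EtCoh.push f).obj F)) :
    (compHom (pullback.fst f' η') g' F).hom.app (op (EtCoh.top (pullback f' η')))
        (toFibreSec F ((IsPullback.of_hasPullback f' η').paste_horiz h) e) =
      toFibreSec ((EtCoh.pull g').obj F) (IsPullback.of_hasPullback f' η')
        ((EtCoh.stalk η').map (EtCoh.baseChange0 f g f' g' h.w F)
          (toPull g (η' ≫ g) ⟨η', rfl⟩ ((EtCoh.push f).obj F) e)) := by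
  obtain ⟨V, v, s, rfl⟩ :=
    (Scheme.pointSmallEtale (η' ≫ g)).toPresheafFiber_jointly_surjective (P := ((EtCoh.push f).obj F).obj) e
  let sq' := IsPullback.of_hasPullback f' η'
  let ξ : FibrePts g (η' ≫ g) := ⟨η', rfl⟩
  let v' := bcLift g (η' ≫ g) ξ V v
  have h1 : (EtCoh.stalk η').map (EtCoh.baseChange0 f g f' g' h.w F)
      (toPull g (η' ≫ g) ξ ((EtCoh.push f).obj F) (gm ((EtCoh.push f).obj F) (η' ≫ g) V v s)) =
      gm ((EtCoh.push f').obj ((EtCoh.pull g').obj F)) η' ((EtCoh.bc g).obj V) v'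
        (((EtCoh.pull g').obj F).obj.map (bcSquareHom f g f' g' h.w V).op
          (uAt g' F ((EtCoh.bc f).obj V) s)) := by
    refine (congrArg _ (gm_unit g ξ ((EtCoh.push f).obj F) V v s).symm).trans ?_
    refine (gm_hom (EtCoh.baseChange0 f g f' g' h.w F) η' _ _ _).trans ?_
    exact congrArg (gm _ η' _ _) (ConcreteCategory.congr_hom (unit_baseChange0 f g f' g' h.w F V) s)
  refine Eq.trans ?_ (congrArg (toFibreSec ((EtCoh.pull g').obj F) sq') h1).symm
  refine Eq.trans ?_ (toFibreSec_gm ((EtCoh.pull g').obj F) sq' ((EtCoh.bc g).obj V) v' _).symm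
  refine Eq.trans ?_ (pullAt_map ((EtCoh.pull g').obj F) (bcSquareHom f g f' g' h.w V) _ _ _).symm
  refine (congrArg _ (toFibreSec_gm F (sq'.paste_horiz h) V v s)).trans ?_
  refine compHom_pullAt _ g' F _ _ _ _ _ ?_ s
  have hw : (bcSquareHom f g f' g' h.w V).left ≫ ((EtCoh.bc g').obj ((EtCoh.bc f).obj V)).hom =
      ((EtCoh.bc f').obj ((EtCoh.bc g).obj V)).hom := Over.w (bcSquareHom f g f' g' h.w V).hom
  refine pullback.hom_ext ?_ ?_
  · change ((fibLift sq' _ v' ≫ (bcSquareHom f g f' g' h.w V).left) ≫ EtShriek.prV g' _) ≫ EtShriek.prV f V =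
      fibLift (sq'.paste_horiz h) V v ≫ EtShriek.prV f V
    rw [fibLift_fst]
    simp only [Category.assoc]
    rw [show (bcSquareHom f g f' g' h.w V).left ≫ EtShriek.prV g' ((EtCoh.bc f).obj V) ≫ EtShriek.prV f V =
      EtShriek.prV f' ((EtCoh.bc g).obj V) ≫ EtShriek.prV g V from bcSquareHom_fst f g f' g' h.w V,
      ← Category.assoc, fibLift_fst, Category.assoc]
    exact congrArg (pullback.snd f' η' ≫ ·) (pullback.lift_fst _ _ _)
  · change ((fibLift sq' _ v' ≫ (bcSquareHom f g f' g' h.w V).left) ≫ EtShriek.prV g' _) ≫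
        ((EtCoh.bc f).obj V).hom =
      fibLift (sq'.paste_horiz h) V v ≫ ((EtCoh.bc f).obj V).hom
    rw [fibLift_hom, Category.assoc, show EtShriek.prV g' ((EtCoh.bc f).obj V) ≫ ((EtCoh.bc f).obj V).hom =
      ((EtCoh.bc g').obj ((EtCoh.bc f).obj V)).hom ≫ g' from pullback.condition, Category.assoc,
      reassoc_of% hw, ← Category.assoc, fibLift_hom]

include h in
theorem isIso_baseChange0_of_isCoupleHom [IsCoupleHom f] [IsCoupleHom f'] :
    IsIso (EtCoh.baseChange0 f g f' g' h.w F) := by
  refine isIso_of_stalks_family (ι := ULift.{u + 1} Y') (fun y => algPoint Y' y.down)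
    (fun y => ⟨⟨y⟩, algPoint_default Y' y⟩) _ fun y => (ConcreteCategory.isIso_iff_bijective _).mpr ?_
  let η' := algPoint Y' y.down
  let sq' := IsPullback.of_hasPullback f' η'
  let t := toPull g (η' ≫ g) ⟨η', rfl⟩ ((EtCoh.push f).obj F)
  let b := (EtCoh.stalk η').map (EtCoh.baseChange0 f g f' g' h.w F)
  have := isIso_compHom (pullback.fst f' η') g' F
  have hκ : Function.Bijective ((compHom (pullback.fst f' η') g' F).hom.app
      (op (EtCoh.top (pullback f' η')))) := by
    have : IsIso ((compHom (pullback.fst f' η') g' F).hom.app (op (EtCoh.top (pullback f' η')))) :=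
      inferInstanceAs (IsIso (((sheafToPresheaf _ _).map (compHom (pullback.fst f' η') g' F)).app _))
    exact ConcreteCategory.bijective_of_isIso _
  have hcomp := hκ.comp (bijective_toFibreSec F (sq'.paste_horiz h))
  rw [show (_ ∘ _) = _ from funext (toFibreSec_baseChange0 F f g f' g' h η')] at hcomp
  refine (Function.Bijective.of_comp_iff (fun z => b z) (bijective_toPull g ⟨η', rfl⟩ _)).mp ?_
  exact (Function.Bijective.of_comp_iff' (bijective_toFibreSec ((EtCoh.pull g').obj F) sq') _).mp hcomp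

include h in
theorem isIso_baseChange0_of_isProper [IsProper f] :
    IsIso (EtCoh.baseChange0 f g f' g' h.w F) :=
  have : IsProper f' := MorphismProperty.of_isPullback (P := @IsProper) h inferInstance
  isIso_baseChange0_of_isCoupleHom F f g f' g' h

include h in
theorem isIso_baseChange0_of_isIntegralHom [IsIntegralHom f] :
    IsIso (EtCoh.baseChange0 f g f' g' h.w F) :=
  have : IsIntegralHom f' := MorphismProperty.of_isPullback (P := @IsIntegralHom) h inferInstance
  isIso_baseChange0_of_isCoupleHom F f g f' g' h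

end Groth.Agent.Et18.H0Lift
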