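import Groth.Agent.Et18.H0Lift.ShriekStalkH0c
import Groth.Agent.Et18.H0Lift.ProperBC0

/-!
# Base change for the direct image with proper support
-/

set_option autoImplicit false
set_option backward.isDefEq.respectTransparency.types false
set_option backward.isDefEq.respectTransparency false

universe u

open CategoryTheory CategoryTheory.Limits AlgebraicGeometry Opposite TopologicalSpace

namespace Groth.Agent.Et18.H0Lift

variable {X Y X' Y' : Scheme.{u}} (f : X ⟶ Y) (g : Y' ⟶ Y) (f' : X' ⟶ Y') (g' : X' ⟶ X)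
  (h : IsPullback g' f' f g) (F : EtCoh.Ab X)

omit F in
include h in
/-- The square comparing the two base changes of an étale scheme over the base. -/
theorem isPullback_bcSquareHom (V : Y.Etale) :
    IsPullback ((bcSquareHom f g f' g' h.w V).left ≫ EtShriek.prV g' ((EtCoh.bc f).obj V))
      (EtShriek.prV f' ((EtCoh.bc g).obj V)) (EtShriek.prV f V) (EtShriek.prV g V) := by
  have hB : IsPullback ((EtCoh.bc f).obj V).hom (EtShriek.prV f V) f V.hom :=
    (IsPullback.of_hasPullback V.hom f).flip
  have hA : IsPullback ((EtCoh.bc f').obj ((EtCoh.bc g).obj V)).hom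
      (EtShriek.prV f' ((EtCoh.bc g).obj V)) f' ((EtCoh.bc g).obj V).hom :=
    (IsPullback.of_hasPullback ((EtCoh.bc g).obj V).hom f').flip
  have hw : (bcSquareHom f g f' g' h.w V).left ≫ ((EtCoh.bc g').obj ((EtCoh.bc f).obj V)).hom =
      ((EtCoh.bc f').obj ((EtCoh.bc g).obj V)).hom := Over.w (bcSquareHom f g f' g' h.w V).hom
  have hg' : EtShriek.prV g' ((EtCoh.bc f).obj V) ≫ ((EtCoh.bc f).obj V).hom =
      ((EtCoh.bc g').obj ((EtCoh.bc f).obj V)).hom ≫ g' := pullback.condition
  have hg : EtShriek.prV g V ≫ V.hom = ((EtCoh.bc g).obj V).hom ≫ g := pullback.condition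
  refine IsPullback.of_right ?_ ((Category.assoc _ _ _).trans (bcSquareHom_fst f g f' g' h.w V)) hB
  rw [Category.assoc, hg', ← Category.assoc, hw, hg]
  exact hA.paste_horiz h

variable [LocallyOfFiniteType f] [LocallyOfFiniteType f']

omit [LocallyOfFiniteType f'] in
theorem exists_shriekBC [LocallyOfFiniteType f'] :
    ∃ k : (EtShriek.lowerShriek f).obj F ⟶
        (EtCoh.push g).obj ((EtShriek.lowerShriek f').obj ((EtCoh.pull g').obj F)),
      k ≫ (EtCoh.push g).map ((shriekToPush f').app ((EtCoh.pull g').obj F)) =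
        (shriekToPush f).app F ≫
          (EtCoh.pullPushAdj g).homEquiv _ _ (EtCoh.baseChange0 f g f' g' h.w F) := by
  have := mono_shriekToPush f' ((EtCoh.pull g').obj F)
  have : Mono ((EtCoh.push g).map ((shriekToPush f').app ((EtCoh.pull g').obj F))) := inferInstance
  refine exists_fac_of_range _ _ fun V => ?_
  rintro _ ⟨z, rfl⟩
  obtain ⟨V⟩ := V
  have hz : PropSupp f F (V := V) (((shriekToPush f).app F).hom.app (op V) z) :=
    (range_shriekToPush f F V).le ⟨z, rfl⟩
  let s : EtCoh.sect F ((EtCoh.bc f).obj V) := ((shriekToPush f).app F).hom.app (op V) z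
  let a := bcSquareHom f g f' g' h.w V
  have ha : ((EtCoh.pullPushAdj g).homEquiv _ _ (EtCoh.baseChange0 f g f' g' h.w F)).hom.app (op V) s =
      ((EtCoh.pull g').obj F).obj.map a.op (uAt g' F ((EtCoh.bc f).obj V) s) := by
    rw [Adjunction.homEquiv_unit]
    exact ConcreteCategory.congr_hom (unit_baseChange0 f g f' g' h.w F V) s
  have hp : PropSupp f' ((EtCoh.pull g').obj F) (V := (EtCoh.bc g).obj V)
      (((EtCoh.pull g').obj F).obj.map a.op (uAt g' F ((EtCoh.bc f).obj V) s)) := by
    refine IsProperOver.of_subset (IsProperOver.preimage hz (isPullback_bcSquareHom f g f' g' h V))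
      (isClosed_sectSupp _ _ _) fun y hy => ?_
    have h1 := (mem_sectSupp_map ((EtCoh.pull g').obj F) a _ y).1 hy
    have h2 := (mem_sectSupp_unit g' F _ s _).1 h1
    exact h2
  obtain ⟨w, hw⟩ := (range_shriekToPush f' ((EtCoh.pull g').obj F) ((EtCoh.bc g).obj V)).ge hp
  exact ⟨w, hw.trans ha.symm⟩

omit [LocallyOfFiniteType f] [LocallyOfFiniteType f'] in
theorem stalk_map_toPull {A B : EtCoh.Ab Y} (φ : A ⟶ B) {Ω : Type u} [Field Ω] [IsSepClosed Ω]
    {η : Spec (CommRingCat.of Ω) ⟶ Y} (ξ : FibrePts g η) (e : (EtCoh.stalk η).obj A) :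
    (EtCoh.stalk ξ.1).map ((EtCoh.pull g).map φ) (toPull g η ξ A e) =
      toPull g η ξ B ((EtCoh.stalk η).map φ e) := by
  have h1 := (fibreNat g η AddCommGrpCat.{u + 1} ξ).naturality ((EtCoh.pull g).map φ)
  have h2 := congrArg (EtCoh.stalk η).map ((EtCoh.pullPushAdj g).unit.naturality φ)
  rw [Functor.map_comp, Functor.map_comp] at h2
  refine (ConcreteCategory.congr_hom h1 ((EtCoh.stalk η).map ((EtCoh.pullPushAdj g).unit.app A) e)).symm.trans
    ?_
  exact congrArg ((fibreNat g η AddCommGrpCat.{u + 1} ξ).app ((EtCoh.pull g).obj B))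
    (ConcreteCategory.congr_hom h2 e).symm

include h in
/-- Base change for the direct image with proper support. -/
theorem exists_iso_shriekBC [IsSeparated f] [IsSeparated f'] :
    ∃ φ : (EtCoh.pull g).obj ((EtShriek.lowerShriek f).obj F) ≅
        (EtShriek.lowerShriek f').obj ((EtCoh.pull g').obj F),
      φ.hom ≫ (shriekToPush f').app ((EtCoh.pull g').obj F) =
        (EtCoh.pull g).map ((shriekToPush f).app F) ≫ EtCoh.baseChange0 f g f' g' h.w F := by
  let G := (EtCoh.pull g').obj F
  obtain ⟨k, hk⟩ := exists_shriekBC f g f' g' h F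
  let k' : (EtCoh.pull g).obj ((EtShriek.lowerShriek f).obj F) ⟶ (EtShriek.lowerShriek f').obj G :=
    ((EtCoh.pullPushAdj g).homEquiv _ _).symm k
  have hk' : k' ≫ (shriekToPush f').app G =
      (EtCoh.pull g).map ((shriekToPush f).app F) ≫ EtCoh.baseChange0 f g f' g' h.w F := by
    refine ((EtCoh.pullPushAdj g).homEquiv _ _).injective ?_
    rw [Adjunction.homEquiv_naturality_right, Adjunction.homEquiv_naturality_left,
      Equiv.apply_symm_apply]
    exact hk
  suffices IsIso k' from ⟨asIso k', hk'⟩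
  refine isIso_of_stalks_family (ι := ULift.{u + 1} Y') (fun y => algPoint Y' y.down)
    (fun y => ⟨⟨y⟩, algPoint_default Y' y⟩) _ fun y => (ConcreteCategory.isIso_iff_bijective _).mpr ?_
  let η' := algPoint Y' y.down
  let sq' := IsPullback.of_hasPullback f' η'
  let ξ : FibrePts g (η' ≫ g) := ⟨η', rfl⟩
  let κ := (compHom (pullback.fst f' η') g' F).hom.app (op (EtCoh.top (pullback f' η')))
  have hκ : Function.Bijective κ := by
    have := isIso_compHom (pullback.fst f' η') g' F
    have : IsIso κ :=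
      inferInstanceAs (IsIso (((sheafToPresheaf _ _).map (compHom (pullback.fst f' η') g' F)).app _))
    exact ConcreteCategory.bijective_of_isIso _
  have key : ∀ e : (EtCoh.stalk (η' ≫ g)).obj ((EtShriek.lowerShriek f).obj F),
      shriekToFibreSec f' G sq' ((EtCoh.stalk η').map k' (toPull g (η' ≫ g) ξ _ e)) =
        κ (shriekToFibreSec f F (sq'.paste_horiz h) e) := by
    intro e
    refine Eq.trans ?_ (toFibreSec_baseChange0 F f g f' g' h η'
      ((EtCoh.stalk (η' ≫ g)).map ((shriekToPush f).app F) e)).symm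
    refine congrArg (toFibreSec G sq') ?_
    have h1 := congrArg (EtCoh.stalk η').map hk'
    rw [Functor.map_comp, Functor.map_comp] at h1
    refine (ConcreteCategory.congr_hom h1 (toPull g (η' ≫ g) ξ _ e)).trans ?_
    exact congrArg ((EtCoh.stalk η').map (EtCoh.baseChange0 f g f' g' h.w F))
      (stalk_map_toPull g ((shriekToPush f).app F) ξ e)
  refine ⟨fun a b hab => ?_, fun z => ?_⟩
  · obtain ⟨a, rfl⟩ := (bijective_toPull g ξ ((EtShriek.lowerShriek f).obj F)).2 a
    obtain ⟨b, rfl⟩ := (bijective_toPull g ξ ((EtShriek.lowerShriek f).obj F)).2 b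
    refine congrArg (toPull g (η' ≫ g) ξ _) (injective_shriekToFibreSec (sq'.paste_horiz h) (hκ.1 ?_))
    exact (key a).symm.trans ((congrArg (shriekToFibreSec f' G sq') hab).trans (key b))
  · obtain ⟨σ₀, hσ₀⟩ := hκ.2 (shriekToFibreSec f' G sq' z)
    have hp : ClSub.IsProperOver (pullback.snd f' η') (gSupp (shriekToFibreSec f' G sq' z)) :=
      (range_shriekToFibreSec (f := f') (F := G) sq').le ⟨z, rfl⟩
    have hs : gSupp (κ σ₀) = gSupp σ₀ := gSupp_splitSec (h := rfl) σ₀
    rw [← hσ₀, hs] at hp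
    obtain ⟨e, he⟩ := (range_shriekToFibreSec (f := f) (F := F) (sq'.paste_horiz h)).ge hp
    refine ⟨toPull g (η' ≫ g) ξ _ e, injective_shriekToFibreSec sq' ?_⟩
    exact (key e).trans ((congrArg κ he).trans hσ₀)

include h in
theorem nonempty_shriekBC [IsSeparated f] [IsSeparated f'] :
    Nonempty ((EtShriek.lowerShriek f').obj ((EtCoh.pull g').obj F) ≅
      (EtCoh.pull g).obj ((EtShriek.lowerShriek f).obj F)) :=
  ⟨(exists_iso_shriekBC f g f' g' h F).choose.symm⟩

end Groth.Agent.Et18.H0Lift
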