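import Groth.Agent.Et18.H0Lift.ConnUnit
import Groth.Agent.Et18.H0Lift.BaseChangeSets
import Groth.Agent.Et18.H0Lift.ShriekBaseChange
import Mathlib.AlgebraicGeometry.Geometrically.Connected

/-!
# Degree zero base change along flat morphisms with geometrically connected factorizations
-/

set_option autoImplicit false
set_option backward.isDefEq.respectTransparency.types false
set_option backward.isDefEq.respectTransparency false

universe u

open CategoryTheory CategoryTheory.Limits AlgebraicGeometry Opposite TopologicalSpace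

namespace Groth.Agent.Et18.H0Lift

theorem connFibres_of_geometricallyConnected {X Y : Scheme.{u}} (p : X ⟶ Y) [GeometricallyConnected p] :
    ConnFibres p := fun Ω _ _ η => by
  have := GeometricallyConnected.geometrically_connectedSpace (f := p) η (pullback.fst p η) (pullback.snd p η)
    (IsPullback.of_hasPullback p η)
  infer_instance

/-- A morphism of sheaves bijective on a family of étale objects covering every object is an isomorphism. -/
theorem isIso_of_cover_bijective {X : Scheme.{u}} {A B : EtCoh.Ab X} (φ : A ⟶ B)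
    (hb : ∀ (U : X.Etale) (y : U.left), ∃ (W : X.Etale) (i : W ⟶ U) (z : W.left), i.left z = y ∧
      Function.Bijective (φ.hom.app (op W))) : IsIso φ := by
  refine isIso_of_stalks_family (ι := ULift.{u + 1} X) (fun y => algPoint X y.down)
    (fun y => ⟨⟨y⟩, algPoint_default X y⟩) _ fun y => (ConcreteCategory.isIso_iff_bijective _).mpr ⟨?_, ?_⟩
  · refine (injective_iff_map_eq_zero ((EtCoh.stalk (algPoint X y.down)).map φ).hom).2 fun δ hδ => ?_
    let ν := algPoint X y.down
    obtain ⟨U, v, s, rfl⟩ := (Scheme.pointSmallEtale ν).toPresheafFiber_jointly_surjective (P := A.obj) δ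
    have h0 := (gm_eq_zero_iff B ν U v _).1 ((gm_hom φ ν U v s).symm.trans hδ)
    obtain ⟨U₀, i₀, v₀, -, hv₀, hC⟩ := exists_shrink U v _ (isClosed_sectSupp B U _) h0
    obtain ⟨W, i, z, hz, hW⟩ := hb U₀ (fiberPt v₀)
    refine (gm_eq_zero_iff A ν U v s).2 ?_
    have hnat : ∀ {P Q : X.Etale} (k : Q ⟶ P) (t : EtCoh.sect A P),
        φ.hom.app (op Q) (A.obj.map k.op t) = B.obj.map k.op (φ.hom.app (op P) t) := fun k t =>
      ConcreteCategory.congr_hom (φ.hom.naturality k.op) t
    have h1 : A.obj.map i.op (A.obj.map i₀.op s) = 0 := by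
      refine hW.1 ?_
      rw [map_zero, hnat, hnat]
      refine eq_zero_of_sectSupp_eq_empty B W _ (Set.eq_empty_iff_forall_notMem.2 fun w hw => ?_)
      exact hC _ ((mem_sectSupp_map B i₀ _ _).1 ((mem_sectSupp_map B i _ w).1 hw))
    intro hm
    rw [← hv₀] at hm
    have h2 : z ∈ EtShriek.sectSupp A W (A.obj.map i.op (A.obj.map i₀.op s)) :=
      (mem_sectSupp_map A i _ z).2 ((mem_sectSupp_map A i₀ s _).2 (Eq.mpr
        (congrArg (fun p => i₀.left p ∈ EtShriek.sectSupp A U s) hz) hm))
    rw [h1] at h2
    exact notMem_sectSupp_zero _ _ _ h2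
  · intro δ
    let ν := algPoint X y.down
    obtain ⟨U, v, t, rfl⟩ := (Scheme.pointSmallEtale ν).toPresheafFiber_jointly_surjective (P := B.obj) δ
    obtain ⟨W, i, z, hz, hW⟩ := hb U (fiberPt v)
    have : Etale i.left := etale_map_left i
    let vl : Spec (CommRingCat.of _) ⟶ U.left := v.left
    obtain ⟨r, -⟩ := exists_fiber_point vl (Scheme.Etale.mk i.left) z hz
    let rl : Spec (CommRingCat.of _) ⟶ W.left := r.left
    have hrl : rl ≫ i.left = vl := Over.w r
    let w : (Scheme.pointSmallEtale ν).fiber.obj W := Over.homMk rl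
      ((congrArg (rl ≫ ·) (Over.w i.hom).symm).trans ((Category.assoc _ _ _).symm.trans
        ((congrArg (· ≫ U.hom) hrl).trans (Over.w v))))
    have hw : (Scheme.pointSmallEtale ν).fiber.map i w = v := Over.OverMorphism.ext hrl
    obtain ⟨s, hs⟩ := hW.2 (B.obj.map i.op t)
    refine ⟨gm A ν W w s, (gm_hom φ ν W w s).trans ?_⟩
    rw [hs, gm_map, hw]

variable {T Y : Scheme.{u}} (e : Y ⟶ T) (F : EtCoh.Ab T)

theorem injective_pullAt_id (U : T.Etale) :
    Function.Injective fun t : EtCoh.sect F U => pullAt F U (𝟙 U.left) (Category.id_comp _) t := by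
  intro s t h
  refine sub_eq_zero.1 (eq_zero_of_sectSupp_eq_empty F U (s - t) (Set.eq_empty_iff_forall_notMem.2 fun y hy => ?_))
  have h0 : pullAt F U (𝟙 U.left) (Category.id_comp _) (s - t) = 0 :=
    (congrArg _ (map_sub _ _ _)).trans ((map_sub _ _ _).trans (sub_eq_zero.2 h))
  have h1 := (mem_sectSupp_pullAt F U (𝟙 _) (Category.id_comp _) (s - t) y).2 hy
  rw [h0] at h1
  exact notMem_sectSupp_zero _ _ _ h1

/-- Sections over an étale object correspond to sections over a flat quasi-compact cover of it with
connected geometric fibres. -/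
theorem bijective_pullAt_of_connFibres {c : Y ⟶ T} (V : T.Etale) (l : Y ⟶ V.left) (hl : l ≫ V.hom = c)
    [Flat l] [QuasiCompact l] [Surjective l] (hc : ConnFibres l) :
    Function.Bijective fun t : EtCoh.sect F V => pullAt F V l hl t := by
  have hu := isIso_unit_of_connFibres (p := l) ((EtCoh.pull V.hom).obj F) hc
  have hb : Function.Bijective (((EtCoh.pullPushAdj l).unit.app ((EtCoh.pull V.hom).obj F)).hom.app
      (op (EtCoh.top V.left))) :=
    ConcreteCategory.bijective_of_isIso
      (((sheafToPresheaf _ _).map ((EtCoh.pullPushAdj l).unit.app ((EtCoh.pull V.hom).obj F))).app _)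
  have key : (fun t : EtCoh.sect F V => pullAt F V l hl t) =
      pullSec l V.hom F hl ∘ fun t => pullAt F V (𝟙 V.left) (Category.id_comp _) t := funext fun t => by
    rw [Function.comp_apply, pullSec_pullAt]
    congr 1
  rw [key]
  exact (bijective_pullSec l V.hom F hl hb).comp ⟨injective_pullAt_id F V, exists_pullAt_id V⟩

/-- The pulled back sections over an étale object mapping to an étale object downstairs by a flat
quasi-compact morphism with connected geometric fibres. -/
theorem bijective_map_unit (W : Y.Etale) (P : T.Etale) (j : W ⟶ (EtCoh.bc e).obj P)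
    (hflat : Flat (j.left ≫ EtShriek.prV e P)) (hqc : QuasiCompact (j.left ≫ EtShriek.prV e P))
    (hsurj : Surjective (j.left ≫ EtShriek.prV e P)) (hc : ConnFibres (j.left ≫ EtShriek.prV e P)) :
    Function.Bijective fun s : EtCoh.sect F P =>
      ((EtCoh.pull e).obj F).obj.map j.op (uAt e F P s) := by
  let l := j.left ≫ EtShriek.prV e P
  have hl : l ≫ P.hom = W.hom ≫ e := by
    simp only [l, Category.assoc]
    rw [show EtShriek.prV e P ≫ P.hom = ((EtCoh.bc e).obj P).hom ≫ e from pullback.condition,
      ← Category.assoc, Over.w j.hom]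
  let σ : EtCoh.sect F P → EtCoh.sect ((EtCoh.pull e).obj F) W := fun s =>
    ((EtCoh.pull e).obj F).obj.map j.op (uAt e F P s)
  have key : ∀ s, toSec e F W (σ s) = pullAt F P l hl s := by
    intro s
    refine eq_of_hasGerm _ _ fun w => ?_
    let ζ := algPoint W.left w
    let η₁ := ζ ≫ W.hom
    let η := η₁ ≫ e
    let ξ : FibrePts (W.hom ≫ e) η := ⟨ζ, (Category.assoc _ _ _).symm⟩
    refine ⟨_, _, inferInstance, η, ξ, gm F η P (fibOf ξ P l hl) s, algPoint_default _ w, ?_,
      hasGerm_pullAt P l hl s ξ⟩
    refine (hasGerm_toSec_iff (σ s) ζ rfl rfl _ _).2 ?_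
    refine (gm_map _ η₁ j _ _).trans ?_
    refine Eq.trans ?_ (gm_unit e (⟨η₁, rfl⟩ : FibrePts e η) F P (fibOf ξ P l hl) s)
    refine congrArg (fun k => gm _ η₁ _ k (uAt e F P s)) ?_
    refine (bcLiftEquiv e η (⟨η₁, rfl⟩ : FibrePts e η) P).symm.injective (Over.OverMorphism.ext ?_)
    change (ζ ≫ j.left) ≫ EtShriek.prV e P = pullback.lift (ζ ≫ l) η₁ _ ≫ EtShriek.prV e P
    rw [pullback.lift_fst, Category.assoc]
  have hinj : Function.Injective (toSec e F W) := by
    intro a b hab
    refine injective_pullAt_id ((EtCoh.pull e).obj F) W ?_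
    have ha := ((bijective_splitSec (F := F) (a := W.hom) (b := e) (h := rfl)).2
      (pullAt ((EtCoh.pull e).obj F) W (𝟙 W.left) (Category.id_comp _) a)).choose_spec
    have hb := ((bijective_splitSec (F := F) (a := W.hom) (b := e) (h := rfl)).2
      (pullAt ((EtCoh.pull e).obj F) W (𝟙 W.left) (Category.id_comp _) b)).choose_spec
    exact ha.symm.trans ((congrArg (splitSec W.hom e rfl) hab).trans hb)
  have := hflat
  have := hqc
  have := hsurj
  have hcomp : Function.Bijective (toSec e F W ∘ σ) := by
    rw [show toSec e F W ∘ σ = fun s => pullAt F P l hl s from funext key]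
    exact bijective_pullAt_of_connFibres F P l hl hc
  exact ⟨hcomp.1.of_comp, hcomp.2.of_comp_left hinj⟩

variable {X S : Scheme.{u}} (f : X ⟶ S) (g : T ⟶ S) (h : Y ⟶ X) (hc : IsPullback e h g f)

include hc in
/-- Base change sections over an étale object factoring through an étale object of the base. -/
theorem bijective_baseChange0_app [Flat f] (U : X.Etale) (V : S.Etale) (a : U.left ⟶ V.left)
    (ha : a ≫ V.hom = U.hom ≫ f) [QuasiCompact a] [GeometricallyConnected a] :
    Function.Bijective ((EtCoh.baseChange0 g f h e hc.w F).hom.app (op U)) := by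
  let G := (EtCoh.push g).obj F
  have : Etale U.hom := U.prop
  have : Etale V.hom := V.prop
  have hflat : Flat a := by
    let γ : U.left ⟶ pullback (U.hom ≫ f) V.hom :=
      pullback.lift (𝟙 _) a ((Category.id_comp _).trans ha.symm)
    have : Etale (γ ≫ pullback.fst (U.hom ≫ f) V.hom) := by
      rw [pullback.lift_fst]; infer_instance
    have : Etale γ := MorphismProperty.of_postcomp (W := @Etale) (W' := @Etale) γ
      (pullback.fst (U.hom ≫ f) V.hom) inferInstance this
    rw [show a = γ ≫ pullback.snd _ _ from (pullback.lift_snd _ _ _).symm]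
    infer_instance
  let iU : U ⟶ (EtCoh.bc f).obj V := MorphismProperty.Over.homMk (pullback.lift a U.hom ha)
    (pullback.lift_snd _ _ _)
  have hiU : iU.left ≫ EtShriek.prV f V = a := pullback.lift_fst _ _ _
  let α : EtCoh.sect G V → EtCoh.sect ((EtCoh.pull f).obj G) U := fun s =>
    ((EtCoh.pull f).obj G).obj.map iU.op (uAt f G V s)
  have hα : Function.Bijective α := bijective_map_unit f G U V iU (hiU.symm ▸ hflat)
    (hiU.symm ▸ ‹QuasiCompact a›) (hiU.symm ▸ (inferInstance : Surjective a))
    (hiU.symm ▸ connFibres_of_geometricallyConnected a)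
  let P := (EtCoh.bc g).obj V
  let W := (EtCoh.bc h).obj U
  let j : W ⟶ (EtCoh.bc e).obj P := (EtCoh.bc h).map iU ≫ bcSquareHom g f h e hc.w V
  let β : EtCoh.sect F P → EtCoh.sect ((EtCoh.pull e).obj F) W := fun s =>
    ((EtCoh.pull e).obj F).obj.map j.op (uAt e F P s)
  let l := j.left ≫ EtShriek.prV e P
  have hlw : l ≫ EtShriek.prV g V = EtShriek.prV h U ≫ a := by
    simp only [l]
    rw [show j.left = ((EtCoh.bc h).map iU).left ≫ (bcSquareHom g f h e hc.w V).left from rfl]
    simp only [Category.assoc]
    have hb : (bcSquareHom g f h e hc.w V).left ≫ EtShriek.prV e P ≫ EtShriek.prV g V =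
        EtShriek.prV h ((EtCoh.bc f).obj V) ≫ EtShriek.prV f V := by
      rw [← Category.assoc]; exact (isPullback_bcSquareHom g f h e hc V).w
    rw [hb, ← Category.assoc, (EtCoh.isPullback_bc_map h iU).w, Category.assoc, hiU]
  have hlP : l ≫ P.hom = W.hom ≫ e := by
    simp only [l, Category.assoc]
    rw [show EtShriek.prV e P ≫ P.hom = ((EtCoh.bc e).obj P).hom ≫ e from pullback.condition,
      ← Category.assoc, Over.w j.hom]
  have sq : IsPullback l (EtShriek.prV h U) (EtShriek.prV g V) a := by
    refine IsPullback.of_right (h₁₂ := P.hom) (h₂₂ := V.hom) ?_ hlw (IsPullback.of_hasPullback V.hom g).flip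
    rw [hlP, ha]
    exact (IsPullback.of_hasPullback U.hom h).flip.paste_horiz hc
  have hl1 : Flat l := MorphismProperty.of_isPullback (P := @Flat) sq.flip hflat
  have hl2 : QuasiCompact l := MorphismProperty.of_isPullback (P := @QuasiCompact) sq.flip inferInstance
  have hl3 : Surjective l := MorphismProperty.of_isPullback (P := @Surjective) sq.flip inferInstance
  have hl4 : ConnFibres l := fun Ω _ _ η => by
    have hZ := (IsPullback.of_hasPullback l η).paste_horiz sq.flip
    have := connFibres_of_geometricallyConnected a Ω (η ≫ EtShriek.prV g V)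
    exact (Scheme.homeoOfIso hZ.isoPullback).symm.surjective.denseRange.preconnectedSpace
      (Scheme.homeoOfIso hZ.isoPullback).symm.continuous
  have hβ : Function.Bijective β := bijective_map_unit e F W P j hl1 hl2 hl3 hl4
  have key : (fun z => (EtCoh.baseChange0 g f h e hc.w F).hom.app (op U) z) ∘ α = β := by
    funext s
    refine (ConcreteCategory.congr_hom ((EtCoh.baseChange0 g f h e hc.w F).hom.naturality iU.op)
      (uAt f G V s)).trans ?_
    have hu : (EtCoh.baseChange0 g f h e hc.w F).hom.app (op ((EtCoh.bc f).obj V)) (uAt f G V s) =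
        ((EtCoh.pull e).obj F).obj.map (bcSquareHom g f h e hc.w V).op (uAt e F P s) :=
      ConcreteCategory.congr_hom (unit_baseChange0 g f h e hc.w F V) s
    refine (congrArg (((EtCoh.push h).obj ((EtCoh.pull e).obj F)).obj.map iU.op) hu).trans ?_
    change ((EtCoh.pull e).obj F).obj.map ((EtCoh.bc h).map iU).op
      (((EtCoh.pull e).obj F).obj.map (bcSquareHom g f h e hc.w V).op (uAt e F P s)) = β s
    rw [← ConcreteCategory.comp_apply, ← Functor.map_comp, ← op_comp]
  rw [← key] at hβ
  exact (Function.Bijective.of_comp_iff _ hα).mp hβ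

include hc in
/-- Base change along a flat morphism with geometrically connected factorizations, abelian sheaves. -/
theorem isIso_baseChange0_of_factorizations [Flat f]
    (hcov : ∀ U : X.Etale, ∃ (ι : Type u) (Uc : ι → X.Etale) (mU : ∀ i, Uc i ⟶ U),
      (∀ y : U.left, ∃ (i : ι) (z : (Uc i).left), (mU i).left.base z = y) ∧
      ∀ i, ∃ (V : S.Etale) (a : (Uc i).left ⟶ V.left),
        a ≫ V.hom = (Uc i).hom ≫ f ∧ QuasiCompact a ∧ GeometricallyConnected a) :
    IsIso (EtCoh.baseChange0 g f h e hc.w F) := by
  refine isIso_of_cover_bijective _ fun U y => ?_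
  obtain ⟨ι, Uc, mU, hy, hf⟩ := hcov U
  obtain ⟨i, z, hz⟩ := hy y
  obtain ⟨V, a, ha, _, _⟩ := hf i
  exact ⟨Uc i, mU i, z, hz, bijective_baseChange0_app e F f g h hc (Uc i) V a ha⟩

end Groth.Agent.Et18.H0Lift
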