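import Groth.Agent.S1992
import Mathlib.AlgebraicGeometry.Normalization
import Mathlib.AlgebraicGeometry.Limits
import Mathlib.FieldTheory.IsAlgClosed.AlgebraicClosure

/-!
# An integral cover with strictly henselian local rings

Every quasi-compact quasi-separated scheme receives an integral surjection from a scheme all of
whose local rings are strictly henselian: normalize in a product of algebraically closed fields.
-/

set_option autoImplicit false

universe u

open CategoryTheory CategoryTheory.Limits AlgebraicGeometry TopologicalSpace Polynomial Opposite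

namespace Groth.Agent.Et18.H0Lift

/-- Monic polynomials of positive degree have roots. -/
def RootClosed (R : Type*) [CommRing R] : Prop :=
  ∀ p : R[X], p.Monic → 0 < p.natDegree → ∃ a, p.IsRoot a

/-- Principal ideals are generated by idempotents. -/
def IdemGen (R : Type*) [CommRing R] : Prop :=
  ∀ r : R, ∃ e u : R, IsIdempotentElem e ∧ r * u = e ∧ e * r = r

theorem rootClosed_of_surjective {R S : Type*} [CommRing R] [CommRing S] (φ : R →+* S)
    (hφ : Function.Surjective φ) (h : RootClosed R) : RootClosed S := by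
  intro p hp hd
  have : Nontrivial S := by
    by_contra hn
    rw [not_nontrivial_iff_subsingleton] at hn
    simp [Subsingleton.elim p 0] at hd
  obtain ⟨q, hq, hqd, hqm⟩ := lifts_and_natDegree_eq_and_monic
    (show p ∈ lifts φ from (lifts_iff_coeff_lifts p).2 fun n => hφ _) hp
  obtain ⟨a, ha⟩ := h q hqm (hqd ▸ hd)
  exact ⟨φ a, hq ▸ ha.map⟩

theorem rootClosed_pi {ι : Type*} {R : ι → Type*} [∀ i, CommRing (R i)] (h : ∀ i, RootClosed (R i)) :
    RootClosed (∀ i, R i) := by
  intro p hp hd
  have : ∀ i, ∃ a, (p.map (Pi.evalRingHom R i)).IsRoot a := fun i => by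
    cases subsingleton_or_nontrivial (R i) with
    | inl _ => exact ⟨0, Subsingleton.elim _ _⟩
    | inr _ => exact h i _ (hp.map _) (by rwa [hp.natDegree_map])
  choose a ha using this
  refine ⟨a, funext fun i => ?_⟩
  have := ha i
  rwa [IsRoot, eval_map, ← show Pi.evalRingHom R i a = a i from rfl, eval₂_hom] at this

theorem rootClosed_of_isAlgClosed {k : Type*} [Field k] [IsAlgClosed k] : RootClosed k :=
  fun p hp hd => IsAlgClosed.exists_root p (by
    rw [degree_eq_natDegree hp.ne_zero]; exact_mod_cast hd.ne')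

theorem idemGen_pi {ι : Type*} {R : ι → Type*} [∀ i, CommRing (R i)] (h : ∀ i, IdemGen (R i)) :
    IdemGen (∀ i, R i) := fun r => by
  choose e u he h1 h2 using fun i => h i (r i)
  exact ⟨e, u, funext he, funext h1, funext h2⟩

theorem idemGen_of_field {k : Type*} [Field k] : IdemGen k := fun r => by
  rcases eq_or_ne r 0 with rfl | hr
  · exact ⟨0, 0, .zero, mul_zero _, zero_mul _⟩
  · exact ⟨1, r⁻¹, .one, mul_inv_cancel₀ hr, one_mul _⟩

theorem rootClosed_integralClosure {A R : Type*} [CommRing A] [CommRing R] [Algebra A R]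
    (h : RootClosed R) : RootClosed (integralClosure A R) := by
  intro p hp hd
  cases subsingleton_or_nontrivial R with
  | inl _ => exact ⟨0, Subsingleton.elim _ _⟩
  | inr _ =>
    obtain ⟨a, ha⟩ := h (p.map (algebraMap (integralClosure A R) R)) (hp.map _)
      (by rwa [hp.natDegree_map])
    rw [IsRoot, eval_map] at ha
    have hint : IsIntegral (integralClosure A R) a := ⟨p, hp, ha⟩
    refine ⟨⟨a, isIntegral_trans a hint⟩, Subtype.ext ?_⟩
    have h' : algebraMap (integralClosure A R) R (p.eval ⟨a, isIntegral_trans a hint⟩) = 0 := by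
      rw [← eval₂_hom]; exact ha
    exact h'

theorem splits_of_rootClosed {A : Type*} [CommRing A] (h : RootClosed A) :
    ∀ f : A[X], f.Monic → ∃ s : Multiset A, f = (s.map fun a => X - C a).prod := by
  suffices H : ∀ (n : ℕ) (f : A[X]), f.natDegree = n → f.Monic →
      ∃ s : Multiset A, f = (s.map fun a => X - C a).prod from fun f => H _ f rfl
  intro n
  induction n with
  | zero => exact fun f hn hf => ⟨0, by simpa using hf.natDegree_eq_zero.1 hn⟩
  | succ n ih =>
    intro f hn hf
    cases subsingleton_or_nontrivial A with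
    | inl _ => exact ⟨0, Subsingleton.elim _ _⟩
    | inr _ =>
      obtain ⟨a, ha⟩ := h f hf (by omega)
      obtain ⟨g, hg⟩ := dvd_iff_isRoot.2 ha
      have hgm : g.Monic := (monic_X_sub_C a).of_mul_monic_left (hg ▸ hf)
      have hgn : g.natDegree = n := by
        have := hg ▸ hn
        rw [(monic_X_sub_C a).natDegree_mul hgm, natDegree_X_sub_C] at this
        omega
      obtain ⟨s, hs⟩ := ih g hgn hgm
      exact ⟨a ::ₘ s, by rw [Multiset.map_cons, Multiset.prod_cons, ← hs, hg]⟩

theorem henselianLocalRing_of_equiv {A B : Type*} [CommRing A] [CommRing B] (e : A ≃+* B)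
    [HenselianLocalRing A] : HenselianLocalRing B := by
  have : Nontrivial B := e.injective.nontrivial
  have : IsLocalRing B := IsLocalRing.of_surjective' e.toRingHom e.surjective
  exact {
    is_henselian := fun f hf b₀ h₁ h₂ => by
      obtain ⟨g, rfl⟩ : ∃ g : A[X], g.map e.toRingHom = f :=
        Polynomial.map_surjective _ e.surjective f
      obtain ⟨a₀, rfl⟩ := e.surjective b₀
      have hgm : g.Monic := monic_of_injective e.injective hf
      rw [IsLocalRing.mem_maximalIdeal, mem_nonunits_iff, show e a₀ = e.toRingHom a₀ from rfl, eval_map,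
        eval₂_hom] at h₁
      rw [derivative_map, show e a₀ = e.toRingHom a₀ from rfl, eval_map, eval₂_hom] at h₂
      obtain ⟨a, ha, ha'⟩ := HenselianLocalRing.is_henselian g hgm a₀
        (fun hu => h₁ (hu.map e.toRingHom)) (by
          simpa using h₂.map e.symm.toRingHom)
      refine ⟨e a, ha.map, fun hu => ha' ?_⟩
      simpa using hu.map e.symm.toRingHom }

theorem isStrictlyHenselian_of_equiv {A B : Type u} [CommRing A] [CommRing B] (e : A ≃+* B)
    (h : EtCoh.IsStrictlyHenselianLocalRing A) : EtCoh.IsStrictlyHenselianLocalRing B := by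
  obtain ⟨hA, hsep⟩ := h
  have := hA
  have hB := henselianLocalRing_of_equiv e
  refine ⟨hB, IsSepClosed.of_exists_root _ fun p hm hirr hs => ?_⟩
  let r := IsLocalRing.ResidueField.mapEquiv e
  obtain ⟨a, ha⟩ := IsSepClosed.exists_root (p.map r.symm.toRingHom) (by
    rw [degree_map]; exact (degree_pos_of_irreducible hirr).ne') hs.map
  refine ⟨r a, ?_⟩
  have h' := ha.map (f := r.toRingHom)
  rwa [Polynomial.map_map, RingEquiv.toRingHom_comp_symm_toRingHom, Polynomial.map_id] at h'

theorem isStrictlyHenselian_stalk {X : Scheme.{u}} {U : X.Opens} (hU : IsAffineOpen U)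
    (h : RootClosed Γ(X, U)) {x : X} (hx : x ∈ U) :
    EtCoh.IsStrictlyHenselianLocalRing (X.presheaf.stalk x) := by
  let p := (hU.primeIdealOf ⟨x, hx⟩).asIdeal
  letI := TopCat.Presheaf.algebra_section_stalk X.presheaf (⟨x, hx⟩ : U)
  have := hU.isLocalization_stalk ⟨x, hx⟩
  exact isStrictlyHenselian_of_equiv
    (IsLocalization.algEquiv p.primeCompl (Localization.AtPrime p) (X.presheaf.stalk x)).toRingEquiv
    (Groth.Agent.S1992.result _ (splits_of_rootClosed h) p)

theorem exists_idempotent_basicOpen {R : Type u} [CommRing R] (h : IdemGen R) {V : Set (PrimeSpectrum R)}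
    (hV : IsOpen V) (hVc : IsCompact V) :
    ∃ e : R, IsIdempotentElem e ∧ V = PrimeSpectrum.basicOpen e := by
  classical
  obtain ⟨t, ht⟩ : ∃ t : Finset R, V = ⋃ r ∈ t, (PrimeSpectrum.basicOpen r : Set (PrimeSpectrum R)) := by
    obtain ⟨s, hs, rfl⟩ := (isCompact_open_iff_eq_finite_iUnion_of_isTopologicalBasis
      (fun r : R => (PrimeSpectrum.basicOpen r : Set (PrimeSpectrum R)))
      PrimeSpectrum.isTopologicalBasis_basic_opens
      (fun r => PrimeSpectrum.isCompact_basicOpen r) V).1 ⟨hVc, hV⟩
    exact ⟨hs.toFinset, by simp⟩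
  subst ht
  clear hV hVc
  induction t using Finset.induction_on with
  | empty => exact ⟨0, .zero, by simp⟩
  | insert r t _ ih =>
    obtain ⟨e, he, het⟩ := ih
    obtain ⟨e', u, he', hru, her⟩ := h r
    refine ⟨1 - (1 - e') * (1 - e), ((he'.one_sub).mul he.one_sub).one_sub, ?_⟩
    rw [Finset.set_biUnion_insert, het]
    ext P
    simp only [Set.mem_union, SetLike.mem_coe, PrimeSpectrum.mem_basicOpen]
    constructor
    · intro hP h'
      rcases hP with hr | hP
      · have : e' ∉ P.asIdeal := fun h'' => hr (her ▸ P.asIdeal.mul_mem_right r h'')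
        have h1 : 1 - e' ∈ P.asIdeal :=
          (P.isPrime.mem_or_mem (by rw [mul_sub, mul_one, he'.eq, sub_self]; exact zero_mem _)).resolve_left this
        have h2 := P.asIdeal.mul_mem_right (1 - e) h1
        exact P.isPrime.one_notMem (by simpa using add_mem h' h2)
      · have h1 : 1 - e ∈ P.asIdeal :=
          (P.isPrime.mem_or_mem (by rw [mul_sub, mul_one, he.eq, sub_self]; exact zero_mem _)).resolve_left hP
        have h2 := P.asIdeal.mul_mem_left (1 - e') h1
        exact P.isPrime.one_notMem (by simpa using add_mem h' h2)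
    · intro hP
      by_contra h'
      push Not at h'
      obtain ⟨hr, he0⟩ := h'
      have h1 : e' ∈ P.asIdeal := hru ▸ P.asIdeal.mul_mem_right u hr
      apply hP
      rw [show 1 - (1 - e') * (1 - e) = e' + e * (1 - e') by ring]
      exact add_mem h1 (P.asIdeal.mul_mem_right _ he0)

theorem rootClosed_sections {R : Type u} [CommRing R] (hI : IdemGen R) (h : RootClosed R)
    (V : (Spec (CommRingCat.of R)).Opens) (hV : IsCompact (V : Set (Spec (CommRingCat.of R)))) :
    RootClosed Γ(Spec (CommRingCat.of R), V) := by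
  obtain ⟨e, he, heV⟩ := exists_idempotent_basicOpen hI V.2 hV
  obtain rfl : V = PrimeSpectrum.basicOpen e := Opens.ext heV
  suffices RootClosed ((Spec.structureSheaf R).presheaf.obj (op (PrimeSpectrum.basicOpen e))) from this
  refine rootClosed_of_surjective (algebraMap R _) (fun z => ?_) h
  obtain ⟨n, a, ha⟩ := IsLocalization.Away.surj e z
  refine ⟨a, ?_⟩
  have h1 : algebraMap R ((Spec.structureSheaf R).presheaf.obj (op (PrimeSpectrum.basicOpen e))) e = 1 := by
    have hu := IsLocalization.Away.algebraMap_isUnit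
      (S := ((Spec.structureSheaf R).presheaf.obj (op (PrimeSpectrum.basicOpen e)))) e
    refine hu.mul_left_cancel ?_
    rw [← map_mul, he.eq, mul_one]
  rw [← ha, h1, one_pow, mul_one]

/-- The cover. -/
theorem exists_strictlyHenselian_cover (X : Scheme.{u}) [CompactSpace X] [QuasiSeparatedSpace X] :
    ∃ (X' : Scheme.{u}) (π : X' ⟶ X), IsIntegralHom π ∧ Surjective π ∧
      ∀ y : X', EtCoh.IsStrictlyHenselianLocalRing (X'.presheaf.stalk y) := by
  classical
  let 𝒰 := X.affineCover.finiteSubcover
  let R : 𝒰.I₀ → CommRingCat.{u} := fun i =>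
    CommRingCat.of (∀ x : 𝒰.X i, AlgebraicClosure ((𝒰.X i).residueField x))
  let g : ∀ i, Spec (R i) ⟶ X := fun i =>
    Spec.map (CommRingCat.ofHom (RingHom.pi fun x : 𝒰.X i => (algebraMap ((𝒰.X i).residueField x) _).comp
      ((𝒰.X i).evaluation ⊤ x trivial).hom)) ≫ (𝒰.X i).isoSpec.inv ≫ 𝒰.f i
  let T : Type u := ∀ i, R i
  let f : Spec (CommRingCat.of T) ⟶ X := inv (sigmaSpec R) ≫ Sigma.desc g
  have : QuasiCompact f := quasiCompact_of_compactSpace f
  have : QuasiSeparated f := by
    have : QuasiSeparated (f ≫ terminal.from X) := by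
      rw [show f ≫ terminal.from X = terminal.from _ from terminal.hom_ext _ _]; infer_instance
    exact QuasiSeparated.of_comp f (terminal.from X)
  have hI : IdemGen T := idemGen_pi fun i => idemGen_pi fun x => idemGen_of_field
  have hT : RootClosed T := rootClosed_pi fun i => rootClosed_pi fun x => rootClosed_of_isAlgClosed
  refine ⟨f.normalization, f.fromNormalization, inferInstance, ⟨fun x => ?_⟩, fun y => ?_⟩
  · suffices x ∈ Set.range f by
      obtain ⟨z, rfl⟩ := this
      exact ⟨f.toNormalization z, by rw [← Scheme.Hom.comp_apply, f.toNormalization_fromNormalization]⟩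
    obtain ⟨i, x', rfl⟩ := 𝒰.exists_eq x
    let q : Spec (CommRingCat.of (AlgebraicClosure ((𝒰.X i).residueField x'))) ⟶ Spec (R i) :=
      Spec.map (CommRingCat.ofHom (Pi.evalRingHom _ x'))
    have hq : q ≫ g i = Spec.map (CommRingCat.ofHom (algebraMap ((𝒰.X i).residueField x') _)) ≫
        (𝒰.X i).fromSpecResidueField x' ≫ 𝒰.f i := by
      simp only [g, q, ← Spec.map_comp_assoc]
      rw [show (𝒰.X i).fromSpecResidueField x' =
        Spec.map ((𝒰.X i).evaluation ⊤ x' trivial) ≫ (𝒰.X i).isoSpec.inv from ?_,
        Category.assoc, ← Spec.map_comp_assoc]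
      · rfl
      · rw [Scheme.fromSpecResidueField, Scheme.evaluation, Spec.map_comp, Category.assoc]
        congr 1
        exact ((isAffineOpen_top (𝒰.X i)).fromSpecStalk_eq_fromSpecStalk (x := x') trivial).symm.trans (by
          simp [IsAffineOpen.fromSpecStalk, IsAffineOpen.fromSpec_top])
    have hg : q ≫ g i = (q ≫ Sigma.ι (fun i => Spec (R i)) i ≫ sigmaSpec R) ≫ f := by
      simp only [f, Category.assoc]
      erw [IsIso.hom_inv_id_assoc, Sigma.ι_desc]
    let pt : Spec (CommRingCat.of (AlgebraicClosure ((𝒰.X i).residueField x'))) :=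
      (inferInstance : Nonempty _).some
    refine ⟨(q ≫ Sigma.ι (fun i => Spec (R i)) i ≫ sigmaSpec R) pt, ?_⟩
    rw [← Scheme.Hom.comp_apply, ← hg, hq, Scheme.Hom.comp_apply, Scheme.Hom.comp_apply]
    congr 1
    have : (𝒰.X i).fromSpecResidueField x'
        (Spec.map (CommRingCat.ofHom (algebraMap ((𝒰.X i).residueField x') _)) pt) ∈
        Set.range ((𝒰.X i).fromSpecResidueField x') := ⟨_, rfl⟩
    rwa [Scheme.range_fromSpecResidueField] at this
  · obtain ⟨V, hV, hyV, -⟩ :=
      exists_isAffineOpen_mem_and_subset (x := f.fromNormalization y) (U := ⊤) trivial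
    refine isStrictlyHenselian_stalk (hV.preimage f.fromNormalization) ?_ hyV
    let := (f.app V).hom.toAlgebra
    exact rootClosed_of_surjective (f.normalizationObjIso hV).inv.hom
      (ConcreteCategory.bijective_of_isIso (f.normalizationObjIso hV).inv).2
      (rootClosed_integralClosure (rootClosed_sections hI hT _
        (f.isCompact_preimage hV.isCompact)))

end Groth.Agent.Et18.H0Lift
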