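import Groth.Agent.Et18.H0Lift.Supports

/-!
# Transport of global sections of inverse images along morphisms
-/

set_option autoImplicit false
set_option backward.isDefEq.respectTransparency.types false
set_option backward.isDefEq.respectTransparency false

universe u

open CategoryTheory CategoryTheory.Limits AlgebraicGeometry Opposite TopologicalSpace

namespace Groth.Agent.Et18.H0Lift

variable {X T T' : Scheme.{u}} (a : T' ⟶ T) (b : T ⟶ X)

/-- The comparison of iterated base changes. -/
noncomputable abbrev bcPair (V : X.Etale) :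
    (EtCoh.bc (a ≫ b)).obj V ⟶ (EtCoh.bc a).obj ((EtCoh.bc b).obj V) :=
  (MorphismProperty.Over.pullbackComp (P := EtCoh.etaleMP) (Q := ⊤) a b).hom.app V

theorem bcPair_fst_fst (V : X.Etale) :
    (bcPair a b V).left ≫ EtShriek.prV a ((EtCoh.bc b).obj V) ≫ EtShriek.prV b V =
      EtShriek.prV (a ≫ b) V :=
  MorphismProperty.Over.pullbackComp_left_fst_fst (P := EtCoh.etaleMP) (Q := ⊤) a b V

variable (F : EtCoh.Ab X)

/-- The comparison with the iterated inverse image. -/
noncomputable def compHom : (EtCoh.pull (a ≫ b)).obj F ⟶ (EtCoh.pull a).obj ((EtCoh.pull b).obj F) :=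
  ((EtCoh.pullPushAdj (a ≫ b)).homEquiv _ _).symm
    ((EtCoh.pullPushAdj b).unit.app F ≫
      (EtCoh.push b).map ((EtCoh.pullPushAdj a).unit.app ((EtCoh.pull b).obj F)) ≫
        (EtCoh.pushComp b a).hom.app _)

theorem unit_compHom (V : X.Etale) (t : EtCoh.sect F V) :
    (compHom a b F).hom.app (op ((EtCoh.bc (a ≫ b)).obj V)) (uAt (a ≫ b) F V t) =
      ((EtCoh.pull a).obj ((EtCoh.pull b).obj F)).obj.map (bcPair a b V).op
        (uAt a ((EtCoh.pull b).obj F) ((EtCoh.bc b).obj V) (uAt b F V t)) := by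
  have h := ((EtCoh.pullPushAdj (a ≫ b)).homEquiv _ _).apply_symm_apply
    ((EtCoh.pullPushAdj b).unit.app F ≫
      (EtCoh.push b).map ((EtCoh.pullPushAdj a).unit.app ((EtCoh.pull b).obj F)) ≫
        (EtCoh.pushComp b a).hom.app _)
  rw [Adjunction.homEquiv_unit] at h
  have h2 := ConcreteCategory.congr_hom (congrArg (fun k => k.hom.app (op V)) h) t
  refine h2.trans ?_
  simp [EtCoh.pushComp, bcPair]
  rfl

theorem isIso_compHom : IsIso (compHom a b F) := by
  refine isIso_of_stalks_family (ι := ULift.{u + 1} T') (fun y => algPoint T' y.down)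
    (fun y => ⟨⟨y⟩, algPoint_default T' y⟩) _ fun y => (ConcreteCategory.isIso_iff_bijective _).mpr ?_
  let η' := algPoint T' y.down
  let ξc : FibrePts (a ≫ b) ((η' ≫ a) ≫ b) := ⟨η', (Category.assoc _ _ _).symm⟩
  let ξb : FibrePts b ((η' ≫ a) ≫ b) := ⟨η' ≫ a, rfl⟩
  let ξa : FibrePts a (η' ≫ a) := ⟨η', rfl⟩
  have key : ∀ e : (EtCoh.stalk ((η' ≫ a) ≫ b)).obj F,
      (EtCoh.stalk η').map (compHom a b F) (toPull (a ≫ b) _ ξc F e) =
        toPull a _ ξa ((EtCoh.pull b).obj F) (toPull b _ ξb F e) := by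
    intro e
    obtain ⟨V, v, t, rfl⟩ :=
      (Scheme.pointSmallEtale ((η' ≫ a) ≫ b)).toPresheafFiber_jointly_surjective (P := F.obj) e
    refine (congrArg _ (gm_unit (a ≫ b) ξc F V v t).symm).trans ?_
    refine (gm_hom (compHom a b F) η' _ _ _).trans ?_
    refine (congrArg (gm _ η' _ _) (unit_compHom a b F V t)).trans ?_
    refine (gm_map _ η' (bcPair a b V) _ _).trans ?_
    refine Eq.trans ?_ (congrArg _ (gm_unit b ξb F V v t))
    refine Eq.trans ?_ (gm_unit a ξa _ _ (bcLift b _ ξb V v) _)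
    refine congrArg (fun w => gm _ η' _ w _) ?_
    refine (bcLiftEquiv a _ ξa _).symm.injective ((bcLiftEquiv b _ ξb V).symm.injective
      (Over.OverMorphism.ext ?_))
    change (((bcLift (a ≫ b) _ ξc V v).left ≫ (bcPair a b V).left) ≫
        EtShriek.prV a ((EtCoh.bc b).obj V)) ≫ EtShriek.prV b V =
      ((bcLift a _ ξa _ (bcLift b _ ξb V v)).left ≫ EtShriek.prV a ((EtCoh.bc b).obj V)) ≫
        EtShriek.prV b V
    simp only [Category.assoc]
    rw [bcPair_fst_fst]
    simp [bcLift]
  have h : Function.Bijective (fun e => toPull a _ ξa ((EtCoh.pull b).obj F) (toPull b _ ξb F e)) :=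
    (bijective_toPull a ξa _).comp (bijective_toPull b ξb F)
  rw [← funext key] at h
  exact (Function.Bijective.of_comp_iff _ (bijective_toPull (a ≫ b) ξc F)).mp h

/-- A morphism between the top object and a base change, given by a morphism of schemes. -/
noncomputable def sectionHom {g : T ⟶ X} (V : X.Etale) (l : T ⟶ V.left) (hl : l ≫ V.hom = g) :
    EtCoh.top T ⟶ (EtCoh.bc g).obj V :=
  MorphismProperty.Over.homMk (pullback.lift l (𝟙 T) (hl.trans (Category.id_comp g).symm))
    (pullback.lift_snd _ _ _)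

theorem sectionHom_fst {g : T ⟶ X} (V : X.Etale) (l : T ⟶ V.left) (hl : l ≫ V.hom = g) :
    (sectionHom V l hl).left ≫ EtShriek.prV g V = l :=
  pullback.lift_fst _ _ _

/-- The section of the inverse image given by a section over an object to which the source maps. -/
noncomputable abbrev pullAt {g : T ⟶ X} (V : X.Etale) (l : T ⟶ V.left) (hl : l ≫ V.hom = g)
    (t : EtCoh.sect F V) : EtCoh.sect ((EtCoh.pull g).obj F) (EtCoh.top T) :=
  ((EtCoh.pull g).obj F).obj.map (sectionHom V l hl).op (uAt g F V t)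

theorem mem_sectSupp_pullAt {g : T ⟶ X} (V : X.Etale) (l : T ⟶ V.left) (hl : l ≫ V.hom = g)
    (t : EtCoh.sect F V) (y : T) :
    y ∈ EtShriek.sectSupp ((EtCoh.pull g).obj F) (EtCoh.top T) (pullAt F V l hl t) ↔
      l y ∈ EtShriek.sectSupp F V t := by
  refine ((mem_sectSupp_map _ (sectionHom V l hl) _ y).trans (mem_sectSupp_unit g F V t _)).trans ?_
  rw [show EtShriek.prV g V ((sectionHom V l hl).left y) = l y from
    congrArg (fun k : T ⟶ V.left => k y) (sectionHom_fst V l hl)]

/-- The top object maps to the base change of the top object. -/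
noncomputable def downHom : EtCoh.top T' ⟶ (EtCoh.bc a).obj (EtCoh.top T) :=
  sectionHom (EtCoh.top T) a (Category.comp_id a)

/-- Transport of a global section along a morphism. -/
noncomputable def pullSec {c : T' ⟶ X} (h : a ≫ b = c) (σ : EtCoh.sect ((EtCoh.pull b).obj F) (EtCoh.top T)) :
    EtCoh.sect ((EtCoh.pull c).obj F) (EtCoh.top T') :=
  have := isIso_compHom a b F
  h ▸ (inv (compHom a b F)).hom.app (op (EtCoh.top T'))
    (((EtCoh.pull a).obj ((EtCoh.pull b).obj F)).obj.map (downHom a).op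
      (uAt a ((EtCoh.pull b).obj F) (EtCoh.top T) σ))

theorem isIso_downHom : IsIso (downHom a) := by
  refine ⟨(EtCore.topIsTerminal T').from _, (EtCore.topIsTerminal T').hom_ext _ _, ?_⟩
  refine etaleHom_ext ((cancel_mono ((EtCoh.bc a).obj (EtCoh.top T)).hom).1 ?_)
  exact (Over.w (((EtCore.topIsTerminal T').from _ ≫ downHom a)).hom).trans (Category.id_comp _).symm

set_option maxHeartbeats 800000 in
theorem bijective_pullSec {c : T' ⟶ X} (h : a ≫ b = c)
    (hu : Function.Bijective (((EtCoh.pullPushAdj a).unit.app ((EtCoh.pull b).obj F)).hom.app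
      (op (EtCoh.top T)))) : Function.Bijective (pullSec a b F h) := by
  subst h
  have := isIso_compHom a b F
  have := isIso_downHom a
  have h1 : IsIso ((inv (compHom a b F)).hom.app (op (EtCoh.top T'))) :=
    inferInstanceAs (IsIso (((sheafToPresheaf _ _).map (inv (compHom a b F))).app _))
  exact (ConcreteCategory.bijective_of_isIso _).comp ((ConcreteCategory.bijective_of_isIso
    (((EtCoh.pull a).obj ((EtCoh.pull b).obj F)).obj.map (downHom a).op)).comp hu)

theorem hom_ext_bc_bc {W : T'.Etale} (V : X.Etale) (f g : W ⟶ (EtCoh.bc a).obj ((EtCoh.bc b).obj V))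
    (h : f.left ≫ EtShriek.prV a ((EtCoh.bc b).obj V) ≫ EtShriek.prV b V =
      g.left ≫ EtShriek.prV a ((EtCoh.bc b).obj V) ≫ EtShriek.prV b V) : f = g := by
  have hw : f.left ≫ pullback.snd ((EtCoh.bc b).obj V).hom a =
      g.left ≫ pullback.snd ((EtCoh.bc b).obj V).hom a := (Over.w f.hom).trans (Over.w g.hom).symm
  refine etaleHom_ext (pullback.hom_ext (pullback.hom_ext ?_ ?_) hw)
  · exact (Category.assoc _ _ _).trans (h.trans (Category.assoc _ _ _).symm)
  · refine (Category.assoc _ _ _).trans (Eq.trans ?_ (Category.assoc _ _ _).symm)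
    have e : pullback.fst ((EtCoh.bc b).obj V).hom a ≫ pullback.snd V.hom b =
        pullback.snd ((EtCoh.bc b).obj V).hom a ≫ a := pullback.condition
    exact (congrArg (f.left ≫ ·) e).trans (((Category.assoc _ _ _).symm.trans
      ((congrArg (· ≫ a) hw).trans (Category.assoc _ _ _))).trans (congrArg (g.left ≫ ·) e).symm)

theorem downHom_bcMap (V : X.Etale) (l : T ⟶ V.left) (hl : l ≫ V.hom = b)
    (hl' : (a ≫ l) ≫ V.hom = a ≫ b) :
    downHom a ≫ (EtCoh.bc a).map (sectionHom V l hl) = sectionHom V (a ≫ l) hl' ≫ bcPair a b V := by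
  refine hom_ext_bc_bc a b V _ _ ?_
  change ((downHom a).left ≫ ((EtCoh.bc a).map (sectionHom V l hl)).left) ≫
      EtShriek.prV a ((EtCoh.bc b).obj V) ≫ EtShriek.prV b V =
    ((sectionHom V (a ≫ l) _).left ≫ (bcPair a b V).left) ≫
      EtShriek.prV a ((EtCoh.bc b).obj V) ≫ EtShriek.prV b V
  have e1 : ((EtCoh.bc a).map (sectionHom V l hl)).left ≫ EtShriek.prV a ((EtCoh.bc b).obj V) =
      EtShriek.prV a (EtCoh.top T) ≫ (sectionHom V l hl).left :=
    (EtCoh.isPullback_bc_map a (sectionHom V l hl)).w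
  simp only [Category.assoc]
  rw [bcPair_fst_fst, sectionHom_fst, reassoc_of% e1, sectionHom_fst]
  have e2 : (downHom a).left ≫ EtShriek.prV a (EtCoh.top T) = a :=
    sectionHom_fst (X := T) (g := a) (EtCoh.top T) a (Category.comp_id a)
  exact (Category.assoc _ _ _).symm.trans (congrArg (fun k : T' ⟶ T => k ≫ l) e2)

theorem uAt_pullAt (V : X.Etale) (l : T ⟶ V.left) (hl : l ≫ V.hom = b) (t : EtCoh.sect F V) :
    uAt a ((EtCoh.pull b).obj F) (EtCoh.top T) (pullAt F V l hl t) =
      ((EtCoh.pull a).obj ((EtCoh.pull b).obj F)).obj.map ((EtCoh.bc a).map (sectionHom V l hl)).op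
        (uAt a ((EtCoh.pull b).obj F) ((EtCoh.bc b).obj V) (uAt b F V t)) :=
  ConcreteCategory.congr_hom
    (((EtCoh.pullPushAdj a).unit.app ((EtCoh.pull b).obj F)).hom.naturality (sectionHom V l hl).op)
    (uAt b F V t)

theorem pullSec_pullAt {c : T' ⟶ X} (h : a ≫ b = c) (V : X.Etale) (l : T ⟶ V.left) (hl : l ≫ V.hom = b)
    (t : EtCoh.sect F V) :
    pullSec a b F h (pullAt F V l hl t) =
      pullAt F V (a ≫ l) (by rw [Category.assoc, hl, h]) t := by
  subst h
  have := isIso_compHom a b F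
  refine app_injective_of_mono (compHom a b F) (op (EtCoh.top T')) ?_
  have h1 : ∀ z, (compHom a b F).hom.app (op (EtCoh.top T'))
      ((inv (compHom a b F)).hom.app (op (EtCoh.top T')) z) = z := fun z =>
    ConcreteCategory.congr_hom (congrArg
      (fun k : (EtCoh.pull a).obj ((EtCoh.pull b).obj F) ⟶ _ => k.hom.app (op (EtCoh.top T')))
      (IsIso.inv_hom_id (compHom a b F))) z
  refine (h1 _).trans ?_
  rw [uAt_pullAt, ← ConcreteCategory.comp_apply, ← Functor.map_comp, ← op_comp,
    downHom_bcMap a b V l hl (by rw [Category.assoc, hl]), op_comp, Functor.map_comp,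
    ConcreteCategory.comp_apply, ← unit_compHom]
  exact (ConcreteCategory.congr_hom
    ((compHom a b F).hom.naturality (sectionHom V (a ≫ l) _).op) (uAt (a ≫ b) F V t)).symm

end Groth.Agent.Et18.H0Lift
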