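import Groth.Agent.Et18.H0Lift.PullSetsOf
import Groth.Agent.Et18.H0Lift.PullSec
import Groth.Agent.Et18.SecPull

/-!
# Germs of sections of sheaves of sets
-/

set_option autoImplicit false
set_option backward.isDefEq.respectTransparency.types false
set_option backward.isDefEq.respectTransparency false

universe u

open CategoryTheory CategoryTheory.Limits AlgebraicGeometry Opposite

namespace Groth.Agent.Et18.H0Lift

variable {X T T' : Scheme.{u}} {Ω : Type u} [Field Ω] [IsSepClosed Ω]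

/-- The germ of a section of a sheaf of sets. -/
noncomputable abbrev gmS (F : EtDesc.Sh X) (ξ : Spec (CommRingCat.of Ω) ⟶ X) (U : X.Etale)
    (v : (Scheme.pointSmallEtale ξ).fiber.obj U) (s : EtDesc.sect F U) : (stalkSh ξ).obj F :=
  (Scheme.pointSmallEtale ξ).toPresheafFiber U v F.obj s

theorem gmS_map (F : EtDesc.Sh X) (ξ : Spec (CommRingCat.of Ω) ⟶ X) {U W : X.Etale} (g : W ⟶ U)
    (w : (Scheme.pointSmallEtale ξ).fiber.obj W) (s : EtDesc.sect F U) :
    gmS F ξ W w (F.obj.map g.op s) = gmS F ξ U ((Scheme.pointSmallEtale ξ).fiber.map g w) s :=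
  GrothendieckTopology.Point.toPresheafFiber_w_apply _ g w F.obj s

theorem gmS_hom {F G : EtDesc.Sh X} (a : F ⟶ G) (ξ : Spec (CommRingCat.of Ω) ⟶ X) (U : X.Etale)
    (v : (Scheme.pointSmallEtale ξ).fiber.obj U) (s : EtDesc.sect F U) :
    (stalkSh ξ).map a (gmS F ξ U v s) = gmS G ξ U v (a.hom.app (op U) s) :=
  ConcreteCategory.congr_hom ((Scheme.pointSmallEtale ξ).toPresheafFiber_naturality a.hom U v) s

theorem gmS_unit (g : T ⟶ X) {η : Spec (CommRingCat.of Ω) ⟶ X} (ξ : FibrePts g η) (G : EtDesc.Sh X)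
    (V : X.Etale) (v : (Scheme.pointSmallEtale η).fiber.obj V) (s : EtDesc.sect G V) :
    gmS ((EtDesc.pullSh g).obj G) ξ.1 ((EtCoh.bc g).obj V) (bcLift g η ξ V v)
        (((EtDesc.adjSh g).unit.app G).hom.app (op V) s) = toPullSh g η ξ G (gmS G η V v s) :=
  (ConcreteCategory.congr_hom (toPresheafFiber_toPullSh g η ξ G V v) s).symm

theorem bijective_toPullSh (g : T ⟶ X) {η : Spec (CommRingCat.of Ω) ⟶ X} (ξ : FibrePts g η)
    (G : EtDesc.Sh X) : Function.Bijective (toPullSh g η ξ G) :=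
  (isIso_iff_bijective _).1 (isIso_toPullSh g η ξ G)

/-- The germ of a pulled back global section. -/
theorem gmS_secPull (g : T ⟶ X) {η : Spec (CommRingCat.of Ω) ⟶ X} (ξ : FibrePts g η) (G : EtDesc.Sh X)
    (s : EtDesc.sect G (EtCoh.top X)) :
    gmS ((EtDesc.pullSh g).obj G) ξ.1 (EtCoh.top T) (topPt ξ.1) (EtDesc.secPull g G s) =
      toPullSh g η ξ G (gmS G η (EtCoh.top X) (topPt η) s) := by
  refine (gmS_map _ _ _ _ _).trans (Eq.trans ?_ (gmS_unit g ξ G _ (topPt η) s))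
  refine congrArg (fun w => gmS _ ξ.1 _ w _) ?_
  exact (bcLiftEquiv g η ξ _).symm.injective (fibre_eq (EtCoh.top X) _ _)

/-- Two sections with the same germs are equal. -/
theorem eq_of_gmS (F : EtDesc.Sh X) (U : X.Etale) (s t : EtDesc.sect F U)
    (h : ∀ x : U.left, ∃ (K : Type u) (_ : Field K) (_ : IsSepClosed K) (ξ : Spec (CommRingCat.of K) ⟶ X)
      (v : (Scheme.pointSmallEtale ξ).fiber.obj U),
      fiberPt v = x ∧ gmS F ξ U v s = gmS F ξ U v t) : s = t := by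
  choose K i₁ i₂ ξ v hv hg using h
  have key : ∀ x : U.left, ∃ (W : X.Etale) (g : W ⟶ U), x ∈ Set.range g.left ∧
      F.obj.map g.op s = F.obj.map g.op t := fun x => by
    obtain ⟨W, g, w, hw, e⟩ :=
      ((Scheme.pointSmallEtale (ξ x)).toPresheafFiber_eq_iff' (P := F.obj) U (v x) s t).mp (hg x)
    exact ⟨W, g, ⟨fiberPt w, (fiberPt_map g w).trans ((congrArg fiberPt hw).trans (hv x))⟩, e⟩
  choose W g hx he using key
  have hsh : Presieve.IsSheaf X.smallEtaleTopology F.obj :=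
    (CategoryTheory.isSheaf_iff_isSheaf_of_type _ _).1 F.property
  have hmem : Sieve.ofArrows W g ∈ X.smallEtaleTopology U := by
    rw [Scheme.ofArrows_mem_smallEtaleTopology_iff, Set.eq_univ_iff_forall]
    exact fun x => Set.mem_iUnion.2 ⟨x, hx x⟩
  refine (hsh _ hmem).isSeparatedFor.ext fun Z q hq => ?_
  obtain ⟨_, k, _, ⟨x⟩, rfl⟩ := hq
  rw [op_comp, Functor.map_comp, ConcreteCategory.comp_apply, ConcreteCategory.comp_apply, he x]

variable (a : T' ⟶ T) (b : T ⟶ X)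

theorem unit_pullCompSh (F : EtDesc.Sh X) (V : X.Etale) (t : EtDesc.sect F V) :
    ((EtDesc.pullCompSh a b).hom.app F).hom.app (op ((EtCoh.bc (a ≫ b)).obj V))
        (((EtDesc.adjSh (a ≫ b)).unit.app F).hom.app (op V) t) =
      ((EtDesc.pullSh a).obj ((EtDesc.pullSh b).obj F)).obj.map (bcPair a b V).op
        (((EtDesc.adjSh a).unit.app ((EtDesc.pullSh b).obj F)).hom.app (op ((EtCoh.bc b).obj V))
          (((EtDesc.adjSh b).unit.app F).hom.app (op V) t)) := by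
  have h := Adjunction.unit_leftAdjointUniq_hom_app (EtDesc.adjSh (a ≫ b))
    (((EtDesc.adjSh b).comp (EtDesc.adjSh a)).ofNatIsoRight (EtDesc.pushCompSh b a)) F
  have h1 := congrArg (fun k => k.hom.app (op V)) h
  have h2 := ConcreteCategory.congr_hom h1 t
  refine h2.trans ?_
  simp [Adjunction.ofNatIsoRight, EtDesc.pushCompSh, bcPair]
  rfl

theorem stalk_pullVia {c : T' ⟶ X} (w : a ≫ b = c) (F : EtDesc.Sh X)
    (ξ : Spec (CommRingCat.of Ω) ⟶ T') {η₁ : Spec (CommRingCat.of Ω) ⟶ T}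
    {η : Spec (CommRingCat.of Ω) ⟶ X} (ha : ξ ≫ a = η₁) (hb : η₁ ≫ b = η) (hc : ξ ≫ c = η)
    (e : (stalkSh η).obj F) :
    (stalkSh ξ).map (EtDesc.pullVia a b c w F).hom
        (toPullSh a η₁ ⟨ξ, ha⟩ ((EtDesc.pullSh b).obj F) (toPullSh b η ⟨η₁, hb⟩ F e)) =
      toPullSh c η ⟨ξ, hc⟩ F e := by
  subst w
  obtain ⟨V, v, t, rfl⟩ :=
    (Scheme.pointSmallEtale η).toPresheafFiber_jointly_surjective (P := F.obj) e
  let ξa : FibrePts a η₁ := ⟨ξ, ha⟩
  let ξb : FibrePts b η := ⟨η₁, hb⟩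
  let ξc : FibrePts (a ≫ b) η := ⟨ξ, hc⟩
  change (stalkSh ξ).map _ (toPullSh a η₁ ξa _ (toPullSh b η ξb F (gmS F η V v t))) =
    toPullSh (a ≫ b) η ξc F (gmS F η V v t)
  rw [← gmS_unit (a ≫ b) ξc F V v t, ← gmS_unit b ξb F V v t, ← gmS_unit a ξa]
  have h1 : bcLift a _ ξa _ (bcLift b η ξb V v) =
      (Scheme.pointSmallEtale ξ).fiber.map (bcPair a b V) (bcLift (a ≫ b) η ξc V v) := by
    refine (bcLiftEquiv a _ ξa _).symm.injective ((bcLiftEquiv b _ ξb V).symm.injective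
      (Over.OverMorphism.ext ?_))
    change ((bcLift a _ ξa _ (bcLift b η ξb V v)).left ≫ EtShriek.prV a _) ≫ EtShriek.prV b V =
      (((bcLift (a ≫ b) η ξc V v).left ≫ (bcPair a b V).left) ≫ EtShriek.prV a _) ≫
        EtShriek.prV b V
    simp only [Category.assoc]
    rw [bcPair_fst_fst]
    simp [bcLift]
  refine (gmS_hom _ _ _ _ _).trans ?_
  dsimp only
  rw [h1, ← gmS_map]
  refine congrArg (gmS _ ξ _ _) ?_
  refine (ConcreteCategory.congr_hom
    ((EtDesc.pullVia a b (a ≫ b) rfl F).hom.hom.naturality (bcPair a b V).op) _).symm.trans ?_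
  refine (congrArg ((EtDesc.pullVia a b (a ≫ b) rfl F).hom.hom.app (op ((EtCoh.bc (a ≫ b)).obj V)))
    (unit_pullCompSh a b F V t).symm).trans ?_
  have hinv : ((EtDesc.pullCompSh a b).hom.app F).hom ≫ (EtDesc.pullVia a b (a ≫ b) rfl F).hom.hom = 𝟙 _ := by
    refine congrArg (fun k => k.hom) (?_ : (EtDesc.pullCompSh a b).hom.app F ≫ _ = 𝟙 _)
    simp [EtDesc.pullVia, EtDesc.pullCongrSh]
  exact ConcreteCategory.congr_hom (congrArg (fun k => k.app (op ((EtCoh.bc (a ≫ b)).obj V))) hinv) _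

omit a b in
theorem canIso_comp (f : T ⟶ X) (F : EtDesc.Sh X) {c : EtDesc.X2 f ⟶ X} (h₁ : pullback.fst f f ≫ f = c)
    (h₂ : pullback.snd f f ≫ f = c) :
    (EtDesc.canIso f F).hom ≫ (EtDesc.pullVia (pullback.snd f f) f c h₂ F).hom =
      (EtDesc.pullVia (pullback.fst f f) f c h₁ F).hom := by
  subst h₁
  refine (Category.assoc _ _ _).trans ?_
  exact (congrArg ((EtDesc.pullVia (pullback.fst f f) f _ rfl F).hom ≫ ·) (Iso.inv_hom_id _)).trans
    (Category.comp_id _)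

omit a b in
theorem stalk_canIso (f : T ⟶ X) (F : EtDesc.Sh X) (ξ : Spec (CommRingCat.of Ω) ⟶ EtDesc.X2 f)
    {η : Spec (CommRingCat.of Ω) ⟶ X} (ξ₁ ξ₂ : FibrePts f η)
    (ha₁ : ξ ≫ pullback.fst f f = ξ₁.1) (ha₂ : ξ ≫ pullback.snd f f = ξ₂.1) (e : (stalkSh η).obj F) :
    (stalkSh ξ).map (EtDesc.canIso f F).hom
        (toPullSh (pullback.fst f f) ξ₁.1 ⟨ξ, ha₁⟩ ((EtDesc.pullSh f).obj F) (toPullSh f η ξ₁ F e)) =
      toPullSh (pullback.snd f f) ξ₂.1 ⟨ξ, ha₂⟩ ((EtDesc.pullSh f).obj F) (toPullSh f η ξ₂ F e) := by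
  obtain ⟨η₁, hη₁⟩ := ξ₁
  obtain ⟨η₂, hη₂⟩ := ξ₂
  obtain ⟨c, h₁⟩ : ∃ c, pullback.fst f f ≫ f = c := ⟨_, rfl⟩
  have h₂ : pullback.snd f f ≫ f = c := pullback.condition.symm.trans h₁
  have hc : ξ ≫ c = η := by rw [← h₁, ← Category.assoc, ha₁]; exact hη₁
  have hi : IsIso ((stalkSh ξ).map (EtDesc.pullVia (pullback.snd f f) f c h₂ F).hom) := Functor.map_isIso _ _
  apply ((isIso_iff_bijective _).1 hi).1
  refine (ConcreteCategory.congr_hom ((stalkSh ξ).map_comp (EtDesc.canIso f F).hom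
    (EtDesc.pullVia (pullback.snd f f) f c h₂ F).hom) _).symm.trans ?_
  refine (ConcreteCategory.congr_hom (congrArg ((stalkSh ξ).map) (canIso_comp f F h₁ h₂)) _).trans ?_
  exact (stalk_pullVia _ _ h₁ F ξ ha₁ hη₁ hc e).trans (stalk_pullVia _ _ h₂ F ξ ha₂ hη₂ hc e).symm

end Groth.Agent.Et18.H0Lift
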