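import Groth.Agent.Et18.H0Lift.Main
import Groth.Agent.Et18.SubSheafIso
import Groth.Agent.Et18.ProperOver

/-!
# Supports of restricted and pulled back sections, and gluing of étale-local sections
-/

set_option autoImplicit false
set_option backward.isDefEq.respectTransparency.types false
set_option backward.isDefEq.respectTransparency false

universe u

open CategoryTheory CategoryTheory.Limits AlgebraicGeometry Opposite TopologicalSpace

namespace Groth.Agent.Et18.H0Lift

variable {X T : Scheme.{u}}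

theorem gm_eq_zero_iff (F : EtCoh.Ab X) {Ω : Type u} [Field Ω] [IsSepClosed Ω]
    (ξ : Spec (CommRingCat.of Ω) ⟶ X) (U : X.Etale) (v : (Scheme.pointSmallEtale ξ).fiber.obj U)
    (s : EtCoh.sect F U) : gm F ξ U v s = 0 ↔ fiberPt v ∉ EtShriek.sectSupp F U s :=
  ⟨fun h => not_mem_sectSupp_of_germ_eq_zero F ξ U s v h,
    fun h => germ_eq_zero_of_not_mem_sectSupp F ξ U s v h⟩

theorem mem_sectSupp_map (F : EtCoh.Ab X) {U W : X.Etale} (g : W ⟶ U) (s : EtCoh.sect F U) (w : W.left) :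
    w ∈ EtShriek.sectSupp F W (F.obj.map g.op s) ↔ g.left w ∈ EtShriek.sectSupp F U s := by
  obtain ⟨v, hv⟩ := exists_fiber_point (algPoint X (W.hom w)) W w (algPoint_default X _).symm
  rw [← hv]
  refine not_iff_not.1 ((gm_eq_zero_iff F _ W v _).symm.trans ?_)
  rw [gm_map, gm_eq_zero_iff]
  rfl

variable (g : T ⟶ X) (F : EtCoh.Ab X)

theorem mem_sectSupp_unit (V : X.Etale) (s : EtCoh.sect F V) (b : ((EtCoh.bc g).obj V).left) :
    b ∈ EtShriek.sectSupp ((EtCoh.pull g).obj F) _ (uAt g F V s) ↔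
      EtShriek.prV g V b ∈ EtShriek.sectSupp F V s := by
  let η' := algPoint T (((EtCoh.bc g).obj V).hom b)
  obtain ⟨w, hw⟩ := exists_fiber_point η' ((EtCoh.bc g).obj V) b (algPoint_default T _).symm
  rw [← hw]
  let ξ : FibrePts g (η' ≫ g) := ⟨η', rfl⟩
  obtain ⟨v, rfl⟩ : ∃ v, bcLift g _ ξ V v = w :=
    ⟨(bcLiftEquiv g _ ξ V).symm w, (bcLiftEquiv g _ ξ V).apply_symm_apply w⟩
  rw [prV_pt g _ ξ V v]
  refine not_iff_not.1 ((gm_eq_zero_iff _ _ _ (bcLift g _ ξ V v) _).symm.trans ?_)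
  have h : gm ((EtCoh.pull g).obj F) ξ.1 _ (bcLift g _ ξ V v) (uAt g F V s) =
      toPull g _ ξ F (gm F _ V v s) := gm_unit g ξ F V v s
  rw [show gm ((EtCoh.pull g).obj F) η' _ (bcLift g _ ξ V v) (uAt g F V s) = _ from h,
    ← gm_eq_zero_iff]
  exact map_eq_zero_iff (toPull g _ ξ F).hom (bijective_toPull g ξ F).1

/-- The difference of the pull back of `t` and `σ`. -/
noncomputable abbrev diffAt (σ : EtCoh.sect ((EtCoh.pull g).obj F) (EtCoh.top T)) (V : X.Etale)
    (t : EtCoh.sect F V) : EtCoh.sect ((EtCoh.pull g).obj F) ((EtCoh.bc g).obj V) :=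
  uAt g F V t - ((EtCoh.pull g).obj F).obj.map ((EtCore.topIsTerminal T).from _).op σ

/-- Every global section of an inverse image comes locally from a section. -/
theorem exists_local_at (σ : EtCoh.sect ((EtCoh.pull g).obj F) (EtCoh.top T)) (y : T) :
    ∃ (V : X.Etale) (t : EtCoh.sect F V) (b : ((EtCoh.bc g).obj V).left),
      ((EtCoh.bc g).obj V).hom b = y ∧
        b ∉ EtShriek.sectSupp ((EtCoh.pull g).obj F) _ (diffAt g F σ V t) := by
  let η' := algPoint T y
  let ξ : FibrePts g (η' ≫ g) := ⟨η', rfl⟩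
  obtain ⟨e, he⟩ := (bijective_toPull g ξ F).2 (gm ((EtCoh.pull g).obj F) η' _ (topPt η') σ)
  obtain ⟨V, v, t, rfl⟩ :=
    (Scheme.pointSmallEtale (η' ≫ g)).toPresheafFiber_jointly_surjective (P := F.obj) e
  refine ⟨V, t, fiberPt (bcLift g _ ξ V v), (hom_fiberPt _).trans (algPoint_default T y),
    not_mem_sectSupp_of_germ_eq_zero _ ξ.1 _ _ (bcLift g _ ξ V v) ?_⟩
  refine (map_sub _ _ _).trans (sub_eq_zero.2 ((gm_unit g ξ F V v t).trans (he.trans ?_)))
  refine ((gm_map _ _ _ _ σ).trans ?_).symm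
  rw [fibre_eq (EtCoh.top T) ((Scheme.pointSmallEtale ξ.1).fiber.map ((EtCore.topIsTerminal T).from _)
    (bcLift g _ ξ V v)) (topPt η')]

/-- Separatedness for families of étale morphisms jointly surjective on points. -/
theorem sect_ext_of_cover (U : X.Etale) {κ : Type (u + 1)} (W : κ → X.Etale) (a : ∀ k, W k ⟶ U)
    (hcov : ∀ x : U.left, ∃ k, x ∈ Set.range (a k).left) (s s' : EtCoh.sect F U)
    (h : ∀ k, F.obj.map (a k).op s = F.obj.map (a k).op s') : s = s' := by
  refine sub_eq_zero.1 (eq_zero_of_sectSupp_eq_empty F U (s - s')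
    (Set.eq_empty_iff_forall_notMem.2 fun x hx => ?_))
  obtain ⟨k, w, rfl⟩ := hcov x
  have h0 : F.obj.map (a k).op (s - s') = 0 := (map_sub _ _ _).trans (sub_eq_zero.2 (h k))
  have := (mem_sectSupp_map F (a k) (s - s') w).2 hx
  rw [h0] at this
  exact this (W k) (𝟙 _) ⟨w, rfl⟩ (map_zero _)

/-- Local sections agreeing on overlaps glue. -/
theorem exists_glue_cover (U : X.Etale) {κ : Type (u + 1)} (W : κ → X.Etale) (a : ∀ k, W k ⟶ U)
    (hcov : ∀ x : U.left, ∃ k, x ∈ Set.range (a k).left) (t : ∀ k, EtCoh.sect F (W k))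
    (h : ∀ (k l : κ) (R : X.Etale) (gk : R ⟶ W k) (gl : R ⟶ W l), gk ≫ a k = gl ≫ a l →
      ∀ r : R.left, r ∉ EtShriek.sectSupp F R (F.obj.map gk.op (t k) - F.obj.map gl.op (t l))) :
    ∃ s : EtCoh.sect F U, ∀ k, F.obj.map (a k).op s = t k := by
  have hsheaf : Presieve.IsSheaf X.smallEtaleTopology (F.obj ⋙ forget _) :=
    (CategoryTheory.isSheaf_iff_isSheaf_of_type _ _).1
      ((sheafCompose X.smallEtaleTopology (forget AddCommGrpCat.{u + 1})).obj F).property
  have hmem : Sieve.generate (Presieve.ofArrows W a) ∈ X.smallEtaleTopology U := by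
    change Sieve.ofArrows _ _ ∈ _
    rw [Scheme.ofArrows_mem_smallEtaleTopology_iff, Set.eq_univ_iff_forall]
    exact fun x => Set.mem_iUnion.2 (hcov x)
  have hfor : (Presieve.ofArrows W a).IsSheafFor (F.obj ⋙ forget _) := by
    rw [Presieve.isSheafFor_iff_generate]; exact hsheaf _ hmem
  obtain ⟨s, hs, -⟩ := (Presieve.isSheafFor_arrows_iff _ _).mp hfor t fun k l R gk gl he =>
    sub_eq_zero.1 (eq_zero_of_sectSupp_eq_empty F R (F.obj.map gk.op (t k) - F.obj.map gl.op (t l))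
      (Set.eq_empty_iff_forall_notMem.2 (h k l R gk gl he)))
  exact ⟨s, hs⟩

/-- A section lying locally in the image of a monomorphism lies in the image. -/
theorem mem_range_of_local {G : EtCoh.Ab X} (w : F ⟶ G) [Mono w] (U : X.Etale) (c : EtCoh.sect G U)
    (h : ∀ x : U.left, ∃ (W : X.Etale) (a : W ⟶ U) (t : EtCoh.sect F W),
      x ∈ Set.range a.left ∧ w.hom.app (op W) t = G.obj.map a.op c) :
    ∃ s : EtCoh.sect F U, w.hom.app (op U) s = c := by
  have hinj := fun V : X.Etaleᵒᵖ => app_injective_of_mono w V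
  choose W a t hx ht using h
  have hnat : ∀ {A B : X.Etale} (f : B ⟶ A) (s : EtCoh.sect F A),
      w.hom.app (op B) (F.obj.map f.op s) = G.obj.map f.op (w.hom.app (op A) s) :=
    fun f s => ConcreteCategory.congr_hom (w.hom.naturality f.op) s
  obtain ⟨s, hs⟩ := exists_glue_cover (F := F) U (fun x : ULift.{u + 1} U.left => W x.down)
    (fun x => a x.down) (fun x => ⟨⟨x⟩, hx x⟩) (fun x => t x.down) (fun k l R gk gl he r hr => by
      have e : F.obj.map gk.op (t k.down) = F.obj.map gl.op (t l.down) := by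
        refine hinj _ ?_
        rw [hnat, hnat, ht, ht, ← ConcreteCategory.comp_apply, ← ConcreteCategory.comp_apply,
          ← Functor.map_comp, ← Functor.map_comp, ← op_comp, ← op_comp, he]
      rw [sub_eq_zero.2 e] at hr
      exact hr R (𝟙 R) ⟨r, rfl⟩ (map_zero _))
  refine ⟨s, sect_ext_of_cover G U (fun x : ULift.{u + 1} U.left => W x.down) (fun x => a x.down)
    (fun x => ⟨⟨x⟩, hx x⟩) _ _ fun k => ?_⟩
  rw [← hnat, hs, ht]

end Groth.Agent.Et18.H0Lift
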