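import Groth.Agent.Et18.H0Lift.Spread
import Groth.Agent.Et18.H0Lift.HullSep
import Groth.Agent.Et18.H0Lift.ConnectedDescent
import Groth.Agent.HenselLib.ProperCouple

/-!
# The stalk of the direct image along a proper morphism
-/

set_option autoImplicit false
set_option backward.isDefEq.respectTransparency.types false
set_option backward.isDefEq.respectTransparency false

universe u

open CategoryTheory CategoryTheory.Limits AlgebraicGeometry Opposite TopologicalSpace

namespace Groth.Agent.Et18.H0Lift

/-- Universally closed morphisms whose base changes to henselian pairs are connected couples. -/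
class IsCoupleHom {X Y : Scheme.{u}} (f : X ⟶ Y) : Prop extends UniversallyClosed f where
  quasiCompact : QuasiCompact f
  quasiSeparated : QuasiSeparated f
  couple : ∀ (A : Type u) [CommRing A] (I : Ideal A) [HenselianRing A I] (s : Spec (CommRingCat.of A) ⟶ Y),
    IsConnectedCouple (pullback f s) (pullback.snd f s ⁻¹' PrimeSpectrum.zeroLocus (I : Set A))

instance (priority := 100) isCoupleHom_of_isProper {X Y : Scheme.{u}} (f : X ⟶ Y) [IsProper f] :
    IsCoupleHom f where
  toUniversallyClosed := inferInstance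
  quasiCompact := inferInstance
  quasiSeparated := inferInstance
  couple A _ I _ s :=
    have : CompactSpace ↥(pullback f s) := QuasiCompact.compactSpace_of_compactSpace (pullback.snd f s)
    have : QuasiSeparatedSpace ↥(pullback f s) := quasiSeparatedSpace_of_quasiSeparated (pullback.snd f s)
    isConnectedCouple_of_proper I (pullback.snd f s)

instance (priority := 100) isCoupleHom_of_isIntegralHom {X Y : Scheme.{u}} (f : X ⟶ Y) [IsIntegralHom f] :
    IsCoupleHom f where
  toUniversallyClosed := inferInstance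
  quasiCompact := inferInstance
  quasiSeparated := inferInstance
  couple A _ I _ s :=
    let h := pullback.snd f s
    have h0 := isConnectedCouple_of_proper I (𝟙 (Spec (CommRingCat.of A)))
    { isClosed := (PrimeSpectrum.isClosed_zeroLocus _).preimage h.continuous
      meets := fun C hC hne => by
        obtain ⟨p, ⟨x, hx, rfl⟩, hp⟩ := ProperClopen.exists_mem_zeroLocus_of_isClosed I
          (h.isClosedMap _ hC) (hne.image h)
        exact ⟨x, hx, hp⟩
      preconnected := fun W g _ _ => h0.preconnected_of_integral (g ≫ h) }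

variable {X Y T : Scheme.{u}} (F : EtCoh.Ab X) {f : X ⟶ Y} {Ω : Type u} [Field Ω] [IsSepClosed Ω]
  {η : Spec (CommRingCat.of Ω) ⟶ Y} {q : T ⟶ X} {p : T ⟶ Spec (CommRingCat.of Ω)}
  (sq : IsPullback q p f η)

theorem pullAt_map {S : Scheme.{u}} {g : S ⟶ X} {U V : X.Etale} (a : U ⟶ V) (l : S ⟶ U.left)
    (hl : l ≫ U.hom = g) (t : EtCoh.sect F V) :
    pullAt F U l hl (F.obj.map a.op t) =
      pullAt F V (l ≫ a.left) (by
        rw [Category.assoc, show a.left ≫ V.hom = U.hom from Over.w a.hom, hl]) t := by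
  have hn : uAt g F U (F.obj.map a.op t) =
      ((EtCoh.pull g).obj F).obj.map ((EtCoh.bc g).map a).op (uAt g F V t) :=
    ConcreteCategory.congr_hom (((EtCoh.pullPushAdj g).unit.app F).hom.naturality a.op) t
  have hc : sectionHom U l hl ≫ (EtCoh.bc g).map a = sectionHom V (l ≫ a.left) (by
      rw [Category.assoc, show a.left ≫ V.hom = U.hom from Over.w a.hom, hl]) := by
    refine etaleHom_ext (pullback.hom_ext ?_ ?_)
    · change ((sectionHom U l hl).left ≫ ((EtCoh.bc g).map a).left) ≫ EtShriek.prV g V =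
        (sectionHom V (l ≫ a.left) _).left ≫ EtShriek.prV g V
      rw [Category.assoc, show ((EtCoh.bc g).map a).left ≫ EtShriek.prV g V = EtShriek.prV g U ≫ a.left from
        (EtCoh.isPullback_bc_map g a).w, sectionHom_fst, ← Category.assoc, sectionHom_fst]
    · exact (Over.w (sectionHom U l hl ≫ (EtCoh.bc g).map a).hom).trans
        (Over.w (sectionHom V (l ≫ a.left) _).hom).symm
  refine (congrArg (((EtCoh.pull g).obj F).obj.map (sectionHom U l hl).op) hn).trans ?_
  rw [← ConcreteCategory.comp_apply, ← Functor.map_comp, ← op_comp, hc]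

theorem pullAt_congr {S : Scheme.{u}} {g : S ⟶ X} {V : X.Etale} {l l' : S ⟶ V.left} (h : l = l')
    {hl : l ≫ V.hom = g} {hl' : l' ≫ V.hom = g} (t : EtCoh.sect F V) :
    pullAt F V l hl t = pullAt F V l' hl' t := by
  subst h; rfl

/-- The map of the geometric fibre into a base changed neighbourhood. -/
noncomputable def fibLift (V : Y.Etale) (v : (Scheme.pointSmallEtale η).fiber.obj V) :
    T ⟶ ((EtCoh.bc f).obj V).left :=
  pullback.lift (p ≫ v.left) q (by
    rw [Category.assoc]
    exact (congrArg (p ≫ ·) (Over.w v)).trans sq.w.symm)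

theorem fibLift_hom (V : Y.Etale) (v : (Scheme.pointSmallEtale η).fiber.obj V) :
    fibLift sq V v ≫ ((EtCoh.bc f).obj V).hom = q :=
  pullback.lift_snd _ _ _

theorem fibLift_fst (V : Y.Etale) (v : (Scheme.pointSmallEtale η).fiber.obj V) :
    fibLift sq V v ≫ EtShriek.prV f V = p ≫ v.left :=
  pullback.lift_fst _ _ _

theorem fibLift_map {U V : Y.Etale} (a : U ⟶ V) (u : (Scheme.pointSmallEtale η).fiber.obj U) :
    fibLift sq U u ≫ ((EtCoh.bc f).map a).left =
      fibLift sq V ((Scheme.pointSmallEtale η).fiber.map a u) := by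
  refine pullback.hom_ext ?_ ?_
  · change (fibLift sq U u ≫ ((EtCoh.bc f).map a).left) ≫ EtShriek.prV f V =
      fibLift sq V ((Scheme.pointSmallEtale η).fiber.map a u) ≫ EtShriek.prV f V
    rw [Category.assoc, show ((EtCoh.bc f).map a).left ≫ EtShriek.prV f V = EtShriek.prV f U ≫ a.left from
      (EtCoh.isPullback_bc_map f a).w, ← Category.assoc, fibLift_fst, fibLift_fst]
    exact Category.assoc _ _ _
  · exact ((Category.assoc _ _ _).trans (congrArg (fibLift sq U u ≫ ·)
      (Over.w ((EtCoh.bc f).map a).hom))).trans ((fibLift_hom sq U u).trans (fibLift_hom sq V _).symm)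

/-- From the stalk of the direct image to the sections over the geometric fibre. -/
noncomputable def toFibreSec :
    (EtCoh.stalk η).obj ((EtCoh.push f).obj F) ⟶ ((EtCoh.pull q).obj F).obj.obj (op (EtCoh.top T)) :=
  (Scheme.pointSmallEtale η).presheafFiberDesc
    (fun V v => ((EtCoh.pullPushAdj q).unit.app F).hom.app (op ((EtCoh.bc f).obj V)) ≫
      ((EtCoh.pull q).obj F).obj.map (sectionHom _ (fibLift sq V v) (fibLift_hom sq V v)).op)
    (fun U V a u => by
      ext s
      refine Eq.trans (pullAt_map F ((EtCoh.bc f).map a) (fibLift sq U u) (fibLift_hom sq U u) s) ?_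
      exact pullAt_congr F (fibLift_map sq a u) s)

theorem toFibreSec_gm (V : Y.Etale) (v : (Scheme.pointSmallEtale η).fiber.obj V)
    (s : EtCoh.sect F ((EtCoh.bc f).obj V)) :
    toFibreSec F sq (gm ((EtCoh.push f).obj F) η V v s) =
      pullAt F ((EtCoh.bc f).obj V) (fibLift sq V v) (fibLift_hom sq V v) s :=
  ConcreteCategory.congr_hom
    ((Scheme.pointSmallEtale η).toPresheafFiber_presheafFiberDesc (P := ((EtCoh.push f).obj F).obj) _ _ V v) s

theorem mem_range_fibLift (V : Y.Etale) (v : (Scheme.pointSmallEtale η).fiber.obj V)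
    (b : ((EtCoh.bc f).obj V).left) (hb : EtShriek.prV f V b = fiberPt v) :
    b ∈ Set.range (fibLift sq V v) := by
  have hpb : IsPullback (fibLift sq V v) p (EtShriek.prV f V) (v.left : _ ⟶ V.left) := by
    refine IsPullback.of_right ?_ (fibLift_fst sq V v) (IsPullback.of_hasPullback V.hom f).flip
    rw [show (v.left : _ ⟶ V.left) ≫ V.hom = η from Over.w v]
    rw [show fibLift sq V v ≫ pullback.snd V.hom f = q from fibLift_hom sq V v]
    exact sq
  obtain ⟨z, hz, -⟩ := Scheme.Pullback.exists_preimage_pullback (f := EtShriek.prV f V)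
    (g := (v.left : _ ⟶ V.left)) b (default : ↥(Spec (CommRingCat.of Ω))) hb
  refine ⟨hpb.isoPullback.inv z, ?_⟩
  rw [← Scheme.Hom.comp_apply, IsPullback.isoPullback_inv_fst]
  exact hz

theorem injective_toFibreSec [UniversallyClosed f] : Function.Injective (toFibreSec F sq) := by
  refine (injective_iff_map_eq_zero (toFibreSec F sq).hom).2 fun e he => ?_
  obtain ⟨V, v, s, rfl⟩ :=
    (Scheme.pointSmallEtale η).toPresheafFiber_jointly_surjective (P := ((EtCoh.push f).obj F).obj) e
  let U := (EtCoh.bc f).obj V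
  let φ : U.left ⟶ V.left := EtShriek.prV f V
  have : UniversallyClosed φ := inferInstanceAs (UniversallyClosed (pullback.fst V.hom f))
  let O : V.left.Opens := ⟨(φ '' EtShriek.sectSupp F U s)ᶜ,
    (φ.isClosedMap _ (isClosed_sectSupp F U s)).isOpen_compl⟩
  have hv : fiberPt v ∈ O := by
    rintro ⟨b, hb, hbv⟩
    obtain ⟨y, rfl⟩ := mem_range_fibLift sq V v b hbv
    have h0 : pullAt F U (fibLift sq V v) (fibLift_hom sq V v) s = 0 := (toFibreSec_gm F sq V v s).symm.trans he
    have := (mem_sectSupp_pullAt F U (fibLift sq V v) (fibLift_hom sq V v) s y).2 hb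
    rw [h0] at this
    exact notMem_sectSupp_zero _ _ _ this
  let ι := etalePieceHom V O
  have : Etale ι.left := etale_left _
  obtain ⟨v', hv'⟩ : ∃ v', (Scheme.pointSmallEtale η).fiber.map ι v' = v := by
    obtain ⟨v', hv'⟩ := exists_fiber_point (X := V.left) (v.left : _ ⟶ V.left)
      (Scheme.Etale.mk O.ι) ⟨fiberPt v, hv⟩ rfl
    refine ⟨Over.homMk v'.left ?_, Over.OverMorphism.ext (Over.w v')⟩
    change v'.left ≫ O.ι ≫ V.hom = η
    exact (Category.assoc _ _ _).symm.trans ((congrArg (· ≫ V.hom) (Over.w v')).trans (Over.w v))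
  rw [← hv']
  refine (gm_map ((EtCoh.push f).obj F) η ι v' s).symm.trans ?_
  have hz : F.obj.map ((EtCoh.bc f).map ι).op s = 0 := by
    refine eq_zero_of_sectSupp_eq_empty F _ _ (Set.eq_empty_iff_forall_notMem.2 fun z hz => ?_)
    have h1 := (mem_sectSupp_map F ((EtCoh.bc f).map ι) s z).1 hz
    have h2 : φ (((EtCoh.bc f).map ι).left z) = (EtShriek.prV f (etalePiece V O) z).1 :=
      congrArg (fun k => k z) (EtCoh.isPullback_bc_map f ι).w
    exact (EtShriek.prV f (etalePiece V O) z).2 ⟨_, h1, h2⟩
  exact (congrArg (gm ((EtCoh.push f).obj F) η (etalePiece V O) v') hz).trans (map_zero _)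

section Surjective

variable {R : Type u} [CommRing R] [Algebra R Ω] (g₀ : Spec (CommRingCat.of R) ⟶ Y) [Etale g₀]

open HenselLib

/-- The étale neighbourhood of a pointed algebra. -/
noncomputable abbrev nbhd (P : Pt R Ω) : Y.Etale :=
  haveI : Etale (Spec.map (CommRingCat.ofHom (algebraMap R P.Ring))) :=
    (HasRingHomProperty.Spec_iff (P := @Etale)).mpr (RingHom.etale_algebraMap.mpr P.etale)
  Scheme.Etale.mk (Spec.map (CommRingCat.ofHom (algebraMap R P.Ring)) ≫ g₀)

/-- The diagram of base changed neighbourhoods. -/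
noncomputable def nbhdDiag : (Pt R Ω)ᵒᵖ ⥤ Y.Etale where
  obj P := nbhd g₀ P.unop
  map {P Q} a := MorphismProperty.Over.homMk (Spec.map (CommRingCat.ofHom a.unop.map.toRingHom)) (by
    change _ ≫ Spec.map (CommRingCat.ofHom (algebraMap R Q.unop.Ring)) ≫ g₀ =
      Spec.map (CommRingCat.ofHom (algebraMap R P.unop.Ring)) ≫ g₀
    rw [← Category.assoc, ← Spec.map_comp]
    refine congrArg (fun k => Spec.map k ≫ g₀) (CommRingCat.hom_ext (RingHom.ext fun r => ?_))
    exact a.unop.map.commutes r)
  map_id P := etaleHom_ext (Spec.map_id _)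
  map_comp a b := etaleHom_ext (by
    change Spec.map _ = Spec.map _ ≫ Spec.map _
    rw [← Spec.map_comp]
    rfl)

set_option maxHeartbeats 1600000 in
theorem surjective_toFibreSec_aux [IsCoupleHom f]
    (hη : η = Spec.map (CommRingCat.ofHom (algebraMap R Ω)) ≫ g₀) :
    Function.Surjective (toFibreSec F sq) := by
  classical
  intro σ
  have := IsCoupleHom.quasiCompact (f := f)
  have := IsCoupleHom.quasiSeparated (f := f)
  let H := Hull R Ω
  have := isLocalRing_hull (R := R) (K := Ω)
  have := henselianLocalRing_hull (R := R) (K := Ω)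
  have := isSepClosed_residueField_hull R Ω
  have : IsLocalHom (hullPt R Ω).toRingHom := isLocalHom_hullPt
  have : HenselianRing H (IsLocalRing.maximalIdeal H) := henselianRing_maximalIdeal H
  let ψ : IsLocalRing.ResidueField H →+* Ω := IsLocalRing.ResidueField.lift (hullPt R Ω).toRingHom
  let sH : Spec (CommRingCat.of H) ⟶ Y := Spec.map (CommRingCat.ofHom (algebraMap R H)) ≫ g₀
  let W := pullback f sH
  let wX : W ⟶ X := pullback.fst f sH
  let wR : W ⟶ Spec (CommRingCat.of H) := pullback.snd f sH
  let mk' : Spec (CommRingCat.of (H ⧸ IsLocalRing.maximalIdeal H)) ⟶ Spec (CommRingCat.of H) :=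
    Spec.map (CommRingCat.ofHom (Ideal.Quotient.mk (IsLocalRing.maximalIdeal H)))
  let sψ : Spec (CommRingCat.of Ω) ⟶ Spec (CommRingCat.of (H ⧸ IsLocalRing.maximalIdeal H)) :=
    Spec.map (CommRingCat.ofHom ψ)
  have hψη : (sψ ≫ mk') ≫ sH = η := by
    rw [← Spec.map_comp, hη]
    change _ ≫ Spec.map _ ≫ g₀ = _
    rw [← Category.assoc, ← Spec.map_comp]
    refine congrArg (fun k => Spec.map k ≫ g₀) (CommRingCat.hom_ext (RingHom.ext fun r => ?_))
    exact (hullPt R Ω).commutes r
  let i := pullback.fst wR mk'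
  have hp : q ≫ f = ((p ≫ sψ) ≫ mk') ≫ sH := by
    rw [sq.w, ← hψη]
    simp only [Category.assoc]
  let n : T ⟶ W := pullback.lift q ((p ≫ sψ) ≫ mk') hp
  let m : T ⟶ pullback wR mk' := pullback.lift n (p ≫ sψ) (pullback.lift_snd _ _ _)
  have sqm : IsPullback m p (pullback.snd wR mk') sψ := by
    refine IsPullback.of_right ?_ (pullback.lift_snd _ _ _) (IsPullback.of_hasPullback wR mk')
    rw [pullback.lift_fst]
    refine IsPullback.of_right ?_ (pullback.lift_snd _ _ _ |>.trans (Category.assoc _ _ _))
      (IsPullback.of_hasPullback f sH)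
    rw [show n ≫ pullback.fst f sH = q from pullback.lift_fst _ _ _,
      show (sψ ≫ mk') ≫ sH = η from hψη]
    exact sq
  -- descent to the closed fibre
  have hbase : GeometricallyConnected sψ ∧ UniversallyOpen sψ ∧ Surjective sψ := by
    let : Algebra (IsLocalRing.ResidueField H) Ω := ψ.toAlgebra
    have : Subsingleton ↥(Spec (CommRingCat.of (H ⧸ IsLocalRing.maximalIdeal H))) :=
      inferInstanceAs (Subsingleton (PrimeSpectrum (IsLocalRing.ResidueField H)))
    have : IsIntegral (Spec (CommRingCat.of (IsLocalRing.ResidueField H))) := inferInstance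
    refine ⟨geometricallyConnected_algSpec (IsLocalRing.ResidueField H) Ω, ?_,
      ⟨fun x => ⟨default, Subsingleton.elim _ _⟩⟩⟩
    have : IsIntegral (Spec (CommRingCat.of (H ⧸ IsLocalRing.maximalIdeal H))) := ‹_›
    infer_instance
  have : GeometricallyConnected m := MorphismProperty.of_isPullback sqm.flip hbase.1
  have : UniversallyOpen m := MorphismProperty.of_isPullback sqm.flip hbase.2.1
  have : Surjective m := MorphismProperty.of_isPullback sqm.flip hbase.2.2
  have hmq : m ≫ i ≫ wX = q := by
    rw [← Category.assoc, pullback.lift_fst]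
    exact pullback.lift_fst _ _ _
  obtain ⟨σ₀, rfl⟩ := (bijective_pullSec m (i ≫ wX) F hmq
    (bijective_unit_of_connected_fibres m _)).2 σ
  -- lifting over the henselian ring
  have : IsClosedImmersion mk' := ProperCouple.isClosedImmersion_mk _
  have : CompactSpace W := QuasiCompact.compactSpace_of_compactSpace wR
  have : QuasiSeparatedSpace W := quasiSeparatedSpace_of_quasiSeparated wR
  obtain ⟨τ, rfl⟩ := (bijective_pullSec i wX F rfl (bijective_unit i _ (by
    rw [ProperCouple.range_fst]
    exact IsCoupleHom.couple H (IsLocalRing.maximalIdeal H) sH))).2 σ₀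
  -- spreading out
  let D : (Pt R Ω)ᵒᵖ ⥤ X.Etale := nbhdDiag g₀ ⋙ EtCoh.bc f
  let ιS : ∀ P : (Pt R Ω)ᵒᵖ, Spec (CommRingCat.of H) ⟶ (nbhd g₀ P.unop).left := fun P =>
    Spec.map (CommRingCat.ofHom (ι P.unop).toRingHom)
  have hιS : ∀ P, ιS P ≫ (nbhd g₀ P.unop).hom = sH := fun P => by
    change Spec.map _ ≫ Spec.map _ ≫ g₀ = _
    rw [← Category.assoc, ← Spec.map_comp]
    refine congrArg (fun k => Spec.map k ≫ g₀) (CommRingCat.hom_ext (RingHom.ext fun r => ?_))
    exact (ι P.unop).commutes r
  let c : Cone (schemes D) :=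
    { pt := W
      π :=
        { app := fun P => pullback.lift (wR ≫ ιS P) wX (by
            rw [Category.assoc]
            exact (congrArg (wR ≫ ·) (hιS P)).trans pullback.condition.symm)
          naturality := fun P Q a => by
            refine (Category.id_comp _).trans (pullback.hom_ext ?_ ?_)
            · change _ = (_ ≫ ((EtCoh.bc f).map ((nbhdDiag g₀).map a)).left) ≫ EtShriek.prV f _
              refine Eq.trans ?_ ((Category.assoc _ _ _).trans
                (congrArg (_ ≫ ·) (EtCoh.isPullback_bc_map f ((nbhdDiag g₀).map a)).w)).symm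
              refine (pullback.lift_fst _ _ _).trans (Eq.trans ?_ ((Category.assoc _ _ _).symm.trans
                (congrArg (· ≫ _) (pullback.lift_fst _ _ _))).symm)
              refine Eq.trans ?_ (Category.assoc _ _ _).symm
              refine congrArg (wR ≫ ·) ?_
              change Spec.map _ = Spec.map _ ≫ Spec.map _
              rw [← Spec.map_comp]
              exact congrArg Spec.map (CommRingCat.hom_ext (RingHom.ext fun x => (ι_map a.unop x).symm))
            · change _ = (_ ≫ ((EtCoh.bc f).map ((nbhdDiag g₀).map a)).left) ≫ ((EtCoh.bc f).obj _).hom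
              refine Eq.trans ?_ ((Category.assoc _ _ _).trans (congrArg (_ ≫ ·)
                (Over.w ((EtCoh.bc f).map ((nbhdDiag g₀).map a)).hom))).symm
              exact (pullback.lift_snd _ _ _).trans (pullback.lift_snd _ _ _).symm } }
  have hw : ∀ P, c.π.app P ≫ (D.obj P).hom = wX := fun P => pullback.lift_snd _ _ _
  let base : Cone ((hullDiagram R Ω).op ⋙ Scheme.Spec) := Scheme.Spec.mapCone (colimit.cocone (hullDiagram R Ω)).op
  have hbase' : IsLimit base := isLimitOfPreserves Scheme.Spec (colimit.isColimit (hullDiagram R Ω)).op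
  obtain ⟨P₀⟩ : Nonempty (Pt R Ω)ᵒᵖ := IsCofiltered.nonempty
  let cs : Cone (schemes D) → Cone ((hullDiagram R Ω).op ⋙ Scheme.Spec) := fun t =>
    { pt := t.pt
      π :=
        { app := fun P => t.π.app P ≫ EtShriek.prV f (nbhd g₀ P.unop)
          naturality := fun P Q a => by
            refine (Category.id_comp _).trans ?_
            rw [← t.w a]
            exact (Category.assoc _ _ _).trans ((congrArg (t.π.app P ≫ ·)
              (EtCoh.isPullback_bc_map f ((nbhdDiag g₀).map a)).w).trans (Category.assoc _ _ _).symm) } }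
  have hX : ∀ (t : Cone (schemes D)) (P Q : (Pt R Ω)ᵒᵖ),
      t.π.app P ≫ (D.obj P).hom = t.π.app Q ≫ (D.obj Q).hom := by
    intro t P Q
    obtain ⟨S, u, v, -⟩ := IsCofilteredOrEmpty.cone_objs P Q
    rw [← t.w u, ← t.w v]
    exact (Category.assoc _ _ _).trans ((congrArg (t.π.app S ≫ ·) (Over.w (D.map u).hom)).trans
      ((congrArg (t.π.app S ≫ ·) (Over.w (D.map v).hom)).symm.trans (Category.assoc _ _ _).symm))
  have hlift : ∀ t, (t.π.app P₀ ≫ (D.obj P₀).hom) ≫ f = hbase'.lift (cs t) ≫ sH := by
    intro t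
    have h1 : hbase'.lift (cs t) ≫ ιS P₀ = t.π.app P₀ ≫ EtShriek.prV f (nbhd g₀ P₀.unop) :=
      hbase'.fac (cs t) P₀
    rw [← hιS P₀, ← Category.assoc (hbase'.lift (cs t)), h1, Category.assoc, Category.assoc]
    exact congrArg (t.π.app P₀ ≫ ·) pullback.condition.symm
  have hc : IsLimit c :=
    { lift := fun t => pullback.lift (t.π.app P₀ ≫ (D.obj P₀).hom) (hbase'.lift (cs t)) (hlift t)
      fac := fun t P => by
        refine pullback.hom_ext ?_ ?_
        · refine (Category.assoc _ _ _).trans ((congrArg (pullback.lift _ _ _ ≫ ·)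
            (pullback.lift_fst _ _ _)).trans ((Category.assoc _ _ _).symm.trans ?_))
          exact (congrArg (· ≫ ιS P) (pullback.lift_snd _ _ _)).trans (hbase'.fac (cs t) P)
        · refine (Category.assoc _ _ _).trans ((congrArg (pullback.lift _ _ _ ≫ ·)
            (pullback.lift_snd _ _ _)).trans ?_)
          exact (pullback.lift_fst _ _ _).trans (hX t P₀ P)
      uniq := fun t k hk => by
        refine pullback.hom_ext ?_ ((hbase'.uniq (cs t) _ fun P => ?_).trans (pullback.lift_snd _ _ _).symm)
        · refine Eq.trans ?_ (pullback.lift_fst _ _ _).symm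
          rw [← hk P₀]
          exact (congrArg (k ≫ ·) (hw P₀)).symm.trans (Category.assoc _ _ _).symm
        · change (k ≫ wR) ≫ ιS P = t.π.app P ≫ _
          rw [← hk P, Category.assoc, Category.assoc]
          exact congrArg (k ≫ ·) (pullback.lift_fst _ _ _).symm }
  have : ∀ {P Q : (Pt R Ω)ᵒᵖ} (a : P ⟶ Q), IsAffineHom ((schemes D).map a) := fun {P Q} a => by
    have : IsAffineHom ((nbhdDiag g₀).map a).left :=
      inferInstanceAs (IsAffineHom (Spec.map (CommRingCat.ofHom a.unop.map.toRingHom)))
    exact MorphismProperty.of_isPullback (P := @IsAffineHom)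
      (EtCoh.isPullback_bc_map f ((nbhdDiag g₀).map a)).flip this
  have : ∀ P : (Pt R Ω)ᵒᵖ, CompactSpace ↥((𝟭 Scheme).obj (nbhd g₀ P.unop).left) := fun P =>
    inferInstanceAs (CompactSpace ↥(Spec (CommRingCat.of P.unop.Ring)))
  have : ∀ P : (Pt R Ω)ᵒᵖ, QuasiSeparatedSpace ↥((𝟭 Scheme).obj (nbhd g₀ P.unop).left) := fun P =>
    inferInstanceAs (QuasiSeparatedSpace ↥(Spec (CommRingCat.of P.unop.Ring)))
  have : ∀ P, CompactSpace (D.obj P).left := fun P =>
    QuasiCompact.compactSpace_of_compactSpace
      (pullback.fst (nbhd g₀ P.unop).hom f : (D.obj P).left ⟶ Spec (CommRingCat.of P.unop.Ring))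
  have : ∀ P, QuasiSeparatedSpace (D.obj P).left := fun P =>
    quasiSeparatedSpace_of_quasiSeparated
      (pullback.fst (nbhd g₀ P.unop).hom f : (D.obj P).left ⟶ Spec (CommRingCat.of P.unop.Ring))
  obtain ⟨P, s, hs⟩ := exists_pullAt_eq F D c hc wX hw τ
  let v : (Scheme.pointSmallEtale η).fiber.obj (nbhd g₀ P.unop) :=
    Over.homMk (Spec.map (CommRingCat.ofHom P.unop.pt.toRingHom)) (by
      change Spec.map _ ≫ Spec.map _ ≫ g₀ = η
      rw [hη, ← Category.assoc, ← Spec.map_comp]
      refine congrArg (fun k => Spec.map k ≫ g₀) (CommRingCat.hom_ext (RingHom.ext fun r => ?_))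
      exact P.unop.pt.commutes r)
  refine ⟨gm ((EtCoh.push f).obj F) η (nbhd g₀ P.unop) v s, ?_⟩
  rw [toFibreSec_gm, ← hs, pullSec_pullAt i wX F rfl _ _ (hw P), pullSec_pullAt m (i ≫ wX) F hmq]
  congr! 1
  refine pullback.hom_ext ?_ ?_
  · refine (fibLift_fst sq _ v).trans ?_
    simp only [Category.assoc]
    refine Eq.trans ?_ (congrArg (fun k => m ≫ i ≫ k) (pullback.lift_fst _ _ _)).symm
    rw [show m ≫ i ≫ wR ≫ ιS P = ((m ≫ i) ≫ wR) ≫ ιS P by simp only [Category.assoc],
      show m ≫ i = n from pullback.lift_fst _ _ _, show n ≫ wR = (p ≫ sψ) ≫ mk' from pullback.lift_snd _ _ _,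
      Category.assoc, Category.assoc]
    refine congrArg (p ≫ ·) ?_
    change Spec.map _ = Spec.map _ ≫ Spec.map _ ≫ Spec.map _
    rw [← Spec.map_comp, ← Spec.map_comp]
    refine congrArg Spec.map (CommRingCat.hom_ext (RingHom.ext fun x => ?_))
    exact (hullPt_ι P.unop x).symm
  · refine (fibLift_hom sq _ v).trans ?_
    simp only [Category.assoc]
    exact ((congrArg (fun k => m ≫ i ≫ k) (pullback.lift_snd _ _ _)).trans hmq).symm

end Surjective

include sq in
/-- The stalk of a proper direct image is the group of sections on the geometric fibre. -/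
theorem bijective_toFibreSec [IsCoupleHom f] : Function.Bijective (toFibreSec F sq) := by
  refine ⟨injective_toFibreSec F sq, ?_⟩
  obtain ⟨O, hO, hy, -⟩ := exists_isAffineOpen_mem_and_subset (X := Y) (x := η default) (U := ⊤) trivial
  have hr : Set.range η ⊆ Set.range hO.fromSpec := by
    rw [hO.range_fromSpec]
    rintro _ ⟨z, rfl⟩
    rwa [Subsingleton.elim z default]
  let η₀ := IsOpenImmersion.lift hO.fromSpec η hr
  let : Algebra Γ(Y, O) Ω := (Spec.preimage η₀).hom.toAlgebra
  refine surjective_toFibreSec_aux (R := Γ(Y, O)) F sq hO.fromSpec ?_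
  exact ((congrArg (· ≫ hO.fromSpec) (Spec.map_preimage η₀)).trans (IsOpenImmersion.lift_fac _ _ _)).symm

end Groth.Agent.Et18.H0Lift
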