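import Groth.Agent.Et18.SecPull
import Mathlib.Algebra.Category.Grp.Adjunctions
import Mathlib.CategoryTheory.Sites.PreservesSheafification

/-!
# Sheaves of sets as equalisers of sheaves underlying abelian sheaves

Every étale sheaf of sets is the equaliser of two maps between sheaves underlying abelian sheaves, so a
natural transformation between left exact functors is an isomorphism as soon as it is one on the latter.
-/

set_option autoImplicit false
set_option backward.isDefEq.respectTransparency.types false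
set_option backward.isDefEq.respectTransparency false

universe u v' u'

open CategoryTheory CategoryTheory.Limits AlgebraicGeometry Opposite

namespace Groth.Agent.Et18.H0Lift

variable {X : Scheme.{u}}

/-- The underlying sheaf of sets of an abelian sheaf. -/
noncomputable abbrev setsOf (X : Scheme.{u}) : EtCoh.Ab X ⥤ EtDesc.Sh X :=
  sheafCompose X.smallEtaleTopology (forget AddCommGrpCat.{u + 1})

/-- Every sheaf of sets is a subsheaf of the underlying sheaf of an abelian sheaf. -/
theorem exists_mono_setsOf (F : EtDesc.Sh X) :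
    ∃ (A : EtCoh.Ab X) (m : F ⟶ (setsOf X).obj A), Mono m := by
  let J := X.smallEtaleTopology
  let P : X.Etaleᵒᵖ ⥤ AddCommGrpCat.{u + 1} := F.obj ⋙ AddCommGrpCat.free
  let η : F.obj ⟶ P ⋙ forget AddCommGrpCat.{u + 1} :=
    Functor.whiskerLeft F.obj AddCommGrpCat.adj.unit
  have : ∀ c, Mono (η.app c) := fun c =>
    (mono_iff_injective _).2 FreeAbelianGroup.of_injective
  have : Mono η := NatTrans.mono_of_mono_app η
  let A := (presheafToSheaf J AddCommGrpCat.{u + 1}).obj P
  let e : (presheafToSheaf J (Type (u + 1))).obj (P ⋙ forget AddCommGrpCat.{u + 1}) ≅ (setsOf X).obj A :=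
    (fullyFaithfulSheafToPresheaf J (Type (u + 1))).preimageIso
      (sheafifyComposeIso J (forget AddCommGrpCat.{u + 1}) P)
  have hη : Mono ((presheafToSheaf J (Type (u + 1))).map η) := Functor.map_mono _ _
  exact ⟨A, (sheafificationIso F).hom ≫ (presheafToSheaf J (Type (u + 1))).map η ≫ e.hom, inferInstance⟩

/-- Every sheaf of sets is the equaliser of two maps between underlying sheaves of abelian sheaves. -/
theorem exists_fork_setsOf (F : EtDesc.Sh X) :
    ∃ (A B : EtCoh.Ab X) (ι : F ⟶ (setsOf X).obj A) (a b : (setsOf X).obj A ⟶ (setsOf X).obj B)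
      (w : ι ≫ a = ι ≫ b), Nonempty (IsLimit (Fork.ofι ι w)) := by
  obtain ⟨A, ι, hι⟩ := exists_mono_setsOf F
  obtain ⟨Z, a, b, w, ⟨hl⟩⟩ : ∃ (Z : EtDesc.Sh X) (a b : (setsOf X).obj A ⟶ Z) (w : ι ≫ a = ι ≫ b),
      Nonempty (IsLimit (Fork.ofι ι w)) :=
    ⟨_, _, _, (regularMonoOfMono ι).w, ⟨(regularMonoOfMono ι).isLimit⟩⟩
  obtain ⟨B, m, hm⟩ := exists_mono_setsOf Z
  refine ⟨A, B, ι, a ≫ m, b ≫ m, by rw [reassoc_of% w], ⟨Fork.IsLimit.mk' _ fun s => ?_⟩⟩
  have hs : s.ι ≫ a = s.ι ≫ b := by
    rw [← cancel_mono m, Category.assoc, Category.assoc]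
    exact s.condition
  exact ⟨Fork.IsLimit.lift hl s.ι hs, Fork.IsLimit.lift_ι' hl s.ι hs,
    fun {k} hk => Fork.IsLimit.hom_ext hl (hk.trans (Fork.IsLimit.lift_ι' hl s.ι hs).symm)⟩

/-- A natural transformation of left exact functors on sheaves of sets is an isomorphism as soon as it
is one on the sheaves underlying abelian sheaves. -/
theorem isIso_app_of_setsOf {D : Type u'} [Category.{v'} D] {L R : EtDesc.Sh X ⥤ D} (φ : L ⟶ R)
    [PreservesFiniteLimits L] [PreservesFiniteLimits R]
    (h : ∀ A : EtCoh.Ab X, IsIso (φ.app ((setsOf X).obj A))) (F : EtDesc.Sh X) : IsIso (φ.app F) := by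
  obtain ⟨A, B, ι, a, b, w, ⟨hl⟩⟩ := exists_fork_setsOf F
  have hL := isLimitForkMapOfIsLimit L w hl
  have hR := isLimitForkMapOfIsLimit R w hl
  have := h A
  have := h B
  have hk : (R.map ι ≫ inv (φ.app ((setsOf X).obj A))) ≫ L.map a =
      (R.map ι ≫ inv (φ.app ((setsOf X).obj A))) ≫ L.map b := by
    rw [← cancel_mono (φ.app ((setsOf X).obj B))]
    simp only [Category.assoc, NatTrans.naturality, IsIso.inv_hom_id_assoc]
    rw [← R.map_comp, ← R.map_comp, w]
  obtain ⟨k, hk', -⟩ := Fork.IsLimit.existsUnique hL _ hk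
  replace hk' : k ≫ L.map ι = R.map ι ≫ inv (φ.app ((setsOf X).obj A)) := hk'
  refine ⟨k, Fork.IsLimit.hom_ext hL ?_, Fork.IsLimit.hom_ext hR ?_⟩
  · change (φ.app F ≫ k) ≫ L.map ι = 𝟙 _ ≫ L.map ι
    rw [Category.assoc, hk', ← φ.naturality_assoc, IsIso.hom_inv_id, Category.comp_id, Category.id_comp]
  · change (k ≫ φ.app F) ≫ R.map ι = 𝟙 _ ≫ R.map ι
    rw [Category.assoc, ← φ.naturality, ← Category.assoc, hk', Category.assoc, IsIso.inv_hom_id,
      Category.comp_id, Category.id_comp]

end Groth.Agent.Et18.H0Lift
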