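import Groth.Agent.Et18.H0Lift.UnibranchSlice
import Groth.Agent.EGA43.SectionComp.FPTransfer
import Groth.Agent.SGA3cLib.GeomConn
import Groth.Agent.FlatMor12.EtaleSlice
import Groth.Agent.Et18.SepPointOpen
import Groth.Agent.SGA3cLib.ArtinComponent
import Groth.Agent.FlatMorWeight.Comp

/-!
# Neighbourhoods with connected geometric fibres

For a flat morphism of finite presentation with geometrically reduced fibres, every point has, étale locally
on the base, an open neighbourhood any two points of which in a geometric fibre are in the same connected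
component of the geometric fibre.
-/

set_option autoImplicit false
set_option backward.isDefEq.respectTransparency.types false
set_option backward.isDefEq.respectTransparency false

universe u

open CategoryTheory CategoryTheory.Limits AlgebraicGeometry Opposite TopologicalSpace

namespace Groth.Agent.Et18.H0Lift

/-- All base changes to fields are reduced. -/
def GeomRedFibres {X S : Scheme.{u}} (f : X ⟶ S) : Prop :=
  ∀ (K : Type u) [Field K] (k : Spec (CommRingCat.of K) ⟶ S), IsReduced (pullback f k)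

theorem GeomRedFibres.isPullback {X S X' S' : Scheme.{u}} {f : X ⟶ S} (h : GeomRedFibres f) {f' : X' ⟶ S'}
    {g' : X' ⟶ X} {g : S' ⟶ S} (sq : IsPullback g' f' f g) : GeomRedFibres f' := by
  intro K _ k
  have e := (IsPullback.of_hasPullback f' k).paste_horiz sq
  have := h K (k ≫ g)
  exact isReduced_of_isOpenImmersion e.isoPullback.hom

theorem GeomRedFibres.isGeomReducedAt {X S : Scheme.{u}} {f : X ⟶ S} (h : GeomRedFibres f) (y : S)
    (z : f.fiber y) : FBase.IsGeomReducedAt (f.fiberToSpecResidueField y) z := by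
  intro K _ alg z' _
  let _ : Algebra (S.residueField y) K := alg
  let k : Spec (CommRingCat.of K) ⟶ Spec (S.residueField y) :=
    Spec.map (CommRingCat.ofHom (algebraMap (S.residueField y) K))
  have := h K (k ≫ S.fromSpecResidueField y)
  have : IsReduced (FBase.bc (f.fiberToSpecResidueField y) K) :=
    isReduced_of_isOpenImmersion (pullbackLeftPullbackSndIso f (S.fromSpecResidueField y) k).hom
  infer_instance

variable {XW W : Scheme.{u}} (fW : XW ⟶ W) (g : W ⟶ XW)

/-- A point of a section component is joined to the section in every geometric fibre. -/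
theorem connectedComponent_eq_of_mem_sectionComponents (hg : g ≫ fW = 𝟙 W) {Ω : Type u} [Field Ω]
    (m : Spec (CommRingCat.of Ω) ⟶ XW) (hm : m default ∈ MoreMor.sectionComponents fW g)
    {Z : Scheme.{u}} {q : Z ⟶ XW} {p : Z ⟶ Spec (CommRingCat.of Ω)} (sq : IsPullback q p fW (m ≫ fW))
    (ζ₁ ζ₂ : Spec (CommRingCat.of Ω) ⟶ Z) (h₁ : ζ₁ ≫ q = m)
    (h₂ : ζ₂ ≫ q = (m ≫ fW) ≫ g) :
    connectedComponent (ζ₁ default) = connectedComponent (ζ₂ default) := by
  let w := (Scheme.SpecToEquivOfField Ω W (m ≫ fW)).1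
  have hw0 : (m ≫ fW) default = w := congrArg (m ≫ fW) (Subsingleton.elim _ _)
  obtain ⟨φ, hφ⟩ : ∃ φ : Spec (CommRingCat.of Ω) ⟶ Spec (W.residueField w),
      φ ≫ W.fromSpecResidueField w = m ≫ fW :=
    ⟨Spec.map (Scheme.SpecToEquivOfField Ω W (m ≫ fW)).2,
      (Scheme.SpecToEquivOfField Ω W).symm_apply_apply (m ≫ fW)⟩
  let F := fW.fiber w
  let x : Spec (W.residueField w) ⟶ F :=
    pullback.lift (W.fromSpecResidueField w ≫ g) (𝟙 _) (by
      rw [Category.assoc, hg, Category.comp_id, Category.id_comp])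
  let ψ : Z ⟶ pullback (fW.fiberToSpecResidueField w) φ :=
    pullback.lift (pullback.lift q (p ≫ φ) (by rw [Category.assoc, hφ, sq.w])) p (pullback.lift_snd _ _ _)
  have hψ : IsIso ψ := by
    have sq' : IsPullback (pullback.fst (fW.fiberToSpecResidueField w) φ ≫ fW.fiberι w)
        (pullback.snd (fW.fiberToSpecResidueField w) φ) fW (m ≫ fW) := by
      rw [← hφ]
      exact (IsPullback.of_hasPullback (fW.fiberToSpecResidueField w) φ).paste_horiz
        (IsPullback.of_hasPullback fW (W.fromSpecResidueField w))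
    rw [show ψ = (sq.isoIsPullback _ _ sq').hom from sq'.hom_ext
      (by rw [IsPullback.isoIsPullback_hom_fst, ← Category.assoc, pullback.lift_fst]; exact pullback.lift_fst _ _ _)
      (by rw [IsPullback.isoIsPullback_hom_snd]; exact pullback.lift_snd _ _ _)]
    infer_instance
  have hx₀ : x default ∈ Set.range x.base := ⟨default, rfl⟩
  have hpre := SGA3cLib.isPreconnected_preimage_connectedComponent (W.residueField w)
    (fW.fiberToSpecResidueField w) x (pullback.lift_snd _ _ _) (x default) hx₀ φ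
  have hcoe : fW.fiberι w (x default) = g w := by
    rw [← Scheme.Hom.comp_apply, show x ≫ fW.fiberι w = W.fromSpecResidueField w ≫ g from pullback.lift_fst _ _ _,
      Scheme.Hom.comp_apply]
    exact congrArg g (W.fromSpecResidueField_apply w _)
  have hin : ∀ z : F, fW.fiberι w z ∈ connectedComponentIn (fW ⁻¹' {w}) (g w) →
      z ∈ connectedComponent (x default) := by
    intro z hz
    have hemb := (fW.fiberι w).isEmbedding
    have hr : Set.range (fW.fiberι w) = fW ⁻¹' {w} := fW.range_fiberι w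
    rw [← hcoe, connectedComponentIn_eq_image (show fW.fiberι w (x default) ∈ fW ⁻¹' {w} from
      hr.le ⟨_, rfl⟩)] at hz
    obtain ⟨⟨y, hy⟩, hyc, hyz⟩ := hz
    let e : F ≃ₜ (fW ⁻¹' {w} : Set XW) := hemb.toHomeomorph.trans (Homeomorph.setCongr hr)
    have h := (e.symm.continuous.mapsTo_connectedComponent _) hyc
    have he : ∀ a : F, (e a).1 = fW.fiberι w a := fun a => rfl
    rw [show e.symm ⟨fW.fiberι w (x default), _⟩ = x default from
      e.symm_apply_eq.2 (Subtype.ext (he _).symm),
      show e.symm ⟨y, hy⟩ = z from e.symm_apply_eq.2 (Subtype.ext (hyz.trans (he z).symm))] at h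
    exact h
  have hmem : ∀ ζ : Spec (CommRingCat.of Ω) ⟶ Z, (ζ ≫ q) default ∈ MoreMor.sectionComponents fW g →
      fW ((ζ ≫ q) default) = w → (ψ (ζ default)) ∈
        (pullback.fst (fW.fiberToSpecResidueField w) φ).base ⁻¹' connectedComponent (x default) := by
    intro ζ hζ hw
    refine hin _ ?_
    have e1 : fW.fiberι w ((pullback.fst (fW.fiberToSpecResidueField w) φ) (ψ (ζ default))) =
        (ζ ≫ q) default := by
      rw [← Scheme.Hom.comp_apply, ← Scheme.Hom.comp_apply, ← Scheme.Hom.comp_apply]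
      refine congrArg (fun k : Spec (CommRingCat.of Ω) ⟶ XW => k default) ?_
      simp [ψ, Scheme.Hom.fiberι, Category.assoc]
    rw [e1]
    have := hζ
    simp only [MoreMor.sectionComponents, Set.mem_ofPred_eq] at this
    rwa [hw] at this
  have hwg : fW (g w) = w := congrArg (fun k : W ⟶ W => k w) hg
  have h1 := hmem ζ₁ (by rw [h₁]; exact hm) (by rw [h₁, ← hw0, Scheme.Hom.comp_apply])
  have h2 := hmem ζ₂ (by
      rw [h₂, Scheme.Hom.comp_apply, hw0]
      show g w ∈ connectedComponentIn (fW ⁻¹' {fW (g w)}) (g (fW (g w)))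
      rw [hwg]
      exact mem_connectedComponentIn hwg)
    (by rw [h₂, Scheme.Hom.comp_apply, hw0]; exact hwg)
  have hh := (connectedComponent_eq (hpre.subset_connectedComponent h2 h1))
  have hc := (inv ψ).continuous.mapsTo_connectedComponent (ψ (ζ₂ default))
  have hid : ∀ z : Z, inv ψ (ψ z) = z := fun z => by
    rw [← Scheme.Hom.comp_apply, IsIso.hom_inv_id]; rfl
  have h3 := hc (hpre.subset_connectedComponent h2 h1)
  change inv ψ (ψ (ζ₁ default)) ∈ connectedComponent (inv ψ (ψ (ζ₂ default))) at h3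
  rw [hid, hid] at h3
  exact (connectedComponent_eq h3).symm

variable {X S : Scheme.{u}}

/-- Étale locally on the base, a point has a neighbourhood with connected traces on geometric fibres. -/
theorem exists_connected_nhd (f : X ⟶ S) [Flat f] [LocallyOfFinitePresentation f] [QuasiCompact f]
    [QuasiSeparated f] (hred : GeomRedFibres f) (x : X) :
    ∃ (U : Scheme.{u}) (a : U ⟶ S) (_ : Etale a) (O : (pullback f a).Opens),
      x ∈ pullback.fst f a '' (O : Set ↑(pullback f a)) ∧
      ∀ (Ω : Type u) [Field Ω] [IsAlgClosed Ω] (t : Spec (CommRingCat.of Ω) ⟶ U)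
        (z₁ z₂ : Spec (CommRingCat.of Ω) ⟶ pullback f a) (h₁ : z₁ ≫ pullback.snd f a = t)
        (h₂ : z₂ ≫ pullback.snd f a = t), z₁ default ∈ O → z₂ default ∈ O →
        connectedComponent ((pullback.lift z₁ (𝟙 _) (by rw [h₁, Category.id_comp]) :
            Spec (CommRingCat.of Ω) ⟶ pullback (pullback.snd f a) t) default) =
          connectedComponent ((pullback.lift z₂ (𝟙 _) (by rw [h₂, Category.id_comp]) :
            Spec (CommRingCat.of Ω) ⟶ pullback (pullback.snd f a) t) default) := by
  let s := f x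
  let C : Set (f.fiber s) := connectedComponent (f.asFiber x)
  have hC : IsOpen C := by
    have : LocallyOfFiniteType (f.fiberToSpecResidueField s) :=
      inferInstanceAs (LocallyOfFiniteType (pullback.snd f (S.fromSpecResidueField s)))
    have : IsLocallyNoetherian (f.fiber s) :=
      LocallyOfFiniteType.isLocallyNoetherian (f.fiberToSpecResidueField s)
    exact SGA3cLib.isOpen_connectedComponent _
  obtain ⟨P₀, hP₀, hPC⟩ := (f.fiberι s).isEmbedding.isInducing.isOpen_iff.1 hC
  let P : X.Opens := ⟨P₀, hP₀⟩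
  have hxP : x ∈ P := by
    have : f.asFiber x ∈ C := mem_connectedComponent
    rw [← hPC] at this
    exact f.fiberι_asFiber x ▸ this
  obtain ⟨S', V, e, π, he, ⟨s', hs'⟩, hπs, hπf, hπfl, hπfp, r, hr⟩ :=
    FlatMor12.exists_etale_finite_slice (P.ι ≫ f) s (⟨x, hxP⟩ : P) rfl
  obtain ⟨U₀, W, e', ρ, r', u, he', hu, hρ, hρfl, hρfp, hr', ⟨w₀, hw₀⟩, huniq⟩ :=
    exists_unibranch_finite π s'
  let a := e' ≫ e
  let rW : W ⟶ X := r' ≫ r ≫ P.ι
  have hrW : rW ≫ f = ρ ≫ a := by
    simp only [rW, a, Category.assoc, hr, reassoc_of% hr']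
  let f' := pullback.snd f a
  let p₁ := pullback.fst f' ρ
  let fW' := pullback.snd f' ρ
  let gW : W ⟶ pullback f' ρ :=
    pullback.lift (pullback.lift rW ρ hrW) (𝟙 W) (by rw [pullback.lift_snd, Category.id_comp])
  have hgW : gW ≫ fW' = 𝟙 W := pullback.lift_snd _ _ _
  have hgWp : gW ≫ p₁ ≫ pullback.fst f a = rW := by simp [gW, p₁]
  have hredW : GeomRedFibres fW' :=
    (hred.isPullback (IsPullback.of_hasPullback f a)).isPullback (IsPullback.of_hasPullback f' ρ)
  let R : Set ↑(pullback f' ρ) := MoreMor.sectionComponents fW' gW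
  have hRo : IsOpen R := by
    rw [← subset_interior_iff_isOpen]
    intro c hc
    exact EGA43.SectionComp.mem_interior_sectionComponents_fp fW' gW hgW (fW' c)
      (fun c' _ => hredW.isGeomReducedAt _ _) c hc
  let m : pullback ρ ρ ⟶ pullback f' ρ :=
    pullback.lift (pullback.fst ρ ρ ≫ gW ≫ p₁) (pullback.snd ρ ρ) (by
      rw [Category.assoc, Category.assoc, show p₁ ≫ f' = fW' ≫ ρ from pullback.condition, reassoc_of% hgW,
        pullback.condition])
  let Bad : Set U₀ := (pullback.fst ρ ρ ≫ ρ) '' (m ⁻¹' R)ᶜ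
  have hBad : IsClosed Bad :=
    (pullback.fst ρ ρ ≫ ρ).isClosedMap _ (hRo.preimage m.continuous).isClosed_compl
  have huB : u ∉ Bad := by
    rintro ⟨c, hc, hcu⟩
    obtain ⟨w, rfl⟩ := huniq c hcu
    refine hc ?_
    change m (pullback.diagonal ρ w) ∈ MoreMor.sectionComponents fW' gW
    have hm : pullback.diagonal ρ ≫ m = gW := by
      refine pullback.hom_ext ?_ ?_
      · simp [m, p₁]
      · rw [hgW]
        simp [m]
    rw [← Scheme.Hom.comp_apply, hm]
    have hw : fW' (gW w) = w := congrArg (fun k : W ⟶ W => k w) hgW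
    show gW w ∈ connectedComponentIn (fW' ⁻¹' {fW' (gW w)}) (gW (fW' (gW w)))
    rw [hw]
    exact mem_connectedComponentIn hw
  let O : (pullback f a).Opens :=
    ⟨p₁ '' R ∩ f' ⁻¹' Badᶜ, (p₁.isOpenMap _ hRo).inter (hBad.isOpen_compl.preimage f'.continuous)⟩
  refine ⟨U₀, a, inferInstance, O, ?_, ?_⟩
  · have hs : s = a u := by
      rw [← hs', ← hu]
      rfl
    let h := ρ ≫ a
    have hhw : h w₀ = s := by rw [hs, ← hw₀]; rfl
    have := FlatMorWeight.locallyQuasiFinite_of_etale a
    have : LocallyQuasiFinite h := inferInstance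
    let J := h.fiber s
    have : LocallyQuasiFinite (h.fiberToSpecResidueField s) :=
      inferInstanceAs (LocallyQuasiFinite (pullback.snd h (S.fromSpecResidueField s)))
    have : LocallyOfFiniteType (h.fiberToSpecResidueField s) :=
      inferInstanceAs (LocallyOfFiniteType (pullback.snd h (S.fromSpecResidueField s)))
    obtain ⟨j₀, hj₀⟩ : w₀ ∈ Set.range (h.fiberι s) := by rw [h.range_fiberι]; exact hhw
    have : DiscreteTopology J := by
      have hd := (h.fiberToSpecResidueField s).isDiscrete_preimage_singleton default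
      rwa [show (h.fiberToSpecResidueField s) ⁻¹' {default} = Set.univ from
        Set.eq_univ_iff_forall.mpr fun z => Subsingleton.elim _ _, isDiscrete_univ_iff] at hd
    let Ow : J.Opens := ⟨{j₀}, isOpen_discrete _⟩
    have : CompactSpace Ow.toScheme :=
      isCompact_iff_compactSpace.1 (Set.finite_singleton j₀).isCompact
    let q := Ow.ι ≫ h.fiberToSpecResidueField s
    have : QuasiCompact q := (quasiCompact_iff_compactSpace _).mpr ‹_›
    have : IsFinite q := IsFinite.of_locallyQuasiFinite q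
    let ω := Ow.ι ≫ h.fiberι s
    have hωr : Set.range ω = {w₀} := by
      rw [show ⇑ω = h.fiberι s ∘ Ow.ι from funext (Scheme.Hom.comp_apply Ow.ι (h.fiberι s)), Set.range_comp,
        Scheme.Opens.range_ι]
      exact (Set.image_singleton).trans (by rw [hj₀])
    have hωh : ω ≫ h = q ≫ S.fromSpecResidueField s := by
      simp only [ω, q, Category.assoc]
      exact congrArg (Ow.ι ≫ ·) pullback.condition
    let E := pullback fW' ω
    let εX := pullback.fst fW' ω
    let εJ := pullback.snd fW' ω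
    have sqE : IsPullback (εX ≫ p₁ ≫ pullback.fst f a) εJ f (q ≫ S.fromSpecResidueField s) := by
      rw [← hωh]
      exact (IsPullback.of_hasPullback fW' ω).paste_horiz
        ((IsPullback.of_hasPullback f' ρ).paste_horiz (IsPullback.of_hasPullback f a))
    let ψ : E ⟶ f.fiber s :=
      pullback.lift (εX ≫ p₁ ≫ pullback.fst f a) (εJ ≫ q) (sqE.w.trans (Category.assoc _ _ _).symm)
    have sqψ : IsPullback ψ εJ (f.fiberToSpecResidueField s) q :=
      IsPullback.of_right (by
        rw [show ψ ≫ pullback.fst f (S.fromSpecResidueField s) = _ from pullback.lift_fst _ _ _]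
        exact sqE) (pullback.lift_snd _ _ _) (IsPullback.of_hasPullback f (S.fromSpecResidueField s))
    have : Flat q := inferInstance
    have : LocallyOfFinitePresentation q := inferInstance
    have : IsFinite ψ := MorphismProperty.of_isPullback (P := @IsFinite) sqψ.flip ‹_›
    have : Flat ψ := MorphismProperty.of_isPullback (P := @Flat) sqψ.flip ‹_›
    have : LocallyOfFinitePresentation ψ :=
      MorphismProperty.of_isPullback (P := @LocallyOfFinitePresentation) sqψ.flip ‹_›
    have : IsLocallyNoetherian E := LocallyOfFiniteType.isLocallyNoetherian (εJ ≫ q)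
    have hgw : gW w₀ ∈ Set.range εX := by
      rw [Scheme.Pullback.range_fst, hωr]
      exact congrArg (fun k : W ⟶ W => k w₀) hgW
    obtain ⟨d, hd⟩ := hgw
    have hclop : IsClopen (ψ '' connectedComponent d) :=
      ⟨ψ.isClosedMap _ isClosed_connectedComponent,
        ψ.isOpenMap _ (SGA3cLib.isOpen_connectedComponent _)⟩
    have hψι : ∀ c, f.fiberι s (ψ c) = (εX ≫ p₁ ≫ pullback.fst f a) c := fun c => by
      rw [← Scheme.Hom.comp_apply]
      exact congrArg (fun k : E ⟶ X => k c) (pullback.lift_fst _ _ _)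
    have hdC : ψ d ∈ C := by
      rw [← hPC, Set.mem_preimage, hψι, Scheme.Hom.comp_apply, hd, ← Scheme.Hom.comp_apply, hgWp]
      change rW w₀ ∈ P
      simp only [rW, Scheme.Hom.comp_apply]
      exact (r (r' w₀)).2
    have hxd : f.asFiber x ∈ ψ '' connectedComponent d := by
      have := hclop.connectedComponent_subset ⟨d, mem_connectedComponent, rfl⟩
      rw [← connectedComponent_eq hdC] at this
      exact this mem_connectedComponent
    obtain ⟨c, hc, hcx⟩ := hxd
    have hcw : fW' (εX c) = w₀ := by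
      have : εX c ∈ Set.range εX := ⟨c, rfl⟩
      rw [Scheme.Pullback.range_fst, hωr] at this
      exact this
    refine ⟨p₁ (εX c), ⟨⟨εX c, ?_, rfl⟩, ?_⟩, ?_⟩
    · show εX c ∈ connectedComponentIn (fW' ⁻¹' {fW' (εX c)}) (gW (fW' (εX c)))
      rw [hcw, ← hd]
      have hrange : Set.range εX = fW' ⁻¹' {w₀} := by rw [Scheme.Pullback.range_fst, hωr]
      refine (isPreconnected_connectedComponent.image _ εX.continuous.continuousOn).subset_connectedComponentIn
        ⟨d, mem_connectedComponent, rfl⟩ ?_ ⟨c, hc, rfl⟩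
      exact (Set.image_subset_range _ _).trans hrange.le
    · show f' (p₁ (εX c)) ∉ Bad
      rw [← Scheme.Hom.comp_apply, show p₁ ≫ f' = fW' ≫ ρ from pullback.condition, Scheme.Hom.comp_apply, hcw, hw₀]
      exact huB
    · rw [← f.fiberι_asFiber x, ← hcx, hψι]
      simp only [Scheme.Hom.comp_apply]
  intro Ω _ _ t z₁ z₂ h₁ h₂ hz₁ hz₂
  let Z := pullback f' t
  obtain ⟨⟨c₁, hc₁, hcz₁⟩, hb⟩ := hz₁
  obtain ⟨⟨c₂, hc₂, hcz₂⟩, -⟩ := hz₂
  obtain ⟨m₁, hm₁, hm₁c⟩ := exists_lift_of_locallyQuasiFinite p₁ z₁ c₁ hcz₁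
  obtain ⟨m₂, hm₂, hm₂c⟩ := exists_lift_of_locallyQuasiFinite p₁ z₂ c₂ hcz₂
  -- joining inside `Z`
  have join : ∀ (n : Spec (CommRingCat.of Ω) ⟶ pullback f' ρ), n default ∈ R →
      ∀ (y₁ y₂ : Spec (CommRingCat.of Ω) ⟶ pullback f a) (k₁ : y₁ ≫ f' = t) (k₂ : y₂ ≫ f' = t),
        n ≫ p₁ = y₁ → ((n ≫ fW') ≫ gW) ≫ p₁ = y₂ →
        connectedComponent ((pullback.lift y₁ (𝟙 _) (by rw [k₁, Category.id_comp]) :
            Spec (CommRingCat.of Ω) ⟶ Z) default) =
          connectedComponent ((pullback.lift y₂ (𝟙 _) (by rw [k₂, Category.id_comp]) :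
            Spec (CommRingCat.of Ω) ⟶ Z) default) := by
    intro n hn y₁ y₂ k₁ k₂ hy₁ hy₂
    have ht : (n ≫ fW') ≫ ρ = t := by
      rw [Category.assoc, show fW' ≫ ρ = p₁ ≫ f' from pullback.condition.symm, ← Category.assoc, hy₁, k₁]
    let Zn := pullback fW' (n ≫ fW')
    let θ : Zn ⟶ Z := pullback.lift (pullback.fst _ _ ≫ p₁) (pullback.snd _ _) (by
      rw [Category.assoc, show p₁ ≫ f' = fW' ≫ ρ from pullback.condition,
        ← Category.assoc (pullback.fst fW' (n ≫ fW')), pullback.condition, Category.assoc, ht])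
    let l₁ : Spec (CommRingCat.of Ω) ⟶ Zn := pullback.lift n (𝟙 _) (Category.id_comp _).symm
    let l₂ : Spec (CommRingCat.of Ω) ⟶ Zn := pullback.lift ((n ≫ fW') ≫ gW) (𝟙 _) (by
      simp [hgW])
    have hj := connectedComponent_eq_of_mem_sectionComponents fW' gW hgW n hn
      (IsPullback.of_hasPullback fW' (n ≫ fW')) l₁ l₂ (pullback.lift_fst _ _ _) (pullback.lift_fst _ _ _)
    have e₁ : l₁ ≫ θ = pullback.lift y₁ (𝟙 _) (by rw [k₁, Category.id_comp]) := by
      refine pullback.hom_ext ?_ ?_ <;> simp [l₁, θ, ← hy₁]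
    have e₂ : l₂ ≫ θ = pullback.lift y₂ (𝟙 _) (by rw [k₂, Category.id_comp]) := by
      refine pullback.hom_ext ?_ ?_ <;> simp [l₂, θ, ← hy₂]
    rw [← e₁, ← e₂]
    simp only [Scheme.Hom.comp_apply]
    have hmem : l₁ default ∈ connectedComponent (l₂ default) := hj ▸ mem_connectedComponent
    exact (connectedComponent_eq (θ.continuous.mapsTo_connectedComponent _ hmem)).symm
  let w₁ := m₁ ≫ fW'
  let w₂ := m₂ ≫ fW'
  have ht₁ : w₁ ≫ ρ = t := by
    simp only [w₁, Category.assoc, show fW' ≫ ρ = p₁ ≫ f' from pullback.condition.symm, reassoc_of% hm₁]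
    exact h₁
  have ht₂ : w₂ ≫ ρ = t := by
    simp only [w₂, Category.assoc, show fW' ≫ ρ = p₁ ≫ f' from pullback.condition.symm, reassoc_of% hm₂]
    exact h₂
  let c := pullback.lift w₁ w₂ (ht₁.trans ht₂.symm)
  have hc12 : (c ≫ m) default ∈ R := by
    by_contra hn
    refine hb ?_
    show f' (z₁ default) ∈ Bad
    refine ⟨c default, fun h => hn (by rw [Scheme.Hom.comp_apply]; exact h), ?_⟩
    rw [← Scheme.Hom.comp_apply, ← Scheme.Hom.comp_apply, pullback.lift_fst_assoc, ht₁, ← h₁]
  have hk₁ : (w₁ ≫ gW ≫ p₁) ≫ f' = t := by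
    simp only [Category.assoc, show p₁ ≫ f' = fW' ≫ ρ from pullback.condition, reassoc_of% hgW, ht₁]
  have hk₂ : (w₂ ≫ gW ≫ p₁) ≫ f' = t := by
    simp only [Category.assoc, show p₁ ≫ f' = fW' ≫ ρ from pullback.condition, reassoc_of% hgW, ht₂]
  refine (join m₁ (hm₁c ▸ hc₁) z₁ _ h₁ hk₁ hm₁ (Category.assoc _ _ _)).trans (Eq.trans ?_
    (join m₂ (hm₂c ▸ hc₂) z₂ _ h₂ hk₂ hm₂ (Category.assoc _ _ _)).symm)
  refine join (c ≫ m) hc12 _ _ hk₁ hk₂ ?_ ?_
  · simp [c, m, p₁]
  · simp [c, m, fW', p₁]

end Groth.Agent.Et18.H0Lift
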