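import Groth.Agent.Et18.H0Lift.SuppTransfer

/-!
# Sections over étale objects as global sections
-/

set_option autoImplicit false
set_option backward.isDefEq.respectTransparency.types false
set_option backward.isDefEq.respectTransparency false

universe u

open CategoryTheory CategoryTheory.Limits AlgebraicGeometry Opposite

namespace Groth.Agent.Et18.H0Lift

variable {T Y : Scheme.{u}} (e : Y ⟶ T) (F : EtCoh.Ab T) (U : Y.Etale)

/-- A section of an inverse image over an étale object as a global section. -/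
noncomputable def toSec (σ : EtCoh.sect ((EtCoh.pull e).obj F) U) : gSec (U.hom ≫ e) F :=
  ((bijective_splitSec (F := F) (a := U.hom) (b := e) (h := rfl)).2
    (pullAt ((EtCoh.pull e).obj F) U (𝟙 U.left) (Category.id_comp _) σ)).choose

variable {e F U}

theorem hasGerm_toSec_iff (σ : EtCoh.sect ((EtCoh.pull e).obj F) U) {Ω : Type u} [Field Ω] [IsSepClosed Ω]
    (ζ : Spec (CommRingCat.of Ω) ⟶ U.left) {η₁ : Spec (CommRingCat.of Ω) ⟶ Y}
    {η : Spec (CommRingCat.of Ω) ⟶ T} (h₁ : ζ ≫ U.hom = η₁) (h : η₁ ≫ e = η)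
    (hc : ζ ≫ U.hom ≫ e = η) (ε : (EtCoh.stalk η).obj F) :
    HasGerm (toSec e F U σ) ⟨ζ, hc⟩ ε ↔
      gm ((EtCoh.pull e).obj F) η₁ U (Over.homMk ζ h₁) σ = toPull e η ⟨η₁, h⟩ F ε := by
  let ξ : FibrePts U.hom η₁ := ⟨ζ, h₁⟩
  have h0 := hasGerm_pullAt (F := (EtCoh.pull e).obj F) U (𝟙 U.left) (Category.id_comp _) σ ξ
  rw [show fibOf ξ U (𝟙 U.left) (Category.id_comp _) = Over.homMk ζ h₁ from
    Over.OverMorphism.ext (Category.comp_id _)] at h0
  have hch : splitSec U.hom e rfl (toSec e F U σ) =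
      pullAt ((EtCoh.pull e).obj F) U (𝟙 U.left) (Category.id_comp _) σ :=
    ((bijective_splitSec (F := F) (a := U.hom) (b := e) (h := rfl)).2 _).choose_spec
  rw [← hasGerm_splitSec_iff (h := rfl) ξ (ζ := ⟨ζ, hc⟩) rfl h, hch]
  exact ⟨fun hh => h0.unique hh, fun hh => hh ▸ h0⟩

end Groth.Agent.Et18.H0Lift
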