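import Groth.Agent.Et18.H0Lift.ConnDescent
import Groth.Agent.Et18.H0Lift.ConnNbhd
import Groth.Agent.Et18.H0Lift.SectAt
import Groth.Agent.Et18.H0Lift.ShriekBaseChange
import Groth.Agent.HenselLib.EtaleReduced
import Mathlib.RingTheory.RingHom.Etale
import Mathlib.RingTheory.LocalProperties.Reduced

/-!
# Degree zero base change along flat morphisms with geometrically reduced fibres
-/

set_option autoImplicit false
set_option backward.isDefEq.respectTransparency.types false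
set_option backward.isDefEq.respectTransparency false

universe u

open CategoryTheory CategoryTheory.Limits AlgebraicGeometry Opposite TopologicalSpace

namespace Groth.Agent.Et18.H0Lift

theorem isReduced_of_etale_source {A B : Scheme.{u}} (c : A ⟶ B) [Etale c] [IsReduced B] :
    IsReduced A := by
  have : ∀ x : A, _root_.IsReduced (A.presheaf.stalk x) := fun x => by
    obtain ⟨W, hW, hxW, -⟩ := exists_isAffineOpen_mem_and_subset (x := c x) (U := ⊤) trivial
    obtain ⟨V, hV, hxV, e⟩ := exists_isAffineOpen_mem_and_subset (x := x) (U := c ⁻¹ᵁ W) hxW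
    letI := (c.appLE W V e).hom.toAlgebra
    have hE : Algebra.Etale Γ(B, W) Γ(A, V) :=
      HasRingHomProperty.appLE @Etale c inferInstance ⟨W, hW⟩ ⟨V, hV⟩ e
    have : _root_.IsReduced Γ(A, V) := HenselLib.isReduced_of_etale Γ(B, W) Γ(A, V)
    letI := TopCat.Presheaf.algebra_section_stalk A.presheaf ⟨x, hxV⟩
    have := hV.isLocalization_stalk ⟨x, hxV⟩
    exact isReduced_localizationPreserves (hV.primeIdealOf ⟨x, hxV⟩).asIdeal.primeCompl (A.presheaf.stalk x) inferInstance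
  exact isReduced_of_isReduced_stalk A

theorem GeomRedFibres.comp_etale {W X S : Scheme.{u}} {f : X ⟶ S} (h : GeomRedFibres f) (π : W ⟶ X)
    [Etale π] : GeomRedFibres (π ≫ f) := by
  intro K _ k
  have := h K k
  let e := pullbackLeftPullbackSndIso k f π
  have : IsReduced (pullback π (pullback.fst f k)) := isReduced_of_etale_source (pullback.snd π (pullback.fst f k))
  exact isReduced_of_isOpenImmersion (pullbackRightPullbackFstIso f k π).inv

theorem JoinedFibres.of_isAlgClosed {X' U : Scheme.{u}} (p : X' ⟶ U) (O : X'.Opens)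
    (h : ∀ (Ω : Type u) [Field Ω] [IsAlgClosed Ω] (t : Spec (CommRingCat.of Ω) ⟶ U)
      (z₁ z₂ : Spec (CommRingCat.of Ω) ⟶ X') (h₁ : z₁ ≫ p = t) (h₂ : z₂ ≫ p = t),
      z₁ default ∈ O → z₂ default ∈ O →
        connectedComponent ((pullback.lift z₁ (𝟙 _) (by rw [h₁, Category.id_comp]) :
            Spec (CommRingCat.of Ω) ⟶ pullback p t) default) =
          connectedComponent ((pullback.lift z₂ (𝟙 _) (by rw [h₂, Category.id_comp]) :
            Spec (CommRingCat.of Ω) ⟶ pullback p t) default)) : JoinedFibres p O := by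
  intro Ω _ _ t z₁ z₂ h₁ h₂ hO₁ hO₂
  let K := AlgebraicClosure Ω
  let j : Spec (CommRingCat.of K) ⟶ Spec (CommRingCat.of Ω) :=
    Spec.map (CommRingCat.ofHom (algebraMap Ω K))
  have hj : ∀ z : Spec (CommRingCat.of Ω) ⟶ X', z default ∈ O → (j ≫ z) default ∈ O := fun z hz => by
    rw [Scheme.Hom.comp_apply, Subsingleton.elim (j default) default]; exact hz
  have hh := h K (j ≫ t) (j ≫ z₁) (j ≫ z₂) (by rw [Category.assoc, h₁]) (by rw [Category.assoc, h₂])
    (hj _ hO₁) (hj _ hO₂)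
  let l : pullback p (j ≫ t) ⟶ pullback p t :=
    pullback.lift (pullback.fst _ _) (pullback.snd _ _ ≫ j) (pullback.condition.trans (Category.assoc _ _ _).symm)
  have key : ∀ (z : Spec (CommRingCat.of Ω) ⟶ X') (hz : z ≫ p = t),
      l ((pullback.lift (j ≫ z) (𝟙 _) (by rw [Category.assoc, hz, Category.id_comp]) :
          Spec (CommRingCat.of K) ⟶ pullback p (j ≫ t)) default) =
        (pullback.lift z (𝟙 _) (by rw [hz, Category.id_comp]) :
          Spec (CommRingCat.of Ω) ⟶ pullback p t) default := by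
    intro z hz
    have e : (pullback.lift (j ≫ z) (𝟙 _) (by rw [Category.assoc, hz, Category.id_comp]) :
          Spec (CommRingCat.of K) ⟶ pullback p (j ≫ t)) ≫ l =
        j ≫ pullback.lift z (𝟙 _) (by rw [hz, Category.id_comp]) := by
      refine pullback.hom_ext ?_ ?_
      · simp [l]
      · simp [l]
        exact (Category.id_comp j).trans (Category.comp_id j).symm
    rw [← Scheme.Hom.comp_apply, e, Scheme.Hom.comp_apply, Subsingleton.elim (j default) default]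
  have hm := l.continuous.mapsTo_connectedComponent _ (hh ▸ mem_connectedComponent)
  rw [key z₁ h₁, key z₂ h₂] at hm
  exact connectedComponent_eq hm |>.symm

variable {X S Y T : Scheme.{u}} (f : X ⟶ S) [Flat f] [LocallyOfFinitePresentation f]
  (g : T ⟶ S) (h : Y ⟶ X) (e : Y ⟶ T) (hc : IsPullback e h g f) (F : EtCoh.Ab T)

omit [Flat f] [LocallyOfFinitePresentation f] in
theorem stalk_baseChange0_gm {Ω : Type u} [Field Ω] [IsSepClosed Ω] (η' : Spec (CommRingCat.of Ω) ⟶ X)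
    (V : S.Etale) (v : (Scheme.pointSmallEtale (η' ≫ f)).fiber.obj V)
    (s : EtCoh.sect ((EtCoh.push g).obj F) V) :
    (EtCoh.stalk η').map (EtCoh.baseChange0 g f h e hc.w F)
        (toPull f (η' ≫ f) ⟨η', rfl⟩ ((EtCoh.push g).obj F) (gm ((EtCoh.push g).obj F) (η' ≫ f) V v s)) =
      gm ((EtCoh.push h).obj ((EtCoh.pull e).obj F)) η' ((EtCoh.bc f).obj V)
        (bcLift f (η' ≫ f) ⟨η', rfl⟩ V v)
        (((EtCoh.pull e).obj F).obj.map (bcSquareHom g f h e hc.w V).op (uAt e F ((EtCoh.bc g).obj V) s)) := by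
  refine (congrArg _ (gm_unit f ⟨η', rfl⟩ ((EtCoh.push g).obj F) V v s).symm).trans ?_
  refine (gm_hom (EtCoh.baseChange0 g f h e hc.w F) η' _ _ _).trans ?_
  exact congrArg (gm _ η' _ _) (ConcreteCategory.congr_hom (unit_baseChange0 g f h e hc.w F V) s)

include hc in
theorem injective_stalk_baseChange0 {Ω : Type u} [Field Ω] [IsSepClosed Ω]
    (η' : Spec (CommRingCat.of Ω) ⟶ X) (ε : (EtCoh.stalk (η' ≫ f)).obj ((EtCoh.push g).obj F))
    (hε : (EtCoh.stalk η').map (EtCoh.baseChange0 g f h e hc.w F)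
        (toPull f (η' ≫ f) ⟨η', rfl⟩ ((EtCoh.push g).obj F) ε) = 0) : ε = 0 := by
  obtain ⟨V, v, s, rfl⟩ :=
    (Scheme.pointSmallEtale (η' ≫ f)).toPresheafFiber_jointly_surjective (P := ((EtCoh.push g).obj F).obj) ε
  let H := (EtCoh.push h).obj ((EtCoh.pull e).obj F)
  let G := (EtCoh.pull e).obj F
  let B := (EtCoh.bc f).obj V
  let a := bcSquareHom g f h e hc.w V
  let z : EtCoh.sect H B := G.obj.map a.op (uAt e F ((EtCoh.bc g).obj V) s)
  let v' := bcLift f (η' ≫ f) (⟨η', rfl⟩ : FibrePts f (η' ≫ f)) V v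
  have h0 : gm H η' B v' z = 0 := (stalk_baseChange0_gm f g h e hc F η' V v s).symm.trans hε
  have h1 := (gm_eq_zero_iff H η' B v' z).1 h0
  simp only [EtShriek.sectSupp, Set.mem_ofPred_eq, not_forall, not_not] at h1
  obtain ⟨W, i, ⟨w, hw⟩, hz⟩ := h1
  let k : W.left ⟶ V.left := i.left ≫ EtShriek.prV f V
  have hko : IsOpenMap k := by
    have : Flat (EtShriek.prV f V) := inferInstanceAs (Flat (pullback.fst V.hom f))
    have : LocallyOfFinitePresentation (EtShriek.prV f V) :=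
      inferInstanceAs (LocallyOfFinitePresentation (pullback.fst V.hom f))
    have : Etale i.left := etale_map_left i
    exact k.isOpenMap
  have hv : fiberPt v ∉ (Set.range k)ᶜ := fun hn => hn ⟨w, by
    change (i.left ≫ EtShriek.prV f V) w = _
    rw [Scheme.Hom.comp_apply, hw]
    exact prV_pt f _ (⟨η', rfl⟩ : FibrePts f (η' ≫ f)) V v⟩
  obtain ⟨V₀, i₀, v₀, -, hv₀, hC⟩ := exists_shrink V v _ hko.isOpen_range.isClosed_compl hv
  rw [← hv₀]
  refine (gm_map _ (η' ≫ f) i₀ v₀ s).symm.trans ?_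
  have hs0 : ((EtCoh.push g).obj F).obj.map i₀.op s = 0 := by
    refine eq_zero_of_sectSupp_eq_empty F ((EtCoh.bc g).obj V₀) _ (Set.eq_empty_iff_forall_notMem.2 fun z₀ hz₀ => ?_)
    have hb := (mem_sectSupp_map F ((EtCoh.bc g).map i₀) s z₀).1 hz₀
    let b := ((EtCoh.bc g).map i₀).left z₀
    obtain ⟨w', hw'⟩ : EtShriek.prV g V b ∈ Set.range k := by
      have := hC (EtShriek.prV g V₀ z₀)
      rw [Set.mem_compl_iff, not_not] at this
      rwa [show EtShriek.prV g V b = i₀.left (EtShriek.prV g V₀ z₀) from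
        congrArg (fun m => m z₀) (EtCoh.isPullback_bc_map g i₀).w]
    obtain ⟨c₀, hc₀, hc₀'⟩ := Scheme.exists_preimage_of_isPullback (isPullback_bcSquareHom g f h e hc V)
      b (i.left w') hw'.symm
    obtain ⟨c₁, hc₁, -⟩ := Scheme.exists_preimage_of_isPullback (EtCoh.isPullback_bc_map h i) c₀ w'
      (hc₀'.trans rfl)
    have hz' : G.obj.map ((EtCoh.bc h).map i).op z = 0 := hz
    have h2 : c₁ ∈ EtShriek.sectSupp G _ (G.obj.map ((EtCoh.bc h).map i).op z) := by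
      rw [mem_sectSupp_map, hc₁, mem_sectSupp_map, mem_sectSupp_unit, ← Scheme.Hom.comp_apply, hc₀]
      exact hb
    rw [hz'] at h2
    exact notMem_sectSupp_zero _ _ _ h2
  exact (congrArg (gm _ (η' ≫ f) V₀ v₀) hs0).trans (map_zero _)

include hc in
theorem exists_stalk_baseChange0 (hred : GeomRedFibres f) {Ω : Type u} [Field Ω] [IsSepClosed Ω]
    (η' : Spec (CommRingCat.of Ω) ⟶ X)
    (δ : (EtCoh.stalk η').obj ((EtCoh.push h).obj ((EtCoh.pull e).obj F))) :
    ∃ ε, (EtCoh.stalk η').map (EtCoh.baseChange0 g f h e hc.w F)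
      (toPull f (η' ≫ f) ⟨η', rfl⟩ ((EtCoh.push g).obj F) ε) = δ := by
  let G := (EtCoh.pull e).obj F
  let H := (EtCoh.push h).obj G
  obtain ⟨W, w, σ, rfl⟩ :=
    (Scheme.pointSmallEtale η').toPresheafFiber_jointly_surjective (P := H.obj) δ
  let wl : Spec (CommRingCat.of Ω) ⟶ W.left := w.left
  have hwl : wl ≫ W.hom = η' := Over.w w
  let f₁ := W.hom ≫ f
  have : Etale W.hom := W.prop
  obtain ⟨S₀, hS₀, hxS, -⟩ := exists_isAffineOpen_mem_and_subset (X := S) (x := f₁ (wl default)) (U := ⊤) trivial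
  obtain ⟨W₀, hW₀, hxW, hle⟩ := exists_isAffineOpen_mem_and_subset (X := W.left) (x := wl default)
    (U := f₁ ⁻¹ᵁ S₀) hxS
  have : IsAffine S₀.toScheme := hS₀
  have : IsAffine W₀.toScheme := hW₀
  obtain ⟨gW, hgW⟩ : ∃ gW : W₀.toScheme ⟶ S₀.toScheme, gW ≫ S₀.ι = W₀.ι ≫ f₁ := by
    refine ⟨IsOpenImmersion.lift S₀.ι (W₀.ι ≫ f₁) ?_, IsOpenImmersion.lift_fac _ _ _⟩
    rintro _ ⟨z, rfl⟩
    rw [Scheme.Opens.range_ι]
    exact hle z.2
  have sqW : IsPullback (𝟙 _) gW (W₀.ι ≫ f₁) S₀.ι := by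
    refine ⟨⟨by rw [Category.id_comp, hgW]⟩, ⟨PullbackCone.IsLimit.mk _ (fun c => c.fst) (fun c => Category.comp_id _)
      (fun c => ?_) (fun c m h₁ _ => (Category.comp_id m).symm.trans h₁)⟩⟩
    rw [← cancel_mono S₀.ι, Category.assoc, hgW]
    exact c.condition
  have : Flat gW := MorphismProperty.of_isPullback (P := @Flat) sqW inferInstance
  have : LocallyOfFinitePresentation gW :=
    MorphismProperty.of_isPullback (P := @LocallyOfFinitePresentation) sqW inferInstance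
  have hredW : GeomRedFibres gW := by
    have h1 : GeomRedFibres (W₀.ι ≫ f₁) := by
      rw [show W₀.ι ≫ f₁ = (W₀.ι ≫ W.hom) ≫ f from (Category.assoc _ _ _).symm]
      exact hred.comp_etale _
    exact h1.isPullback sqW
  obtain ⟨U, a, ha, O, ⟨x', hx'O, hx'⟩, hconn⟩ := exists_connected_nhd gW hredW ⟨wl default, hxW⟩
  have hj := JoinedFibres.of_isAlgClosed (pullback.snd gW a) O hconn
  let p := pullback.snd gW a
  let aS := a ≫ S₀.ι
  let πX : pullback gW a ⟶ W.left := pullback.fst gW a ≫ W₀.ι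
  have hπf : πX ≫ f₁ = p ≫ aS := by
    simp only [πX, p, aS, Category.assoc, ← hgW]
    exact pullback.condition_assoc _
  obtain ⟨ŵ, hŵ, hŵd⟩ := Scheme.exists_fac_of_etale_of_isSepClosed πX wl x' (by
    rw [Scheme.Hom.comp_apply, hx']; rfl)
  have : UniversallyOpen (O.ι ≫ p) := inferInstance
  let GO : U.Opens := ⟨Set.range (O.ι ≫ p), (O.ι ≫ p).isOpenMap.isOpen_range⟩
  let V : S.Etale := Scheme.Etale.mk (GO.ι ≫ aS)
  let TV := ((EtCoh.bc g).obj V).left
  let gT : TV ⟶ U := EtShriek.prV g V ≫ GO.ι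
  let cT : TV ⟶ T := ((EtCoh.bc g).obj V).hom
  let qX := pullback.fst p gT
  let qT := pullback.snd p gT
  have hsq : qX ≫ p = qT ≫ gT := pullback.condition
  have hcond : (qT ≫ cT) ≫ g = (qX ≫ πX ≫ W.hom) ≫ f := by
    calc (qT ≫ cT) ≫ g = qT ≫ EtShriek.prV g V ≫ V.hom := by
          rw [Category.assoc]; exact congrArg (qT ≫ ·) (pullback.condition (f := V.hom) (g := g)).symm
      _ = (qT ≫ gT) ≫ aS := by simp [gT, V, Scheme.Etale.mk]
      _ = qX ≫ πX ≫ f₁ := by rw [← hsq, hπf, Category.assoc]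
      _ = _ := by simp [f₁, Category.assoc]
  obtain ⟨M, hM₁, hM₂⟩ : ∃ M : pullback p gT ⟶ ((EtCoh.bc h).obj W).left,
      M ≫ EtShriek.prV h W = qX ≫ πX ∧
        M ≫ ((EtCoh.bc h).obj W).hom = hc.lift (qT ≫ cT) (qX ≫ πX ≫ W.hom) hcond := by
    refine ⟨pullback.lift (qX ≫ πX) (hc.lift (qT ≫ cT) (qX ≫ πX ≫ W.hom) hcond) ?_,
      pullback.lift_fst _ _ _, pullback.lift_snd _ _ _⟩
    rw [hc.lift_snd, Category.assoc]
  have hMc : M ≫ ((EtCoh.bc h).obj W).hom ≫ e = qT ≫ cT := by rw [reassoc_of% hM₂, hc.lift_fst]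
  let σ' := toSec e F ((EtCoh.bc h).obj W) σ
  let σQ := pullSec M (((EtCoh.bc h).obj W).hom ≫ e) F hMc σ'
  obtain ⟨s, hs⟩ := exists_descend_joined (F := F) hj (IsPullback.of_hasPullback p gT) (cT := cT)
    (fun y => by
      obtain ⟨o, ho⟩ := (EtShriek.prV g V y).2
      exact ⟨o.1, o.2, ho⟩) (rfl : qT ≫ cT = qT ≫ cT) σQ
  obtain ⟨t, ht⟩ := exists_pullAt_id ((EtCoh.bc g).obj V) s
  obtain ⟨vG, hvG⟩ : ∃ vG : Spec (CommRingCat.of Ω) ⟶ GO.toScheme, vG ≫ GO.ι = ŵ ≫ p := by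
    refine ⟨IsOpenImmersion.lift GO.ι (ŵ ≫ p) ?_, IsOpenImmersion.lift_fac _ _ _⟩
    rintro _ ⟨z, rfl⟩
    rw [Subsingleton.elim z default, Scheme.Opens.range_ι, Scheme.Hom.comp_apply, hŵd]
    exact ⟨⟨x', hx'O⟩, rfl⟩
  have hv : vG ≫ V.hom = η' ≫ f := by
    change vG ≫ GO.ι ≫ aS = _
    rw [reassoc_of% hvG, ← hπf, reassoc_of% hŵ, ← hwl, Category.assoc]
  let v : (Scheme.pointSmallEtale (η' ≫ f)).fiber.obj V := Over.homMk vG hv
  refine ⟨gm ((EtCoh.push g).obj F) (η' ≫ f) V v t, (stalk_baseChange0_gm f g h e hc F η' V v t).trans ?_⟩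
  let B := (EtCoh.bc f).obj V
  let bs := bcSquareHom g f h e hc.w V
  let z : EtCoh.sect H B := G.obj.map bs.op (uAt e F ((EtCoh.bc g).obj V) t)
  obtain ⟨oG, hoG⟩ : ∃ oG : O.toScheme ⟶ GO.toScheme, oG ≫ GO.ι = O.ι ≫ p := by
    refine ⟨IsOpenImmersion.lift GO.ι (O.ι ≫ p) ?_, IsOpenImmersion.lift_fac _ _ _⟩
    rw [Scheme.Opens.range_ι]
    exact le_rfl
  let R : X.Etale := Scheme.Etale.mk (O.ι ≫ πX ≫ W.hom)
  let iW : R ⟶ W := MorphismProperty.Over.homMk (O.ι ≫ πX) (Category.assoc _ _ _)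
  let iB : R ⟶ B := MorphismProperty.Over.homMk (pullback.lift oG (O.ι ≫ πX ≫ W.hom) (by
      change oG ≫ GO.ι ≫ aS = _
      rw [reassoc_of% hoG, ← hπf]
      simp [f₁, Category.assoc]))
    (pullback.lift_snd _ _ _)
  obtain ⟨rl, hrl⟩ : ∃ rl : Spec (CommRingCat.of Ω) ⟶ O.toScheme, rl ≫ O.ι = ŵ := by
    refine ⟨IsOpenImmersion.lift O.ι ŵ ?_, IsOpenImmersion.lift_fac _ _ _⟩
    rintro _ ⟨z, rfl⟩
    rw [Subsingleton.elim z default, Scheme.Opens.range_ι, hŵd]
    exact hx'O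
  let r : (Scheme.pointSmallEtale η').fiber.obj R := Over.homMk rl (by
    change rl ≫ O.ι ≫ πX ≫ W.hom = η'
    rw [reassoc_of% hrl, reassoc_of% hŵ, hwl])
  have hiW : (Scheme.pointSmallEtale η').fiber.map iW r = w := Over.OverMorphism.ext (by
    change rl ≫ O.ι ≫ πX = wl
    rw [reassoc_of% hrl, hŵ])
  have hiB : (Scheme.pointSmallEtale η').fiber.map iB r =
      bcLift f (η' ≫ f) (⟨η', rfl⟩ : FibrePts f (η' ≫ f)) V v := Over.OverMorphism.ext (by
    change rl ≫ pullback.lift oG (O.ι ≫ πX ≫ W.hom) _ = _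
    refine pullback.hom_ext ?_ ?_
    · rw [Category.assoc, pullback.lift_fst]
      refine Eq.trans ?_ (pullback.lift_fst _ _ _).symm
      refine (cancel_mono GO.ι).1 ?_
      rw [Category.assoc, hoG, reassoc_of% hrl]
      exact hvG.symm
    · rw [Category.assoc, pullback.lift_snd]
      refine Eq.trans ?_ (pullback.lift_snd _ _ _).symm
      rw [reassoc_of% hrl, reassoc_of% hŵ, hwl])
  rw [← hiW, ← hiB]
  refine ((gm_map H η' iB r z).symm.trans ?_).trans (gm_map H η' iW r σ)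
  refine congrArg (gm H η' R r) ?_
  change G.obj.map ((EtCoh.bc h).map iB).op z = G.obj.map ((EtCoh.bc h).map iW).op σ
  refine sub_eq_zero.1 (eq_zero_of_sectSupp_eq_empty G _ (_ - _) (Set.eq_empty_iff_forall_notMem.2 fun c => ?_))
  let C := (EtCoh.bc h).obj R
  let ν := algPoint Y (C.hom c)
  obtain ⟨r', hr'⟩ := exists_fiber_point ν C c (algPoint_default Y _).symm
  rw [← hr']
  refine (gm_eq_zero_iff G ν C r' _).1 ((map_sub _ _ _).trans (sub_eq_zero.2 ?_))
  let ρ : Spec _ ⟶ C.left := r'.left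
  have hρ : ρ ≫ C.hom = ν := Over.w r'
  let ρO := ρ ≫ EtShriek.prV h R
  have hρR : ρO ≫ O.ι ≫ πX ≫ W.hom = ν ≫ h := by
    refine (Category.assoc _ _ _).trans ((congrArg (ρ ≫ ·) (pullback.condition (f := R.hom) (g := h))).trans ?_)
    exact (Category.assoc _ _ _).symm.trans (congrArg (· ≫ h) hρ)
  obtain ⟨τ, hτ₁, hτ₂⟩ : ∃ τ : _ ⟶ TV, τ ≫ EtShriek.prV g V = ρO ≫ oG ∧ τ ≫ cT = ν ≫ e := by
    refine ⟨pullback.lift (ρO ≫ oG) (ν ≫ e) ?_, pullback.lift_fst _ _ _, pullback.lift_snd _ _ _⟩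
    change (ρO ≫ oG) ≫ GO.ι ≫ aS = _
    rw [Category.assoc, reassoc_of% hoG, ← hπf]
    simp only [f₁, Category.assoc]
    rw [hc.w, ← reassoc_of% hρR]
  obtain ⟨q₀, hq₁, hq₂⟩ : ∃ q₀ : _ ⟶ pullback p gT, q₀ ≫ qX = ρO ≫ O.ι ∧ q₀ ≫ qT = τ := by
    refine ⟨pullback.lift (ρO ≫ O.ι) τ ?_, pullback.lift_fst _ _ _, pullback.lift_snd _ _ _⟩
    rw [Category.assoc, ← hoG, ← Category.assoc τ, hτ₁]
    simp [Category.assoc]
  have hqc : q₀ ≫ qT ≫ cT = ν ≫ e := by rw [reassoc_of% hq₂, hτ₂]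
  obtain ⟨ε, hε⟩ := exists_hasGerm σQ (⟨q₀, hqc⟩ : FibrePts (qT ≫ cT) (ν ≫ e))
  have g₁ := hs _ (ν ≫ e) ⟨q₀, hqc⟩ (⟨τ, hτ₂⟩ : FibrePts cT (ν ≫ e)) ε (by
    rw [← Scheme.Hom.comp_apply, hq₁, Scheme.Hom.comp_apply]
    exact (ρO default).2) hq₂ hε
  rw [← ht] at g₁
  have hεt := g₁.unique (hasGerm_pullAt ((EtCoh.bc g).obj V) (𝟙 _) (Category.id_comp _) t _)
  have hqM : (q₀ ≫ M) ≫ ((EtCoh.bc h).obj W).hom = ν := by
    rw [Category.assoc, hM₂]
    refine hc.hom_ext ?_ ?_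
    · rw [Category.assoc, hc.lift_fst, hqc]
    · rw [Category.assoc, hc.lift_snd, reassoc_of% hq₁, hρR]
  have hqMe : (q₀ ≫ M) ≫ ((EtCoh.bc h).obj W).hom ≫ e = ν ≫ e := by rw [← Category.assoc, hqM]
  have g₂ := (hasGerm_toSec_iff σ (q₀ ≫ M) hqM rfl hqMe ε).1
    (HasGerm.of_pullSec hMc (ξ := ⟨q₀ ≫ M, hqMe⟩) rfl hε)
  have eW : (Scheme.pointSmallEtale ν).fiber.map ((EtCoh.bc h).map iW) r' = Over.homMk (q₀ ≫ M) hqM := by
    refine Over.OverMorphism.ext (pullback.hom_ext ?_ ?_)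
    · change (ρ ≫ ((EtCoh.bc h).map iW).left) ≫ EtShriek.prV h W = (q₀ ≫ M) ≫ EtShriek.prV h W
      rw [Category.assoc, (EtCoh.isPullback_bc_map h iW).w, Category.assoc, hM₁, reassoc_of% hq₁]
      simp [iW, ρO, Category.assoc]
    · exact (Over.w ((Scheme.pointSmallEtale ν).fiber.map ((EtCoh.bc h).map iW) r')).trans hqM.symm
  refine Eq.trans ?_ ((gm_map G ν ((EtCoh.bc h).map iW) r' σ).trans ((congrArg (fun k => gm G ν _ k σ) eW).trans g₂)).symm
  rw [hεt]
  refine (gm_map G ν ((EtCoh.bc h).map iB) r' z).trans ((gm_map G ν bs _ _).trans ?_)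
  refine Eq.trans ?_ (gm_unit e (⟨ν, rfl⟩ : FibrePts e (ν ≫ e)) F ((EtCoh.bc g).obj V)
    (fibOf (⟨τ, hτ₂⟩ : FibrePts cT (ν ≫ e)) _ (𝟙 _) (Category.id_comp _)) t)
  refine congrArg (fun k => gm G ν _ k (uAt e F ((EtCoh.bc g).obj V) t)) ?_
  refine (bcLiftEquiv e _ (⟨ν, rfl⟩ : FibrePts e (ν ≫ e)) _).symm.injective (Over.OverMorphism.ext ?_)
  change ((ρ ≫ ((EtCoh.bc h).map iB).left) ≫ bs.left) ≫ EtShriek.prV e ((EtCoh.bc g).obj V) =
    (pullback.lift (τ ≫ 𝟙 _) ν _) ≫ EtShriek.prV e ((EtCoh.bc g).obj V)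
  rw [pullback.lift_fst, Category.comp_id]
  refine pullback.hom_ext ?_ ?_
  · have hb : (bs.left ≫ EtShriek.prV e ((EtCoh.bc g).obj V)) ≫ EtShriek.prV g V =
        EtShriek.prV h B ≫ EtShriek.prV f V := (isPullback_bcSquareHom g f h e hc V).w
    refine Eq.trans ?_ hτ₁.symm
    calc (((ρ ≫ ((EtCoh.bc h).map iB).left) ≫ bs.left) ≫ EtShriek.prV e ((EtCoh.bc g).obj V)) ≫ EtShriek.prV g V
        = ρ ≫ (((EtCoh.bc h).map iB).left ≫ EtShriek.prV h B) ≫ EtShriek.prV f V := by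
          simp only [Category.assoc] at hb ⊢
          rw [hb]
      _ = ρ ≫ (EtShriek.prV h R ≫ iB.left) ≫ EtShriek.prV f V := by rw [(EtCoh.isPullback_bc_map h iB).w]
      _ = ρO ≫ oG := by
          simp only [ρO, Category.assoc]
          exact congrArg (fun k => ρ ≫ EtShriek.prV h R ≫ k) (pullback.lift_fst _ _ _)
  · have e1 : bs.left ≫ ((EtCoh.bc e).obj ((EtCoh.bc g).obj V)).hom = ((EtCoh.bc h).obj B).hom := Over.w bs.hom
    have e2 : ((EtCoh.bc h).map iB).left ≫ ((EtCoh.bc h).obj B).hom = C.hom := Over.w ((EtCoh.bc h).map iB).hom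
    have e3 : EtShriek.prV e ((EtCoh.bc g).obj V) ≫ cT = ((EtCoh.bc e).obj ((EtCoh.bc g).obj V)).hom ≫ e :=
      pullback.condition
    refine Eq.trans ?_ hτ₂.symm
    change (((ρ ≫ ((EtCoh.bc h).map iB).left) ≫ bs.left) ≫ EtShriek.prV e ((EtCoh.bc g).obj V)) ≫ cT = ν ≫ e
    simp only [Category.assoc]
    rw [e3, reassoc_of% e1, reassoc_of% e2, ← Category.assoc, hρ]

include hc in
/-- Base change along a flat morphism of finite presentation with geometrically reduced fibres. -/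
theorem isIso_baseChange0_of_geomRed (hred : GeomRedFibres f) :
    IsIso (EtCoh.baseChange0 g f h e hc.w F) := by
  refine isIso_of_stalks_family (ι := ULift.{u + 1} X) (fun y => algPoint X y.down)
    (fun y => ⟨⟨y⟩, algPoint_default X y⟩) _ fun y => (ConcreteCategory.isIso_iff_bijective _).mpr ?_
  let η' := algPoint X y.down
  let b := (EtCoh.stalk η').map (EtCoh.baseChange0 g f h e hc.w F)
  refine (Function.Bijective.of_comp_iff (fun p => b p)
    (bijective_toPull f (⟨η', rfl⟩ : FibrePts f (η' ≫ f)) _)).mp ⟨?_, ?_⟩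
  · exact (injective_iff_map_eq_zero (toPull f (η' ≫ f) ⟨η', rfl⟩ ((EtCoh.push g).obj F) ≫ b).hom).2
      (injective_stalk_baseChange0 f g h e hc F η')
  · exact exists_stalk_baseChange0 f g h e hc F hred η'

end Groth.Agent.Et18.H0Lift
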