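import Groth.Agent.Et18.H0Lift.Supports
import Groth.Agent.Et18.H0Lift.PullSec

/-!
# Global sections of inverse images through their germs
-/

set_option autoImplicit false
set_option backward.isDefEq.respectTransparency.types false
set_option backward.isDefEq.respectTransparency false

universe u

open CategoryTheory CategoryTheory.Limits AlgebraicGeometry Opposite

namespace Groth.Agent.Et18.H0Lift

variable {X T T' : Scheme.{u}} {F : EtCoh.Ab X}

/-- The global section `σ` of `f^* F` has the germ `e` at the point `ξ`. -/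
def HasGerm {f : T ⟶ X} (σ : EtCoh.sect ((EtCoh.pull f).obj F) (EtCoh.top T)) {Ω : Type u} [Field Ω]
    [IsSepClosed Ω] {η : Spec (CommRingCat.of Ω) ⟶ X} (ξ : FibrePts f η) (e : (EtCoh.stalk η).obj F) : Prop :=
  toPull f η ξ F e = gm ((EtCoh.pull f).obj F) ξ.1 (EtCoh.top T) (topPt ξ.1) σ

variable {f : T ⟶ X} {Ω : Type u} [Field Ω] [IsSepClosed Ω] {η : Spec (CommRingCat.of Ω) ⟶ X}

theorem exists_hasGerm (σ : EtCoh.sect ((EtCoh.pull f).obj F) (EtCoh.top T)) (ξ : FibrePts f η) :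
    ∃ e, HasGerm σ ξ e :=
  (bijective_toPull f ξ F).2 _

theorem HasGerm.unique {σ : EtCoh.sect ((EtCoh.pull f).obj F) (EtCoh.top T)} {ξ : FibrePts f η}
    {e e' : (EtCoh.stalk η).obj F} (h : HasGerm σ ξ e) (h' : HasGerm σ ξ e') : e = e' :=
  (bijective_toPull f ξ F).1 (h.trans h'.symm)

theorem HasGerm.add {σ σ' : EtCoh.sect ((EtCoh.pull f).obj F) (EtCoh.top T)} {ξ : FibrePts f η}
    {e e' : (EtCoh.stalk η).obj F} (h : HasGerm σ ξ e) (h' : HasGerm σ' ξ e') :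
    HasGerm (σ + σ') ξ (e + e') :=
  (map_add _ _ _).trans ((congrArg₂ (· + ·) h h').trans (map_add _ _ _).symm)

theorem HasGerm.zero (ξ : FibrePts f η) :
    HasGerm (0 : EtCoh.sect ((EtCoh.pull f).obj F) (EtCoh.top T)) ξ 0 :=
  (map_zero _).trans (map_zero _).symm

/-- Two sections with common germs at a family of points meeting every point are equal. -/
theorem eq_of_hasGerm (σ σ' : EtCoh.sect ((EtCoh.pull f).obj F) (EtCoh.top T))
    (h : ∀ y : T, ∃ (K : Type u) (_ : Field K) (_ : IsSepClosed K) (η : Spec (CommRingCat.of K) ⟶ X)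
      (ξ : FibrePts f η) (e : (EtCoh.stalk η).obj F),
      ξ.1 default = y ∧ HasGerm σ ξ e ∧ HasGerm σ' ξ e) : σ = σ' := by
  refine sub_eq_zero.1 (eq_zero_of_sectSupp_eq_empty _ _ (σ - σ')
    (Set.eq_empty_iff_forall_notMem.2 fun y => ?_))
  obtain ⟨K, _, _, η, ξ, e, hy, h₁, h₂⟩ := h y
  rw [show y = fiberPt (topPt ξ.1) from hy.symm]
  refine (gm_eq_zero_iff _ ξ.1 _ (topPt ξ.1) _).1 ((map_sub _ _ _).trans ?_)
  exact sub_eq_zero.2 (h₁.symm.trans h₂)

/-- The point of an étale neighbourhood given by a lift. -/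
noncomputable abbrev fibOf (ξ : FibrePts f η) (U : X.Etale) (l : T ⟶ U.left) (hl : l ≫ U.hom = f) :
    (Scheme.pointSmallEtale η).fiber.obj U :=
  Over.homMk (ξ.1 ≫ l) ((Category.assoc _ _ _).trans ((congrArg (ξ.1 ≫ ·) hl).trans ξ.2))

/-- The section given by a section over an étale object. -/
theorem hasGerm_pullAt (U : X.Etale) (l : T ⟶ U.left) (hl : l ≫ U.hom = f) (t : EtCoh.sect F U)
    (ξ : FibrePts f η) :
    HasGerm (pullAt F U l hl t) ξ (gm F η U (fibOf ξ U l hl) t) := by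
  let v := fibOf ξ U l hl
  change toPull f η ξ F (gm F η U v t) = _
  rw [← gm_unit f ξ F U v t, gm_map]
  refine congrArg (fun w => gm _ ξ.1 _ w _) ?_
  refine (bcLiftEquiv f η ξ U).symm.injective (Over.OverMorphism.ext ?_)
  change (pullback.lift (ξ.1 ≫ l) ξ.1 _ : _ ⟶ pullback U.hom f) ≫ pullback.fst U.hom f =
    (ξ.1 ≫ pullback.lift l (𝟙 T) _) ≫ pullback.fst U.hom f
  rw [Category.assoc, pullback.lift_fst, pullback.lift_fst]

theorem stalk_compHom (a : T' ⟶ T) (b : T ⟶ X) (ξ : Spec (CommRingCat.of Ω) ⟶ T')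
    {η₁ : Spec (CommRingCat.of Ω) ⟶ T} (ha : ξ ≫ a = η₁) (hb : η₁ ≫ b = η) (hc : ξ ≫ a ≫ b = η)
    (e : (EtCoh.stalk η).obj F) :
    (EtCoh.stalk ξ).map (compHom a b F) (toPull (a ≫ b) η ⟨ξ, hc⟩ F e) =
      toPull a η₁ ⟨ξ, ha⟩ ((EtCoh.pull b).obj F) (toPull b η ⟨η₁, hb⟩ F e) := by
  let ξc : FibrePts (a ≫ b) η := ⟨ξ, hc⟩
  let ξb : FibrePts b η := ⟨η₁, hb⟩
  let ξa : FibrePts a η₁ := ⟨ξ, ha⟩
  obtain ⟨V, v, t, rfl⟩ :=
    (Scheme.pointSmallEtale η).toPresheafFiber_jointly_surjective (P := F.obj) e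
  refine (congrArg _ (gm_unit (a ≫ b) ξc F V v t).symm).trans ?_
  refine (gm_hom (compHom a b F) ξ _ _ _).trans ?_
  refine (congrArg (gm _ ξ _ _) (unit_compHom a b F V t)).trans ?_
  refine (gm_map _ ξ (bcPair a b V) _ _).trans ?_
  refine Eq.trans ?_ (congrArg _ (gm_unit b ξb F V v t))
  refine Eq.trans ?_ (gm_unit a ξa _ _ (bcLift b η ξb V v) _)
  refine congrArg (fun w => gm _ ξ _ w _) ?_
  refine (bcLiftEquiv a η₁ ξa _).symm.injective ((bcLiftEquiv b η ξb V).symm.injective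
    (Over.OverMorphism.ext ?_))
  change (((bcLift (a ≫ b) η ξc V v).left ≫ (bcPair a b V).left) ≫
      EtShriek.prV a ((EtCoh.bc b).obj V)) ≫ EtShriek.prV b V =
    ((bcLift a η₁ ξa _ (bcLift b η ξb V v)).left ≫ EtShriek.prV a ((EtCoh.bc b).obj V)) ≫
      EtShriek.prV b V
  simp only [Category.assoc]
  rw [bcPair_fst_fst]
  simp [bcLift]

/-- Germs of restricted sections. -/
theorem hasGerm_pullSec (a : T' ⟶ T) {c : T' ⟶ X} (h : a ≫ f = c)
    {σ : EtCoh.sect ((EtCoh.pull f).obj F) (EtCoh.top T)} (ξ' : FibrePts c η) (ξ : FibrePts f η)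
    (hξ : ξ'.1 ≫ a = ξ.1) {e : (EtCoh.stalk η).obj F} (he : HasGerm σ ξ e) :
    HasGerm (pullSec a f F h σ) ξ' e := by
  subst h
  obtain ⟨η₁, hb⟩ := ξ
  obtain ⟨ξ₀, hc⟩ := ξ'
  have := isIso_compHom a f F
  let κ := compHom a f F
  have hinj : Function.Injective ((EtCoh.stalk ξ₀).map κ) :=
    (ConcreteCategory.bijective_of_isIso _).1
  apply hinj
  refine (stalk_compHom a f ξ₀ hξ hb hc e).trans ?_
  refine (congrArg (toPull a η₁ ⟨ξ₀, hξ⟩ _) he).trans ?_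
  refine (gm_unit a (⟨ξ₀, hξ⟩ : FibrePts a η₁) ((EtCoh.pull f).obj F) _ (topPt η₁) σ).symm.trans ?_
  refine Eq.trans ?_ (gm_hom κ ξ₀ _ _ _).symm
  let z := ((EtCoh.pull a).obj ((EtCoh.pull f).obj F)).obj.map (downHom a).op
    (uAt a ((EtCoh.pull f).obj F) (EtCoh.top T) σ)
  have hk : κ.hom.app (op (EtCoh.top T')) ((inv κ).hom.app (op (EtCoh.top T')) z) = z :=
    ConcreteCategory.congr_hom (congrArg (fun k => k.hom.app (op (EtCoh.top T'))) (IsIso.inv_hom_id κ)) z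
  refine Eq.trans ?_ (congrArg (gm _ ξ₀ _ _) hk).symm
  refine Eq.trans ?_ (gm_map _ ξ₀ (downHom a) _ _).symm
  refine congrArg (fun w => gm _ ξ₀ _ w _) ?_
  exact (bcLiftEquiv a η₁ (⟨ξ₀, hξ⟩ : FibrePts a η₁) _).symm.injective (fibre_eq (EtCoh.top T) _ _)

theorem HasGerm.of_pullSec {a : T' ⟶ T} {c : T' ⟶ X} (h : a ≫ f = c)
    {σ : EtCoh.sect ((EtCoh.pull f).obj F) (EtCoh.top T)} {ξ' : FibrePts c η} {ξ : FibrePts f η}
    (hξ : ξ'.1 ≫ a = ξ.1) {e : (EtCoh.stalk η).obj F} (he : HasGerm (pullSec a f F h σ) ξ' e) :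
    HasGerm σ ξ e := by
  obtain ⟨e', he'⟩ := exists_hasGerm σ ξ
  rwa [he.unique (hasGerm_pullSec a h ξ' ξ hξ he')]

end Groth.Agent.Et18.H0Lift
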