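import Groth.Agent.H8Lim.IntegralApprox
import Groth.Agent.Et18.ProperClopen.Limit
import Groth.Agent.Et18.ProperClopen.Apps

/-!
# Closed sets meeting finite covers in connected sets
-/

set_option autoImplicit false

universe u

open CategoryTheory CategoryTheory.Limits AlgebraicGeometry TopologicalSpace

namespace Groth.Agent.Et18.H0Lift

/-- `Z` behaves like the closed fibre of a henselian couple. -/
structure IsConnectedCouple (X : Scheme.{u}) (Z : Set X) : Prop where
  isClosed : IsClosed Z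
  meets : ∀ C : Set X, IsClosed C → C.Nonempty → (C ∩ Z).Nonempty
  preconnected : ∀ (Y : Scheme.{u}) (g : Y ⟶ X), IsFinite g → IrreducibleSpace Y →
    _root_.IsPreconnected (g ⁻¹' Z)

variable {X : Scheme.{u}} [CompactSpace X] [QuasiSeparatedSpace X] {Z : Set X}

set_option backward.isDefEq.respectTransparency false in
theorem IsConnectedCouple.preconnected_of_integral (h : IsConnectedCouple X Z) {Y : Scheme.{u}}
    (g : Y ⟶ X) [IsIntegralHom g] [IrreducibleSpace Y] : _root_.IsPreconnected (g ⁻¹' Z) := by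
  classical
  rw [isPreconnected_closed_iff]
  intro P P' hP hP' hcov hPne hP'ne
  by_contra hne
  let V := g ⁻¹' Z ∩ P
  let V' := g ⁻¹' Z ∩ P'
  have hVc : IsClosed V := (h.isClosed.preimage g.continuous).inter hP
  have hV'c : IsClosed V' := (h.isClosed.preimage g.continuous).inter hP'
  obtain ⟨I, _, _, _, D, c, hc, hD, ⟨e⟩⟩ := H8Lim.exists_limit_integral_finitePresentation g
  have : IsConnected Iᵒᵖ := IsCofiltered.isConnected _
  let E := D ⋙ Over.forget X
  let cE : Cone E := (Over.forget X).mapCone c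
  have hE : IsLimit cE := isLimitOfPreserves (Over.forget X) hc
  have : ∀ {i j : Iᵒᵖ} (a : i ⟶ j), IsAffineHom (E.map a) := fun {i j} a => by
    have : IsAffineHom (D.obj i).hom := (hD i).1.toIsAffineHom
    have : IsAffineHom (D.obj j).hom := (hD j).1.toIsAffineHom
    have : IsSeparated (D.obj j).hom := inferInstance
    have : IsAffineHom (E.map a ≫ (D.obj j).hom) := by
      rw [show E.map a ≫ (D.obj j).hom = (D.obj i).hom from Over.w (D.map a)]; infer_instance
    exact IsAffineHom.of_comp (E.map a) (D.obj j).hom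
  have : ∀ i, CompactSpace (E.obj i) := fun i =>
    haveI : IsFinite (D.obj i).hom := (hD i).1
    haveI : IsAffineHom (D.obj i).hom := (hD i).1.toIsAffineHom
    haveI : QuasiCompact (D.obj i).hom := inferInstance
    QuasiCompact.compactSpace_of_compactSpace (D.obj i).hom
  let ε : Y ⟶ cE.pt := e.inv.left
  have hεg : ∀ i, ε ≫ cE.π.app i ≫ (D.obj i).hom = g := fun i =>
    (congrArg (ε ≫ ·) (Over.w (c.π.app i))).trans (Over.w e.inv)
  let q : ∀ i, Y ⟶ E.obj i := fun i => ε ≫ cE.π.app i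
  have hqg : ∀ i, q i ≫ (D.obj i).hom = g := fun i => (Category.assoc _ _ _).trans (hεg i)
  have : IsIso ε := inferInstanceAs (IsIso ((Over.forget X).map e.inv))
  have hεc : ∀ {C : Set Y}, IsClosed C → IsClosed (ε '' C) := fun hC => ε.isClosedMap _ hC
  have hqclosed : ∀ i, IsClosedMap (q i) := fun i => by
    have := (hD i).1
    have : IsIntegralHom (q i ≫ (D.obj i).hom) := by rw [hqg i]; infer_instance
    have : IsIntegralHom (q i) := IsIntegralHom.of_comp (q i) (D.obj i).hom
    exact (q i).isClosedMap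
  have hsame : ∀ {C : Set Y}, IsClosed C → ∀ p : Y, (∀ i, q i p ∈ closure (q i '' C)) → p ∈ C := by
    intro C hC p hp
    have : ε p ∈ ε '' C := ProperClopen.mem_of_forall_mem_closure hE (hεc hC) fun i => by
      rw [Set.image_image]
      exact hp i
    exact ε.isClosedEmbedding.injective.mem_set_image.1 this
  have hcY : CompactSpace Y := QuasiCompact.compactSpace_of_compactSpace g
  obtain ⟨i, hi⟩ := hcY.isCompact_univ.elim_directed_family_closed
    (fun i => q i ⁻¹' (q i '' V ∩ q i '' V'))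
    (fun i => ((hqclosed i _ hVc).inter (hqclosed i _ hV'c)).preimage (q i).continuous) (by
      refine Set.eq_empty_iff_forall_notMem.2 fun p ⟨_, hp⟩ => ?_
      have h' := Set.mem_iInter.1 hp
      have h1 := hsame hVc p fun i => subset_closure (h' i).1
      have h2 := hsame hV'c p fun i => subset_closure (h' i).2
      exact hne ⟨p, h1.1, h1.2, h2.2⟩)
    (fun a b => by
      obtain ⟨k, φ, ψ, -⟩ := IsCofilteredOrEmpty.cone_objs a b
      have hq : ∀ {l : Iᵒᵖ} (φ : k ⟶ l) (y : Y), E.map φ (q k y) = q l y := fun φ y => by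
        exact congrArg (fun (m : cE.pt ⟶ E.obj _) => m (ε y)) (cE.w φ)
      refine ⟨k, fun p hp => ?_, fun p hp => ?_⟩
      · obtain ⟨⟨v, hv, e1⟩, ⟨v', hv', e2⟩⟩ := hp
        exact ⟨⟨v, hv, by rw [← hq φ v, e1, hq φ p]⟩, ⟨v', hv', by rw [← hq φ v', e2, hq φ p]⟩⟩
      · obtain ⟨⟨v, hv, e1⟩, ⟨v', hv', e2⟩⟩ := hp
        exact ⟨⟨v, hv, by rw [← hq ψ v, e1, hq ψ p]⟩, ⟨v', hv', by rw [← hq ψ v', e2, hq ψ p]⟩⟩)
  -- the image stage
  let T : Closeds (E.obj i) := ⟨Set.range (q i), (hqclosed i).isClosed_range⟩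
  let ι := (Scheme.IdealSheafData.vanishingIdeal T).subschemeι
  have hι : Set.range ι = Set.range (q i) := by
    simp only [ι, Scheme.IdealSheafData.range_subschemeι,
      Scheme.IdealSheafData.coe_support_vanishingIdeal, T]
    rfl
  have hirr : _root_.IsIrreducible (Set.range ι) := by
    rw [hι, ← Set.image_univ]
    exact (IrreducibleSpace.isIrreducible_univ Y).image _ (q i).continuous.continuousOn
  have : IrreducibleSpace (Scheme.IdealSheafData.vanishingIdeal T).subscheme := by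
    have h1 : _root_.IsPreirreducible (Set.univ : Set (Scheme.IdealSheafData.vanishingIdeal T).subscheme) := by
      intro u v hu hv ⟨a, _, ha⟩ ⟨b, _, hb⟩
      obtain ⟨u', hu', rfl⟩ := ι.isClosedEmbedding.isInducing.isOpen_iff.1 hu
      obtain ⟨v', hv', rfl⟩ := ι.isClosedEmbedding.isInducing.isOpen_iff.1 hv
      obtain ⟨_, ⟨w, rfl⟩, hw1, hw2⟩ := hirr.2 u' v' hu' hv' ⟨ι a, ⟨a, rfl⟩, ha⟩ ⟨ι b, ⟨b, rfl⟩, hb⟩
      exact ⟨w, trivial, hw1, hw2⟩
    obtain ⟨_, ⟨w, rfl⟩⟩ := hirr.1
    exact { toPreirreducibleSpace := ⟨h1⟩, toNonempty := ⟨w⟩ }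
  have hfin : IsFinite (ι ≫ (D.obj i).hom) := by
    have := (hD i).1
    infer_instance
  have hpre := h.preconnected _ _ hfin this
  rw [isPreconnected_closed_iff] at hpre
  have hlift : ∀ y : (Scheme.IdealSheafData.vanishingIdeal T).subscheme, ∃ p : Y, q i p = ι y :=
    fun y => (hι ▸ ⟨y, rfl⟩ : ι y ∈ Set.range (q i))
  have hZ : ∀ (p : Y) (y : (Scheme.IdealSheafData.vanishingIdeal T).subscheme), q i p = ι y →
      g p = (ι ≫ (D.obj i).hom) y := fun p y hy => by
    rw [← hqg i, Scheme.Hom.comp_apply, hy, ← Scheme.Hom.comp_apply]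
  obtain ⟨a, ha⟩ := hPne
  obtain ⟨b, hb⟩ := hP'ne
  obtain ⟨a', ha'⟩ : q i a ∈ Set.range ι := hι ▸ ⟨a, rfl⟩
  obtain ⟨b', hb'⟩ : q i b ∈ Set.range ι := hι ▸ ⟨b, rfl⟩
  obtain ⟨y, hy, hy1, hy2⟩ := hpre (ι ⁻¹' (q i '' V)) (ι ⁻¹' (q i '' V'))
    ((hqclosed i _ hVc).preimage ι.continuous) ((hqclosed i _ hV'c).preimage ι.continuous)
    (fun y hy => by
      obtain ⟨p, hp⟩ := hlift y
      have hpZ : p ∈ g ⁻¹' Z := by
        change g p ∈ Z
        rw [hZ p y hp]
        exact hy
      rcases hcov hpZ with h1 | h1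
      · exact Or.inl ⟨p, ⟨hpZ, h1⟩, hp⟩
      · exact Or.inr ⟨p, ⟨hpZ, h1⟩, hp⟩)
    ⟨a', (show (ι ≫ (D.obj i).hom) a' ∈ Z from hZ a a' ha'.symm ▸ ha.1), a, ha, ha'.symm⟩
    ⟨b', (show (ι ≫ (D.obj i).hom) b' ∈ Z from hZ b b' hb'.symm ▸ hb.1), b, hb, hb'.symm⟩
  obtain ⟨p, hp⟩ := hlift y
  exact Set.eq_empty_iff_forall_notMem.1 hi p
    ⟨trivial, show q i p ∈ q i '' V from hp ▸ hy1, show q i p ∈ q i '' V' from hp ▸ hy2⟩

/-- Along an integral morphism the hypothesis needed for gluing holds. -/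
theorem IsConnectedCouple.isConnected_inter_closure (h : IsConnectedCouple X Z) {X' : Scheme.{u}}
    (π : X' ⟶ X) [IsIntegralHom π] (y : X') :
    _root_.IsConnected (π ⁻¹' Z ∩ closure {y}) := by
  refine ⟨?_, ?_⟩
  · obtain ⟨_, ⟨y', hy', rfl⟩, hp⟩ := h.meets _ (π.isClosedMap _ (isClosed_closure (s := {y})))
      ⟨π y, y, subset_closure rfl, rfl⟩
    exact ⟨y', hp, hy'⟩
  let T : Closeds X' := ⟨closure {y}, isClosed_closure⟩
  let ι := (Scheme.IdealSheafData.vanishingIdeal T).subschemeι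
  have hι : Set.range ι = closure {y} := by
    simp only [ι, Scheme.IdealSheafData.range_subschemeι,
      Scheme.IdealSheafData.coe_support_vanishingIdeal, T]
    rfl
  obtain ⟨η, hη⟩ : y ∈ Set.range ι := hι ▸ subset_closure rfl
  have hspec : ∀ w, η ⤳ w := fun w => by
    rw [← ι.isClosedEmbedding.isInducing.specializes_iff, hη, specializes_iff_mem_closure, ← hι]
    exact ⟨w, rfl⟩
  have h1 : _root_.IsPreirreducible (Set.univ : Set (Scheme.IdealSheafData.vanishingIdeal T).subscheme) :=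
    fun u v hu hv ⟨a, _, ha⟩ ⟨b, _, hb⟩ =>
      ⟨η, trivial, (hspec a).mem_open hu ha, (hspec b).mem_open hv hb⟩
  have : IrreducibleSpace (Scheme.IdealSheafData.vanishingIdeal T).subscheme :=
    { toPreirreducibleSpace := ⟨h1⟩, toNonempty := ⟨η⟩ }
  have h2 := (h.preconnected_of_integral (ι ≫ π)).image ι ι.continuous.continuousOn
  rwa [show (ι ≫ π) ⁻¹' Z = ι ⁻¹' (π ⁻¹' Z) from rfl, Set.image_preimage_eq_inter_range, hι] at h2

variable {A : Type u} [CommRing A] (I : Ideal A) [HenselianRing A I]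

/-- Proper schemes over henselian pairs give connected couples. -/
theorem isConnectedCouple_of_proper (f : X ⟶ Spec (CommRingCat.of A)) [IsProper f] :
    IsConnectedCouple X (f ⁻¹' PrimeSpectrum.zeroLocus (I : Set A)) where
  isClosed := (PrimeSpectrum.isClosed_zeroLocus _).preimage f.continuous
  meets C hC hne := by
    obtain ⟨p, ⟨x, hx, rfl⟩, hp⟩ := ProperClopen.exists_mem_zeroLocus_of_isClosed I
      (f.isClosedMap _ hC) (hne.image f)
    exact ⟨x, hx, hp⟩
  preconnected Y g _ _ := by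
    have h := ProperClopen.isConnected_inter_closure I (g ≫ f) (genericPoint Y)
    have hu : closure ({genericPoint Y} : Set Y) = Set.univ := (genericPoint_spec Y)
    rw [hu, Set.inter_univ] at h
    exact h.isPreconnected

end Groth.Agent.Et18.H0Lift
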