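import Groth.Agent.Et18.SpectralRestrict

/-!
# Gluing local data along a closed subset of a spectral space

An axiomatic form of `Groth.Agent.Et18.SpectralRestrict`: sections with germs in arbitrary types.
-/

set_option autoImplicit false

universe u v w

open TopologicalSpace Topology

namespace Groth.Agent.Et18.H0Lift

variable {X : Type u} [TopologicalSpace X]

/-- Sections with germs: equality of germs is open, and sections with coherent germs glue. -/
structure GermSystem (X : Type u) [TopologicalSpace X] where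
  /-- Sections. -/
  Sec : Opens X → Type v
  /-- Stalks. -/
  Stk : X → Type w
  /-- Germs. -/
  germ : ∀ (U : Opens X) (y : X), y ∈ U → Sec U → Stk y
  isOpen_eq : ∀ (U V : Opens X) (s : Sec U) (t : Sec V),
    IsOpen {y | ∃ (h : y ∈ U) (h' : y ∈ V), germ U y h s = germ V y h' t}
  glue : ∀ (M : X → Opens X) (V : X → Opens X) (hM : ∀ x, M x ≤ V x), (∀ x, x ∈ M x) →
    ∀ (s : ∀ x, Sec (V x)) (σ : ∀ y, Stk y),
      (∀ (x y : X) (hy : y ∈ M x), germ (V x) y (hM x hy) (s x) = σ y) →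
      ∃ T : Sec ⊤, ∀ y, germ ⊤ y trivial T = σ y

set_option maxHeartbeats 800000 in
/-- Compatible local sections along `Z` extend uniquely to a global one. -/
theorem exists_glue [SpectralSpace X] (P : GermSystem.{u, v, w} X) (Z : Set X) (hZ : IsClosed Z)
    (hconn : ∀ x : X, _root_.IsConnected (Z ∩ closure {x})) (V : Z → Opens X)
    (hV : ∀ k, (k : X) ∈ V k) (t : ∀ k, P.Sec (V k))
    (hcompat : ∀ (k l z : Z) (hk : (z : X) ∈ V k) (hl : (z : X) ∈ V l),
      P.germ (V k) z hk (t k) = P.germ (V l) z hl (t l)) :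
    ∃ T : P.Sec ⊤, ∀ z : Z, P.germ ⊤ z trivial T = P.germ (V z) z (hV z) (t z) := by
  classical
  -- make the neighbourhoods compact
  have hc : ∀ k : Z, ∃ W : Set X, IsOpen W ∧ IsCompact W ∧ (k : X) ∈ W ∧ W ⊆ V k := fun k => by
    obtain ⟨W, ⟨hWo, hWc⟩, hkW, hWV⟩ :=
      PrespectralSpace.isTopologicalBasis.exists_subset_of_mem_open (hV k) (V k).2
    exact ⟨W, hWo, hWc, hkW, hWV⟩
  choose W hWo hWc hzW hWV using hc
  have hsp : ∀ {x z : X}, z ∈ closure ({x} : Set X) → x ⤳ z := fun h =>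
    specializes_iff_mem_closure.2 h
  have hdom : ∀ (x : X) (k z : Z) (_ : (z : X) ∈ closure ({x} : Set X)), (z : X) ∈ W k → x ∈ W k :=
    fun x k z hz hzk => (hsp hz).mem_open (hWo k) hzk
  let v : ∀ (x : X) (z : Z), (z : X) ∈ closure ({x} : Set X) → P.Stk x :=
    fun x z hz => P.germ (V z) x ((hsp hz).mem_open (V z).2 (hV z)) (t z)
  have hv : ∀ (x : X) (k z : Z) (hz : (z : X) ∈ closure ({x} : Set X)) (hzk : (z : X) ∈ W k),
      v x z hz = P.germ (V k) x (hWV k (hdom x k z hz hzk)) (t k) := fun x k z hz hzk => by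
    obtain ⟨_, _, h⟩ := (hsp hz).mem_open (P.isOpen_eq (V z) (V k) (t z) (t k))
      ⟨hV z, hWV k hzk, hcompat z k z (hV z) (hWV k hzk)⟩
    exact h
  have hconst : ∀ (x : X) (z z' : Z) (hz : (z : X) ∈ closure ({x} : Set X))
      (hz' : (z' : X) ∈ closure ({x} : Set X)), v x z hz = v x z' hz' := by
    intro x z z' hz hz'
    have : PreconnectedSpace ↥(Z ∩ closure ({x} : Set X)) :=
      isPreconnected_iff_preconnectedSpace.1 (hconn x).2
    let f : ↥(Z ∩ closure ({x} : Set X)) → P.Stk x := fun w => v x ⟨w.1, w.2.1⟩ w.2.2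
    have hf : IsLocallyConstant f := by
      refine (IsLocallyConstant.iff_exists_open f).2 fun w => ?_
      refine ⟨Subtype.val ⁻¹' W ⟨w.1, w.2.1⟩, (hWo _).preimage continuous_subtype_val,
        hzW ⟨w.1, w.2.1⟩, fun w' hw' => ?_⟩
      exact (hv x ⟨w.1, w.2.1⟩ ⟨w'.1, w'.2.1⟩ w'.2.2 hw').trans
        (hv x ⟨w.1, w.2.1⟩ ⟨w.1, w.2.1⟩ w.2.2 (hzW _)).symm
    exact hf.apply_eq_of_preconnectedSpace ⟨z.1, z.2, hz⟩ ⟨z'.1, z'.2, hz'⟩
  choose p hpZ hpx using fun x : X => (hconn x).1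
  let σ : ∀ x : X, P.Stk x := fun x => v x ⟨p x, hpZ x⟩ (hpx x)
  have hσ : ∀ (x : X) (k z : Z) (hz : (z : X) ∈ closure ({x} : Set X)) (hzk : (z : X) ∈ W k),
      σ x = P.germ (V k) x (hWV k (hdom x k z hz hzk)) (t k) :=
    fun x k z hz hzk => (hconst x _ z (hpx x) hz).trans (hv x k z hz hzk)
  have hZc : IsCompact Z := hZ.isCompact
  obtain ⟨s, hs⟩ := hZc.elim_finite_subcover (fun k : Z => W k) hWo
    fun z hz => Set.mem_iUnion.2 ⟨⟨z, hz⟩, hzW ⟨z, hz⟩⟩
  have key : ∀ (x : X) (k z : Z) (hz : (z : X) ∈ closure ({x} : Set X)) (_ : (z : X) ∈ W k) (l : Z),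
      ∃ N : Set X, IsOpen N ∧ x ∈ N ∧ ∀ y ∈ N, ∀ (hyk : y ∈ W k) (z' : Z),
        (z' : X) ∈ closure ({y} : Set X) → (z' : X) ∈ W l →
        σ y = P.germ (V k) y (hWV k hyk) (t k) := by
    intro x k z hz hzk l
    by_contra hbad
    push Not at hbad
    let E : Set X := {y | ∃ (hk : y ∈ V k) (hl : y ∈ V l),
      P.germ (V k) y hk (t k) = P.germ (V l) y hl (t l)}
    have hE : IsOpen E := P.isOpen_eq _ _ _ _
    let ι₀ := {N : Set X // IsOpen N ∧ IsCompact N ∧ x ∈ N} ⊕
      {A : Set X // IsOpen A ∧ IsCompact A ∧ Z ∩ W l ⊆ A}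
    let Cl : ι₀ → Set X := Sum.elim Subtype.val Subtype.val
    let S₀ : Set X := (W k ∩ W l) ∩ Eᶜ
    have hclosed : ∀ C : Set X, IsOpen C → IsCompact C → IsClosed[constructibleTopology X] C :=
      fun C hC hCc => (@isOpen_compl_iff X C (constructibleTopology X)).1
        (H8ProCons.isOpen_cons_compl_of_isCompact hC hCc)
    have hS₀ : IsClosed[constructibleTopology X] S₀ :=
      @IsClosed.inter X _ _ (constructibleTopology X)
        (@IsClosed.inter X _ _ (constructibleTopology X) (hclosed _ (hWo k) (hWc k))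
          (hclosed _ (hWo l) (hWc l)))
        (@IsOpen.isClosed_compl X (constructibleTopology X) _ (H8ProCons.isOpen_cons_of_isOpen hE))
    have hcpt : @IsCompact X (constructibleTopology X) S₀ := by
      have hc : @CompactSpace X (constructibleTopology X) :=
        @Function.Surjective.compactSpace _ _ _ (constructibleTopology X) _
          (WithTopology.continuous_ofTopology (constructibleTopology X)) _
          (WithTopology.ofTopology_surjective _)
      exact @IsClosed.isCompact X (constructibleTopology X) _ hc hS₀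
    have hfip : ∀ u : Finset ι₀, (S₀ ∩ ⋂ i ∈ u, Cl i).Nonempty := by
      intro u
      let N₀ : Set X := W k ∩ ⋂ i ∈ u, (Sum.elim Subtype.val (fun _ => Set.univ) i : Set X)
      have hN₀o : IsOpen N₀ := (hWo k).inter (isOpen_biInter_finset fun i _ => by
        cases i with
        | inl a => exact a.2.1
        | inr _ => exact isOpen_univ)
      have hxN₀ : x ∈ N₀ := ⟨hdom x k z hz hzk, Set.mem_iInter₂.2 fun i _ => by
        cases i with
        | inl a => exact a.2.2.2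
        | inr _ => trivial⟩
      obtain ⟨y, hyN, hyk, z', hz'y, hz'l, hne⟩ := hbad N₀ hN₀o hxN₀
      have hyl : y ∈ W l := hdom y l z' hz'y hz'l
      refine ⟨y, ⟨⟨hyk, hyl⟩, fun ⟨_, _, h⟩ => hne ((hσ y l z' hz'y hz'l).trans h.symm)⟩,
        Set.mem_iInter₂.2 fun i hi => ?_⟩
      cases i with
      | inl a => exact Set.mem_iInter₂.1 hyN.2 (Sum.inl a) hi
      | inr b => exact (hsp hz'y).mem_open b.2.1 (b.2.2.2 ⟨z'.2, hz'l⟩)
    obtain ⟨y, hy₀, hy⟩ : (S₀ ∩ ⋂ i, Cl i).Nonempty := by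
      refine @IsCompact.inter_iInter_nonempty X (constructibleTopology X) _ ι₀ hcpt Cl (fun i => ?_) hfip
      cases i with
      | inl a => exact hclosed _ a.2.1 a.2.2.1
      | inr b => exact hclosed _ b.2.1 b.2.2.1
    have hy := Set.mem_iInter.1 hy
    have hyx : y ⤳ x := specializes_iff_forall_open.2 fun O hO hxO => by
      obtain ⟨N, hN, hxN, hNO⟩ := PrespectralSpace.isTopologicalBasis.exists_subset_of_mem_open hxO hO
      exact hNO (hy (Sum.inl ⟨N, hN.1, hN.2, hxN⟩))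
    obtain ⟨z', hz'S, hyz'⟩ := SpectralRestrict.exists_specializes (X := TopCat.of X)
      ((hWc l).inter_left hZ) (y := y) fun A hAo hAc hAs => hy (Sum.inr ⟨A, hAo, hAc, hAs⟩)
    refine hy₀.2 ⟨hWV k hy₀.1.1, hWV l hy₀.1.2, ?_⟩
    exact (hσ y k z ((hyx.trans (hsp hz)).mem_closure) hzk).symm.trans
      (hσ y l ⟨z', hz'S.1⟩ hyz'.mem_closure hz'S.2)
  choose q hqs hqV using fun x : X => Set.mem_iUnion₂.1 (hs (hpZ x))
  choose N hNo hxN hN using fun x : X => fun l : Z =>
    key x (q x) ⟨p x, hpZ x⟩ (hpx x) (hqV x) l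
  let M : X → Opens X := fun x => ⟨W (q x) ∩ ⋂ l ∈ s, N x l,
    (hWo (q x)).inter (isOpen_biInter_finset fun l _ => hNo x l)⟩
  obtain ⟨T, hT⟩ := P.glue M (fun x => V (q x)) (fun x y hy => hWV _ hy.1)
    (fun x => ⟨hdom x (q x) ⟨p x, hpZ x⟩ (hpx x) (hqV x), Set.mem_iInter₂.2 fun l _ => hxN x l⟩)
    (fun x => t (q x)) σ fun x y hy =>
      (hN x (q y) y (Set.mem_iInter₂.1 hy.2 (q y) (hqs y)) hy.1 ⟨p y, hpZ y⟩ (hpx y) (hqV y)).symm
  refine ⟨T, fun z => (hT z).trans ?_⟩
  exact hσ z z z (subset_closure rfl) (hzW z)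

end Groth.Agent.Et18.H0Lift
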