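import Groth.Agent.Et18.ShriekFibre
import Groth.Agent.Et18.BaseChange0Stalk
import Groth.Agent.Et18.IntegralPush
import Groth.Agent.Et18.H0Lift.SpectralGlue

/-!
# Germs of sections at geometric points, and the germ system of Zariski opens
-/

set_option autoImplicit false
set_option backward.isDefEq.respectTransparency.types false
set_option backward.isDefEq.respectTransparency false

universe u

open CategoryTheory CategoryTheory.Limits AlgebraicGeometry Opposite TopologicalSpace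

namespace Groth.Agent.Et18.H0Lift

variable {X Y : Scheme.{u}}

/-- Elements of geometric fibres over monomorphisms are unique. -/
theorem fibre_eq {Ω : Type u} [Field Ω] [IsSepClosed Ω] {ξ : Spec (CommRingCat.of Ω) ⟶ X}
    (U : X.Etale) [Mono U.hom] (v w : (Scheme.pointSmallEtale ξ).fiber.obj U) : v = w :=
  Over.OverMorphism.ext ((cancel_mono U.hom).1 ((Over.w v).trans (Over.w w).symm))

/-- The element over the whole scheme. -/
noncomputable def topPt {Ω : Type u} [Field Ω] [IsSepClosed Ω] (ξ : Spec (CommRingCat.of Ω) ⟶ X) :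
    (Scheme.pointSmallEtale ξ).fiber.obj (EtCoh.top X) :=
  Over.homMk ξ (Category.comp_id _)

instance mono_top_hom : Mono (EtCoh.top X).hom := inferInstanceAs (Mono (𝟙 X))

/-- The germ of a section. -/
noncomputable abbrev gm (F : EtCoh.Ab X) {Ω : Type u} [Field Ω] [IsSepClosed Ω]
    (ξ : Spec (CommRingCat.of Ω) ⟶ X) (U : X.Etale)
    (v : (Scheme.pointSmallEtale ξ).fiber.obj U) (s : EtCoh.sect F U) : (EtCoh.stalk ξ).obj F :=
  (Scheme.pointSmallEtale ξ).toPresheafFiber U v F.obj s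

theorem gm_map (F : EtCoh.Ab X) {Ω : Type u} [Field Ω] [IsSepClosed Ω]
    (ξ : Spec (CommRingCat.of Ω) ⟶ X) {U W : X.Etale} (g : W ⟶ U)
    (w : (Scheme.pointSmallEtale ξ).fiber.obj W) (s : EtCoh.sect F U) :
    gm F ξ W w (F.obj.map g.op s) = gm F ξ U ((Scheme.pointSmallEtale ξ).fiber.map g w) s :=
  GrothendieckTopology.Point.toPresheafFiber_w_apply _ g w F.obj s

theorem gm_hom {F G : EtCoh.Ab X} (a : F ⟶ G) {Ω : Type u} [Field Ω] [IsSepClosed Ω]
    (ξ : Spec (CommRingCat.of Ω) ⟶ X) (U : X.Etale)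
    (v : (Scheme.pointSmallEtale ξ).fiber.obj U) (s : EtCoh.sect F U) :
    (EtCoh.stalk ξ).map a (gm F ξ U v s) = gm G ξ U v (a.hom.app (op U) s) :=
  ConcreteCategory.congr_hom ((Scheme.pointSmallEtale ξ).toPresheafFiber_naturality a.hom U v) s

/-- Germs of a unit. -/
theorem gm_unit (g : X ⟶ Y) {Ω : Type u} [Field Ω] [IsSepClosed Ω]
    {η : Spec (CommRingCat.of Ω) ⟶ Y} (ξ : FibrePts g η) (G : EtCoh.Ab Y) (V : Y.Etale)
    (v : (Scheme.pointSmallEtale η).fiber.obj V) (s : EtCoh.sect G V) :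
    gm ((EtCoh.pull g).obj G) ξ.1 ((EtCoh.bc g).obj V) (bcLift g η ξ V v)
        (((EtCoh.pullPushAdj g).unit.app G).hom.app (op V) s) =
      toPull g η ξ G (gm G η V v s) :=
  (ConcreteCategory.congr_hom (toPresheafFiber_toPull g η ξ G V v) s).symm

theorem bijective_toPull (g : X ⟶ Y) {Ω : Type u} [Field Ω] [IsSepClosed Ω]
    {η : Spec (CommRingCat.of Ω) ⟶ Y} (ξ : FibrePts g η) (G : EtCoh.Ab Y) :
    Function.Bijective (toPull g η ξ G) := by
  have := isIso_toPull g η ξ G
  exact ConcreteCategory.bijective_of_isIso (toPull g η ξ G)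

/-- A section all of whose germs vanish is zero. -/
theorem eq_zero_of_germs (F : EtCoh.Ab X) (U : X.Etale) (s : EtCoh.sect F U)
    (h : ∀ (w : U.left) (v : (Scheme.pointSmallEtale (algPoint X (U.hom w))).fiber.obj U),
      fiberPt v = w → gm F _ U v s = 0) : s = 0 := by
  refine eq_zero_of_sectSupp_eq_empty F U s (Set.eq_empty_iff_forall_notMem.2 fun w hw => ?_)
  obtain ⟨v, hv⟩ := exists_fiber_point (algPoint X (U.hom w)) U w (algPoint_default X _).symm
  exact not_mem_sectSupp_of_germ_eq_zero F _ U s v (h w v hv) (hv.symm ▸ hw)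

/-- An open subscheme as an object of the site. -/
noncomputable abbrev opObj (U : X.Opens) : X.Etale := Scheme.Etale.mk U.ι

instance mono_opObj_hom (U : X.Opens) : Mono (opObj U).hom := inferInstanceAs (Mono U.ι)

/-- Inclusions of opens. -/
noncomputable def opHom {U V : X.Opens} (h : U ≤ V) : opObj U ⟶ opObj V :=
  MorphismProperty.Over.homMk (X.homOfLE h) (X.homOfLE_ι h)

theorem exists_opFib (U : X.Opens) (y : X) (hy : y ∈ U) :
    ∃ v : (Scheme.pointSmallEtale (algPoint X y)).fiber.obj (opObj U), fiberPt v = ⟨y, hy⟩ :=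
  exists_fiber_point (algPoint X y) (opObj U) ⟨y, hy⟩ (algPoint_default X y).symm

/-- The element over an open containing the point. -/
noncomputable def opFib (U : X.Opens) (y : X) (hy : y ∈ U) :
    (Scheme.pointSmallEtale (algPoint X y)).fiber.obj (opObj U) :=
  (exists_opFib U y hy).choose

/-- Germ of a section over an open at a point. -/
noncomputable abbrev gmOpen (M : EtCoh.Ab X) (U : X.Opens) (y : X) (hy : y ∈ U)
    (s : EtCoh.sect M (opObj U)) : (EtCoh.stalk (algPoint X y)).obj M :=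
  gm M (algPoint X y) (opObj U) (opFib U y hy) s

theorem gm_opObj (M : EtCoh.Ab X) (U : X.Opens) (y : X) (hy : y ∈ U) (s : EtCoh.sect M (opObj U))
    (v : (Scheme.pointSmallEtale (algPoint X y)).fiber.obj (opObj U)) :
    gm M _ (opObj U) v s = gmOpen M U y hy s := by
  rw [fibre_eq (opObj U) v (opFib U y hy)]

theorem gmOpen_res (M : EtCoh.Ab X) {U V : X.Opens} (h : U ≤ V) (y : X) (hy : y ∈ U)
    (s : EtCoh.sect M (opObj V)) :
    gmOpen M U y hy (M.obj.map (opHom h).op s) = gmOpen M V y (h hy) s :=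
  (gm_map M _ (opHom h) _ s).trans (gm_opObj M V y (h hy) s _)

theorem isOpen_germ_eq (M : EtCoh.Ab X) (U V : X.Opens) (s : EtCoh.sect M (opObj U))
    (t : EtCoh.sect M (opObj V)) :
    IsOpen {y : X | ∃ (h : y ∈ U) (h' : y ∈ V), gmOpen M U y h s = gmOpen M V y h' t} := by
  let d : EtCoh.sect M (opObj (U ⊓ V)) :=
    M.obj.map (opHom inf_le_left).op s - M.obj.map (opHom inf_le_right).op t
  have hd : ∀ y (hy : y ∈ U ⊓ V), gmOpen M (U ⊓ V) y hy d = gmOpen M U y hy.1 s - gmOpen M V y hy.2 t :=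
    fun y hy => by
      rw [← gmOpen_res M inf_le_left y hy, ← gmOpen_res M inf_le_right y hy]
      exact map_sub _ _ _
  have : {y : X | ∃ (h : y ∈ U) (h' : y ∈ V), gmOpen M U y h s = gmOpen M V y h' t} =
      (U ⊓ V).ι '' (EtShriek.sectSupp M (opObj (U ⊓ V)) d)ᶜ := by
    ext y
    constructor
    · rintro ⟨h, h', e⟩
      refine ⟨⟨y, h, h'⟩, ?_, rfl⟩
      have h0 : gmOpen M (U ⊓ V) y ⟨h, h'⟩ d = 0 := by rw [hd, e, sub_self]
      have := not_mem_sectSupp_of_germ_eq_zero M _ _ d _ h0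
      rwa [show fiberPt (opFib (U ⊓ V) y ⟨h, h'⟩) = (⟨y, ⟨h, h'⟩⟩ : (U ⊓ V : X.Opens).toScheme) from (exists_opFib (U ⊓ V) y ⟨h, h'⟩).choose_spec] at this
    · rintro ⟨⟨y', hy⟩, hn, rfl⟩
      refine ⟨hy.1, hy.2, sub_eq_zero.1 ((hd y' hy).symm.trans ?_)⟩
      refine germ_eq_zero_of_not_mem_sectSupp M _ _ d _ ?_
      rw [show fiberPt (opFib (U ⊓ V) y' hy) = ⟨y', hy⟩ from (exists_opFib (U ⊓ V) y' hy).choose_spec]
      exact hn
  rw [this]
  exact (U ⊓ V).ι.isOpenEmbedding.isOpenMap _ (isClosed_sectSupp M _ d).isOpen_compl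

theorem exists_glue_opens (M : EtCoh.Ab X) (N : X → X.Opens) (V : X → X.Opens) (hNV : ∀ x, N x ≤ V x)
    (hN : ∀ x, x ∈ N x) (s : ∀ x, EtCoh.sect M (opObj (V x)))
    (σ : ∀ y, (EtCoh.stalk (algPoint X y)).obj M)
    (hσ : ∀ (x y : X) (hy : y ∈ N x), gmOpen M (V x) y (hNV x hy) (s x) = σ y) :
    ∃ T : EtCoh.sect M (opObj ⊤), ∀ y, gmOpen M ⊤ y trivial T = σ y := by
  have hsheaf : Presieve.IsSheaf X.smallEtaleTopology (M.obj ⋙ forget _) :=
    (CategoryTheory.isSheaf_iff_isSheaf_of_type _ _).1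
      ((sheafCompose X.smallEtaleTopology (forget AddCommGrpCat.{u + 1})).obj M).property
  have hcov : Sieve.generate (Presieve.ofArrows _ fun x => opHom (le_top : N x ≤ ⊤)) ∈
      X.smallEtaleTopology (opObj ⊤) := by
    change Sieve.ofArrows _ _ ∈ _
    rw [Scheme.ofArrows_mem_smallEtaleTopology_iff, Set.eq_univ_iff_forall]
    intro p
    refine Set.mem_iUnion.2 ⟨p.1, ⟨p.1, hN p.1⟩, ?_⟩
    exact Subtype.ext (X.homOfLE_apply (le_top : N p.1 ≤ ⊤) ⟨p.1, hN p.1⟩)
  have hfor : (Presieve.ofArrows _ fun x => opHom (le_top : N x ≤ ⊤)).IsSheafFor (M.obj ⋙ forget _) := by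
    rw [Presieve.isSheafFor_iff_generate]; exact hsheaf _ hcov
  let t : ∀ x, EtCoh.sect M (opObj (N x)) := fun x => M.obj.map (opHom (hNV x)).op (s x)
  have ht : ∀ (x y : X) (hy : y ∈ N x), gmOpen M (N x) y hy (t x) = σ y := fun x y hy =>
    (gmOpen_res M (hNV x) y hy (s x)).trans (hσ x y hy)
  obtain ⟨T, hT, -⟩ := (Presieve.isSheafFor_arrows_iff _ _).mp hfor t (fun a b W ga gb _ => by
    refine sub_eq_zero.1 (eq_zero_of_germs M W (M.obj.map ga.op (t a) - M.obj.map gb.op (t b))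
      fun w v _ => ?_)
    have h1 : ∀ (c : X) (gc : W ⟶ opObj (N c)), gm M _ W v (M.obj.map gc.op (t c)) = σ (W.hom w) := by
      intro c gc
      rw [gm_map]
      have hmem : W.hom w ∈ N c := by
        have e : gc.left ≫ (N c).ι = W.hom := Over.w gc.hom
        rw [← e]
        exact (gc.left w).2
      exact (gm_opObj M (N c) (W.hom w) hmem _ _).trans (ht c _ hmem)
    rw [gm, map_sub]
    exact sub_eq_zero.2 ((h1 a ga).trans (h1 b gb).symm))
  refine ⟨T, fun y => ?_⟩
  rw [← ht y y (hN y), ← hT y]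
  exact (gmOpen_res M (le_top : N y ≤ ⊤) y (hN y) T).symm

/-- The germ system of a sheaf on the Zariski opens. -/
noncomputable def germSystem (M : EtCoh.Ab X) : GermSystem.{u, u + 1, u + 1} X where
  Sec U := EtCoh.sect M (opObj U)
  Stk y := (EtCoh.stalk (algPoint X y)).obj M
  germ U y hy s := gmOpen M U y hy s
  isOpen_eq := isOpen_germ_eq M
  glue N V h hN s σ hσ := exists_glue_opens M N V h hN s σ hσ

end Groth.Agent.Et18.H0Lift
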