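import Groth.Agent.Et18.StrictlyHenselBase
import Groth.Agent.Et18.H0Lift.Germs
import Groth.Agent.H8Lim.SpreadOut

/-!
# Étale objects have Zariski-local sections at strictly henselian points
-/

set_option autoImplicit false
set_option backward.isDefEq.respectTransparency.types false
set_option backward.isDefEq.respectTransparency false

universe u

open CategoryTheory CategoryTheory.Limits AlgebraicGeometry Opposite TopologicalSpace

namespace Groth.Agent.Et18.H0Lift

variable {X : Scheme.{u}}

/-- At a point with strictly henselian local ring every point of an étale object above it lies on a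
section over a Zariski neighbourhood. -/
theorem exists_nhd_section (y : X) (hy : EtCoh.IsStrictlyHenselianLocalRing (X.presheaf.stalk y))
    (P : X.Etale) (p : P.left) (hp : P.hom p = y) :
    ∃ (N : X.Opens) (hyN : y ∈ N) (g : opObj N ⟶ P), g.left ⟨y, hyN⟩ = p := by
  obtain ⟨hh, hsep⟩ := hy
  let R := X.presheaf.stalk y
  have := hh
  have := hsep
  let j : Spec R ⟶ X := X.fromSpecStalk y
  let c := IsLocalRing.closedPoint R
  have hjc : j c = y := Scheme.fromSpecStalk_closedPoint
  let B := (EtCoh.bc (X := Spec (CommRingCat.of R)) j).obj P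
  obtain ⟨b, hb1, hb2⟩ := Scheme.Pullback.exists_preimage_pullback (f := P.hom) (g := j) p c
    (hp.trans hjc.symm)
  obtain ⟨v, hv⟩ := exists_fiber_point (closedGeomPt R) B b (hb2.trans (by
    change c = Spec.map _ _
    exact (Spec.map_apply _ _).symm ▸ (PrimeSpectrum.ext (by
      ext a
      simp [c, IsLocalRing.closedPoint, RingHom.mem_ker, IsLocalRing.residue_eq_zero_iff]))))
  obtain ⟨σ, hσ⟩ := exists_section_of_fiber R B v
  let σl : Spec R ⟶ pullback P.hom j := σ.left
  have hσc : σl c = b := by
    rw [← hv]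
    have h1 : (closedGeomPt R) default = c := by
      change Spec.map _ _ = c
      exact (Spec.map_apply _ _).symm ▸ (PrimeSpectrum.ext (by
        ext a
        simp [c, IsLocalRing.closedPoint, RingHom.mem_ker, IsLocalRing.residue_eq_zero_iff]))
    have h2 := congrArg (fun k : Spec (CommRingCat.of _) ⟶ B.left => k default) hσ
    rw [← h1]
    exact h2
  let m : Spec R ⟶ P.left := σl ≫ pullback.fst P.hom j
  have hmw : m ≫ P.hom = j := by
    have h : σl ≫ pullback.snd P.hom j = 𝟙 _ := Over.w σ.hom
    rw [Category.assoc, pullback.condition, reassoc_of% h]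
  have hmc : m c = p := by
    change pullback.fst P.hom j (σl c) = p
    rw [hσc]
    exact hb1
  subst hmc
  let φ : P.left.presheaf.stalk (m c) ⟶ R := Scheme.stalkClosedPointTo m
  have hφ : Spec.map φ ≫ P.left.fromSpecStalk (m c) = m := Scheme.Spec_stalkClosedPointTo_fromSpecStalk m
  have e : (𝟙 X : X ⟶ X) y = P.hom (m c) := hp.symm
  have : Etale P.hom := P.prop
  have hcompat : P.hom.stalkMap (m c) ≫ φ =
      X.presheaf.stalkSpecializes (Inseparable.of_eq e).specializes ≫ (𝟙 X : X ⟶ X).stalkMap y := by
    apply Spec.map_injective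
    rw [← cancel_mono (X.fromSpecStalk (P.hom (m c))), Spec.map_comp, Spec.map_comp, Category.assoc,
      Category.assoc]
    refine ((congrArg (Spec.map φ ≫ ·) (Scheme.SpecMap_stalkMap_fromSpecStalk P.hom (x := m c))).trans
      ((Category.assoc _ _ _).symm.trans ((congrArg (· ≫ P.hom) hφ).trans hmw))).trans ?_
    rw [Scheme.SpecMap_stalkSpecializes_fromSpecStalk]
    exact ((Scheme.SpecMap_stalkMap_fromSpecStalk (𝟙 X) (x := y)).trans (Category.comp_id _)).symm
  obtain ⟨N, hyN, g, hg, hgw⟩ := H8Lim.spread_out (𝟙 X) P.hom e φ hcompat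
  refine ⟨N, hyN, MorphismProperty.Over.homMk g (hgw.trans (Category.comp_id _)), ?_⟩
  have h1 : N.fromSpecStalkOfMem y hyN c = ⟨y, hyN⟩ := by
    apply N.ι.isOpenEmbedding.injective
    rw [← Scheme.Hom.comp_apply, Scheme.Opens.fromSpecStalkOfMem_ι]
    exact hjc
  have h2 := congrArg (fun k : Spec R ⟶ P.left => k c) (hφ.symm.trans hg)
  change g ⟨y, hyN⟩ = m c
  rw [← h1]
  exact h2.symm

end Groth.Agent.Et18.H0Lift
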