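import Groth.Agent.Et18.H0Lift.AbsInt
import Groth.Agent.Et18.H0Lift.Connected
import Groth.Agent.Et18.H0Lift.Sections
import Groth.Agent.Et18.FiniteFibreSplit

/-!
# Global sections restrict bijectively to the closed part of a connected couple
-/

set_option autoImplicit false
set_option backward.isDefEq.respectTransparency.types false
set_option backward.isDefEq.respectTransparency false

universe u

open CategoryTheory CategoryTheory.Limits AlgebraicGeometry Opposite TopologicalSpace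

namespace Groth.Agent.Et18.H0Lift

variable {X Z : Scheme.{u}} (i : Z ⟶ X) [IsClosedImmersion i] (F : EtCoh.Ab X)

instance mono_bc_top_hom {X' : Scheme.{u}} (f : X' ⟶ X) : Mono ((EtCoh.bc f).obj (EtCoh.top X)).hom :=
  inferInstanceAs (Mono (pullback.snd (𝟙 X) f))

/-- `e` is the germ prescribed by `σ` at a geometric point over `Z`. -/
def IsLift (σ : EtCoh.sect ((EtCoh.pull i).obj F) ((EtCoh.bc i).obj (EtCoh.top X))) {Ω : Type u}
    [Field Ω] [IsSepClosed Ω] {η : Spec (CommRingCat.of Ω) ⟶ X} (ξ₀ : FibrePts i η)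
    (e : (EtCoh.stalk η).obj F) : Prop :=
  toPull i η ξ₀ F e =
    gm ((EtCoh.pull i).obj F) ξ₀.1 _ (bcLift i η ξ₀ (EtCoh.top X) (topPt η)) σ

/-- The pull back of a section. -/
noncomputable abbrev uAt {X' : Scheme.{u}} (f : X' ⟶ X) (F : EtCoh.Ab X) (V : X.Etale)
    (t : EtCoh.sect F V) : EtCoh.sect ((EtCoh.pull f).obj F) ((EtCoh.bc f).obj V) :=
  ((EtCoh.pullPushAdj f).unit.app F).hom.app (op V) t

omit [IsClosedImmersion i] in
theorem prV_pt {X' : Scheme.{u}} (f : X' ⟶ X) {Ω : Type u} [Field Ω] [IsSepClosed Ω]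
    (η : Spec (CommRingCat.of Ω) ⟶ X) (ξ : FibrePts f η) (V : X.Etale)
    (v : (Scheme.pointSmallEtale η).fiber.obj V) :
    EtShriek.prV f V (fiberPt (bcLift f η ξ V v)) = fiberPt v :=
  congrArg (fun k : Spec (CommRingCat.of Ω) ⟶ V.left => k default) (pullback.lift_fst _ _ _)

theorem exists_fibrePts {Ω : Type u} [Field Ω] (η : Spec (CommRingCat.of Ω) ⟶ X)
    (h : η default ∈ Set.range i) : Nonempty (FibrePts i η) := by
  obtain ⟨m, hm⟩ := exists_fac_of_isClosedImmersion i η h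
  exact ⟨⟨m, hm⟩⟩

theorem isLift_unique (σ : EtCoh.sect ((EtCoh.pull i).obj F) ((EtCoh.bc i).obj (EtCoh.top X)))
    {Ω : Type u} [Field Ω] [IsSepClosed Ω] {η : Spec (CommRingCat.of Ω) ⟶ X}
    {ξ₀ ξ₁ : FibrePts i η} {e e' : (EtCoh.stalk η).obj F}
    (h : IsLift i F σ ξ₀ e) (h' : IsLift i F σ ξ₁ e') : e = e' := by
  obtain rfl : ξ₀ = ξ₁ := Subtype.ext ((cancel_mono i).1 (ξ₀.2.trans ξ₁.2.symm))
  exact (bijective_toPull i ξ₀ F).1 (h.trans h'.symm)

/-- Near a point of `Z` the prescribed germs come from a section over an étale neighbourhood. -/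
theorem exists_local (σ : EtCoh.sect ((EtCoh.pull i).obj F) ((EtCoh.bc i).obj (EtCoh.top X))) (z₀ : Z) :
    ∃ (V : X.Etale) (O : V.left.Opens) (t : EtCoh.sect F V) (u : V.left), u ∈ O ∧ V.hom u = i z₀ ∧
      ∀ (Ω : Type u) [Field Ω] [IsSepClosed Ω] (η : Spec (CommRingCat.of Ω) ⟶ X) (ξ₀ : FibrePts i η)
        (v : (Scheme.pointSmallEtale η).fiber.obj V), fiberPt v ∈ O → IsLift i F σ ξ₀ (gm F η V v t) := by
  let η₀ := algPoint Z z₀ ≫ i
  let ξ : FibrePts i η₀ := ⟨algPoint Z z₀, rfl⟩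
  obtain ⟨e, he⟩ := (bijective_toPull i ξ F).2
    (gm ((EtCoh.pull i).obj F) ξ.1 _ (bcLift i η₀ ξ (EtCoh.top X) (topPt η₀)) σ)
  obtain ⟨V, v, t, rfl⟩ :=
    (Scheme.pointSmallEtale η₀).toPresheafFiber_jointly_surjective (P := F.obj) e
  let r := (EtCoh.bc i).map ((EtCore.topIsTerminal X).from V)
  let d : EtCoh.sect ((EtCoh.pull i).obj F) ((EtCoh.bc i).obj V) :=
    uAt i F V t - ((EtCoh.pull i).obj F).obj.map r.op σ
  let φ : ((EtCoh.bc i).obj V).left ⟶ V.left := pullback.fst V.hom i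
  have : IsClosedImmersion φ := MorphismProperty.pullback_fst (P := @IsClosedImmersion) _ _ ‹_›
  have hd : ∀ (Ω : Type u) [Field Ω] [IsSepClosed Ω] (η : Spec (CommRingCat.of Ω) ⟶ X)
      (ξ₁ : FibrePts i η) (w : (Scheme.pointSmallEtale η).fiber.obj V),
      gm ((EtCoh.pull i).obj F) ξ₁.1 _ (bcLift i η ξ₁ V w) d = toPull i η ξ₁ F (gm F η V w t) -
        gm ((EtCoh.pull i).obj F) ξ₁.1 _ (bcLift i η ξ₁ (EtCoh.top X) (topPt η)) σ := by
    intro Ω _ _ η ξ₁ w
    refine (map_sub _ _ _).trans (congrArg₂ (· - ·) (gm_unit i ξ₁ F V w t) ?_)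
    refine (gm_map _ _ r _ σ).trans ?_
    rw [fibre_eq _ ((Scheme.pointSmallEtale ξ₁.1).fiber.map r (bcLift i η ξ₁ V w))
      (bcLift i η ξ₁ (EtCoh.top X) (topPt η))]
  let C : Set V.left := φ '' EtShriek.sectSupp _ _ d
  have hC : IsClosed C := φ.isClosedMap _ (isClosed_sectSupp _ _ d)
  refine ⟨V, ⟨Cᶜ, hC.isOpen_compl⟩, t, fiberPt v, ?_, ?_, ?_⟩
  · rintro ⟨b, hb, hbv⟩
    obtain rfl : b = fiberPt (bcLift i η₀ ξ V v) :=
      φ.isClosedEmbedding.injective (hbv.trans (prV_pt i η₀ ξ V v).symm)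
    exact not_mem_sectSupp_of_germ_eq_zero _ _ _ d _ ((hd _ η₀ ξ v).trans (sub_eq_zero.2 he)) hb
  · rw [hom_fiberPt v]
    exact congrArg i (algPoint_default Z z₀)
  · intro Ω _ _ η ξ₁ w hw
    refine sub_eq_zero.1 ((hd Ω η ξ₁ w).symm.trans ?_)
    refine germ_eq_zero_of_not_mem_sectSupp _ _ _ d _ fun hmem => hw ?_
    exact ⟨_, hmem, prV_pt i η ξ₁ V w⟩

theorem injective_unit (hZ : ∀ C : Set X, IsClosed C → C.Nonempty → (C ∩ Set.range i).Nonempty) :
    Function.Injective (((EtCoh.pullPushAdj i).unit.app F).hom.app (op (EtCoh.top X))) := by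
  intro s t hst
  refine sub_eq_zero.1 (eq_zero_of_sectSupp_eq_empty F (EtCoh.top X) (s - t)
    (Set.not_nonempty_iff_eq_empty.1 fun hne => ?_))
  obtain ⟨x, hx, z₀, rfl⟩ := hZ _ (isClosed_sectSupp F _ (s - t)) hne
  let η := algPoint Z z₀ ≫ i
  let ξ : FibrePts i η := ⟨algPoint Z z₀, rfl⟩
  have h : gm F η _ (topPt η) (s - t) = 0 := by
    refine (bijective_toPull i ξ F).1 ?_
    rw [← gm_unit i ξ F, map_zero]
    have e : ((EtCoh.pullPushAdj i).unit.app F).hom.app (op (EtCoh.top X)) (s - t) = 0 :=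
      (map_sub _ _ _).trans (sub_eq_zero.2 hst)
    exact (congrArg _ e).trans (map_zero _)
  refine not_mem_sectSupp_of_germ_eq_zero F η _ _ _ h ?_
  rw [show fiberPt (topPt η) = i z₀ from congrArg i (algPoint_default Z z₀)]
  exact hx

section Surjective

variable {X' : Scheme.{u}} (π : X' ⟶ X)
  (σ : EtCoh.sect ((EtCoh.pull i).obj F) ((EtCoh.bc i).obj (EtCoh.top X)))

/-- `m` is the germ prescribed on the cover. -/
def Good (y : X') (m : (EtCoh.stalk (algPoint X' y)).obj ((EtCoh.pull π).obj F)) : Prop :=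
  ∃ (ξ₀ : FibrePts i (algPoint X' y ≫ π)) (e : (EtCoh.stalk (algPoint X' y ≫ π)).obj F),
    toPull π (algPoint X' y ≫ π) ⟨algPoint X' y, rfl⟩ F e = m ∧ IsLift i F σ ξ₀ e

theorem Good.unique {y : X'} {m m' : (EtCoh.stalk (algPoint X' y)).obj ((EtCoh.pull π).obj F)}
    (h : Good i F π σ y m) (h' : Good i F π σ y m') : m = m' := by
  obtain ⟨ξ₀, e, rfl, he⟩ := h
  obtain ⟨ξ₁, e', rfl, he'⟩ := h'
  rw [isLift_unique i F σ he he']

/-- Pull backs of local data are good. -/
theorem good_of_pt {V : X.Etale} {O : V.left.Opens} {t : EtCoh.sect F V}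
    (hO : ∀ (Ω : Type u) [Field Ω] [IsSepClosed Ω] (η : Spec (CommRingCat.of Ω) ⟶ X) (ξ₀ : FibrePts i η)
      (v : (Scheme.pointSmallEtale η).fiber.obj V), fiberPt v ∈ O → IsLift i F σ ξ₀ (gm F η V v t))
    (y : X') (hy : π y ∈ Set.range i)
    (w : (Scheme.pointSmallEtale (algPoint X' y)).fiber.obj ((EtCoh.bc π).obj V))
    (hw : EtShriek.prV π V (fiberPt w) ∈ O) :
    Good i F π σ y (gm ((EtCoh.pull π).obj F) _ _ w
      (((EtCoh.pullPushAdj π).unit.app F).hom.app (op V) t)) := by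
  let ξ : FibrePts π (algPoint X' y ≫ π) := ⟨algPoint X' y, rfl⟩
  obtain ⟨v, rfl⟩ : ∃ v, bcLift π _ ξ V v = w :=
    ⟨(bcLiftEquiv π _ ξ V).symm w, (bcLiftEquiv π _ ξ V).apply_symm_apply w⟩
  obtain ⟨ξ₀⟩ := exists_fibrePts i (algPoint X' y ≫ π) (by
    change π (algPoint X' y default) ∈ _
    rwa [algPoint_default])
  refine ⟨ξ₀, gm F _ V v t, (gm_unit π ξ F V v t).symm, hO _ _ ξ₀ v ?_⟩
  rwa [← prV_pt π _ ξ V v]

variable [CompactSpace X] [QuasiSeparatedSpace X] [IsIntegralHom π]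

/-- The section on the cover. -/
theorem exists_good_section (h : IsConnectedCouple X (Set.range i))
    (hstr : ∀ y : X', EtCoh.IsStrictlyHenselianLocalRing (X'.presheaf.stalk y)) :
    ∃ T : EtCoh.sect ((EtCoh.pull π).obj F) ((EtCoh.bc π).obj (EtCoh.top X)),
      ∀ (y : X') (w : (Scheme.pointSmallEtale (algPoint X' y)).fiber.obj ((EtCoh.bc π).obj (EtCoh.top X))),
        π y ∈ Set.range i → Good i F π σ y (gm ((EtCoh.pull π).obj F) _ _ w T) := by
  classical
  let M := (EtCoh.pull π).obj F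
  have hdata : ∀ k : ↥(π ⁻¹' Set.range i), ∃ (N : X'.Opens) (s : EtCoh.sect M (opObj N)),
      k.1 ∈ N ∧ ∀ (y : X') (hy : y ∈ N), π y ∈ Set.range i → Good i F π σ y (gmOpen M N y hy s) := by
    rintro ⟨y₀, z₀, hz₀⟩
    obtain ⟨V, O, t, u, huO, hu, hO⟩ := exists_local i F σ z₀
    let P := (EtCoh.bc π).obj V
    obtain ⟨p, hp1, hp2⟩ :=
      Scheme.Pullback.exists_preimage_pullback (f := V.hom) (g := π) u y₀ (hu.trans hz₀)
    obtain ⟨N, hyN, g, hg⟩ := exists_nhd_section y₀ (hstr y₀) P p hp2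
    let N' : X'.Opens := N.ι ''ᵁ (g.left ⁻¹ᵁ (EtShriek.prV π V ⁻¹ᵁ O))
    have hle : N' ≤ N := N.ι_image_le _
    refine ⟨N', M.obj.map (opHom hle ≫ g).op (((EtCoh.pullPushAdj π).unit.app F).hom.app (op V) t),
      ⟨⟨y₀, hyN⟩, ?_, rfl⟩, fun y hy hyZ => ?_⟩
    · change pullback.fst V.hom π (g.left ⟨y₀, hyN⟩) ∈ O
      rw [hg]
      exact hp1.symm ▸ huO
    · change Good i F π σ y (gm M _ _ _ _)
      rw [gm_map]
      refine good_of_pt i F π σ hO y hyZ _ ?_
      rw [← fiberPt_map, show fiberPt (opFib N' y hy) = (⟨y, hy⟩ : N'.toScheme) from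
        (exists_opFib N' y hy).choose_spec]
      obtain ⟨q, hq, hqy⟩ := hy
      have h1 : X'.homOfLE hle ⟨y, ⟨q, hq, hqy⟩⟩ = q :=
        Subtype.ext ((X'.homOfLE_apply hle _).trans hqy.symm)
      change EtShriek.prV π V (g.left (X'.homOfLE hle ⟨y, ⟨q, hq, hqy⟩⟩)) ∈ O
      rw [h1]
      exact hq
  choose N s hkN hgood using hdata
  have : CompactSpace X' := QuasiCompact.compactSpace_of_compactSpace π
  have : QuasiSeparatedSpace X' := quasiSeparatedSpace_of_quasiSeparated π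
  have : SpectralSpace X' := {}
  obtain ⟨T, hT⟩ := exists_glue (germSystem M) (π ⁻¹' Set.range i)
    (h.isClosed.preimage π.continuous) (fun y => h.isConnected_inter_closure π y) N hkN s
    (fun k l z hk hl => (hgood k z.1 hk z.2).unique i F π σ (hgood l z.1 hl z.2))
  let a : (EtCoh.bc π).obj (EtCoh.top X) ⟶ opObj (⊤ : X'.Opens) :=
    MorphismProperty.Over.homMk (((EtCoh.bc π).obj (EtCoh.top X)).hom ≫ X'.topIso.inv) (by
      rw [Category.assoc]
      change _ ≫ X'.topIso.inv ≫ X'.topIso.hom = _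
      rw [Iso.inv_hom_id, Category.comp_id])
  refine ⟨M.obj.map a.op T, fun y w hy => ?_⟩
  rw [gm_map, gm_opObj M ⊤ y trivial]
  exact (congrArg (Good i F π σ y) (hT ⟨y, hy⟩)).mpr (hgood ⟨y, hy⟩ y (hkN ⟨y, hy⟩) hy)

/-- Surjectivity. -/
theorem surjective_unit (h : IsConnectedCouple X (Set.range i)) (hπ : Function.Surjective π)
    (hstr : ∀ y : X', EtCoh.IsStrictlyHenselianLocalRing (X'.presheaf.stalk y)) :
    ∃ s : EtCoh.sect F (EtCoh.top X), ((EtCoh.pullPushAdj i).unit.app F).hom.app (op (EtCoh.top X)) s = σ := by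
  classical
  obtain ⟨T, hT⟩ := exists_good_section i F π σ h hstr
  let G := (EtCoh.push π).obj ((EtCoh.pull π).obj F)
  let uG : F ⟶ G := (EtCoh.pullPushAdj π).unit.app F
  have : Mono uG := by
    refine mono_of_stalks_family (ι := ULift.{u + 1} X') (fun y => algPoint X' y.down ≫ π) (fun x => ?_)
      _ fun y => ?_
    · obtain ⟨y, rfl⟩ := hπ x
      exact ⟨⟨y⟩, congrArg π (algPoint_default X' y)⟩
    · intro a b hab
      refine (bijective_toPull π ⟨algPoint X' y.down, rfl⟩ F).1 ?_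
      exact congrArg ((fibreNat π (algPoint X' y.down ≫ π) AddCommGrpCat.{u + 1}
        ⟨algPoint X' y.down, rfl⟩).app ((EtCoh.pull π).obj F)) hab
  let p := cokernel.π uG
  have hq : p.hom.app (op (EtCoh.top X)) T = 0 := by
    refine eq_zero_of_sectSupp_eq_empty (cokernel uG) (EtCoh.top X) _
      (Set.not_nonempty_iff_eq_empty.1 fun hne => ?_)
    obtain ⟨x, hx, z₀, hz₀⟩ := h.meets _ (isClosed_sectSupp _ _ _) hne
    obtain ⟨V, O, t, u, huO, hu, hO⟩ := exists_local i F σ z₀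
    let aV := (EtCore.topIsTerminal X).from V
    let φ : ((EtCoh.bc π).obj V).left ⟶ V.left := EtShriek.prV π V
    have : IsIntegralHom φ := MorphismProperty.pullback_fst (P := @IsIntegralHom) _ _ ‹_›
    let d : EtCoh.sect ((EtCoh.pull π).obj F) ((EtCoh.bc π).obj V) :=
      uAt π F V t - ((EtCoh.pull π).obj F).obj.map ((EtCoh.bc π).map aV).op T
    have hd : ∀ b : ((EtCoh.bc π).obj V).left, φ b ∈ O → π (pullback.snd V.hom π b) ∈ Set.range i →
        b ∉ EtShriek.sectSupp _ _ d := by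
      intro b hbO hbZ
      obtain ⟨w, hw⟩ := exists_fiber_point (algPoint X' (pullback.snd V.hom π b))
        ((EtCoh.bc π).obj V) b (algPoint_default X' _).symm
      intro hbs
      refine not_mem_sectSupp_of_germ_eq_zero _ _ _ d w ((map_sub _ _ _).trans (sub_eq_zero.2 ?_))
        (hw.symm ▸ hbs)
      refine Good.unique i F π σ (good_of_pt i F π σ hO _ hbZ w (by rw [hw]; exact hbO)) ?_
      exact (congrArg (Good i F π σ _) (gm_map _ _ ((EtCoh.bc π).map aV) w T)).mpr (hT _ _ hbZ)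
    let C : Set V.left := φ '' EtShriek.sectSupp _ _ d
    have hC : IsClosed C := φ.isClosedMap _ (isClosed_sectSupp _ _ d)
    have huC : u ∉ C := by
      rintro ⟨b, hb, hbu⟩
      refine hd b (hbu.symm ▸ huO) ?_ hb
      have hc : π (pullback.snd V.hom π b) = V.hom (φ b) :=
        congrArg (fun k : pullback V.hom π ⟶ X => k b) pullback.condition.symm
      rw [hc, hbu, hu]
      exact ⟨z₀, rfl⟩
    let O' : V.left.Opens := ⟨(O : Set V.left) \ C, O.2.sdiff hC⟩
    let e := etalePieceHom V O'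
    have he : G.obj.map e.op (uG.hom.app (op V) t) = G.obj.map e.op (G.obj.map aV.op T) := by
      refine sub_eq_zero.1 ((map_sub _ _ _).symm.trans ?_)
      change ((EtCoh.pull π).obj F).obj.map ((EtCoh.bc π).map e).op d = 0
      refine eq_zero_of_germs ((EtCoh.pull π).obj F) ((EtCoh.bc π).obj (etalePiece V O'))
        (((EtCoh.pull π).obj F).obj.map ((EtCoh.bc π).map e).op d) fun b v hv => ?_
      rw [gm_map]
      refine germ_eq_zero_of_not_mem_sectSupp _ _ _ d _ fun hmem => ?_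
      rw [← fiberPt_map, hv] at hmem
      have hsq : φ (((EtCoh.bc π).map e).left b) = e.left (EtShriek.prV π (etalePiece V O') b) :=
        congrArg (fun k => k b) (EtCoh.isPullback_bc_map π e).w
      have hmem' : φ (((EtCoh.bc π).map e).left b) ∈ O' := by
        rw [hsq]
        exact (EtShriek.prV π (etalePiece V O') b).2
      exact hmem'.2 ⟨_, hmem, rfl⟩
    refine hx (etalePiece V O') (e ≫ aV) ⟨⟨u, huO, huC⟩, ?_⟩ ?_
    · have hw : aV.left ≫ 𝟙 X = V.hom := Over.w aV.hom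
      have hw' : aV.left = V.hom := (Category.comp_id _).symm.trans hw
      change aV.left u = x
      exact (congrArg (fun k : V.left ⟶ X => k u) hw').trans (hu.trans hz₀)
    · have hnat : ∀ {U W : X.Etale} (g : W ⟶ U) (c : EtCoh.sect G U),
          (cokernel uG).obj.map g.op (p.hom.app (op U) c) = p.hom.app (op W) (G.obj.map g.op c) :=
        fun g c => (ConcreteCategory.congr_hom (p.hom.naturality g.op) c).symm
      rw [hnat, op_comp, Functor.map_comp, ConcreteCategory.comp_apply, ← he]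
      have hz : ∀ {U : X.Etale} (c : EtCoh.sect F U), p.hom.app (op U) (uG.hom.app (op U) c) = 0 :=
        fun {U} c => by
          have h0 := ConcreteCategory.congr_hom
            (congrArg (fun k : F ⟶ cokernel uG => k.hom.app (op U)) (cokernel.condition uG)) c
          exact h0
      rw [← hnat, hz, map_zero]
  -- exactness on sections
  obtain ⟨s, hs⟩ : ∃ s : EtCoh.sect F (EtCoh.top X), uG.hom.app (op (EtCoh.top X)) s = T := by
    let ev : EtCoh.Ab X ⥤ AddCommGrpCat.{u + 1} :=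
      sheafToPresheaf _ _ ⋙ (evaluation _ _).obj (op (EtCoh.top X))
    have hk := KernelFork.mapIsLimit _
      (Abelian.monoIsKernelOfCokernel _ (cokernelIsCokernel uG)) ev
    let k₀ : AddCommGrpCat.of (ULift.{u + 1} ℤ) ⟶ ev.obj G :=
      AddCommGrpCat.ofHom (AddMonoidHom.comp (zmultiplesHom _ T) AddEquiv.ulift.toAddMonoidHom)
    obtain ⟨l, hl⟩ := KernelFork.IsLimit.lift' hk k₀ (by
      ext n
      change ev.map p (n.down • T) = 0
      rw [map_zsmul]
      exact (congrArg (n.down • ·) hq).trans (smul_zero _))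
    refine ⟨l ⟨1⟩, ?_⟩
    exact (ConcreteCategory.congr_hom hl ⟨1⟩).trans (one_zsmul T)
  refine ⟨s, sub_eq_zero.1 (eq_zero_of_sectSupp_eq_empty ((EtCoh.pull i).obj F) _
    (uAt i F (EtCoh.top X) s - σ)
    (Set.eq_empty_iff_forall_notMem.2 fun b hb => ?_))⟩
  obtain ⟨y, hy⟩ := hπ (i (((EtCoh.bc i).obj (EtCoh.top X)).hom b))
  let ξ : FibrePts π (algPoint X' y ≫ π) := ⟨algPoint X' y, rfl⟩
  let η := algPoint X' y ≫ π
  have hgood := hT y (bcLift π η ξ (EtCoh.top X) (topPt η)) ⟨_, hy.symm⟩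
  rw [← hs] at hgood
  obtain ⟨ξ₀, e, he, hlift⟩ := hgood
  obtain rfl : e = gm F η _ (topPt η) s :=
    (bijective_toPull π ξ F).1 (he.trans (gm_unit π ξ F _ (topPt η) s))
  have hpt : fiberPt (bcLift i η ξ₀ (EtCoh.top X) (topPt η)) = b := by
    have : IsIso ((EtCoh.bc i).obj (EtCoh.top X)).hom :=
      inferInstanceAs (IsIso (pullback.snd (𝟙 X) i))
    refine ((EtCoh.bc i).obj (EtCoh.top X)).hom.isOpenEmbedding.injective
      (i.isClosedEmbedding.injective ?_)
    rw [hom_fiberPt]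
    refine (congrArg (fun k : Spec (CommRingCat.of _) ⟶ X => k default) ξ₀.2).trans ?_
    exact (congrArg π (algPoint_default X' y)).trans hy
  refine not_mem_sectSupp_of_germ_eq_zero _ _ _ _ (bcLift i η ξ₀ (EtCoh.top X) (topPt η)) ?_ (hpt ▸ hb)
  exact (map_sub _ _ _).trans (sub_eq_zero.2 ((gm_unit i ξ₀ F _ _ s).trans hlift))

end Surjective

/-- Global sections of any abelian sheaf on a connected couple restrict bijectively. -/
theorem bijective_unit [CompactSpace X] [QuasiSeparatedSpace X]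
    (h : IsConnectedCouple X (Set.range i)) :
    Function.Bijective (((EtCoh.pullPushAdj i).unit.app F).hom.app (op (EtCoh.top X))) := by
  obtain ⟨X', π, hπ, hsurj, hstr⟩ := exists_strictlyHenselian_cover X
  exact ⟨injective_unit i F h.meets, fun σ => surjective_unit i F π σ h π.surjective hstr⟩

end Groth.Agent.Et18.H0Lift
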