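import Groth.Agent.Et18.H0Lift.ProperStalk
import Groth.Agent.Et18.StrictlyHenselBase
import Groth.Agent.Et18.SHull

/-!
# Stalks of direct images as sections over the strict localization
-/

set_option autoImplicit false
set_option backward.isDefEq.respectTransparency.types false
set_option backward.isDefEq.respectTransparency false

universe u

open CategoryTheory CategoryTheory.Limits AlgebraicGeometry Opposite TopologicalSpace IsLocalRing

namespace Groth.Agent.Et18.H0Lift

variable {X Y Z : Scheme.{u}} (F : EtCoh.Ab X) {f : X ⟶ Y}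
  {H : Type u} [CommRing H] [HenselianLocalRing H] [IsSepClosed (ResidueField H)]
  {Ω : Type u} [Field Ω] [IsSepClosed Ω] (ρ : ResidueField H →+* Ω)
  {sH : Spec (CommRingCat.of H) ⟶ Y} {q : Z ⟶ X} {p : Z ⟶ Spec (CommRingCat.of H)}
  (sq : IsPullback q p f sH)

/-- The closed geometric point of a strictly local scheme. -/
noncomputable abbrev cPt : Spec (CommRingCat.of Ω) ⟶ Spec (CommRingCat.of H) :=
  Spec.map (CommRingCat.ofHom (ρ.comp (residue H)))

/-- Étale neighbourhoods receive the strictly local scheme. -/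
theorem exists_strictSig (V : Y.Etale) (v : (Scheme.pointSmallEtale (cPt ρ ≫ sH)).fiber.obj V) :
    ∃ σ : Spec (CommRingCat.of H) ⟶ V.left, σ ≫ V.hom = sH ∧ cPt ρ ≫ σ = (v.left : _ ⟶ V.left) := by
  let B := (EtCoh.bc sH).obj V
  let vl : Spec (CommRingCat.of Ω) ⟶ V.left := v.left
  let b : Spec (CommRingCat.of Ω) ⟶ pullback V.hom sH := pullback.lift vl (cPt ρ) (Over.w v)
  obtain ⟨s, hs⟩ := exists_section_of_residue H ρ B (Over.homMk b (pullback.lift_snd _ _ _))
  let sl : Spec (CommRingCat.of H) ⟶ pullback V.hom sH := s.left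
  refine ⟨sl ≫ pullback.fst V.hom sH, ?_, ?_⟩
  · have h : sl ≫ pullback.snd V.hom sH = 𝟙 _ := Over.w s.hom
    rw [Category.assoc, pullback.condition, reassoc_of% h]
  · rw [← Category.assoc, show cPt ρ ≫ sl = b from hs, pullback.lift_fst]

omit [HenselianLocalRing H] [IsSepClosed (ResidueField H)] in
/-- Lifts of the strictly local scheme to étale objects are determined by the closed point. -/
theorem strictSig_unique [IsLocalRing H] (V : Y.Etale) (σ₁ σ₂ : Spec (CommRingCat.of H) ⟶ V.left)
    (h : σ₁ ≫ V.hom = σ₂ ≫ V.hom) {K : Type u} [Field K] (c : Spec (CommRingCat.of K) ⟶ Spec (CommRingCat.of H))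
    (hc : c default = closedPoint H) (he : c ≫ σ₁ = c ≫ σ₂) : σ₁ = σ₂ := by
  have : Etale V.hom := V.prop
  let d := pullback.diagonal V.hom
  let l := pullback.lift σ₁ σ₂ h
  have hcl : l (closedPoint H) ∈ d.opensRange := by
    refine ⟨(c ≫ σ₁) default, ?_⟩
    rw [← hc]
    change ((c ≫ σ₁) ≫ d) default = (c ≫ l) default
    refine congrArg (fun k : _ ⟶ pullback V.hom V.hom => k default) (pullback.hom_ext ?_ ?_)
    · simp only [d, l, Category.assoc, pullback.diagonal_fst, pullback.lift_fst, Category.comp_id]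
    · simp only [d, l, Category.assoc, pullback.diagonal_snd, pullback.lift_snd, Category.comp_id, he]
  have hr : Set.range l ⊆ Set.range d := by
    rintro _ ⟨z, rfl⟩
    exact ((IsLocalRing.specializes_closedPoint z).map l.continuous).mem_open d.opensRange.isOpen hcl
  let k := IsOpenImmersion.lift d l hr
  have hk : k ≫ d = l := IsOpenImmersion.lift_fac _ _ _
  have h1 := congrArg (· ≫ pullback.fst V.hom V.hom) hk
  have h2 := congrArg (· ≫ pullback.snd V.hom V.hom) hk
  simp only [d, l, Category.assoc, pullback.diagonal_fst, pullback.diagonal_snd, pullback.lift_fst,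
    pullback.lift_snd, Category.comp_id] at h1 h2
  exact h1.symm.trans h2

omit [IsSepClosed (ResidueField H)] [IsSepClosed Ω] in
theorem cPt_default : cPt ρ default = closedPoint H := by
  have : IsLocalHom (CommRingCat.ofHom (ρ.comp (residue H))).hom := RingHom.isLocalHom_comp ρ (residue H)
  refine (congrArg (cPt ρ) (Subsingleton.elim (α := PrimeSpectrum Ω) _ (closedPoint Ω))).trans ?_
  exact Spec_closedPoint (f := CommRingCat.ofHom (ρ.comp (residue H)))

/-- The chosen lift of the strictly local scheme. -/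
noncomputable def strictSig (V : Y.Etale) (v : (Scheme.pointSmallEtale (cPt ρ ≫ sH)).fiber.obj V) :
    Spec (CommRingCat.of H) ⟶ V.left :=
  (exists_strictSig ρ V v).choose

theorem strictSig_hom (V : Y.Etale) (v : (Scheme.pointSmallEtale (cPt ρ ≫ sH)).fiber.obj V) :
    strictSig ρ V v ≫ V.hom = sH :=
  (exists_strictSig ρ V v).choose_spec.1

theorem cPt_strictSig (V : Y.Etale) (v : (Scheme.pointSmallEtale (cPt ρ ≫ sH)).fiber.obj V) :
    cPt ρ ≫ strictSig ρ V v = (v.left : _ ⟶ V.left) :=
  (exists_strictSig ρ V v).choose_spec.2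

include sq in
theorem strictLift_aux (V : Y.Etale) (σ : Spec (CommRingCat.of H) ⟶ V.left) (hσ : σ ≫ V.hom = sH) :
    (p ≫ σ) ≫ V.hom = q ≫ f := by
  rw [Category.assoc, hσ, sq.w]

/-- The map into a base changed neighbourhood. -/
noncomputable abbrev strictLift (V : Y.Etale) (σ : Spec (CommRingCat.of H) ⟶ V.left) (hσ : σ ≫ V.hom = sH) :
    Z ⟶ ((EtCoh.bc f).obj V).left :=
  pullback.lift (p ≫ σ) q (strictLift_aux sq V σ hσ)

theorem strictLift_hom (V : Y.Etale) (σ : Spec (CommRingCat.of H) ⟶ V.left) (hσ : σ ≫ V.hom = sH) :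
    strictLift sq V σ hσ ≫ ((EtCoh.bc f).obj V).hom = q :=
  pullback.lift_snd _ _ _

theorem strictLift_map {U V : Y.Etale} (a : U ⟶ V) (σ : Spec (CommRingCat.of H) ⟶ U.left)
    (hσ : σ ≫ U.hom = sH) (τ : Spec (CommRingCat.of H) ⟶ V.left) (hτ : τ ≫ V.hom = sH)
    (he : σ ≫ a.left = τ) :
    strictLift sq U σ hσ ≫ ((EtCoh.bc f).map a).left = strictLift sq V τ hτ := by
  refine pullback.hom_ext ?_ ?_
  · change (strictLift sq U σ hσ ≫ ((EtCoh.bc f).map a).left) ≫ EtShriek.prV f V =
      strictLift sq V τ hτ ≫ EtShriek.prV f V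
    rw [Category.assoc, show ((EtCoh.bc f).map a).left ≫ EtShriek.prV f V = EtShriek.prV f U ≫ a.left from
      (EtCoh.isPullback_bc_map f a).w]
    refine ((Category.assoc _ _ _).symm.trans (congrArg (· ≫ a.left) (pullback.lift_fst _ _ _))).trans ?_
    refine ((Category.assoc _ _ _).trans (congrArg (p ≫ ·) he)).trans ?_
    exact (pullback.lift_fst _ _ _).symm
  · exact ((Category.assoc _ _ _).trans (congrArg (strictLift sq U σ hσ ≫ ·)
      (Over.w ((EtCoh.bc f).map a).hom))).trans ((strictLift_hom sq U σ hσ).trans (strictLift_hom sq V τ hτ).symm)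

/-- From the stalk of a direct image to the sections over the strict localization. -/
noncomputable def toStrictSec :
    (EtCoh.stalk (cPt ρ ≫ sH)).obj ((EtCoh.push f).obj F) ⟶ ((EtCoh.pull q).obj F).obj.obj (op (EtCoh.top Z)) :=
  (Scheme.pointSmallEtale (cPt ρ ≫ sH)).presheafFiberDesc
    (fun V v => ((EtCoh.pullPushAdj q).unit.app F).hom.app (op ((EtCoh.bc f).obj V)) ≫
      ((EtCoh.pull q).obj F).obj.map (sectionHom _ (strictLift sq V (strictSig ρ V v) (strictSig_hom ρ V v))
        (strictLift_hom sq V _ _)).op)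
    (fun U V a u => by
      ext s
      refine Eq.trans (pullAt_map F ((EtCoh.bc f).map a) (strictLift sq U _ (strictSig_hom ρ U u))
        (strictLift_hom sq U _ _) s) ?_
      refine pullAt_congr F (strictLift_map sq a _ _ _ _ ?_) s
      refine strictSig_unique V _ _ ?_ (cPt ρ) (cPt_default ρ) ?_
      · rw [Category.assoc, show a.left ≫ V.hom = U.hom from Over.w a.hom]
        exact (strictSig_hom ρ U u).trans (strictSig_hom ρ V _).symm
      · rw [← Category.assoc, cPt_strictSig, cPt_strictSig]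
        rfl)

theorem toStrictSec_gm (V : Y.Etale) (v : (Scheme.pointSmallEtale (cPt ρ ≫ sH)).fiber.obj V)
    (s : EtCoh.sect F ((EtCoh.bc f).obj V)) (σ : Spec (CommRingCat.of H) ⟶ V.left) (hσ : σ ≫ V.hom = sH)
    (hv : cPt ρ ≫ σ = (v.left : _ ⟶ V.left)) :
    toStrictSec F ρ sq (gm ((EtCoh.push f).obj F) (cPt ρ ≫ sH) V v s) =
      pullAt F ((EtCoh.bc f).obj V) (strictLift sq V σ hσ) (strictLift_hom sq V σ hσ) s := by
  refine (ConcreteCategory.congr_hom ((Scheme.pointSmallEtale (cPt ρ ≫ sH)).toPresheafFiber_presheafFiberDesc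
    (P := ((EtCoh.push f).obj F).obj) _ _ V v) s).trans ?_
  refine pullAt_congr F ?_ s
  congr 2
  exact strictSig_unique V _ _ ((strictSig_hom ρ V v).trans hσ.symm) (cPt ρ) (cPt_default ρ)
    ((cPt_strictSig ρ V v).trans hv.symm)

open HenselLib

variable {A : Type u} [CommRing A] [Algebra A H] {K : Type u} [Field K] [IsSepClosed K] [Algebra A K]
  (g₀ : Spec (CommRingCat.of A) ⟶ Y) [Etale g₀]

set_option maxHeartbeats 1600000 in
/-- The stalk of a quasi-compact quasi-separated direct image is the group of sections over the strict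
localization. -/
theorem bijective_toStrictSec [QuasiCompact f] [QuasiSeparated f] (e : Hull A K ≃ₐ[A] H)
    (hsH : sH = Spec.map (CommRingCat.ofHom (algebraMap A H)) ≫ g₀) :
    Function.Bijective (toStrictSec F ρ sq) := by
  let D : (Pt A K)ᵒᵖ ⥤ X.Etale := nbhdDiag g₀ ⋙ EtCoh.bc f
  let D₀ := (hullDiagram A K).op ⋙ Scheme.Spec
  let eC : Spec (CommRingCat.of H) ≅ Spec (CommRingCat.of (Hull A K)) :=
    Scheme.Spec.mapIso e.toRingEquiv.toCommRingCatIso.op
  let base₀ : Cone D₀ := Scheme.Spec.mapCone (colimit.cocone (hullDiagram A K)).op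
  have hbase₀ : IsLimit base₀ := isLimitOfPreserves Scheme.Spec (colimit.isColimit (hullDiagram A K)).op
  let eC' : Spec (CommRingCat.of H) ⟶ base₀.pt := eC.hom
  have : IsIso eC' := inferInstanceAs (IsIso eC.hom)
  let base : Cone D₀ := base₀.extend eC'
  have hbase : IsLimit base := IsLimit.extendIso (s := base₀) eC' hbase₀
  let ιS : ∀ P : (Pt A K)ᵒᵖ, Spec (CommRingCat.of H) ⟶ (nbhd g₀ P.unop).left := fun P => base.π.app P
  have hιS : ∀ P, ιS P ≫ (nbhd g₀ P.unop).hom = sH := fun P => by
    rw [hsH]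
    change (Spec.map _ ≫ Spec.map _) ≫ Spec.map _ ≫ g₀ = _
    rw [← Category.assoc, ← Spec.map_comp, ← Spec.map_comp]
    refine congrArg (fun k => Spec.map k ≫ g₀) (CommRingCat.hom_ext (RingHom.ext fun r => ?_))
    exact (congrArg e ((ι P.unop).commutes r)).trans (e.commutes r)
  let pt : ∀ P : (Pt A K)ᵒᵖ, (Scheme.pointSmallEtale (cPt ρ ≫ sH)).fiber.obj (nbhd g₀ P.unop) := fun P =>
    Over.homMk (cPt ρ ≫ ιS P) ((Category.assoc _ _ _).trans (congrArg (cPt ρ ≫ ·) (hιS P)))
  let c : Cone (schemes D) :=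
    { pt := Z
      π :=
        { app := fun P => strictLift sq (nbhd g₀ P.unop) (ιS P) (hιS P)
          naturality := fun P Q a => (Category.id_comp _).trans
            (strictLift_map sq ((nbhdDiag g₀).map a) _ _ _ _ (base.w a)).symm } }
  have hw : ∀ P, c.π.app P ≫ (D.obj P).hom = q := fun P => pullback.lift_snd _ _ _
  obtain ⟨P₀⟩ : Nonempty (Pt A K)ᵒᵖ := IsCofiltered.nonempty
  let cs : Cone (schemes D) → Cone D₀ := fun t =>
    { pt := t.pt
      π :=
        { app := fun P => t.π.app P ≫ EtShriek.prV f (nbhd g₀ P.unop)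
          naturality := fun P Q a => by
            refine (Category.id_comp _).trans ?_
            rw [← t.w a]
            exact (Category.assoc _ _ _).trans ((congrArg (t.π.app P ≫ ·)
              (EtCoh.isPullback_bc_map f ((nbhdDiag g₀).map a)).w).trans (Category.assoc _ _ _).symm) } }
  have hX : ∀ (t : Cone (schemes D)) (P Q : (Pt A K)ᵒᵖ),
      t.π.app P ≫ (D.obj P).hom = t.π.app Q ≫ (D.obj Q).hom := by
    intro t P Q
    obtain ⟨S, u, v, -⟩ := IsCofilteredOrEmpty.cone_objs P Q
    rw [← t.w u, ← t.w v]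
    exact (Category.assoc _ _ _).trans ((congrArg (t.π.app S ≫ ·) (Over.w (D.map u).hom)).trans
      ((congrArg (t.π.app S ≫ ·) (Over.w (D.map v).hom)).symm.trans (Category.assoc _ _ _).symm))
  have hlift : ∀ t, (t.π.app P₀ ≫ (D.obj P₀).hom) ≫ f = hbase.lift (cs t) ≫ sH := by
    intro t
    have h1 : hbase.lift (cs t) ≫ ιS P₀ = t.π.app P₀ ≫ EtShriek.prV f (nbhd g₀ P₀.unop) :=
      hbase.fac (cs t) P₀
    rw [← hιS P₀, ← Category.assoc (hbase.lift (cs t)), h1, Category.assoc, Category.assoc]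
    exact congrArg (t.π.app P₀ ≫ ·) pullback.condition.symm
  have hc : IsLimit c :=
    { lift := fun t => sq.lift (t.π.app P₀ ≫ (D.obj P₀).hom) (hbase.lift (cs t)) (hlift t)
      fac := fun t P => by
        refine pullback.hom_ext ?_ ?_
        · refine (Category.assoc _ _ _).trans ((congrArg (_ ≫ ·)
            (pullback.lift_fst _ _ _)).trans ((Category.assoc _ _ _).symm.trans ?_))
          exact (congrArg (· ≫ ιS P) (sq.lift_snd _ _ _)).trans (hbase.fac (cs t) P)
        · refine (Category.assoc _ _ _).trans ((congrArg (_ ≫ ·) (pullback.lift_snd _ _ _)).trans ?_)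
          exact (sq.lift_fst _ _ _).trans (hX t P₀ P)
      uniq := fun t k hk => by
        refine sq.hom_ext ?_ ((hbase.uniq (cs t) _ fun P => ?_).trans (sq.lift_snd _ _ _).symm)
        · refine Eq.trans ?_ (sq.lift_fst _ _ _).symm
          rw [← hk P₀]
          exact (congrArg (k ≫ ·) (hw P₀)).symm.trans (Category.assoc _ _ _).symm
        · change (k ≫ p) ≫ ιS P = t.π.app P ≫ _
          rw [← hk P, Category.assoc, Category.assoc]
          exact congrArg (k ≫ ·) (pullback.lift_fst _ _ _).symm }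
  have haff : ∀ {P Q : (Pt A K)ᵒᵖ} (a : P ⟶ Q), IsAffineHom ((schemes D).map a) := fun {P Q} a => by
    have : IsAffineHom ((nbhdDiag g₀).map a).left :=
      inferInstanceAs (IsAffineHom (Spec.map (CommRingCat.ofHom a.unop.map.toRingHom)))
    exact MorphismProperty.of_isPullback (P := @IsAffineHom)
      (EtCoh.isPullback_bc_map f ((nbhdDiag g₀).map a)).flip this
  have : ∀ P : (Pt A K)ᵒᵖ, CompactSpace ↥((𝟭 Scheme).obj (nbhd g₀ P.unop).left) := fun P =>
    inferInstanceAs (CompactSpace ↥(Spec (CommRingCat.of P.unop.Ring)))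
  have : ∀ P : (Pt A K)ᵒᵖ, QuasiSeparatedSpace ↥((𝟭 Scheme).obj (nbhd g₀ P.unop).left) := fun P =>
    inferInstanceAs (QuasiSeparatedSpace ↥(Spec (CommRingCat.of P.unop.Ring)))
  have : ∀ P, CompactSpace (D.obj P).left := fun P =>
    QuasiCompact.compactSpace_of_compactSpace
      (pullback.fst (nbhd g₀ P.unop).hom f : (D.obj P).left ⟶ Spec (CommRingCat.of P.unop.Ring))
  have : ∀ P, QuasiSeparatedSpace (D.obj P).left := fun P =>
    quasiSeparatedSpace_of_quasiSeparated
      (pullback.fst (nbhd g₀ P.unop).hom f : (D.obj P).left ⟶ Spec (CommRingCat.of P.unop.Ring))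
  have key : ∀ P (s : EtCoh.sect F (D.obj P)),
      toStrictSec F ρ sq (gm ((EtCoh.push f).obj F) (cPt ρ ≫ sH) (nbhd g₀ P.unop) (pt P) s) =
        pullAt F (D.obj P) (c.π.app P) (hw P) s :=
    fun P s => toStrictSec_gm F ρ sq _ (pt P) s (ιS P) (hιS P) rfl
  refine ⟨(injective_iff_map_eq_zero (toStrictSec F ρ sq).hom).2 fun ε hε => ?_, fun τ => ?_⟩
  · obtain ⟨V, v, s, rfl⟩ := (Scheme.pointSmallEtale (cPt ρ ≫ sH)).toPresheafFiber_jointly_surjective
      (P := ((EtCoh.push f).obj F).obj) ε
    -- cofinality of the standard neighbourhoods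
    have : Etale V.hom := V.prop
    have : ∀ {P Q : (Pt A K)ᵒᵖ} (a : P ⟶ Q), IsAffineHom (D₀.map a) := fun a =>
      inferInstanceAs (IsAffineHom (Spec.map _))
    have : ∀ P, CompactSpace ↥(D₀.obj P) := fun P =>
      inferInstanceAs (CompactSpace ↥(Spec (CommRingCat.of P.unop.Ring)))
    have : ∀ P, QuasiSeparatedSpace ↥(D₀.obj P) := fun P =>
      inferInstanceAs (QuasiSeparatedSpace ↥(Spec (CommRingCat.of P.unop.Ring)))
    let tD : D₀ ⟶ (Functor.const _).obj Y :=
      { app := fun P => (nbhd g₀ P.unop).hom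
        naturality := fun P Q a => (Over.w ((nbhdDiag g₀).map a).hom).trans (Category.comp_id _).symm }
    obtain ⟨P, l, hl, hlY⟩ := Scheme.exists_π_app_comp_eq_of_locallyOfFinitePresentation D₀ tD V.hom base hbase
      (strictSig ρ V v) (NatTrans.ext (funext fun P => (hιS P).trans (strictSig_hom ρ V v).symm))
    let a : nbhd g₀ P.unop ⟶ V := MorphismProperty.Over.homMk l hlY
    have hv : (Scheme.pointSmallEtale (cPt ρ ≫ sH)).fiber.map a (pt P) = v := by
      refine Over.OverMorphism.ext ?_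
      change (cPt ρ ≫ ιS P) ≫ l = v.left
      rw [Category.assoc, show ιS P ≫ l = strictSig ρ V v from hl, cPt_strictSig]
    rw [← hv]
    refine Eq.trans (gm_map ((EtCoh.push f).obj F) _ a (pt P) s).symm ?_
    let s' : EtCoh.sect F (D.obj P) := F.obj.map ((EtCoh.bc f).map a).op s
    change gm ((EtCoh.push f).obj F) (cPt ρ ≫ sH) (nbhd g₀ P.unop) (pt P) s' = 0
    have h0 : pullAt F (D.obj P) (c.π.app P) (hw P) s' = 0 := by
      rw [← key]
      refine Eq.trans ?_ hε
      refine congrArg _ ((gm_map ((EtCoh.push f).obj F) _ a (pt P) s).trans ?_)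
      rw [hv]
    have : CompactSpace ↥((schemes D).obj P) := inferInstanceAs (CompactSpace ↥(D.obj P).left)
    obtain ⟨Q, φ, hφ⟩ := exists_stage_missing hc (𝟙 ((schemes D).obj P)) (EtShriek.sectSupp F (D.obj P) s')
      (isClosed_sectSupp _ _ _) (fun z hz => by
        have h1 := (mem_sectSupp_pullAt F (D.obj P) (c.π.app P) (hw P) s'
          (pullback.snd (𝟙 ((schemes D).obj P)) (c.π.app P) z)).2 (by
            rw [← Scheme.Hom.comp_apply, ← pullback.condition, Category.comp_id]
            exact hz)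
        rw [h0] at h1
        exact notMem_sectSupp_zero _ _ _ h1)
    have hz : F.obj.map (D.map φ).op s' = 0 := by
      refine eq_zero_of_sectSupp_eq_empty F _ _ (Set.eq_empty_iff_forall_notMem.2 fun z hz => ?_)
      have h1 := (mem_sectSupp_map F (D.map φ) s' z).1 hz
      obtain ⟨w, hw1, -⟩ := Scheme.Pullback.exists_preimage_pullback (f := 𝟙 ((schemes D).obj P))
        (g := (schemes D).map φ) ((schemes D).map φ z) z rfl
      exact hφ w (hw1 ▸ h1)
    have hpt : (Scheme.pointSmallEtale (cPt ρ ≫ sH)).fiber.map ((nbhdDiag g₀).map φ) (pt Q) = pt P := by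
      refine Over.OverMorphism.ext ?_
      change (cPt ρ ≫ ιS Q) ≫ ((nbhdDiag g₀).map φ).left = cPt ρ ≫ ιS P
      rw [Category.assoc]
      exact congrArg (cPt ρ ≫ ·) (base.w φ)
    rw [← hpt]
    refine (gm_map ((EtCoh.push f).obj F) _ ((nbhdDiag g₀).map φ) (pt Q) s').symm.trans ?_
    exact (congrArg (gm ((EtCoh.push f).obj F) _ (nbhd g₀ Q.unop) (pt Q)) hz).trans (map_zero _)
  · obtain ⟨P, s, hs⟩ := exists_pullAt_eq F D c hc q hw τ
    exact ⟨_, (key P s).trans hs⟩

end Groth.Agent.Et18.H0Lift
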