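import Groth.Agent.Et18.H0Lift.AcyclicQuot
import Groth.Agent.Et18.H0Lift.StrictStalk
import Groth.Agent.Et18.H0Lift.ProperBC0
import Groth.Agent.Et18.H0Lift.BaseChangeSets

/-!
# Base change along universally locally 0-acyclic morphisms
-/

set_option autoImplicit false
set_option backward.isDefEq.respectTransparency.types false
set_option backward.isDefEq.respectTransparency false

universe u

open CategoryTheory CategoryTheory.Limits AlgebraicGeometry Opposite TopologicalSpace IsLocalRing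

namespace Groth.Agent.Et18.H0Lift

open HenselLib

/-- Geometric fibres stay connected under base change. -/
theorem ConnFibres.isPullback {X Y X' Y' : Scheme.{u}} {p : X ⟶ Y} (h : ConnFibres p) {p' : X' ⟶ Y'}
    {b' : X' ⟶ X} {b : Y' ⟶ Y} (sq : IsPullback b' p' p b) : ConnFibres p' := by
  intro Ω _ _ η
  have hZ := (IsPullback.of_hasPullback p' η).paste_horiz sq
  have := h Ω (η ≫ b)
  exact (Scheme.homeoOfIso hZ.isoPullback).symm.surjective.denseRange.preconnectedSpace
    (Scheme.homeoOfIso hZ.isoPullback).symm.continuous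

/-- Strict henselization of the local ring of an affine chart. -/
theorem exists_hullEquiv {X : Scheme.{u}} (x : X) (R : Type u) [CommRing R] [IsLocalRing R]
    [Algebra (X.presheaf.stalk x) R] [IsLocalHom (algebraMap (X.presheaf.stalk x) R)]
    [Hensel.IsStrictHenselization (X.presheaf.stalk x) R] :
    ∃ (A : Type u) (_ : CommRing A) (_ : Algebra A R) (g₀ : Spec (CommRingCat.of A) ⟶ X),
      Etale g₀ ∧ Nonempty (Hull A (ResidueField R) ≃ₐ[A] R) ∧
        Hens2.specOf X x R = Spec.map (CommRingCat.ofHom (algebraMap A R)) ≫ g₀ := by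
  obtain ⟨U, hU, hxU, -⟩ := exists_isAffineOpen_mem_and_subset (X := X) (x := x) (U := ⊤) trivial
  let A : Type u := Γ(X, U)
  let : Algebra A (X.presheaf.stalk x) := TopCat.Presheaf.algebra_section_stalk X.presheaf ⟨x, hxU⟩
  have : IsLocalization.AtPrime (X.presheaf.stalk x) (hU.primeIdealOf ⟨x, hxU⟩).asIdeal :=
    hU.isLocalization_stalk ⟨x, hxU⟩
  let : Algebra A R := ((algebraMap (X.presheaf.stalk x) R).comp (algebraMap A _)).toAlgebra
  have : IsScalarTower A (X.presheaf.stalk x) R := IsScalarTower.of_algebraMap_eq fun _ => rfl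
  obtain ⟨e, -⟩ := SHull.exists_equiv (A := A) (R := R) (X.presheaf.stalk x)
    (hU.primeIdealOf ⟨x, hxU⟩).asIdeal.primeCompl
  refine ⟨A, inferInstance, inferInstance, hU.fromSpec, inferInstance, ⟨e⟩, ?_⟩
  rw [Hens2.specOf, ← hU.fromSpecStalk_eq_fromSpecStalk hxU, IsAffineOpen.fromSpecStalk, ← Category.assoc,
    ← Spec.map_comp]
  rfl

variable {X Y X' Y' : Scheme.{u}} {f : X ⟶ Y} {g : Y' ⟶ Y} {f' : X' ⟶ Y'} {g' : X' ⟶ X}
  (h : IsPullback g' f' f g) (F : EtCoh.Ab X)

section Compat

variable {H H' : Type u} [CommRing H] [HenselianLocalRing H] [IsSepClosed (ResidueField H)]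
  [CommRing H'] [HenselianLocalRing H'] [IsSepClosed (ResidueField H')]
  {Ω : Type u} [Field Ω] [IsSepClosed Ω] (ρ : ResidueField H →+* Ω) (ρ' : ResidueField H' →+* Ω)
  {sH : Spec (CommRingCat.of H) ⟶ Y} {sH' : Spec (CommRingCat.of H') ⟶ Y'}
  {Z Z' : Scheme.{u}} {q : Z ⟶ X} {p : Z ⟶ Spec (CommRingCat.of H)}
  (sq : IsPullback q p f sH) {q' : Z' ⟶ X'} {p' : Z' ⟶ Spec (CommRingCat.of H')}
  (sq' : IsPullback q' p' f' sH') (k : Spec (CommRingCat.of H') ⟶ Spec (CommRingCat.of H))
  (hk : k ≫ sH = sH' ≫ g) (hkρ : cPt ρ' ≫ k = cPt ρ) (m : Z' ⟶ Z) (hm : m ≫ q = q' ≫ g')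
  (hmp : m ≫ p = p' ≫ k)

set_option maxHeartbeats 1000000 in
include hk hkρ hmp in
theorem toStrictSec_baseChange0 (ξ : FibrePts g (cPt ρ ≫ sH)) (hξ : ξ.1 = cPt ρ' ≫ sH')
    (e : (EtCoh.stalk (cPt ρ ≫ sH)).obj ((EtCoh.push f).obj F)) :
    ∀ (e' : (EtCoh.stalk (cPt ρ' ≫ sH')).obj ((EtCoh.push f').obj ((EtCoh.pull g').obj F))),
      HEq ((EtCoh.stalk ξ.1).map (EtCoh.baseChange0 f g f' g' h.w F)
        (toPull g (cPt ρ ≫ sH) ξ ((EtCoh.push f).obj F) e)) e' →
      (compHom q' g' F).hom.app (op (EtCoh.top Z')) (pullSec m q F hm (toStrictSec F ρ sq e)) =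
        toStrictSec ((EtCoh.pull g').obj F) ρ' sq' e' := by
  obtain ⟨η', hη'⟩ := ξ
  change η' = _ at hξ
  subst hξ
  intro e' he
  obtain rfl := eq_of_heq he
  obtain ⟨V, v, s, rfl⟩ :=
    (Scheme.pointSmallEtale (cPt ρ ≫ sH)).toPresheafFiber_jointly_surjective (P := ((EtCoh.push f).obj F).obj) e
  let v' := bcLift g (cPt ρ ≫ sH) ⟨_, hη'⟩ V v
  have h1 : (EtCoh.stalk (cPt ρ' ≫ sH')).map (EtCoh.baseChange0 f g f' g' h.w F)
      (toPull g (cPt ρ ≫ sH) ⟨_, hη'⟩ ((EtCoh.push f).obj F)
        (gm ((EtCoh.push f).obj F) (cPt ρ ≫ sH) V v s)) =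
      gm ((EtCoh.push f').obj ((EtCoh.pull g').obj F)) (cPt ρ' ≫ sH') ((EtCoh.bc g).obj V) v'
        (((EtCoh.pull g').obj F).obj.map (bcSquareHom f g f' g' h.w V).op
          (uAt g' F ((EtCoh.bc f).obj V) s)) := by
    refine (congrArg _ (gm_unit g (⟨_, hη'⟩ : FibrePts g _) ((EtCoh.push f).obj F) V v s).symm).trans ?_
    refine (gm_hom (EtCoh.baseChange0 f g f' g' h.w F) _ _ _ _).trans ?_
    exact congrArg (gm _ _ _ _) (ConcreteCategory.congr_hom (unit_baseChange0 f g f' g' h.w F V) s)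
  let σ := strictSig ρ V v
  have hσ : σ ≫ V.hom = sH := strictSig_hom ρ V v
  let σ' : Spec (CommRingCat.of H') ⟶ ((EtCoh.bc g).obj V).left :=
    pullback.lift (k ≫ σ) sH' (by rw [Category.assoc, hσ, hk])
  have hσ' : σ' ≫ ((EtCoh.bc g).obj V).hom = sH' := pullback.lift_snd _ _ _
  have hv' : cPt ρ' ≫ σ' = (v'.left : _ ⟶ ((EtCoh.bc g).obj V).left) := by
    refine pullback.hom_ext ?_ ?_
    · refine (Category.assoc _ _ _).trans ((congrArg (cPt ρ' ≫ ·) (pullback.lift_fst _ _ _)).trans ?_)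
      rw [← Category.assoc, hkρ, cPt_strictSig]
      exact (pullback.lift_fst _ _ _).symm
    · refine (Category.assoc _ _ _).trans ((congrArg (cPt ρ' ≫ ·) (pullback.lift_snd _ _ _)).trans ?_)
      exact (pullback.lift_snd _ _ _).symm
  refine Eq.trans ?_ (congrArg (toStrictSec ((EtCoh.pull g').obj F) ρ' sq') h1).symm
  refine Eq.trans ?_ (toStrictSec_gm ((EtCoh.pull g').obj F) ρ' sq' ((EtCoh.bc g).obj V) v' _ σ' hσ' hv').symm
  refine Eq.trans ?_ (pullAt_map ((EtCoh.pull g').obj F) (bcSquareHom f g f' g' h.w V) _ _ _).symm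
  refine (congrArg (fun z => (compHom q' g' F).hom.app (op (EtCoh.top Z')) (pullSec m q F hm z))
    (toStrictSec_gm F ρ sq V v s σ hσ (cPt_strictSig ρ V v))).trans ?_
  refine (congrArg _ (pullSec_pullAt m q F hm ((EtCoh.bc f).obj V) (strictLift sq V σ hσ)
    (strictLift_hom sq V σ hσ) s)).trans ?_
  refine compHom_pullAt _ g' F _ _ _ _ _ ?_ s
  have hw : (bcSquareHom f g f' g' h.w V).left ≫ ((EtCoh.bc g').obj ((EtCoh.bc f).obj V)).hom =
      ((EtCoh.bc f').obj ((EtCoh.bc g).obj V)).hom := Over.w (bcSquareHom f g f' g' h.w V).hom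
  refine pullback.hom_ext ?_ ?_
  · change ((strictLift sq' _ σ' hσ' ≫ (bcSquareHom f g f' g' h.w V).left) ≫ EtShriek.prV g' _) ≫
        EtShriek.prV f V = (m ≫ strictLift sq V σ hσ) ≫ EtShriek.prV f V
    simp only [Category.assoc]
    rw [show (bcSquareHom f g f' g' h.w V).left ≫ EtShriek.prV g' ((EtCoh.bc f).obj V) ≫ EtShriek.prV f V =
      EtShriek.prV f' ((EtCoh.bc g).obj V) ≫ EtShriek.prV g V from bcSquareHom_fst f g f' g' h.w V]
    refine ((Category.assoc _ _ _).symm.trans (congrArg (· ≫ EtShriek.prV g V) (pullback.lift_fst _ _ _))).trans ?_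
    refine ((Category.assoc _ _ _).trans (congrArg (p' ≫ ·) (pullback.lift_fst _ _ _))).trans ?_
    refine Eq.trans ?_ (congrArg (m ≫ ·) (pullback.lift_fst _ _ _)).symm
    rw [← Category.assoc, ← hmp, Category.assoc]
  · change ((strictLift sq' _ σ' hσ' ≫ (bcSquareHom f g f' g' h.w V).left) ≫ EtShriek.prV g' _) ≫
        ((EtCoh.bc f).obj V).hom = (m ≫ strictLift sq V σ hσ) ≫ ((EtCoh.bc f).obj V).hom
    rw [Category.assoc, show EtShriek.prV g' ((EtCoh.bc f).obj V) ≫ ((EtCoh.bc f).obj V).hom =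
      ((EtCoh.bc g').obj ((EtCoh.bc f).obj V)).hom ≫ g' from pullback.condition, Category.assoc,
      reassoc_of% hw, ← Category.assoc, strictLift_hom, Category.assoc, strictLift_hom, hm]

end Compat

set_option maxHeartbeats 1000000 in
include h in
/-- Base change for direct images along universally locally 0-acyclic morphisms, abelian sheaves. -/
theorem isIso_baseChange0_of_uLocZeroAcyclic [QuasiCompact f] [QuasiSeparated f]
    (hg : EtAcyc.IsULocZeroAcyclic g) : IsIso (EtCoh.baseChange0 f g f' g' h.w F) := by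
  have : QuasiCompact f' := MorphismProperty.of_isPullback (P := @QuasiCompact) h inferInstance
  have : QuasiSeparated f' := MorphismProperty.of_isPullback (P := @QuasiSeparated) h inferInstance
  let RX := fun z : ULift.{u + 1} Y' => LocalSH (Y'.presheaf.stalk z.down)
  have hRX := fun z : ULift.{u + 1} Y' => isStrictHenselization_localSH (R := Y'.presheaf.stalk z.down)
  have : ∀ z, IsSepClosed (ResidueField (RX z)) := fun z => (hRX z).isSepClosure.sep_closed
  let ξs : ∀ z : ULift.{u + 1} Y', Spec (CommRingCat.of (ResidueField (RX z))) ⟶ Y' := fun z =>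
    cPt (RingHom.id _) ≫ Hens2.specOf Y' z.down (RX z)
  refine isIso_of_stalks_family ξs (fun y => ⟨⟨y⟩, ?_⟩) _ fun z =>
    (ConcreteCategory.isIso_iff_bijective _).mpr ?_
  · change (cPt (RingHom.id _) ≫ Hens2.specOf Y' y (RX ⟨y⟩)) default = y
    rw [Scheme.Hom.comp_apply, cPt_default]
    exact Specialization.specOf_closedPoint _
  let R' := RX z
  let R := LocalSH (Y.presheaf.stalk (g z.down))
  have hR := isStrictHenselization_localSH (R := Y.presheaf.stalk (g z.down))
  have := hR.isSepClosure.sep_closed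
  have := hR.henselian
  have := (hRX z).henselian
  let φ : Y.presheaf.stalk (g z.down) →+* R' :=
    (algebraMap (Y'.presheaf.stalk z.down) R').comp (g.stalkMap z.down).hom
  have : IsLocalHom φ := RingHom.isLocalHom_comp _ _
  let : Algebra (ResidueField (Y.presheaf.stalk (g z.down))) (ResidueField R') :=
    (ResidueField.map φ).toAlgebra
  have : Algebra.IsSeparable (ResidueField (Y.presheaf.stalk (g z.down))) (ResidueField R) :=
    hR.isSepClosure.separable
  let τ : ResidueField R →ₐ[ResidueField (Y.presheaf.stalk (g z.down))] ResidueField R' := IsSepClosed.lift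
  obtain ⟨γ, ⟨hγ, hγτ⟩, -⟩ := hR.universal R' φ τ.toRingHom (RingHom.ext fun r => τ.commutes r)
  let : Algebra R R' := γ.toAlgebra
  have : IsLocalHom (algebraMap R R') := ⟨fun r hr => by
    by_contra hn
    have h0 : residue R r = 0 := (residue_eq_zero_iff r).2 ((mem_maximalIdeal r).2 hn)
    have h1 : residue R' (algebraMap R R' r) = 0 := (hγτ r).trans (by rw [h0, map_zero])
    exact (residue_eq_zero_iff _).1 h1 hr⟩
  let k := Spec.map (CommRingCat.ofHom (algebraMap R R'))
  let sH : Spec (CommRingCat.of R) ⟶ Y := Hens2.specOf Y (g z.down) R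
  let sH' : Spec (CommRingCat.of R') ⟶ Y' := Hens2.specOf Y' z.down R'
  have hk : k ≫ sH = sH' ≫ g := by
    simp only [k, sH, sH', Hens2.specOf]
    rw [← Category.assoc, ← Spec.map_comp,
      show CommRingCat.ofHom (algebraMap (Y.presheaf.stalk (g z.down)) R) ≫ CommRingCat.ofHom (algebraMap R R') =
        g.stalkMap z.down ≫ CommRingCat.ofHom (algebraMap (Y'.presheaf.stalk z.down) R') from CommRingCat.hom_ext hγ,
      Spec.map_comp]
    exact ((Category.assoc _ _ _).trans (congrArg (_ ≫ ·) (Scheme.SpecMap_stalkMap_fromSpecStalk g))).trans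
      (Category.assoc _ _ _).symm
  let ρ' : ResidueField R' →+* ResidueField R' := RingHom.id _
  have hkρ : cPt ρ' ≫ k = cPt τ.toRingHom := by
    rw [← Spec.map_comp]
    exact congrArg Spec.map (CommRingCat.hom_ext (RingHom.ext fun r => hγτ r))
  have hξ : (cPt ρ' ≫ sH') ≫ g = cPt τ.toRingHom ≫ sH := by
    exact ((Category.assoc _ _ _).trans (congrArg (cPt ρ' ≫ ·) hk.symm)).trans
      ((Category.assoc _ _ _).symm.trans (congrArg (· ≫ sH) hkρ))
  let ξ : FibrePts g (cPt τ.toRingHom ≫ sH) := ⟨cPt ρ' ≫ sH', hξ⟩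
  -- the strict localizations of the spaces
  let Z := pullback f sH
  let Z' := pullback f' sH'
  have sq₁ : IsPullback (pullback.fst f sH) (pullback.snd f sH) f sH := IsPullback.of_hasPullback f sH
  have sq₁' : IsPullback (pullback.fst f' sH') (pullback.snd f' sH') f' sH' := IsPullback.of_hasPullback f' sH'
  let m : Z' ⟶ Z := pullback.lift (pullback.fst f' sH' ≫ g') (pullback.snd f' sH' ≫ k)
    (((Category.assoc _ _ _).trans (congrArg (_ ≫ ·) h.w)).trans ((Category.assoc _ _ _).symm.trans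
      ((congrArg (· ≫ g) pullback.condition).trans ((Category.assoc _ _ _).trans
        ((congrArg (_ ≫ ·) hk.symm).trans (Category.assoc _ _ _).symm)))))
  have hm : m ≫ pullback.fst f sH = pullback.fst f' sH' ≫ g' := pullback.lift_fst _ _ _
  have hmp : m ≫ pullback.snd f sH = pullback.snd f' sH' ≫ k := pullback.lift_snd _ _ _
  have sqm : IsPullback m (pullback.snd f' sH') (pullback.snd f sH) k := by
    refine IsPullback.of_right ?_ hmp sq₁
    rw [hm, hk]
    exact sq₁'.paste_horiz h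
  have hu := uQuot_strictMap g hg R' R hk
  have hc := connFibres_strictMap g hg R' R hk
  have hunit := isIso_unit_of_connFibres' ((EtCoh.pull (pullback.fst f sH)).obj F)
    (hu.isPullback sqm.flip) (ConnFibres.isPullback hc sqm.flip)
  have hps : Function.Bijective (pullSec m (pullback.fst f sH) F hm) := bijective_pullSec m _ F hm
    (ConcreteCategory.bijective_of_isIso (((sheafToPresheaf _ _).map
      ((EtCoh.pullPushAdj m).unit.app ((EtCoh.pull (pullback.fst f sH)).obj F))).app _))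
  have := isIso_compHom (pullback.fst f' sH') g' F
  have hκ : Function.Bijective ((compHom (pullback.fst f' sH') g' F).hom.app (op (EtCoh.top Z'))) := by
    have : IsIso ((compHom (pullback.fst f' sH') g' F).hom.app (op (EtCoh.top Z'))) :=
      inferInstanceAs (IsIso (((sheafToPresheaf _ _).map (compHom (pullback.fst f' sH') g' F)).app _))
    exact ConcreteCategory.bijective_of_isIso _
  obtain ⟨A, _, _, g₀, _, ⟨e⟩, he⟩ := exists_hullEquiv (g z.down) R
  obtain ⟨A', _, _, g₀', _, ⟨e'⟩, he'⟩ := exists_hullEquiv z.down R'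
  have hb := bijective_toStrictSec F τ.toRingHom sq₁ g₀ e he
  have hb' := bijective_toStrictSec ((EtCoh.pull g').obj F) ρ' sq₁' g₀' e' he'
  have hfun : (fun ε => (compHom (pullback.fst f' sH') g' F).hom.app (op (EtCoh.top Z'))
        (pullSec m (pullback.fst f sH) F hm (toStrictSec F τ.toRingHom sq₁ ε))) =
      fun ε => toStrictSec ((EtCoh.pull g').obj F) ρ' sq₁' ((EtCoh.stalk (ξs z)).map
        (EtCoh.baseChange0 f g f' g' h.w F) (toPull g (cPt τ.toRingHom ≫ sH) ξ ((EtCoh.push f).obj F) ε)) :=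
    funext fun ε => toStrictSec_baseChange0 h F τ.toRingHom ρ' sq₁ sq₁' k hk hkρ m hm hmp ξ rfl ε _ HEq.rfl
  have hcomp0 : Function.Bijective fun ε => (compHom (pullback.fst f' sH') g' F).hom.app (op (EtCoh.top Z'))
      (pullSec m (pullback.fst f sH) F hm (toStrictSec F τ.toRingHom sq₁ ε)) := (hκ.comp hps).comp hb
  have hcomp := hfun ▸ hcomp0
  have h2 := (Function.Bijective.of_comp_iff' hb' _).mp hcomp
  exact (Function.Bijective.of_comp_iff
    (fun w => (EtCoh.stalk (ξs z)).map (EtCoh.baseChange0 f g f' g' h.w F) w)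
    (bijective_toPull g ξ _)).mp h2

include h in
/-- Base change for direct images along universally locally 0-acyclic morphisms, sheaves of sets. -/
theorem isIso_baseChange0Sh_of_uLocZeroAcyclic [QuasiCompact f] [QuasiSeparated f]
    (hg : EtAcyc.IsULocZeroAcyclic g) (G : EtDesc.Sh X) : IsIso (EtBC.baseChange0Sh f g f' g' h.w G) :=
  isIso_baseChange0Sh_of_ab f g f' g' h.w (fun A => isIso_baseChange0_of_uLocZeroAcyclic h A hg) G

end Groth.Agent.Et18.H0Lift
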