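import Groth.Agent.Et18.H0Lift.FlatConnBC
import Groth.Agent.Et18.H0Lift.BaseChangeRed
import Groth.Agent.Et18.StrictlyHenselBase
import Groth.Agent.CAlgH3.Components
import Mathlib.AlgebraicGeometry.Morphisms.UniversallyOpen

/-!
# Degree zero base change over a separably closed field
-/

set_option autoImplicit false
set_option backward.isDefEq.respectTransparency.types false
set_option backward.isDefEq.respectTransparency false

universe u

open CategoryTheory CategoryTheory.Limits AlgebraicGeometry Opposite TopologicalSpace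

namespace Groth.Agent.Et18.H0Lift

/-- Compact sets off the connected component of a point of an affine scheme avoid a clopen neighbourhood. -/
theorem exists_clopen_avoiding {Z : Scheme.{u}} [IsAffine Z] (y : Z) {K : Set Z} (hK : IsCompact K)
    (hd : ∀ z ∈ K, z ∉ connectedComponent y) : ∃ N : Set Z, IsClopen N ∧ y ∈ N ∧ ∀ z ∈ N, z ∉ K := by
  let φ : Z ≃ₜ PrimeSpectrum Γ(Z, ⊤) := Scheme.homeoOfIso Z.isoSpec
  have h0 : φ '' K ∩ ⋂ e : CAlgH3.idemIn (φ y), PrimeSpectrum.zeroLocus ({e.1} : Set Γ(Z, ⊤)) = ∅ := by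
    refine Set.eq_empty_iff_forall_notMem.2 ?_
    rintro _ ⟨⟨z, hz, rfl⟩, hm⟩
    refine hd z hz ?_
    have h1 : φ z ∈ connectedComponent (φ y) := by
      rw [CAlgH3.connectedComponent_eq_zeroLocus]
      exact fun e he => Set.mem_iInter.1 hm ⟨e, he⟩ rfl
    have h2 := φ.symm.continuous.mapsTo_connectedComponent _ h1
    rwa [φ.symm_apply_apply, φ.symm_apply_apply] at h2
  obtain ⟨t, ht⟩ := (hK.image φ.continuous).elim_finite_subfamily_closed _
    (fun e => PrimeSpectrum.isClosed_zeroLocus _) h0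
  refine ⟨φ ⁻¹' ⋂ e ∈ t, PrimeSpectrum.zeroLocus ({e.1} : Set Γ(Z, ⊤)), ?_, ?_, fun z hz hzK => ?_⟩
  · exact (isClopen_biInter_finset fun e _ => CAlgH3.isClopen_zeroLocus_idem e.2.1).preimage φ.continuous
  · simp only [Set.mem_preimage, Set.mem_iInter]
    intro e _
    simpa [PrimeSpectrum.mem_zeroLocus] using e.2.2
  · exact Set.eq_empty_iff_forall_notMem.1 ht (φ z) ⟨⟨z, hzK, rfl⟩, hz⟩

theorem flat_to_field {k : Type u} [Field k] {Z : Scheme.{u}} [IsAffine Z]
    (p : Z ⟶ Spec (CommRingCat.of k)) : Flat p := by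
  obtain ⟨φ, hφ⟩ := Spec.map_surjective (Z.isoSpec.inv ≫ p)
  have : Flat (Spec.map φ) := by
    rw [HasRingHomProperty.Spec_iff (P := @Flat)]
    algebraize [φ.hom]
    exact (inferInstance : Module.Flat k Γ(Z, ⊤))
  rw [show p = Z.isoSpec.hom ≫ Spec.map φ by rw [hφ, Iso.hom_inv_id_assoc]]
  infer_instance

theorem connFibres_to_sepClosed {k : Type u} [Field k] [IsSepClosed k] {Z : Scheme.{u}} [ConnectedSpace Z]
    (p : Z ⟶ Spec (CommRingCat.of k)) : ConnFibres p := by
  intro Ω _ _ η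
  obtain ⟨φ, rfl⟩ := Spec.map_surjective η
  let : Algebra k Ω := φ.hom.toAlgebra
  have : GeometricallyConnected (Spec.map φ) := geometricallyConnected_algSpec k Ω
  infer_instance

theorem isSepClosed_residueField (k : Type u) [Field k] [IsSepClosed k] :
    IsSepClosed (IsLocalRing.ResidueField k) := by
  let e := RingEquiv.ofBijective (IsLocalRing.residue k)
    ⟨RingHom.injective _, IsLocalRing.residue_surjective⟩
  refine IsSepClosed.of_exists_root _ fun p _ hp hs => ?_
  obtain ⟨x, hx⟩ := IsSepClosed.exists_eval₂_eq_zero e.symm.toRingHom p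
    (fun h0 => hp.degree_pos.ne' h0) hs
  refine ⟨e x, e.symm.injective ?_⟩
  rw [map_zero]
  refine Eq.trans ?_ hx
  refine (Polynomial.hom_eval₂ p (RingHom.id _) e.symm.toRingHom (e x)).trans ?_
  simp

variable {k : Type u} [Field k] [IsSepClosed k]
  {X Y T : Scheme.{u}} (f : X ⟶ Spec (CommRingCat.of k)) (g : T ⟶ Spec (CommRingCat.of k))
  (h : Y ⟶ X) (e : Y ⟶ T) (hc : IsPullback e h g f) (F : EtCoh.Ab T)

/-- Germs over the base at any geometric point come from global sections. -/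
theorem exists_top_germ {Ω : Type u} [Field Ω] [IsSepClosed Ω]
    (η : Spec (CommRingCat.of Ω) ⟶ Spec (CommRingCat.of k)) (G : EtCoh.Ab (Spec (CommRingCat.of k)))
    (δ : (EtCoh.stalk η).obj G) : ∃ t, gm G η (EtCoh.top _) (topPt η) t = δ := by
  obtain ⟨φ, rfl⟩ := Spec.map_surjective η
  have := isSepClosed_residueField k
  have : IsLocalHom φ.hom := ⟨fun a ha => Ne.isUnit fun h0 => ha.ne_zero (by rw [h0, map_zero])⟩
  obtain ⟨ρ, rfl⟩ : ∃ ρ : IsLocalRing.ResidueField k →+* Ω,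
      φ = CommRingCat.ofHom (ρ.comp (IsLocalRing.residue k)) :=
    ⟨IsLocalRing.ResidueField.lift φ.hom,
      CommRingCat.hom_ext (IsLocalRing.ResidueField.lift_comp_residue φ.hom).symm⟩
  obtain ⟨V, v, t, rfl⟩ := (Scheme.pointSmallEtale
    (Spec.map (CommRingCat.ofHom (ρ.comp (IsLocalRing.residue k))))).toPresheafFiber_jointly_surjective
      (P := G.obj) δ
  obtain ⟨σ, hσ⟩ := exists_section_of_residue k ρ V v
  refine ⟨G.obj.map σ.op t, (gm_map G _ σ _ t).trans ?_⟩
  exact congrArg (fun w => gm G _ V w t) (Over.OverMorphism.ext hσ)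

/-- The morphism between the base changes attached to an étale object. -/
noncomputable abbrev topHom (W : X.Etale) : W ⟶ (EtCoh.bc f).obj (EtCoh.top (Spec (CommRingCat.of k))) :=
  MorphismProperty.Over.homMk (pullback.lift (W.hom ≫ f) W.hom (Category.comp_id _))
    (pullback.lift_snd _ _ _)

omit [IsSepClosed k] in
theorem toSec_map_unit (W : Y.Etale) (P : T.Etale) (j : W ⟶ (EtCoh.bc e).obj P)
    (hl : (j.left ≫ EtShriek.prV e P) ≫ P.hom = W.hom ≫ e) (s : EtCoh.sect F P) :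
    toSec e F W (((EtCoh.pull e).obj F).obj.map j.op (uAt e F P s)) =
      pullAt F P (j.left ≫ EtShriek.prV e P) hl s := by
  refine eq_of_hasGerm _ _ fun w => ?_
  let ζ := algPoint W.left w
  let η₁ := ζ ≫ W.hom
  let η := η₁ ≫ e
  let ξ : FibrePts (W.hom ≫ e) η := ⟨ζ, (Category.assoc _ _ _).symm⟩
  refine ⟨_, _, inferInstance, η, ξ, gm F η P (fibOf ξ P (j.left ≫ EtShriek.prV e P) hl) s,
    algPoint_default _ w, ?_, hasGerm_pullAt P _ hl s ξ⟩
  refine (hasGerm_toSec_iff _ ζ rfl rfl _ _).2 ?_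
  refine (gm_map _ η₁ j _ _).trans ?_
  refine Eq.trans ?_ (gm_unit e (⟨η₁, rfl⟩ : FibrePts e η) F P (fibOf ξ P (j.left ≫ EtShriek.prV e P) hl) s)
  refine congrArg (fun w => gm _ η₁ _ w (uAt e F P s)) ?_
  refine (bcLiftEquiv e η (⟨η₁, rfl⟩ : FibrePts e η) P).symm.injective (Over.OverMorphism.ext ?_)
  change (ζ ≫ j.left) ≫ EtShriek.prV e P =
    pullback.lift (ζ ≫ j.left ≫ EtShriek.prV e P) η₁ _ ≫ EtShriek.prV e P
  rw [pullback.lift_fst, Category.assoc]

include hc in
theorem bijective_stalk_baseChange0_field [QuasiCompact g] {Ω : Type u} [Field Ω] [IsSepClosed Ω]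
    (η' : Spec (CommRingCat.of Ω) ⟶ X) :
    Function.Bijective fun ε => (EtCoh.stalk η').map (EtCoh.baseChange0 g f h e hc.w F)
      (toPull f (η' ≫ f) ⟨η', rfl⟩ ((EtCoh.push g).obj F) ε) := by
  let S := Spec (CommRingCat.of k)
  let V := EtCoh.top S
  let P := (EtCoh.bc g).obj V
  let G := (EtCoh.push g).obj F
  let G' := (EtCoh.pull e).obj F
  let H := (EtCoh.push h).obj G'
  let b : (EtCoh.stalk (η' ≫ f)).obj G ⟶ (EtCoh.stalk η').obj H :=
    toPull f (η' ≫ f) ⟨η', rfl⟩ G ≫ (EtCoh.stalk η').map (EtCoh.baseChange0 g f h e hc.w F)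
  let j : ∀ W : X.Etale, (EtCoh.bc h).obj W ⟶ (EtCoh.bc e).obj P := fun W =>
    (EtCoh.bc h).map (topHom f W) ≫ bcSquareHom g f h e hc.w V
  let z : ∀ W : X.Etale, EtCoh.sect F P → EtCoh.sect G' ((EtCoh.bc h).obj W) := fun W s =>
    G'.obj.map (j W).op (uAt e F P s)
  have hz : ∀ (W : X.Etale) (v : (Scheme.pointSmallEtale η').fiber.obj W) (s : EtCoh.sect F P),
      b (gm G (η' ≫ f) V (topPt _) s) = gm H η' W v (z W s) := by
    intro W v s
    refine (stalk_baseChange0_gm f g h e hc F η' V (topPt _) s).trans ?_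
    have hw : bcLift f (η' ≫ f) (⟨η', rfl⟩ : FibrePts f (η' ≫ f)) V (topPt _) =
        (Scheme.pointSmallEtale η').fiber.map (topHom f W) v :=
      (bcLiftEquiv f _ (⟨η', rfl⟩ : FibrePts f (η' ≫ f)) V).symm.injective (fibre_eq V _ _)
    let z₀ : EtCoh.sect H ((EtCoh.bc f).obj V) :=
      G'.obj.map (bcSquareHom g f h e hc.w V).op (uAt e F P s)
    refine (congrArg (fun w => gm H η' ((EtCoh.bc f).obj V) w z₀) hw).trans ?_
    refine (gm_map H η' (topHom f W) v z₀).symm.trans (congrArg (gm H η' W v) ?_)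
    change G'.obj.map ((EtCoh.bc h).map (topHom f W)).op
      (G'.obj.map (bcSquareHom g f h e hc.w V).op (uAt e F P s)) = _
    rw [← ConcreteCategory.comp_apply, ← Functor.map_comp, ← op_comp]
  let l : ∀ W : X.Etale, ((EtCoh.bc h).obj W).left ⟶ P.left := fun W => (j W).left ≫ EtShriek.prV e P
  have sq : ∀ W : X.Etale, IsPullback (l W) (EtShriek.prV h W) (EtShriek.prV g V) (W.hom ≫ f) ∧
      l W ≫ P.hom = ((EtCoh.bc h).obj W).hom ≫ e := by
    intro W
    have hlw : l W ≫ EtShriek.prV g V = EtShriek.prV h W ≫ W.hom ≫ f := by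
      simp only [l]
      rw [show (j W).left = ((EtCoh.bc h).map (topHom f W)).left ≫ (bcSquareHom g f h e hc.w V).left from rfl]
      simp only [Category.assoc]
      have hb : (bcSquareHom g f h e hc.w V).left ≫ EtShriek.prV e P ≫ EtShriek.prV g V =
          EtShriek.prV h ((EtCoh.bc f).obj V) ≫ EtShriek.prV f V := by
        rw [← Category.assoc]; exact (isPullback_bcSquareHom g f h e hc V).w
      rw [hb, ← Category.assoc, (EtCoh.isPullback_bc_map h (topHom f W)).w, Category.assoc]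
      exact congrArg (EtShriek.prV h W ≫ ·) (pullback.lift_fst _ _ _)
    have hlP : l W ≫ P.hom = ((EtCoh.bc h).obj W).hom ≫ e := by
      simp only [l, Category.assoc]
      rw [show EtShriek.prV e P ≫ P.hom = ((EtCoh.bc e).obj P).hom ≫ e from pullback.condition,
        ← Category.assoc, Over.w (j W).hom]
    refine ⟨IsPullback.of_right (h₁₂ := P.hom) (h₂₂ := V.hom) ?_ hlw (IsPullback.of_hasPullback V.hom g).flip, hlP⟩
    rw [hlP, show (W.hom ≫ f) ≫ V.hom = W.hom ≫ f from Category.comp_id _]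
    exact (IsPullback.of_hasPullback W.hom h).flip.paste_horiz hc
  refine ⟨(injective_iff_map_eq_zero b.hom).2 fun ε hε => ?_, fun δ => ?_⟩
  · obtain ⟨s, rfl⟩ := exists_top_germ (η' ≫ f) G ε
    have h0 := (gm_eq_zero_iff H η' _ _ _).1 ((hz (EtCoh.top X) (topPt η') s).symm.trans hε)
    simp only [EtShriek.sectSupp, Set.mem_ofPred_eq, not_forall, not_not] at h0
    obtain ⟨W, i, ⟨w, -⟩, hW⟩ := h0
    suffices hs0 : s = 0 by rw [hs0]; exact map_zero _
    refine eq_zero_of_sectSupp_eq_empty F P s (Set.eq_empty_iff_forall_notMem.2 fun p hp => ?_)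
    obtain ⟨c, hc₁, -⟩ := Scheme.exists_preimage_of_isPullback (sq W).1 p w (Subsingleton.elim (α := S) _ _)
    have h1 : c ∈ gSupp (pullAt F P (l W) (sq W).2 s) :=
      (mem_sectSupp_pullAt F P (l W) (sq W).2 s c).2 (Eq.mpr (congrArg (· ∈ EtShriek.sectSupp F P s) hc₁) hp)
    have h2 : toSec e F _ (z W s) = pullAt F P (l W) (sq W).2 s := toSec_map_unit e F _ P (j W) (sq W).2 s
    obtain ⟨ξ, ε', hξ, hε'⟩ := exists_germ_at (toSec e F _ (z W s)) c
    have h3 : ε' ≠ 0 := by
      have h4 := mem_gSupp_iff hε'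
      rw [hξ, algPoint_default, h2] at h4
      exact h4.1 h1
    refine h3 ?_
    have hzW : z W s = 0 := by
      have : G'.obj.map ((EtCoh.bc h).map i).op (z (EtCoh.top X) s) = z W s := by
        change G'.obj.map _ (G'.obj.map _ _) = G'.obj.map _ _
        rw [← ConcreteCategory.comp_apply, ← Functor.map_comp, ← op_comp]
        refine congrArg (fun m => G'.obj.map (Quiver.Hom.op m) (uAt e F P s)) ?_
        change (EtCoh.bc h).map i ≫ (EtCoh.bc h).map (topHom f (EtCoh.top X)) ≫ _ =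
          (EtCoh.bc h).map (topHom f W) ≫ _
        rw [← Category.assoc, ← Functor.map_comp]
        congr 2
        refine etaleHom_ext (pullback.hom_ext ?_ ?_)
        · exact (Category.assoc _ _ _).trans ((congrArg (i.left ≫ ·) (pullback.lift_fst _ _ _)).trans
            ((Category.assoc _ _ _).symm.trans ((congrArg (· ≫ f) (Over.w i.hom)).trans
              (pullback.lift_fst _ _ _).symm)))
        · exact (Category.assoc _ _ _).trans ((congrArg (i.left ≫ ·) (pullback.lift_snd _ _ _)).trans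
            ((Over.w i.hom).trans (pullback.lift_snd _ _ _).symm))
      exact this.symm.trans hW
    let Q := (EtCoh.bc h).obj W
    let ζ := algPoint Q.left c
    obtain ⟨ξ₀, hξ₀⟩ := ξ
    obtain rfl : ξ₀ = ζ := hξ
    have g1 := (hasGerm_toSec_iff (z W s) ζ rfl ((Category.assoc _ _ _).trans hξ₀) hξ₀ ε').1 hε'
    rw [hzW] at g1
    exact (bijective_toPull e (⟨ζ ≫ Q.hom, (Category.assoc _ _ _).trans hξ₀⟩ : FibrePts e _) F).1
      ((g1.symm.trans (map_zero _)).trans (map_zero _).symm)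
  · obtain ⟨W₁, v₁, σ₁, rfl⟩ := (Scheme.pointSmallEtale η').toPresheafFiber_jointly_surjective (P := H.obj) δ
    have : Etale W₁.hom := W₁.prop
    obtain ⟨U, hU, hyU, -⟩ := exists_isAffineOpen_mem_and_subset (X := W₁.left) (x := fiberPt v₁)
      (U := ⊤) trivial
    let W₀ := etalePiece W₁ U
    let i₀ := etalePieceHom W₁ U
    obtain ⟨v₀, hv₀⟩ : ∃ v₀, (Scheme.pointSmallEtale η').fiber.map i₀ v₀ = v₁ := by
      let v₁l : Spec (CommRingCat.of Ω) ⟶ W₁.left := v₁.left
      obtain ⟨r, hr⟩ : ∃ r : Spec (CommRingCat.of Ω) ⟶ U.toScheme, r ≫ U.ι = v₁l := by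
        refine ⟨IsOpenImmersion.lift U.ι v₁l ?_, IsOpenImmersion.lift_fac _ _ _⟩
        rintro _ ⟨a, rfl⟩
        rw [Subsingleton.elim a default, Scheme.Opens.range_ι]
        exact hyU
      exact ⟨Over.homMk r ((Category.assoc _ _ _).symm.trans ((congrArg (· ≫ W₁.hom) hr).trans (Over.w v₁))),
        Over.OverMorphism.ext hr⟩
    let Q := (EtCoh.bc h).obj W₀
    let σ : EtCoh.sect G' Q := H.obj.map i₀.op σ₁
    have hδ : gm H η' W₀ v₀ σ = gm H η' W₁ v₁ σ₁ :=
      (gm_map H η' i₀ v₀ σ₁).trans (congrArg (fun w => gm H η' W₁ w σ₁) hv₀)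
    have : IsAffine W₀.left := hU
    let y : W₀.left := fiberPt v₀
    let C : Set W₀.left := connectedComponent y
    let ι := (redSub C isClosed_connectedComponent).subschemeι
    have hιr : Set.range ι = C := range_redSub _ _
    let Cs := (redSub C isClosed_connectedComponent).subscheme
    have : IsAffine Cs := isAffine_of_isAffineHom ι
    have : ConnectedSpace Cs := by
      obtain ⟨c₀, hc₀⟩ : y ∈ Set.range ι := (congrArg (y ∈ ·) hιr).mpr mem_connectedComponent
      refine { toPreconnectedSpace := ⟨?_⟩, toNonempty := ⟨c₀⟩ }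
      rw [← ι.isClosedEmbedding.isEmbedding.isInducing.isPreconnected_image, Set.image_univ, hιr]
      exact isPreconnected_connectedComponent
    let a := ι ≫ W₀.hom ≫ f
    have : Flat a := flat_to_field a
    have : Surjective a := ⟨fun p => ⟨Classical.arbitrary Cs, Subsingleton.elim _ _⟩⟩
    have : QuasiCompact a := inferInstance
    let QC := pullback (EtShriek.prV h W₀) ι
    let p₁ : QC ⟶ Q.left := pullback.fst _ _
    let lC := p₁ ≫ l W₀
    have sqC : IsPullback lC (pullback.snd _ ι) (EtShriek.prV g V) a :=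
      ((IsPullback.of_hasPullback (EtShriek.prV h W₀) ι).flip.paste_vert (sq W₀).1.flip).flip
    have : Flat lC := MorphismProperty.of_isPullback (P := @Flat) sqC.flip ‹_›
    have : QuasiCompact lC := MorphismProperty.of_isPullback (P := @QuasiCompact) sqC.flip ‹_›
    have : Surjective lC := MorphismProperty.of_isPullback (P := @Surjective) sqC.flip ‹_›
    have hlC : ConnFibres lC := fun Ω' _ _ η => by
      have hZ := (IsPullback.of_hasPullback lC η).paste_horiz sqC.flip
      have := connFibres_to_sepClosed a Ω' (η ≫ EtShriek.prV g V)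
      exact (Scheme.homeoOfIso hZ.isoPullback).symm.surjective.denseRange.preconnectedSpace
        (Scheme.homeoOfIso hZ.isoPullback).symm.continuous
    let τ := toSec e F Q σ
    have hlCP : lC ≫ P.hom = p₁ ≫ Q.hom ≫ e :=
      (Category.assoc p₁ (l W₀) P.hom).trans (congrArg (p₁ ≫ ·) (sq W₀).2)
    obtain ⟨s, hs⟩ := (bijective_pullAt_of_connFibres F P lC hlCP hlC).2
      (pullSec p₁ (Q.hom ≫ e) F (c := p₁ ≫ Q.hom ≫ e) rfl τ)
    let τ' : gSec (Q.hom ≫ e) F := pullAt F P (l W₀) (sq W₀).2 s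
    have hs' : pullSec p₁ (Q.hom ≫ e) F (c := p₁ ≫ Q.hom ≫ e) rfl τ' = pullAt F P lC hlCP s :=
      pullSec_pullAt p₁ (Q.hom ≫ e) F rfl P (l W₀) (sq W₀).2 s
    let D : Set Q.left := gSupp (τ - τ')
    have hgerm : ∀ c : Q.left, ∃ (η : Spec (CommRingCat.of (AlgebraicClosure (Q.left.residueField c))) ⟶ T)
        (ξ : FibrePts (Q.hom ≫ e) η) (ε ε' : (EtCoh.stalk η).obj F), ξ.1 = algPoint Q.left c ∧
          HasGerm τ ξ ε ∧ HasGerm τ' ξ ε' ∧ (c ∉ D → ε = ε') := by
      intro c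
      obtain ⟨ξ, ε, hξ, hε⟩ := exists_germ_at τ c
      obtain ⟨ε', hε'⟩ := exists_hasGerm τ' ξ
      refine ⟨_, ξ, ε, ε', hξ, hε, hε', fun hcD => ?_⟩
      have hsub : HasGerm (τ - τ') ξ (ε - ε') :=
        (map_sub _ _ _).trans ((congrArg₂ (· - ·) hε hε').trans (map_sub _ _ _).symm)
      have h4 := mem_gSupp_iff hsub
      rw [hξ, algPoint_default] at h4
      exact sub_eq_zero.1 (not_not.1 fun hne => hcD (h4.2 hne))
    have hDC : ∀ c ∈ D, EtShriek.prV h W₀ c ∉ C := by
      intro c hc hcC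
      obtain ⟨c', hc'⟩ := Set.mem_range.1 (hιr.symm ▸ hcC : EtShriek.prV h W₀ c ∈ Set.range ι)
      obtain ⟨d, hd, -⟩ := Scheme.Pullback.exists_preimage_pullback (f := EtShriek.prV h W₀) (g := ι) c c' hc'.symm
      obtain ⟨η, ξ, ε, ε', hξ, hε, hε', -⟩ := hgerm c
      let ζ := algPoint QC d
      let ξ₁ : FibrePts (p₁ ≫ Q.hom ≫ e) (ζ ≫ p₁ ≫ Q.hom ≫ e) := ⟨ζ, rfl⟩
      let ξ₂ : FibrePts (Q.hom ≫ e) (ζ ≫ p₁ ≫ Q.hom ≫ e) := ⟨ζ ≫ p₁, Category.assoc _ _ _⟩
      obtain ⟨x₁, hx₁⟩ := exists_hasGerm τ ξ₂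
      obtain ⟨x₂, hx₂⟩ := exists_hasGerm τ' ξ₂
      have k₁ : HasGerm (pullSec p₁ (Q.hom ≫ e) F (c := p₁ ≫ Q.hom ≫ e) rfl τ) ξ₁ x₁ :=
        hasGerm_pullSec p₁ rfl ξ₁ ξ₂ rfl hx₁
      have k₂ := hasGerm_pullSec p₁ (c := p₁ ≫ Q.hom ≫ e) rfl ξ₁ ξ₂ rfl hx₂
      rw [hs', show pullAt F P lC hlCP s = pullSec p₁ (Q.hom ≫ e) F (c := p₁ ≫ Q.hom ≫ e) rfl τ from hs] at k₂
      have hsub : HasGerm (τ - τ') ξ₂ (x₁ - x₂) :=
        (map_sub _ _ _).trans ((congrArg₂ (· - ·) hx₁ hx₂).trans (map_sub _ _ _).symm)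
      have h4 := mem_gSupp_iff hsub
      rw [show ξ₂.1 default = c by
        change (ζ ≫ p₁) default = c
        rw [Scheme.Hom.comp_apply, algPoint_default]; exact hd] at h4
      exact h4.1 hc (sub_eq_zero.2 (k₁.unique k₂))
    have : QuasiCompact (EtShriek.prV h W₀) := MorphismProperty.of_isPullback (P := @QuasiCompact)
      ((sq W₀).1) (MorphismProperty.pullback_fst (P := @QuasiCompact) V.hom g ‹_›)
    have : CompactSpace W₀.left := isCompact_iff_compactSpace.1 hU.isCompact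
    have : CompactSpace Q.left := QuasiCompact.compactSpace_of_compactSpace (EtShriek.prV h W₀)
    obtain ⟨N, hN, hyN, hNK⟩ := exists_clopen_avoiding y
      (((isClosed_gSupp (τ - τ')).isCompact (X := Q.left)).image (EtShriek.prV h W₀).continuous)
      (by rintro _ ⟨c, hc, rfl⟩; exact hDC c hc)
    refine ⟨gm G (η' ≫ f) V (topPt _) s, (hz W₀ v₀ s).trans ?_⟩
    refine (sub_eq_zero.1 ((map_sub _ _ _).symm.trans ((gm_eq_zero_iff H η' W₀ v₀ _).2 ?_))).symm.trans hδ
    intro hm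
    obtain ⟨W', i', v', -, hv', hW'N⟩ := exists_shrink W₀ v₀ _ hN.compl.1 (not_not.2 hyN)
    rw [← hv'] at hm
    have h5 := (mem_sectSupp_map H i' (σ - z W₀ s) (fiberPt v')).2 hm
    refine notMem_sectSupp_zero H W' (fiberPt v') ?_
    have h6 : H.obj.map i'.op (σ - z W₀ s) = 0 := by
      refine eq_zero_of_sectSupp_eq_empty G' ((EtCoh.bc h).obj W') _ (Set.eq_empty_iff_forall_notMem.2 fun c hc => ?_)
      have h7 : ((EtCoh.bc h).map i').left c ∈ EtShriek.sectSupp G' Q (σ - z W₀ s) :=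
        (mem_sectSupp_map G' ((EtCoh.bc h).map i') (σ - z W₀ s) c).1 hc
      let c₀ := ((EtCoh.bc h).map i').left c
      have hc₀ : c₀ ∉ D := fun hD => hNK (EtShriek.prV h W₀ c₀) (by
        rw [show EtShriek.prV h W₀ c₀ = i'.left (EtShriek.prV h W' c) from
          congrArg (fun m => m c) (EtCoh.isPullback_bc_map h i').w]
        exact not_not.1 (hW'N _)) ⟨c₀, hD, rfl⟩
      obtain ⟨η, ξ, ε, ε', hξ, hε, hε', heq⟩ := hgerm c₀
      obtain rfl := heq hc₀
      obtain ⟨ζ, hζ⟩ := ξ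
      let η₁ := ζ ≫ Q.hom
      have hη₁ : η₁ ≫ e = η := (Category.assoc _ _ _).trans hζ
      have g₁ := (hasGerm_toSec_iff σ ζ rfl hη₁ hζ ε).1 hε
      have g₂ := (hasGerm_toSec_iff (z W₀ s) ζ rfl hη₁ hζ ε).1
        ((toSec_map_unit e F Q P (j W₀) (sq W₀).2 s).symm ▸ hε')
      let v'' : (Scheme.pointSmallEtale η₁).fiber.obj Q := Over.homMk ζ rfl
      have h8 := (gm_eq_zero_iff G' η₁ Q v'' (σ - z W₀ s)).1
        ((map_sub _ _ _).trans (sub_eq_zero.2 (g₁.trans g₂.symm)))
      refine h8 ?_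
      change ζ default ∈ _
      rw [show ζ default = c₀ from (congrArg (fun m : _ ⟶ Q.left => m default) hξ).trans (algPoint_default _ c₀)]
      exact h7
    rw [h6] at h5
    exact h5

include hc in
/-- Base change over a separably closed field. -/
theorem isIso_baseChange0_field [QuasiCompact g] :
    IsIso (EtCoh.baseChange0 g f h e hc.w F) := by
  refine isIso_of_stalks_family (ι := ULift.{u + 1} X) (fun y => algPoint X y.down)
    (fun y => ⟨⟨y⟩, algPoint_default X y⟩) _ fun y => (ConcreteCategory.isIso_iff_bijective _).mpr ?_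
  let η' := algPoint X y.down
  exact (Function.Bijective.of_comp_iff
    (fun p => (EtCoh.stalk η').map (EtCoh.baseChange0 g f h e hc.w F) p)
    (bijective_toPull f (⟨η', rfl⟩ : FibrePts f (η' ≫ f)) _)).mp
    (bijective_stalk_baseChange0_field f g h e hc F η')

end Groth.Agent.Et18.H0Lift
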