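import Groth.Agent.CAlgH3.MoriFamily
import Groth.Agent.CAlgH3.Components
import Groth.Agent.HenselLib.LocalInt
import Groth.Agent.Et18.H0Lift.SepFieldBC
import Mathlib.FieldTheory.PurelyInseparable.Basic
import Mathlib.LinearAlgebra.TensorProduct.Pi
import Mathlib.RingTheory.DedekindDomain.IntegralClosure
import Mathlib.RingTheory.Flat.Basic

/-!
# Geometric fibres of flat maps to strictly henselian Noetherian rings with geometrically reduced fibres
-/

set_option autoImplicit false
set_option backward.isDefEq.respectTransparency.types false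
set_option backward.isDefEq.respectTransparency false

universe u

open CategoryTheory CategoryTheory.Limits AlgebraicGeometry IsLocalRing
open scoped TensorProduct

namespace Groth.Agent.Et18.H0Lift

variable {B C : Type u} [CommRing B] [CommRing C] [Algebra B C] [Module.Flat B C]

theorem injective_tensor_map {N M : Type u} [CommRing N] [CommRing M] [Algebra B N] [Algebra B M]
    (f : N →ₐ[B] M) (hf : Function.Injective f) :
    Function.Injective (Algebra.TensorProduct.map (AlgHom.id B C) f) :=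
  Module.Flat.lTensor_preserves_injective_linearMap f.toLinearMap hf

/-- Elements with square divisible by a uniformizer power are divisible by it. -/
theorem exists_eq_pow_mul (D : Type u) [CommRing D] [IsDomain D] [IsDiscreteValuationRing D] [Algebra B D]
    (hred : ∀ (K : Type u) [Field K] [Algebra B K], IsReduced (C ⊗[B] K)) (π : D) (hπ : Irreducible π)
    (n : ℕ) (x : C ⊗[B] D) (hx : x * x = (1 ⊗ₜ[B] π ^ n) * x) : ∃ y, x = (1 ⊗ₜ[B] π ^ n) * y := by
  induction n generalizing x with
  | zero => exact ⟨x, by rw [pow_zero, one_mul]⟩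
  | succ n ih =>
    let k := ResidueField D
    let g : D →ₐ[B] k := IsScalarTower.toAlgHom B D k
    let μ := Algebra.TensorProduct.map (AlgHom.id B C) g
    have hπ0 : g π = 0 := (residue_eq_zero_iff π).2 hπ.not_isUnit
    have := hred k
    have hμ : μ x = 0 := by
      refine IsNilpotent.eq_zero ⟨2, ?_⟩
      rw [pow_two, ← map_mul, hx, map_mul, map_pow,
        show μ ((1 : C) ⊗ₜ[B] π) = (1 : C) ⊗ₜ[B] g π from rfl, hπ0, TensorProduct.tmul_zero,
        zero_pow n.succ_ne_zero, zero_mul]
    have hker := Algebra.TensorProduct.lTensor_ker (R := B) (A := C) g residue_surjective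
    have hmem : x ∈ Ideal.span {(1 : C) ⊗ₜ[B] π} := by
      have h1 : x ∈ RingHom.ker μ := hμ
      rw [hker, show RingHom.ker g = Ideal.span {π} from
        ker_residue.trans hπ.maximalIdeal_eq, Ideal.map_span, Set.image_singleton] at h1
      exact h1
    obtain ⟨x₁, rfl⟩ := Ideal.mem_span_singleton'.1 hmem
    have hinj : Function.Injective fun z : C ⊗[B] D => ((1 : C) ⊗ₜ[B] π) * z := by
      have h := Module.Flat.lTensor_preserves_injective_linearMap (M := C)
        ((LinearMap.mulLeft D π).restrictScalars B) (mul_right_injective₀ hπ.ne_zero)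
      have he : ∀ z : C ⊗[B] D, ((LinearMap.mulLeft D π).restrictScalars B).lTensor C z =
          ((1 : C) ⊗ₜ[B] π) * z := fun z => by
        induction z using TensorProduct.induction_on with
        | zero => simp
        | tmul c d => simp
        | add a b ha hb => rw [map_add, mul_add, ha, hb]
      intro a b hab
      exact h (by rw [he, he]; exact hab)
    have hpow : ((1 : C) ⊗ₜ[B] π ^ (n + 1)) = ((1 : C) ⊗ₜ[B] π) * ((1 : C) ⊗ₜ[B] π ^ n) := pow_succ' _ _
    have h2 : x₁ * x₁ = ((1 : C) ⊗ₜ[B] π ^ n) * x₁ := hinj (hinj (by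
      rw [hpow] at hx
      linear_combination hx))
    obtain ⟨y, rfl⟩ := ih x₁ h2
    exact ⟨y, by rw [hpow]; ring⟩

/-- The same with an arbitrary nonzero element. -/
theorem exists_eq_mul_of_sq (D : Type u) [CommRing D] [IsDomain D] [IsDiscreteValuationRing D] [Algebra B D]
    (hred : ∀ (K : Type u) [Field K] [Algebra B K], IsReduced (C ⊗[B] K)) (c : D) (hc : c ≠ 0)
    (x : C ⊗[B] D) (hx : x * x = (1 ⊗ₜ[B] c) * x) : x ∈ Ideal.span {(1 : C) ⊗ₜ[B] c} := by
  obtain ⟨π, hπ⟩ := IsDiscreteValuationRing.exists_irreducible D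
  obtain ⟨n, w, rfl⟩ := IsDiscreteValuationRing.eq_unit_mul_pow_irreducible hc hπ
  let ι : D →ₐ[B] C ⊗[B] D := Algebra.TensorProduct.includeRight
  have h1 : ι w * ι (w⁻¹ : Dˣ) = 1 := by rw [← map_mul, Units.mul_inv, map_one]
  have hc' : (1 : C) ⊗ₜ[B] ((w : D) * π ^ n) = ι w * ι (π ^ n) := map_mul ι _ _
  have key : ι (π ^ n) = (1 : C) ⊗ₜ[B] π ^ n := map_pow ι π n
  rw [hc'] at hx ⊢
  obtain ⟨y, hy⟩ := exists_eq_pow_mul D hred π hπ n (ι (w⁻¹ : Dˣ) * x) (by
    rw [← key]
    linear_combination (ι (w⁻¹ : Dˣ) ^ 2) * hx + (ι (w⁻¹ : Dˣ) * ι (π ^ n) * x) * h1)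
  refine Ideal.mem_span_singleton'.2 ⟨y, ?_⟩
  rw [← key] at hy
  linear_combination -(ι w) * hy + x * h1

/-- Divisibility is checked on a finite separating family. -/
theorem mem_span_of_family {N : Type u} [CommRing N] [Algebra B N] (c : N) {κ : Type u} [Finite κ]
    (D : κ → Type u) [∀ i, CommRing (D i)] [∀ i, Algebra B (D i)] (f : ∀ i, N →ₐ[B] D i)
    (hsep : ∀ x : N, (∀ i, f i x ∈ Ideal.span {f i c}) → x ∈ Ideal.span {c})
    (z : C ⊗[B] N)
    (hz : ∀ i, Algebra.TensorProduct.map (AlgHom.id B C) (f i) z ∈ Ideal.span {(1 : C) ⊗ₜ[B] f i c}) :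
    z ∈ Ideal.span {(1 : C) ⊗ₜ[B] c} := by
  classical
  have := Fintype.ofFinite κ
  let m : N →ₗ[B] N := (LinearMap.mulLeft N c).restrictScalars B
  let q : ∀ i, D i →ₐ[B] D i ⧸ Ideal.span {f i c} := fun i => Ideal.Quotient.mkₐ B _
  let g : N →ₗ[B] ∀ i, D i ⧸ Ideal.span {f i c} := LinearMap.pi fun i => ((q i).comp (f i)).toLinearMap
  have hex : Function.Exact m g := fun x => by
    constructor
    · intro hx
      obtain ⟨y, hy⟩ := Ideal.mem_span_singleton'.1
        (hsep x fun i => Ideal.Quotient.eq_zero_iff_mem.1 (congr_fun hx i))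
      exact ⟨y, (mul_comm c y).trans hy⟩
    · rintro ⟨y, rfl⟩
      exact funext fun i => Ideal.Quotient.eq_zero_iff_mem.2
        (Ideal.mem_span_singleton'.2 ⟨f i y, by rw [← map_mul, mul_comm]; rfl⟩)
  have hcomp : ∀ (i : κ) (w : C ⊗[B] N),
      TensorProduct.piRight B B C (fun i => D i ⧸ Ideal.span {f i c}) (g.lTensor C w) i =
        Algebra.TensorProduct.map (AlgHom.id B C) (q i)
          (Algebra.TensorProduct.map (AlgHom.id B C) (f i) w) := by
    intro i w
    induction w using TensorProduct.induction_on with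
    | zero => simp
    | tmul a b => simp [g]
    | add a b ha hb => simp only [map_add, Pi.add_apply, ha, hb]
  have h0 : g.lTensor C z = 0 := by
    refine (TensorProduct.piRight B B C _).injective (funext fun i => ?_)
    rw [hcomp, map_zero, Pi.zero_apply]
    obtain ⟨y, hy⟩ := Ideal.mem_span_singleton'.1 (hz i)
    rw [← hy, map_mul, show Algebra.TensorProduct.map (AlgHom.id B C) (q i) ((1 : C) ⊗ₜ[B] f i c) =
      (1 : C) ⊗ₜ[B] (q i (f i c)) from rfl, show q i (f i c) = 0 from
        Ideal.Quotient.eq_zero_iff_mem.2 (Ideal.mem_span_singleton_self _), TensorProduct.tmul_zero, mul_zero]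
  obtain ⟨y, rfl⟩ := ((Module.Flat.lTensor_exact C hex) z).1 h0
  have he : ∀ w : C ⊗[B] N, m.lTensor C w = ((1 : C) ⊗ₜ[B] c) * w := fun w => by
    induction w using TensorProduct.induction_on with
    | zero => simp
    | tmul a b => simp [m]
    | add a b ha hb => rw [map_add, mul_add, ha, hb]
  rw [he]
  exact Ideal.mul_mem_right _ _ (Ideal.mem_span_singleton_self _)

/-- Idempotents over a field come from a subring cut out by discrete valuation rings. -/
theorem idempotent_of_family {L : Type u} [Field L] [Algebra B L]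
    (hred : ∀ (K : Type u) [Field K] [Algebra B K], IsReduced (C ⊗[B] K)) (N : Subalgebra B L)
    (hfrac : ∀ x : L, ∃ c : N, (c : L) ≠ 0 ∧ (c : L) * x ∈ N) (𝒲 : Set (ValuationSubring L))
    (h : CAlgH3.KrullFamily.IsFamily N.toSubring 𝒲) (e : C ⊗[B] L) (he : IsIdempotentElem e) :
    ∃ z : C ⊗[B] N, IsIdempotentElem z ∧ Algebra.TensorProduct.map (AlgHom.id B C) N.val z = e := by
  classical
  let μ := Algebra.TensorProduct.map (AlgHom.id B C) N.val
  have hμ : Function.Injective μ := injective_tensor_map N.val Subtype.val_injective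
  obtain ⟨c, hc0, z, hz⟩ : ∃ c : N, (c : L) ≠ 0 ∧ ∃ z, μ z = ((1 : C) ⊗ₜ[B] (c : L)) * e := by
    clear he
    induction e using TensorProduct.induction_on with
    | zero => exact ⟨1, by simp, 0, by simp⟩
    | tmul a x =>
        obtain ⟨c, hc0, hcx⟩ := hfrac x
        exact ⟨c, hc0, a ⊗ₜ[B] (⟨(c : L) * x, hcx⟩ : N), by simp [μ]⟩
    | add a b ha hb =>
        obtain ⟨c₁, h₁, z₁, hz₁⟩ := ha
        obtain ⟨c₂, h₂, z₂, hz₂⟩ := hb
        refine ⟨c₁ * c₂, mul_ne_zero h₁ h₂, ((1 : C) ⊗ₜ[B] c₂) * z₁ + ((1 : C) ⊗ₜ[B] c₁) * z₂, ?_⟩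
        have hc : ((1 : C) ⊗ₜ[B] ((c₁ * c₂ : N) : L)) = ((1 : C) ⊗ₜ[B] (c₁ : L)) * ((1 : C) ⊗ₜ[B] (c₂ : L)) := by
          rw [Algebra.TensorProduct.tmul_mul_tmul, one_mul]; rfl
        rw [map_add, map_mul, map_mul, hz₁, hz₂, hc,
          show μ ((1 : C) ⊗ₜ[B] c₁) = (1 : C) ⊗ₜ[B] (c₁ : L) from rfl,
          show μ ((1 : C) ⊗ₜ[B] c₂) = (1 : C) ⊗ₜ[B] (c₂ : L) from rfl]
        ring
  have hμc : μ ((1 : C) ⊗ₜ[B] c) = (1 : C) ⊗ₜ[B] (c : L) := rfl
  have hsq : z * z = ((1 : C) ⊗ₜ[B] c) * z := hμ (by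
    rw [map_mul, map_mul, hz, hμc]
    linear_combination ((1 : C) ⊗ₜ[B] (c : L)) ^ 2 * he.eq)
  let F := {W ∈ 𝒲 | (c : L)⁻¹ ∉ W}
  have : Finite F := (h.finite _).to_subtype
  have hN : ∀ (W : F) (x : N), (x : L) ∈ W.1 := fun W x => (h.mem_iff _).1 x.2 W.1 W.2.1
  let alg : ∀ W : F, Algebra B W.1 := fun W =>
    ((algebraMap B L).codRestrict W.1.toSubring fun b => hN W (algebraMap B N b)).toAlgebra
  let f : ∀ W : F, N →ₐ[B] W.1 := fun W =>
    { toFun := fun x => ⟨x, hN W x⟩
      map_one' := rfl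
      map_mul' := fun _ _ => rfl
      map_zero' := rfl
      map_add' := fun _ _ => rfl
      commutes' := fun _ => rfl }
  have hmem : z ∈ Ideal.span {(1 : C) ⊗ₜ[B] c} := by
    refine mem_span_of_family c (fun W : F => W.1) f (fun x hx => ?_) z (fun W => ?_)
    · have hq : (x : L) * (c : L)⁻¹ ∈ N := by
        refine (h.mem_iff _).2 fun W hW => ?_
        by_cases hWF : (c : L)⁻¹ ∈ W
        · exact mul_mem ((h.mem_iff _).1 x.2 W hW) hWF
        · obtain ⟨y, hy⟩ := Ideal.mem_span_singleton'.1 (hx ⟨W, hW, hWF⟩)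
          have hy' : (y : L) * (c : L) = (x : L) := congrArg Subtype.val hy
          rw [← hy', mul_assoc, mul_inv_cancel₀ hc0, mul_one]
          exact y.2
      exact Ideal.mem_span_singleton'.2 ⟨⟨_, hq⟩, Subtype.ext (inv_mul_cancel_right₀ hc0 _)⟩
    · have := h.dvr W.1 W.2.1
      refine exists_eq_mul_of_sq W.1 hred (f W c) (fun h0 => hc0 (congrArg Subtype.val h0)) _ ?_
      rw [← map_mul, hsq, map_mul]
      rfl
  obtain ⟨e', rfl⟩ := Ideal.mem_span_singleton'.1 hmem
  have hu : ((1 : C) ⊗ₜ[B] (c : L)) * ((1 : C) ⊗ₜ[B] (c : L)⁻¹) = 1 := by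
    rw [Algebra.TensorProduct.tmul_mul_tmul, one_mul, mul_inv_cancel₀ hc0]; rfl
  rw [map_mul, hμc] at hz
  have he' : μ e' = e := by
    linear_combination ((1 : C) ⊗ₜ[B] (c : L)⁻¹) * hz - (μ e' - e) * hu
  exact ⟨e', hμ (by rw [map_mul, he']; exact he.eq), he'⟩

omit [Module.Flat B C] in
/-- Base changes of local rings along local integral extensions with purely inseparable residue extension. -/
theorem idempotent_tensor_integral [IsLocalRing B] [IsSepClosed (ResidueField B)] [IsLocalRing C]
    [IsLocalHom (algebraMap B C)] (N : Type u) [CommRing N] [IsLocalRing N] [Algebra B N]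
    [Algebra.IsIntegral B N] (z : C ⊗[B] N) (hz : IsIdempotentElem z) : z = 0 ∨ z = 1 := by
  have : IsLocalHom (algebraMap B N) := HenselLib.LocalInt.isLocalHom_of_isIntegral B N
  let K := AlgebraicClosure (ResidueField C)
  let iC : C →+* K := (algebraMap (ResidueField C) K).comp (residue C)
  have key : ∀ M : Ideal (C ⊗[B] N), M.IsMaximal → ∃ F : C ⊗[B] N →+* K,
      RingHom.ker F = M ∧ F.comp Algebra.TensorProduct.includeLeftRingHom = iC := by
    intro M hM
    let q := (C ⊗[B] N) ⧸ M
    let : Field q := Ideal.Quotient.field M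
    have hcomap : M.comap (algebraMap C (C ⊗[B] N)) = maximalIdeal C :=
      eq_maximalIdeal (Ideal.isMaximal_comap_of_isIntegral_of_isMaximal (R := C) M)
    have : IsLocalHom (algebraMap C q) := by
      refine ⟨fun c hc => by_contra fun hcu => hc.ne_zero ?_⟩
      rw [IsScalarTower.algebraMap_apply C (C ⊗[B] N) q]
      exact Ideal.Quotient.eq_zero_iff_mem.2
        (hcomap.ge ((IsLocalRing.mem_maximalIdeal c).2 hcu))
    let : Algebra (ResidueField C) q := (ResidueField.lift (algebraMap C q)).toAlgebra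
    have : IsScalarTower C (ResidueField C) q := IsScalarTower.of_algebraMap_eq fun _ => rfl
    have : Algebra.IsIntegral C q :=
      Algebra.IsIntegral.of_surjective (Ideal.Quotient.mkₐ C M) Ideal.Quotient.mk_surjective
    have : Algebra.IsIntegral (ResidueField C) q := Algebra.IsIntegral.tower_top C
    let j : q →ₐ[ResidueField C] K := IsAlgClosed.lift
    refine ⟨j.toRingHom.comp (Ideal.Quotient.mk M), ?_, RingHom.ext fun c => ?_⟩
    · ext x
      rw [RingHom.mem_ker, RingHom.comp_apply, map_eq_zero_iff _ j.toRingHom.injective,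
        Ideal.Quotient.eq_zero_iff_mem]
    · show j (Ideal.Quotient.mk M (c ⊗ₜ[B] 1)) = algebraMap (ResidueField C) K (residue C c)
      rw [← j.commutes]
      rfl
  have uniq : ∀ F G : C ⊗[B] N →+* K, F.comp Algebra.TensorProduct.includeLeftRingHom = iC →
      G.comp Algebra.TensorProduct.includeLeftRingHom = iC → F = G := by
    intro F G hF hG
    have hres : ∀ (H : C ⊗[B] N →+* K), H.comp Algebra.TensorProduct.includeLeftRingHom = iC →
        ∃ h : ResidueField N →+* K, h.comp (algebraMap (ResidueField B) (ResidueField N)) =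
            (algebraMap (ResidueField C) K).comp (ResidueField.map (algebraMap B C)) ∧
          ∀ x, h (residue N x) = H (1 ⊗ₜ[B] x) := by
      intro H hH
      let hN : N →+* K := H.comp Algebra.TensorProduct.includeRight.toRingHom
      have hB : ∀ b, hN (algebraMap B N b) = iC (algebraMap B C b) := fun b => by
        rw [← hH]
        show H ((1 : C) ⊗ₜ[B] algebraMap B N b) = H (algebraMap B C b ⊗ₜ[B] (1 : N))
        rw [Algebra.algebraMap_eq_smul_one (A := N), ← TensorProduct.smul_tmul,
          ← Algebra.algebraMap_eq_smul_one]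
      have hker : RingHom.ker hN = maximalIdeal N := by
        have : (RingHom.ker hN).IsPrime := RingHom.ker_isPrime hN
        refine eq_maximalIdeal (Ideal.isMaximal_of_isIntegral_of_isMaximal_comap (R := B) _ ?_)
        rw [show (RingHom.ker hN).comap (algebraMap B N) = maximalIdeal B from ?_]
        · infer_instance
        ext b
        rw [Ideal.mem_comap, RingHom.mem_ker, hB, IsLocalRing.mem_maximalIdeal]
        show algebraMap (ResidueField C) K (residue C (algebraMap B C b)) = 0 ↔ _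
        rw [map_eq_zero, residue_eq_zero_iff, IsLocalRing.mem_maximalIdeal, map_mem_nonunits_iff]
      have : IsLocalHom hN := ⟨fun x hx => by_contra fun hxu => hx.ne_zero
        (RingHom.mem_ker.1 (hker ▸ (IsLocalRing.mem_maximalIdeal x).2 hxu))⟩
      refine ⟨ResidueField.lift hN, RingHom.ext fun r => ?_, fun x => rfl⟩
      obtain ⟨b, rfl⟩ := residue_surjective r
      exact hB b
    obtain ⟨f, hf, hf'⟩ := hres F hF
    obtain ⟨g, hg, hg'⟩ := hres G hG
    have : Algebra.IsAlgebraic (ResidueField B) (ResidueField N) := by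
      have : Algebra.IsIntegral B (ResidueField N) := Algebra.IsIntegral.trans N
      have : Algebra.IsIntegral (ResidueField B) (ResidueField N) := Algebra.IsIntegral.tower_top B
      infer_instance
    have : IsPurelyInseparable (ResidueField B) (ResidueField N) :=
      Algebra.IsAlgebraic.isPurelyInseparable_of_isSepClosed
    have hfg : f = g := IsPurelyInseparable.injective_comp_algebraMap (ResidueField B) (ResidueField N) K
      (hf.trans hg.symm)
    refine RingHom.ext fun w => ?_
    induction w using TensorProduct.induction_on with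
    | zero => rw [map_zero, map_zero]
    | tmul a x =>
        rw [show a ⊗ₜ[B] x = (a ⊗ₜ[B] (1 : N)) * ((1 : C) ⊗ₜ[B] x) by simp, map_mul, map_mul, ← hf' x, ← hg' x, hfg]
        congr 1
        exact (RingHom.congr_fun hF a).trans (RingHom.congr_fun hG a).symm
    | add a b ha hb => rw [map_add, map_add, ha, hb]
  by_cases hu : IsUnit z
  · exact Or.inr ((IsIdempotentElem.iff_eq_one_of_isUnit hu).1 hz)
  · by_cases hu' : IsUnit (1 - z)
    · exact Or.inl (by simpa using (IsIdempotentElem.iff_eq_one_of_isUnit hu').1 hz.one_sub)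
    · obtain ⟨M₁, hM₁, h₁⟩ := exists_max_ideal_of_mem_nonunits hu
      obtain ⟨M₂, hM₂, h₂⟩ := exists_max_ideal_of_mem_nonunits hu'
      obtain ⟨F, hF, hF'⟩ := key M₁ hM₁
      obtain ⟨G, hG, hG'⟩ := key M₂ hM₂
      have : M₁ = M₂ := by rw [← hF, ← hG, uniq F G hF' hG']
      subst this
      exact absurd ((Ideal.eq_top_iff_one _).2 (by simpa using M₁.add_mem h₁ h₂)) hM₁.ne_top

/-- A domain integral over a henselian local ring is local. -/
theorem isLocalRing_of_integral_domain (B T : Type u) [CommRing B] [HenselianLocalRing B] [CommRing T]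
    [IsDomain T] [Algebra B T] [Algebra.IsIntegral B T] : IsLocalRing T := by
  obtain ⟨M, hM⟩ := Ideal.exists_maximal T
  exact RingEquiv.isLocalRing (RingEquiv.ofBijective (algebraMap T (Localization.AtPrime M))
    ⟨IsLocalization.injective _ M.primeCompl_le_nonZeroDivisors,
      HenselLib.LocalInt.surjective_algebraMap_localization B M⟩).symm

section Main

variable [HenselianLocalRing B] [IsNoetherianRing B] [IsSepClosed (ResidueField B)] [IsLocalRing C]
  [IsLocalHom (algebraMap B C)]

/-- Idempotents with algebraic coefficients are trivial. -/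
theorem idempotent_of_algebraic_coeffs (hred : ∀ (K : Type u) [Field K] [Algebra B K], IsReduced (C ⊗[B] K))
    {Ω : Type u} [Field Ω] [Algebra B Ω] (s : Finset (C × Ω))
    (hs : ∀ i ∈ s, ∃ b : B, algebraMap B Ω b ≠ 0 ∧ IsIntegral B (algebraMap B Ω b * i.2))
    (e : C ⊗[B] Ω) (hse : e = ∑ i ∈ s, i.1 ⊗ₜ[B] i.2) (he : IsIdempotentElem e) : e = 0 ∨ e = 1 := by
  classical
  choose! b hb0 hbi using hs
  let B₁ := Algebra.adjoin B ((s.image fun i => algebraMap B Ω (b i) * i.2 : Finset Ω) : Set Ω)
  have : Module.Finite B B₁ := ⟨(Submodule.fg_top _).mpr (fg_adjoin_of_finite (Finset.finite_toSet _)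
    fun y hy => by
      obtain ⟨i, hi, rfl⟩ := Finset.mem_image.1 hy
      exact hbi i hi)⟩
  have : IsNoetherianRing B₁ := IsNoetherianRing.of_finite B B₁
  have : IsLocalRing B₁ := isLocalRing_of_integral_domain B B₁
  let L := FractionRing B₁
  let fΩ : L →+* Ω := IsFractionRing.lift (g := B₁.val.toRingHom) Subtype.val_injective
  have hfΩ : ∀ x : B₁, fΩ (algebraMap B₁ L x) = x := fun x => IsFractionRing.lift_algebraMap _ x
  have hfB : ∀ x : B, fΩ (algebraMap B L x) = algebraMap B Ω x := fun x => by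
    rw [IsScalarTower.algebraMap_apply B B₁ L, hfΩ]
    rfl
  let f : L →ₐ[B] Ω := { fΩ with commutes' := hfB }
  let μ := Algebra.TensorProduct.map (AlgHom.id B C) f
  obtain ⟨eL, heL⟩ : e ∈ Set.range μ := by
    rw [hse, ← AlgHom.coe_range, SetLike.mem_coe]
    refine sum_mem fun i hi => ?_
    have hmem : algebraMap B Ω (b i) * i.2 ∈ B₁ := Algebra.subset_adjoin (Finset.mem_image_of_mem _ hi)
    refine ⟨i.1 ⊗ₜ[B] (algebraMap B₁ L ⟨_, hmem⟩ / algebraMap B L (b i)), ?_⟩
    show i.1 ⊗ₜ[B] fΩ (algebraMap B₁ L ⟨_, hmem⟩ / algebraMap B L (b i)) = _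
    rw [map_div₀, hfΩ, show fΩ (algebraMap B L (b i)) = algebraMap B Ω (b i) from f.commutes (b i),
      mul_div_cancel_left₀ _ (hb0 i hi)]
  have heL' : IsIdempotentElem eL :=
    injective_tensor_map f fΩ.injective (by rw [map_mul]; exact (heL ▸ he).eq)
  let N₁ := integralClosure B₁ L
  have hN₁ : ∀ x : L, IsIntegral B x ↔ IsIntegral B₁ x := fun x =>
    ⟨fun h => h.tower_top, fun h => isIntegral_trans x h⟩
  let N := integralClosure B L
  obtain ⟨𝒲, 𝓔, hfam, -, -⟩ := CAlgH3.Mori.exists_family B₁ L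
  have hN : N.toSubring = N₁.toSubring := SetLike.ext hN₁
  obtain ⟨z, hz, hzμ⟩ := idempotent_of_family hred N (fun x => by
    obtain ⟨a, c, hc, rfl⟩ := IsFractionRing.div_surjective B₁ x
    have hc0 : algebraMap B₁ L c ≠ 0 := IsFractionRing.to_map_ne_zero_of_mem_nonZeroDivisors hc
    refine ⟨⟨algebraMap B₁ L c, (hN₁ _).2 isIntegral_algebraMap⟩, hc0, ?_⟩
    rw [show algebraMap B₁ L c * (algebraMap B₁ L a / algebraMap B₁ L c) = algebraMap B₁ L a from
      mul_div_cancel₀ _ hc0]
    exact (hN₁ _).2 isIntegral_algebraMap) 𝒲 (hN ▸ hfam) eL heL'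
  have : IsLocalRing N := isLocalRing_of_integral_domain B N
  rw [← heL, ← hzμ]
  rcases idempotent_tensor_integral N z hz with rfl | rfl
  · exact Or.inl (by rw [map_zero, map_zero])
  · exact Or.inr (by rw [map_one, map_one])

/-- Geometric fibres of flat local maps with geometrically reduced fibres have no idempotents. -/
theorem idempotent_fibre_noetherian (hred : ∀ (K : Type u) [Field K] [Algebra B K], IsReduced (C ⊗[B] K))
    {Ω : Type u} [Field Ω] [IsAlgClosed Ω] [Algebra B Ω] (e : C ⊗[B] Ω) (he : IsIdempotentElem e) :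
    e = 0 ∨ e = 1 := by
  let Bi := (algebraMap B Ω).range
  let K := FractionRing Bi
  let : Algebra K Ω := (IsFractionRing.lift (g := Bi.subtype) Subtype.val_injective).toAlgebra
  have : IsScalarTower Bi K Ω := IsScalarTower.of_algebraMap_eq fun x => (IsFractionRing.lift_algebraMap _ x).symm
  let Lb := algebraicClosure K Ω
  have hBmem : ∀ x, algebraMap B Ω x ∈ Lb := fun x => by
    rw [show algebraMap B Ω x = algebraMap K Ω (algebraMap Bi K ⟨algebraMap B Ω x, x, rfl⟩) from
      (IsScalarTower.algebraMap_apply Bi K Ω ⟨algebraMap B Ω x, x, rfl⟩)]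
    exact Lb.algebraMap_mem _
  let : Algebra B Lb := ((algebraMap B Ω).codRestrict Lb hBmem).toAlgebra
  have : IsScalarTower B Lb Ω := IsScalarTower.of_algebraMap_eq fun _ => rfl
  let v : Lb →ₐ[B] Ω := IsScalarTower.toAlgHom B Lb Ω
  have hcoef : ∀ x : Lb, ∃ b : B, algebraMap B Ω b ≠ 0 ∧ IsIntegral B (algebraMap B Ω b * (x : Ω)) := fun x => by
    have hx : IsAlgebraic Bi (x : Ω) := (IsFractionRing.isAlgebraic_iff Bi K Ω).2 (mem_algebraicClosure_iff.1 x.2)
    obtain ⟨⟨y, b, rfl⟩, hy0, hy⟩ := hx.exists_integral_multiple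
    refine ⟨b, fun h => hy0 (Subtype.ext h), ?_⟩
    have hsurj : Function.Surjective (algebraMap B Ω).rangeRestrict := (algebraMap B Ω).rangeRestrict_surjective
    let : Algebra B Bi := (algebraMap B Ω).rangeRestrict.toAlgebra
    have : IsScalarTower B Bi Ω := IsScalarTower.of_algebraMap_eq fun _ => rfl
    have : Algebra.IsIntegral B Bi := Algebra.IsIntegral.of_surjective (Algebra.ofId B Bi) hsurj
    exact isIntegral_trans _ hy
  have : IsAlgClosed Lb := (algebraicClosure.isAlgClosure (F := K) (E := Ω)).isAlgClosed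
  have hconn : ConnectedSpace ↥(Spec (CommRingCat.of (C ⊗[B] Lb))) := by
    have hpre : PreconnectedSpace ↥(Spec (CommRingCat.of (C ⊗[B] Lb))) :=
      CAlgH3.preconnectedSpace_of_idempotents fun w hw => by
        classical
        obtain ⟨s, hs⟩ := TensorProduct.exists_finset w
        let μ := Algebra.TensorProduct.map (AlgHom.id B C) v
        have hμ : Function.Injective μ := injective_tensor_map v Subtype.val_injective
        have := idempotent_of_algebraic_coeffs hred (s.image fun i => (i.1, (i.2 : Ω))) (fun i hi => by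
          obtain ⟨j, -, rfl⟩ := Finset.mem_image.1 hi
          exact hcoef j.2) (μ w) (by
            rw [Finset.sum_image, hs, map_sum]
            · rfl
            · rintro ⟨a, x⟩ - ⟨a', x'⟩ - h
              simpa using h) (hw.map μ)
        exact this.imp (fun h => hμ (h.trans (map_zero μ).symm)) (fun h => hμ (h.trans (map_one μ).symm))
    have : Module.FaithfullyFlat B C := Module.FaithfullyFlat.of_flat_of_isLocalHom
    have : Nontrivial (C ⊗[B] Lb) := Module.FaithfullyFlat.lTensor_nontrivial B C Lb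
    exact { toNonempty := inferInstanceAs (Nonempty (PrimeSpectrum (C ⊗[B] Lb))) }
  let p := Spec.map (CommRingCat.ofHom (Algebra.TensorProduct.includeRight : Lb →ₐ[B] C ⊗[B] Lb).toRingHom)
  let η := Spec.map (CommRingCat.ofHom (algebraMap Lb Ω))
  have hpre := connFibres_to_sepClosed p Ω η
  have sq : IsPullback (Spec.map (CommRingCat.ofHom
      (Algebra.TensorProduct.includeLeftRingHom : C →+* C ⊗[B] Lb))) p
      (Spec.map (CommRingCat.ofHom (algebraMap B C))) (Spec.map (CommRingCat.ofHom (algebraMap B Lb))) :=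
    isPullback_SpecMap_of_isPushout _ _ _ _ (CommRingCat.isPushout_tensorProduct B C Lb)
  have sq' := (IsPullback.of_hasPullback p η).paste_horiz sq
  have hη : η ≫ Spec.map (CommRingCat.ofHom (algebraMap B Lb)) = Spec.map (CommRingCat.ofHom (algebraMap B Ω)) := by
    rw [← Spec.map_comp]; rfl
  let i : pullback p η ≅ Spec (CommRingCat.of (C ⊗[B] Ω)) :=
    sq'.isoPullback ≪≫ pullback.congrHom rfl hη ≪≫ pullbackSpecIso B C Ω
  have : PreconnectedSpace ↥(Spec (CommRingCat.of (C ⊗[B] Ω))) :=
    (Scheme.homeoOfIso i).surjective.denseRange.preconnectedSpace (Scheme.homeoOfIso i).continuous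
  have : PreconnectedSpace (PrimeSpectrum (C ⊗[B] Ω)) := this
  have hcl := isClopen_iff.1 (PrimeSpectrum.isClopen_iff.2 ⟨e, he, rfl⟩ :
    IsClopen (PrimeSpectrum.basicOpen e : Set (PrimeSpectrum (C ⊗[B] Ω))))
  rcases hcl with h | h
  · refine Or.inl (he.eq_zero_of_isNilpotent ((PrimeSpectrum.basicOpen_eq_bot_iff e).1 ?_))
    exact SetLike.coe_injective h
  · refine Or.inr ((IsIdempotentElem.iff_eq_one_of_isUnit ?_).1 he)
    by_contra hu
    obtain ⟨M, hM, heM⟩ := exists_max_ideal_of_mem_nonunits hu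
    exact (h.ge (Set.mem_univ (⟨M, hM.isPrime⟩ : PrimeSpectrum (C ⊗[B] Ω))) : e ∉ M) heM

end Main

end Groth.Agent.Et18.H0Lift
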