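import Groth.Agent.Et18.H0Lift.ConnUnitQuot
import Groth.Agent.Et18.PropBEpi

/-!
# Connectedness from units of inverse images
-/

set_option autoImplicit false
set_option backward.isDefEq.respectTransparency.types false
set_option backward.isDefEq.respectTransparency false

universe u

open CategoryTheory CategoryTheory.Limits AlgebraicGeometry Opposite TopologicalSpace

namespace Groth.Agent.Et18.H0Lift

/-- There is an abelian sheaf with a global section whose support is everything. -/
theorem exists_fullSupp (Y : Scheme.{u}) : ∃ (A : EtCoh.Ab Y) (t : EtCoh.sect A (EtCoh.top Y)),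
    EtShriek.sectSupp A (EtCoh.top Y) t = Set.univ := by
  let T : EtDesc.Sh Y := ⊤_ _
  let ev := sheafToPresheaf Y.smallEtaleTopology (Type (u + 1)) ⋙
    (CategoryTheory.evaluation _ _).obj (op (EtCoh.top Y))
  let t₀ : EtDesc.sect T (EtCoh.top Y) :=
    ((terminalIsTerminal : IsTerminal T).isTerminalObj ev).from PUnit.{u + 2} PUnit.unit
  let il : T ⟶ T ⨿ T := coprod.inl
  let ir : T ⟶ T ⨿ T := coprod.inr
  let a := il.hom.app (op (EtCoh.top Y)) t₀
  let b := ir.hom.app (op (EtCoh.top Y)) t₀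
  obtain ⟨A, m, hm⟩ := exists_mono_setsOf (T ⨿ T)
  let ma : EtCoh.sect A (EtCoh.top Y) := m.hom.app (op (EtCoh.top Y)) a
  let mb : EtCoh.sect A (EtCoh.top Y) := m.hom.app (op (EtCoh.top Y)) b
  refine ⟨A, ma - mb, Set.eq_univ_iff_forall.2 ?_⟩
  rintro x W g ⟨w, -⟩ h0
  rw [map_sub, sub_eq_zero] at h0
  have : Mono m.hom := inferInstanceAs (Mono ((sheafToPresheaf _ _).map m))
  have hinj : Function.Injective (m.hom.app (op W)) := (mono_iff_injective _).1 inferInstance
  have h1 : (T ⨿ T).obj.map g.op a = (T ⨿ T).obj.map g.op b := hinj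
    (((ConcreteCategory.congr_hom (m.hom.naturality g.op) a).trans h0).trans
      (ConcreteCategory.congr_hom (m.hom.naturality g.op) b).symm)
  obtain ⟨v, -⟩ := exists_fiber_point (algPoint Y (W.hom w)) W w (algPoint_default Y _).symm
  let ξ := algPoint Y (W.hom w)
  have hc := (Types.binaryCofan_isColimit_iff _).1
    ⟨isColimitOfHasBinaryCoproductOfPreservesColimit (stalkSh ξ) T T⟩
  have h2 : (stalkSh ξ).map il (gmS T ξ W v (T.obj.map g.op t₀)) =
      (stalkSh ξ).map ir (gmS T ξ W v (T.obj.map g.op t₀)) := by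
    rw [gmS_hom, gmS_hom]
    refine congrArg (gmS _ ξ W v) ((ConcreteCategory.congr_hom (il.hom.naturality g.op) t₀).trans
      (h1.trans (ConcreteCategory.congr_hom (ir.hom.naturality g.op) t₀).symm))
  exact Set.disjoint_left.1 hc.2.2.disjoint ⟨_, rfl⟩ ⟨_, h2.symm⟩

variable {X Y : Scheme.{u}} (p : X ⟶ Y)

/-- Units for abelian sheaves are isomorphisms when those for sheaves of sets are. -/
theorem isIso_unit_of_unitSh (A : EtCoh.Ab Y) (h : IsIso ((EtDesc.adjSh p).unit.app ((setsOf Y).obj A))) :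
    IsIso ((EtCoh.pullPushAdj p).unit.app A) := by
  have := isIso_pullSetsHom p A
  have key : (EtDesc.adjSh p).unit.app ((setsOf Y).obj A) ≫ (EtDesc.pushSh p).map (pullSetsHom p A) =
      (setsOf Y).map ((EtCoh.pullPushAdj p).unit.app A) :=
    Sheaf.hom_ext (NatTrans.ext (funext fun U => unit_pullSetsHom p A U.unop))
  have h1 : IsIso ((setsOf Y).map ((EtCoh.pullPushAdj p).unit.app A)) := by rw [← key]; infer_instance
  let a := (EtCoh.pullPushAdj p).unit.app A
  have : ∀ U, IsIso (a.hom.app U) := fun U => (ConcreteCategory.isIso_iff_bijective _).mpr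
    (ConcreteCategory.bijective_of_isIso
      (((sheafToPresheaf Y.smallEtaleTopology (Type (u + 1))).map ((setsOf Y).map a)).app U))
  have : IsIso a.hom := NatIso.isIso_of_isIso_app _
  have : IsIso ((sheafToPresheaf _ _).map a) := inferInstanceAs (IsIso a.hom)
  exact isIso_of_reflects_iso a (sheafToPresheaf _ _)

/-- A surjection with invertible units has connected total space over a connected base. -/
theorem preconnectedSpace_of_unit (hp : Function.Surjective p) [PreconnectedSpace Y]
    (hu : ∀ A : EtCoh.Ab Y, IsIso ((EtCoh.pullPushAdj p).unit.app A)) : PreconnectedSpace X := by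
  obtain ⟨A, t, ht⟩ := exists_fullSupp Y
  let P := (EtCoh.bc p).obj (EtCoh.top Y)
  let G := (EtCoh.pull p).obj A
  let r : P.left ⟶ Y := EtShriek.prV p (EtCoh.top Y)
  have hr : Function.Surjective r := fun y => by
    obtain ⟨x, hx⟩ := hp y
    obtain ⟨z, hz, -⟩ := Scheme.Pullback.exists_preimage_pullback (f := (EtCoh.top Y).hom) (g := p) y x hx.symm
    exact ⟨z, hz⟩
  have hP : Function.Surjective P.hom := fun x => by
    obtain ⟨z, -, hz⟩ := Scheme.Pullback.exists_preimage_pullback (f := (EtCoh.top Y).hom) (g := p) (p x) x rfl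
    exact ⟨z, hz⟩
  suffices h : PreconnectedSpace P.left from
    have : PreconnectedSpace ↥((𝟭 Scheme).obj P.left) := h
    hP.denseRange.preconnectedSpace P.hom.continuous
  refine preconnectedSpace_iff_clopen.2 fun E hE => ?_
  let O : Bool → P.left.Opens := fun c => if c then ⟨E, hE.2⟩ else ⟨Eᶜ, hE.1.isOpen_compl⟩
  let W : ULift.{u + 1} Bool → X.Etale := fun c => etalePiece P (O c.down)
  let i : ∀ c, W c ⟶ P := fun c => etalePieceHom P (O c.down)
  let v : ∀ c, EtCoh.sect G (W c) := fun c =>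
    if c.down then G.obj.map (i c).op (uAt p A (EtCoh.top Y) t) else 0
  obtain ⟨σ, hσ⟩ := exists_glue_cover (F := G) P W i (fun x => by
      by_cases hx : x ∈ E
      · exact ⟨⟨true⟩, ⟨x, hx⟩, rfl⟩
      · exact ⟨⟨false⟩, ⟨x, hx⟩, rfl⟩) v (fun k l R gk gl he z => by
      rcases eq_or_ne k l with rfl | hkl
      · rw [show gk = gl from etaleHom_ext (by
          haveI : Mono (i k).left := inferInstanceAs (Mono (O k.down).ι)
          exact (cancel_mono (i k).left).1 (congrArg (fun q : R ⟶ P => q.left) he)), sub_self]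
        exact notMem_sectSupp_zero _ _ _
      · exfalso
        have h1 : (gk.left z).1 = (gl.left z).1 := congrArg (fun q : R ⟶ P => q.left z) he
        have a₁ : (gk.left z).1 ∈ O k.down := (gk.left z).2
        have a₂ : (gk.left z).1 ∈ O l.down := h1 ▸ (gl.left z).2
        obtain ⟨k⟩ := k
        obtain ⟨l⟩ := l
        cases k <;> cases l <;> first | exact hkl rfl | exact a₁ a₂ | exact a₂ a₁)
  obtain ⟨(s : EtCoh.sect A (EtCoh.top Y)), hs⟩ := (ConcreteCategory.bijective_of_isIso
    (((sheafToPresheaf _ _).map ((EtCoh.pullPushAdj p).unit.app A)).app (op (EtCoh.top Y)))).2 σ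
  have hs' : uAt p A (EtCoh.top Y) s = σ := hs
  have hmem : ∀ z, r z ∈ EtShriek.sectSupp A (EtCoh.top Y) s ↔ z ∈ E := fun z => by
    refine (mem_sectSupp_unit p A (EtCoh.top Y) s z).symm.trans ?_
    rw [hs']
    by_cases hz : z ∈ E
    · refine iff_of_true ?_ hz
      rw [← show (i ⟨true⟩).left ⟨z, hz⟩ = z from rfl, ← mem_sectSupp_map, hσ]
      change (⟨z, hz⟩ : ↥(W ⟨true⟩).left) ∈ EtShriek.sectSupp G (W ⟨true⟩) (G.obj.map (i ⟨true⟩).op _)
      rw [mem_sectSupp_map, mem_sectSupp_unit, ht]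
      trivial
    · refine iff_of_false ?_ hz
      rw [← show (i ⟨false⟩).left ⟨z, hz⟩ = z from rfl, ← mem_sectSupp_map, hσ]
      exact notMem_sectSupp_zero _ _ _
  have hmem' : ∀ z, r z ∈ EtShriek.sectSupp A (EtCoh.top Y) (t - s) ↔ z ∉ E := fun z => by
    refine (mem_sectSupp_unit p A (EtCoh.top Y) (t - s) z).symm.trans ?_
    rw [show uAt p A (EtCoh.top Y) (t - s) = uAt p A (EtCoh.top Y) t - σ by
      rw [← hs']; exact map_sub _ _ _]
    by_cases hz : z ∈ E
    · refine iff_of_false ?_ (not_not_intro hz)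
      rw [← show (i ⟨true⟩).left ⟨z, hz⟩ = z from rfl, ← mem_sectSupp_map, map_sub, hσ]
      change (⟨z, hz⟩ : ↥(W ⟨true⟩).left) ∉ EtShriek.sectSupp G (W ⟨true⟩)
        (G.obj.map (i ⟨true⟩).op _ - G.obj.map (i ⟨true⟩).op _)
      rw [sub_self]
      exact notMem_sectSupp_zero _ _ _
    · refine iff_of_true ?_ hz
      rw [← show (i ⟨false⟩).left ⟨z, hz⟩ = z from rfl, ← mem_sectSupp_map, map_sub, hσ]
      change (⟨z, hz⟩ : ↥(W ⟨false⟩).left) ∈ EtShriek.sectSupp G (W ⟨false⟩)
        (G.obj.map (i ⟨false⟩).op _ - 0)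
      rw [sub_zero, mem_sectSupp_map, mem_sectSupp_unit, ht]
      trivial
  have hcl : IsClopen (EtShriek.sectSupp A (EtCoh.top Y) s) := by
    refine ⟨isClosed_sectSupp _ _ _, ?_⟩
    rw [show EtShriek.sectSupp A (EtCoh.top Y) s = (EtShriek.sectSupp A (EtCoh.top Y) (t - s))ᶜ from
      Set.ext fun y => by
        obtain ⟨z, rfl⟩ := hr y
        rw [Set.mem_compl_iff, hmem, hmem', not_not]]
    exact (isClosed_sectSupp _ _ _).isOpen_compl
  have hcl' : IsClopen (X := ↥Y) (EtShriek.sectSupp A (EtCoh.top Y) s : Set ↥Y) := hcl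
  rcases isClopen_iff.1 hcl' with h0 | h0
  · exact Or.inl (Set.eq_empty_iff_forall_notMem.2 fun z hz => by
      have := (hmem z).2 hz
      rw [h0] at this
      exact this)
  · exact Or.inr (Set.eq_univ_iff_forall.2 fun z => (hmem z).1 (h0 ▸ trivial))

end Groth.Agent.Et18.H0Lift
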