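import Groth.Agent.Et18.H0Lift.SurjDescent
import Groth.Agent.Et18.RecollementSh
import Groth.Agent.Et18.StrictLocal
import Groth.Agent.H8Top.SchemeBasic

/-!
# Surjectivity and the units of inverse images of sheaves of sets
-/

set_option autoImplicit false
set_option backward.isDefEq.respectTransparency.types false
set_option backward.isDefEq.respectTransparency false

universe u

open CategoryTheory CategoryTheory.Limits AlgebraicGeometry Opposite TopologicalSpace

namespace Groth.Agent.Et18.H0Lift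

theorem mono_unitSh_of_surjective {X Y : Scheme.{u}} (p : X ⟶ Y) (hp : Function.Surjective p)
    (F : EtDesc.Sh Y) : Mono ((EtDesc.adjSh p).unit.app F) := by
  let u := (EtDesc.adjSh p).unit.app F
  have happ : ∀ U : Y.Etaleᵒᵖ, Mono (u.hom.app U) := fun U => (mono_iff_injective _).2 fun s t hst => by
    refine eq_of_gmS F U.unop s t fun z => ?_
    obtain ⟨y, hy⟩ := hp (U.unop.hom z)
    let ζ := algPoint X y
    obtain ⟨r, hr⟩ := exists_fiber_point (ζ ≫ p) U.unop z (by
      rw [Scheme.Hom.comp_apply, algPoint_default, hy])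
    refine ⟨_, inferInstance, inferInstance, ζ ≫ p, r, hr, ?_⟩
    refine (bijective_toPullSh p (⟨ζ, rfl⟩ : FibrePts p (ζ ≫ p)) F).1 ?_
    rw [← gmS_unit, ← gmS_unit]
    exact congrArg (gmS _ ζ _ _) hst
  have : Mono u.hom := NatTrans.mono_of_mono_app _
  exact (sheafToPresheaf _ _).mono_of_mono_map (f := u) ‹_›

theorem exists_open_avoiding {X Y : Scheme.{u}} (g : X ⟶ Y) [QuasiCompact g] {y : Y}
    (hy : y ∉ Set.range g) : ∃ D : Y.Opens, y ∈ D ∧ ∀ x, g x ∈ D → ¬ y ⤳ g x := by
  let T : Closeds X := ⟨g ⁻¹' closure {y}, isClosed_closure.preimage g.continuous⟩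
  let ι := (Scheme.IdealSheafData.vanishingIdeal T).subschemeι
  have hι : Set.range ι = g ⁻¹' closure {y} := by
    simp only [ι, Scheme.IdealSheafData.range_subschemeι,
      Scheme.IdealSheafData.coe_support_vanishingIdeal, T]
    rfl
  have hcl : y ∉ closure (Set.range (ι ≫ g)) := fun h => by
    obtain ⟨z, hz⟩ := H8Top.exists_specializes_of_mem_closure_range (ι ≫ g) h
    have h1 : ι z ∈ g ⁻¹' closure {y} := hι ▸ ⟨z, rfl⟩
    have h2 : y ⤳ g (ι z) := specializes_iff_mem_closure.2 h1
    exact hy ⟨ι z, (hz.antisymm h2).eq⟩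
  refine ⟨⟨(closure (Set.range (ι ≫ g)))ᶜ, isClosed_closure.isOpen_compl⟩, hcl, fun x hx hs => hx ?_⟩
  obtain ⟨z, hz⟩ : x ∈ Set.range ι := hι ▸ specializes_iff_mem_closure.1 hs
  exact subset_closure ⟨z, by rw [Scheme.Hom.comp_apply, hz]⟩

theorem surjective_of_mono_units {X Y : Scheme.{u}} (g : X ⟶ Y) [QuasiCompact g]
    (h : EtAcyc.IsMinusOneAcyclic g) : Function.Surjective g := by
  intro y
  by_contra hy
  obtain ⟨D, hyD, hD⟩ := exists_open_avoiding g (y := y) hy
  let V : Y.Etale := Scheme.Etale.mk D.ι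
  let y' : V.left := (⟨y, hyD⟩ : D)
  let ι := sepPoint V.left y'
  let K := SeparableClosure (V.left.residueField y')
  let Γ := (sheafSections (Spec (CommRingCat.of K)).smallEtaleTopology (Type (u + 1))).obj
    (op (EtCoh.top (Spec (CommRingCat.of K))))
  have : Γ.IsEquivalence := isEquivalence_sectTop K
  let G := Γ.objPreimage (ULift.{u + 1} Bool)
  let e : Γ.obj G ≅ ULift.{u + 1} Bool := Γ.objObjPreimageIso _
  let F : EtDesc.Sh V.left := (EtDesc.pushSh ι).obj G
  let p := EtAcyc.prj g V
  let O : V.left.Opens := ⟨(closure {y'})ᶜ, isClosed_closure.isOpen_compl⟩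
  have hO : Disjoint (O : Set V.left) (Set.range ι) := Set.disjoint_left.2 fun z hz ⟨a, ha⟩ => hz (by
    rw [← ha, Subsingleton.elim a default, sepPoint_default]
    exact subset_closure rfl)
  have hp : ∀ x, p x ∈ O := fun x hx => by
    have hw : (p x).1 = g (pullback.snd V.hom g x) := congrArg (fun k => k x) (pullback.condition (f := V.hom) (g := g))
    refine hD (pullback.snd V.hom g x) (hw ▸ (p x).2) (hw ▸ ?_)
    exact (specializes_iff_mem_closure.2 hx).map D.ι.continuous
  have hterm : IsIso (terminal.from ((EtDesc.pullSh p).obj F)) := (isIso_from_iff _).2 fun x => by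
    let ξ := sepPoint _ x
    obtain ⟨hu⟩ := nonempty_unique_stalkSh_pushSh ι G (ξ ≫ p) O (by
      rw [Scheme.Hom.comp_apply, sepPoint_default]; exact hp x) hO
    exact ⟨((stalkShPullIso p ξ).app F).toEquiv.unique⟩
  have hsub : Subsingleton ((((EtDesc.pushSh p).obj ((EtDesc.pullSh p).obj F))).obj.obj
      (op (EtCoh.top V.left))) := by
    let ev := sheafToPresheaf (Scheme.smallEtaleTopology _) (Type (u + 1)) ⋙
      (evaluation _ _).obj (op ((EtCoh.bc p).obj (EtCoh.top V.left)))
    have := Types.isTerminalEquivUnique _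
      (IsTerminal.isTerminalObj ev _ (terminalIsTerminal.ofIso (asIso (terminal.from ((EtDesc.pullSh p).obj F))).symm))
    exact inferInstanceAs (Subsingleton (ev.obj ((EtDesc.pullSh p).obj F)))
  have := h V F
  have hinj : Function.Injective (((EtDesc.adjSh p).unit.app F).hom.app (op (EtCoh.top V.left))) :=
    (mono_iff_injective _).1 (inferInstanceAs (Mono ((sheafToPresheaf _ _ ⋙
      (evaluation _ _).obj (op (EtCoh.top V.left))).map ((EtDesc.adjSh p).unit.app F))))
  have h2 : Subsingleton (Γ.obj G) := ⟨fun a b => by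
    have hi : IsIso (G.obj.map (EtCore.bcTopIso ι).hom.op) := inferInstance
    exact ((isIso_iff_bijective _).1 hi).1 (hinj (hsub.elim _ _))⟩
  have h3 : Subsingleton (ULift.{u + 1} Bool) := e.toEquiv.symm.subsingleton
  exact Bool.noConfusion (congrArg ULift.down (h3.elim ⟨true⟩ ⟨false⟩))

end Groth.Agent.Et18.H0Lift
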