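import Groth.Agent.Et18.H0Lift.StrictPoint
import Groth.Agent.Et18.H0Lift.FullSupp
import Groth.Agent.Et18.H0Lift.MinusOne
import Groth.Agent.Et18.H0Lift.ConnNoeth
import Groth.Agent.Et18.H0Lift.SepFieldBC
import Groth.Agent.H8Top.SchemeBasic
import Groth.Agent.HenselLib.LocalInt
import Groth.Agent.HenselLib.Perm
import Mathlib.RingTheory.IntegralClosure.IntegrallyClosed

/-!
# Universally locally 0-acyclic morphisms: strict localizations have connected geometric fibres
-/

set_option autoImplicit false
set_option backward.isDefEq.respectTransparency.types false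
set_option backward.isDefEq.respectTransparency false

universe u

open CategoryTheory CategoryTheory.Limits AlgebraicGeometry IsLocalRing
open scoped TensorProduct

namespace Groth.Agent.Et18.H0Lift

open HenselLib

theorem surjective_of_zeroAcyclic {X Y : Scheme.{u}} (q : X ⟶ Y) [QuasiCompact q]
    (hq : EtAcyc.IsZeroAcyclic q) : Function.Surjective q :=
  surjective_of_mono_units q fun V F => by have := hq V F; infer_instance

/-- Preimages of connected opens under 0-acyclic morphisms are connected. -/
theorem isPreconnected_preimage_of_zeroAcyclic {X Y : Scheme.{u}} (q : X ⟶ Y) [QuasiCompact q]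
    (hq : EtAcyc.IsZeroAcyclic q) (V : Y.Opens) (hV : _root_.IsPreconnected (V : Set Y)) :
    _root_.IsPreconnected (q ⁻¹' (V : Set Y)) := by
  let V' : Y.Etale := Scheme.Etale.mk V.ι
  have : PreconnectedSpace (V : Scheme.{u}) := Subtype.preconnectedSpace hV
  have : PreconnectedSpace V'.left := ‹_›
  have : Surjective q := ⟨surjective_of_zeroAcyclic q hq⟩
  have : Surjective (EtAcyc.prj q V') := MorphismProperty.pullback_fst (P := @Surjective) V.ι q inferInstance
  have hpre : PreconnectedSpace ↥(pullback V'.hom q) :=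
    preconnectedSpace_of_unit (EtAcyc.prj q V') (EtAcyc.prj q V').surjective
      fun A => isIso_unit_of_unitSh _ A (hq V' _)
  let m := pullback.snd V.ι q
  have hr : Set.range m = q ⁻¹' (V : Set Y) := by
    rw [IsOpenImmersion.range_pullbackSnd, Scheme.Opens.opensRange_ι]
    rfl
  rw [← hr]
  have : PreconnectedSpace ↥(pullback V.ι q) := hpre
  exact isPreconnected_range m.continuous

/-- Over an irreducible affine base the generic fibre of a 0-acyclic affine morphism is connected. -/
theorem preconnected_fracFibre {B S L : Type u} [CommRing B] [IsDomain B] [CommRing S] [Algebra B S]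
    [Field L] [Algebra B L] [IsFractionRing B L]
    (hq : EtAcyc.IsZeroAcyclic (Spec.map (CommRingCat.ofHom (algebraMap B S)))) :
    PreconnectedSpace ↥(Spec (CommRingCat.of (S ⊗[B] L))) := by
  refine CAlgH3.preconnectedSpace_of_idempotents fun e he => ?_
  let M := Algebra.algebraMapSubmonoid S (nonZeroDivisors B)
  obtain ⟨⟨a, ⟨m, hm⟩⟩, rfl⟩ := IsLocalization.mk'_surjective M (S := S ⊗[B] L) e
  obtain ⟨b, hb, rfl⟩ := hm
  let ε := IsLocalization.mk' (S ⊗[B] L) a (⟨algebraMap B S b, ⟨b, hb, rfl⟩⟩ : M)
  have hspec : ε * algebraMap S (S ⊗[B] L) (algebraMap B S b) = algebraMap S (S ⊗[B] L) a :=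
    IsLocalization.mk'_spec _ _ _
  obtain ⟨⟨_, c, hc, rfl⟩, hc'⟩ := (IsLocalization.eq_iff_exists M (S ⊗[B] L)).1
    (show algebraMap S (S ⊗[B] L) (a * (algebraMap B S b - a)) = algebraMap S (S ⊗[B] L) 0 by
      rw [map_zero, map_mul, map_sub, ← hspec]
      linear_combination -((algebraMap S (S ⊗[B] L) (algebraMap B S b)) ^ 2) * he.eq)
  simp only [mul_zero] at hc'
  let D : (Spec (CommRingCat.of B)).Opens := PrimeSpectrum.basicOpen (b * c)
  have hpre := isPreconnected_preimage_of_zeroAcyclic (Spec.map (CommRingCat.ofHom (algebraMap B S))) hq D (by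
    have : IrreducibleSpace (PrimeSpectrum B) := inferInstance
    let D' : TopologicalSpace.Opens (PrimeSpectrum B) := PrimeSpectrum.basicOpen (b * c)
    show _root_.IsPreconnected (D' : Set (PrimeSpectrum B))
    rcases (D' : Set (PrimeSpectrum B)).eq_empty_or_nonempty with h | h
    · exact h ▸ isPreconnected_empty
    · exact (IsIrreducible.isPreirreducible ⟨h,
        (PreirreducibleSpace.isPreirreducible_univ (X := PrimeSpectrum B)).open_subset D'.isOpen
          (Set.subset_univ _)⟩).isPreconnected)
  have hsub : (Spec.map (CommRingCat.ofHom (algebraMap B S))) ⁻¹' (D : Set (Spec (CommRingCat.of B))) ⊆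
      (PrimeSpectrum.basicOpen a : Set (PrimeSpectrum S)) ∪
        (PrimeSpectrum.basicOpen (algebraMap B S b - a) : Set (PrimeSpectrum S)) := by
    intro (P : PrimeSpectrum S) hP
    by_contra h
    rw [Set.mem_union, not_or] at h
    have h1 : a ∈ P.asIdeal := not_not.1 h.1
    have h2 : algebraMap B S b - a ∈ P.asIdeal := not_not.1 h.2
    refine hP (Ideal.mul_mem_right c _ ?_)
    show algebraMap B S b ∈ P.asIdeal
    simpa using add_mem h2 h1
  have hdisj : (Spec.map (CommRingCat.ofHom (algebraMap B S))) ⁻¹' (D : Set (Spec (CommRingCat.of B))) ∩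
      ((PrimeSpectrum.basicOpen a : Set (PrimeSpectrum S)) ∩
        (PrimeSpectrum.basicOpen (algebraMap B S b - a) : Set (PrimeSpectrum S))) = ∅ := by
    refine Set.eq_empty_iff_forall_notMem.2 fun (P : PrimeSpectrum S) ⟨hP, h1, h2⟩ => ?_
    have h0 : algebraMap B S c * (a * (algebraMap B S b - a)) ∈ P.asIdeal := hc' ▸ zero_mem _
    rcases P.isPrime.mem_or_mem h0 with h | h
    · exact hP (show algebraMap B S (b * c) ∈ P.asIdeal by rw [map_mul]; exact Ideal.mul_mem_left _ _ h)
    · rcases P.isPrime.mem_or_mem h with h | h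
      · exact h1 h
      · exact h2 h
  have hkey : ∀ d : S, (∀ P : PrimeSpectrum S,
      algebraMap B S (b * c) ∉ P.asIdeal → d ∈ P.asIdeal) → IsNilpotent (algebraMap S (S ⊗[B] L) d) := by
    intro d hd
    rw [← mem_nilradical, nilradical_eq_sInf, Submodule.mem_sInf]
    intro (Q : Ideal (S ⊗[B] L)) hQ
    have hQ' : Q.IsPrime := hQ
    refine hd ⟨Q.comap (algebraMap S _), inferInstance⟩ fun h => ?_
    exact hQ'.ne_top (Q.eq_top_of_isUnit_mem h
      (IsLocalization.map_units (S ⊗[B] L) (⟨_, b * c, mul_mem hb hc, rfl⟩ : M)))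
  have hu : IsUnit (algebraMap S (S ⊗[B] L) (algebraMap B S b)) :=
    IsLocalization.map_units (S ⊗[B] L) (⟨_, b, hb, rfl⟩ : M)
  by_contra hne
  rw [not_or] at hne
  have hne1 : ∃ P : PrimeSpectrum S, algebraMap B S (b * c) ∉ P.asIdeal ∧ a ∉ P.asIdeal := by
    by_contra hall
    push Not at hall
    refine hne.1 (IsIdempotentElem.eq_zero_of_isNilpotent he ?_)
    obtain ⟨n, hn⟩ := hkey a hall
    refine ⟨n, (hu.pow n).mul_left_eq_zero.1 ?_⟩
    rw [← mul_pow, hspec, hn]
  have hne2 : ∃ P : PrimeSpectrum S, algebraMap B S (b * c) ∉ P.asIdeal ∧ algebraMap B S b - a ∉ P.asIdeal := by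
    by_contra hall
    push Not at hall
    refine hne.2 (IsIdempotentElem.one_sub_iff.2 he |>.eq_zero_of_isNilpotent ?_ |> sub_eq_zero.1).symm
    obtain ⟨n, hn⟩ := hkey _ hall
    refine ⟨n, (hu.pow n).mul_left_eq_zero.1 ?_⟩
    rw [← mul_pow, show (1 - ε) * algebraMap S (S ⊗[B] L) (algebraMap B S b) =
      algebraMap S (S ⊗[B] L) (algebraMap B S b - a) by rw [sub_mul, one_mul, hspec, map_sub], hn]
  obtain ⟨P₁, hD₁, ha₁⟩ := hne1
  obtain ⟨P₂, hD₂, ha₂⟩ := hne2
  exact Set.not_nonempty_iff_eq_empty.2 hdisj (hpre _ _ (PrimeSpectrum.basicOpen a).isOpen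
    (PrimeSpectrum.basicOpen (algebraMap B S b - a)).isOpen hsub ⟨P₁, hD₁, ha₁⟩ ⟨P₂, hD₂, ha₂⟩)

/-- Integral algebras over a strictly henselian ring are local after tensoring with a local algebra. -/
theorem isLocalRing_tensor_integral {RY RX B : Type u} [CommRing RY] [IsLocalRing RY]
    [IsSepClosed (ResidueField RY)] [CommRing RX] [IsLocalRing RX] [Algebra RY RX]
    [IsLocalHom (algebraMap RY RX)] [CommRing B] [IsLocalRing B] [Algebra RY B] [Algebra.IsIntegral RY B]
    [IsLocalHom (algebraMap RY B)] [Nontrivial (RX ⊗[RY] B)] : IsLocalRing (RX ⊗[RY] B) := by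
  let T := RX ⊗[RY] B
  have : Algebra.IsIntegral RX T := inferInstance
  have : Algebra.IsIntegral RY (ResidueField B) := Algebra.IsIntegral.trans B
  have : Algebra.IsIntegral (ResidueField RY) (ResidueField B) := Algebra.IsIntegral.tower_top RY
  let K := AlgebraicClosure (ResidueField RX)
  let ι : RX →+* K := (algebraMap (ResidueField RX) K).comp (residue RX)
  have hM : ∀ M : Ideal T, M.IsMaximal → ∃ ε : T →+* K, RingHom.ker ε = M ∧
      (∀ x : RX, ε (x ⊗ₜ 1) = ι x) ∧ ∃ β : ResidueField B →+* K, ∀ y : B, ε (1 ⊗ₜ y) = β (residue B y) := by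
    intro M hMmax
    let : Field (T ⧸ M) := Ideal.Quotient.field M
    have hc := eq_maximalIdeal (Ideal.isMaximal_comap_of_isIntegral_of_isMaximal (R := RX) M)
    let ρ : ResidueField RX →+* T ⧸ M := Ideal.Quotient.lift _ (algebraMap RX (T ⧸ M)) fun x hx =>
      (Ideal.Quotient.eq_zero_iff_mem.2 (show algebraMap RX T x ∈ M from hc.ge hx))
    let : Algebra (ResidueField RX) (T ⧸ M) := ρ.toAlgebra
    have : IsScalarTower RX (ResidueField RX) (T ⧸ M) := IsScalarTower.of_algebraMap_eq fun _ => rfl
    have : Algebra.IsIntegral (ResidueField RX) (T ⧸ M) := Algebra.IsIntegral.tower_top RX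
    let g : T ⧸ M →ₐ[ResidueField RX] K := IsAlgClosed.lift
    refine ⟨g.toRingHom.comp (Ideal.Quotient.mk M), ?_, fun x => g.commutes (residue RX x), ?_⟩
    · rw [← RingHom.comap_ker, RingHom.injective_iff_ker_eq_bot _ |>.1 g.toRingHom.injective,
        ← RingHom.ker_eq_comap_bot, Ideal.mk_ker]
    · let γ : B →+* K := (g.toRingHom.comp (Ideal.Quotient.mk M)).comp Algebra.TensorProduct.includeRight.toRingHom
      have hγ : RingHom.ker γ = maximalIdeal B := by
        refine eq_maximalIdeal ?_
        have : (RingHom.ker γ).IsPrime := RingHom.ker_isPrime γ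
        refine Ideal.isMaximal_of_isIntegral_of_isMaximal_comap (R := RY) (RingHom.ker γ) ?_
        suffices (RingHom.ker γ).comap (algebraMap RY B) = maximalIdeal RY from this ▸ inferInstance
        ext r
        have e : γ (algebraMap RY B r) = ι (algebraMap RY RX r) := by
          refine Eq.trans ?_ (g.commutes (residue RX (algebraMap RY RX r)))
          refine congrArg (fun z => g (Ideal.Quotient.mk M z)) ?_
          change (1 : RX) ⊗ₜ[RY] algebraMap RY B r = algebraMap RY RX r ⊗ₜ[RY] (1 : B)
          rw [Algebra.algebraMap_eq_smul_one (A := B), ← TensorProduct.smul_tmul,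
            ← Algebra.algebraMap_eq_smul_one]
        rw [Ideal.mem_comap, RingHom.mem_ker, e, RingHom.comp_apply,
          map_eq_zero_iff _ (algebraMap (ResidueField RX) K).injective, residue_eq_zero_iff,
          IsLocalRing.mem_maximalIdeal, IsLocalRing.mem_maximalIdeal]
        exact not_congr ⟨fun h => IsUnit.of_map _ r h, fun h => h.map _⟩
      exact ⟨Ideal.Quotient.lift _ γ fun y hy => RingHom.mem_ker.1 (hγ.ge hy), fun y => rfl⟩
  obtain ⟨M₀, hM₀⟩ := Ideal.exists_maximal T
  refine IsLocalRing.of_unique_max_ideal ⟨M₀, hM₀, fun M hMmax => ?_⟩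
  obtain ⟨ε₀, rfl, hX₀, β₀, hB₀⟩ := hM M₀ hM₀
  obtain ⟨ε, rfl, hX, β, hB⟩ := hM M hMmax
  have hβ : β = β₀ := IsPurelyInseparable.injective_comp_algebraMap (ResidueField RY) (ResidueField B) K
    (RingHom.ext fun z => by
      obtain ⟨r, rfl⟩ := residue_surjective z
      show β (residue B (algebraMap RY B r)) = β₀ (residue B (algebraMap RY B r))
      rw [← hB, ← hB₀, Algebra.algebraMap_eq_smul_one (A := B), ← TensorProduct.smul_tmul,
        hX, hX₀])
  have heq : ε = ε₀ := by
    refine RingHom.ext fun z => ?_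
    induction z using TensorProduct.induction_on with
    | zero => rw [map_zero, map_zero]
    | tmul x y =>
        rw [show x ⊗ₜ[RY] y = (x ⊗ₜ[RY] (1 : B)) * ((1 : RX) ⊗ₜ y) by
          rw [Algebra.TensorProduct.tmul_mul_tmul, mul_one, one_mul], map_mul, map_mul, hX, hX₀, hB, hB₀, hβ]
    | add a b ha hb => rw [map_add, map_add, ha, hb]
  rw [heq]

variable {X Y : Scheme.{u}} (g : X ⟶ Y) (hg : EtAcyc.IsULocZeroAcyclic g)
  {x : X} (RX : Type u) [CommRing RX] [IsLocalRing RX]
  [Algebra (X.presheaf.stalk x) RX] [IsLocalHom (algebraMap (X.presheaf.stalk x) RX)]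
  [Hensel.IsStrictHenselization (X.presheaf.stalk x) RX]
  {y : Y} (RY : Type u) [CommRing RY] [IsLocalRing RY]
  [Algebra (Y.presheaf.stalk y) RY] [IsLocalHom (algebraMap (Y.presheaf.stalk y) RY)]
  [Hensel.IsStrictHenselization (Y.presheaf.stalk y) RY]
  [Algebra RY RX] [IsLocalHom (algebraMap RY RX)]
  (hp : Spec.map (CommRingCat.ofHom (algebraMap RY RX)) ≫ Hens2.specOf Y y RY = Hens2.specOf X x RX ≫ g)

set_option maxHeartbeats 1000000 in
set_option synthInstance.maxHeartbeats 200000 in
include hg hp in
/-- Maps of strict localizations of a universally locally 0-acyclic morphism have connected geometric fibres. -/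
theorem connFibres_strictMap : ConnFibres (Spec.map (CommRingCat.ofHom (algebraMap RY RX))) := by
  intro Ω₀ _ _ η
  let p := Spec.map (CommRingCat.ofHom (algebraMap RY RX))
  let Ω := AlgebraicClosure Ω₀
  let j₀ := Spec.map (CommRingCat.ofHom (algebraMap Ω₀ Ω))
  obtain ⟨φ, hφ⟩ := Spec.map_surjective (j₀ ≫ η)
  let l : pullback p (j₀ ≫ η) ⟶ pullback p η :=
    pullback.lift (pullback.fst _ _) (pullback.snd _ _ ≫ j₀) (by rw [Category.assoc, pullback.condition])
  have hl : IsPullback l (pullback.snd p (j₀ ≫ η)) (pullback.snd p η) j₀ := by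
    refine IsPullback.of_right ?_ (pullback.lift_snd _ _ _) (IsPullback.of_hasPullback p η)
    rw [pullback.lift_fst]
    exact IsPullback.of_hasPullback p (j₀ ≫ η)
  have : Surjective j₀ := ⟨fun x => ⟨default, Subsingleton.elim _ _⟩⟩
  have : Surjective l := MorphismProperty.of_isPullback (P := @Surjective) hl.flip inferInstance
  suffices h : PreconnectedSpace ↥(pullback p (j₀ ≫ η)) from l.surjective.denseRange.preconnectedSpace l.continuous
  rw [← hφ]
  let : Algebra RY Ω := φ.hom.toAlgebra
  have hY := (inferInstance : Hensel.IsStrictHenselization (Y.presheaf.stalk y) RY)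
  have hX := (inferInstance : Hensel.IsStrictHenselization (X.presheaf.stalk x) RX)
  have := hY.henselian
  have := hX.henselian
  have := hY.isSepClosure.sep_closed
  have := hX.isSepClosure.sep_closed
  let B := integralClosure RY Ω
  have := isLocalRing_of_integral_domain RY B
  have := HenselLib.LocalInt.isLocalHom_of_isIntegral (A := RY) B
  have := henselianLocalRing_of_isIntegral RY B
  have := HenselLib.LocalInt.isSepClosed_residueField (A := RY) B
  let L := FractionRing B
  let ιL : L →+* Ω := IsFractionRing.lift (A := B) (g := B.val.toRingHom) Subtype.val_injective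
  let r := Spec.map (CommRingCat.ofHom (algebraMap RY B))
  let jL := Spec.map (CommRingCat.ofHom (algebraMap B L))
  have hφ' : Spec.map φ = Spec.map (CommRingCat.ofHom ιL) ≫ jL ≫ r := by
    rw [← Spec.map_comp, ← Spec.map_comp]
    refine congrArg Spec.map (CommRingCat.hom_ext (RingHom.ext fun z => ?_))
    exact ((IsFractionRing.lift_algebraMap (K := L) (g := B.val.toRingHom) Subtype.val_injective
      (algebraMap RY B z))).symm
  -- the local ring `RX ⊗ B`
  have : Nontrivial (RX ⊗[RY] B) := by
    obtain ⟨c, -, -⟩ := Scheme.Pullback.exists_preimage_pullback (f := p) (g := r) (closedPoint RX) (closedPoint B) (by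
      have : IsLocalHom (CommRingCat.ofHom (algebraMap RY RX)).hom := inferInstanceAs (IsLocalHom (algebraMap RY RX))
      have : IsLocalHom (CommRingCat.ofHom (algebraMap RY B)).hom := inferInstanceAs (IsLocalHom (algebraMap RY B))
      exact (Spec_closedPoint (f := CommRingCat.ofHom (algebraMap RY RX))).trans
        (Spec_closedPoint (f := CommRingCat.ofHom (algebraMap RY B))).symm)
    exact PrimeSpectrum.nonempty_iff_nontrivial.1 ⟨(pullbackSpecIso RY RX B).hom c⟩
  have := isLocalRing_tensor_integral (RY := RY) (RX := RX) (B := B)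
  have : Algebra.IsIntegral RX (RX ⊗[RY] B) := inferInstance
  have := HenselLib.LocalInt.isLocalHom_of_isIntegral (A := RX) (RX ⊗[RY] B)
  have := henselianLocalRing_of_isIntegral RX (RX ⊗[RY] B)
  have := HenselLib.LocalInt.isSepClosed_residueField (A := RX) (RX ⊗[RY] B)
  let e : Spec (CommRingCat.of (RX ⊗[RY] B)) ⟶ pullback p r := (pullbackSpecIso RY RX B).inv
  let t := e (closedPoint (RX ⊗[RY] B))
  have ht : pullback.snd p r t = closedPoint B := by
    rw [← Scheme.Hom.comp_apply, show e ≫ pullback.snd p r = _ from pullbackSpecIso_inv_snd _ _ _]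
    refine PrimeSpectrum.ext (eq_maximalIdeal ?_)
    refine Ideal.isMaximal_of_isIntegral_of_isMaximal_comap (R := RY) _ ?_
    change ((Ideal.comap Algebra.TensorProduct.includeRight.toRingHom (maximalIdeal (RX ⊗[RY] B))).comap
      (algebraMap RY B)).IsMaximal
    rw [Ideal.comap_comap, AlgHom.toRingHom_eq_coe, AlgHom.comp_algebraMap,
      IsScalarTower.algebraMap_eq RY RX (RX ⊗[RY] B), ← Ideal.comap_comap,
      IsLocalRing.maximalIdeal_comap (algebraMap RX (RX ⊗[RY] B)),
      IsLocalRing.maximalIdeal_comap (algebraMap RY RX)]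
    infer_instance
  obtain ⟨S, _, _, q, s, hq, hsq, hst, hψ⟩ := exists_strict_point g RX RY p hg hp r t ht
  obtain ⟨ψ, hψ⟩ := hψ (RX ⊗[RY] B) e rfl
  obtain ⟨α, rfl⟩ := Spec.map_surjective q
  let : Algebra B S := α.hom.toAlgebra
  have hZ := preconnected_fracFibre (B := B) (S := S) (L := L) hq
  let ZS := pullback (Spec.map α) jL
  have : PreconnectedSpace ↥ZS :=
    (Scheme.homeoOfIso (pullbackSpecIso B S L)).symm.surjective.denseRange.preconnectedSpace
      (Scheme.homeoOfIso (pullbackSpecIso B S L)).symm.continuous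
  let ZT := pullback p (jL ≫ r)
  let m : ZS ⟶ ZT := pullback.lift (pullback.fst _ _ ≫ s ≫ pullback.fst p r) (pullback.snd _ _) (by
    rw [Category.assoc, Category.assoc, pullback.condition, reassoc_of% hsq, pullback.condition_assoc])
  let k : ZT ⟶ pullback p r := pullback.lift (pullback.fst _ _) (pullback.snd _ _ ≫ jL) (by
    rw [Category.assoc, pullback.condition])
  let sec : ZT ⟶ ZS := pullback.lift (k ≫ (pullbackSpecIso RY RX B).hom ≫ ψ) (pullback.snd _ _) (by
    rw [← hsq, Category.assoc, Category.assoc, reassoc_of% hψ, Iso.hom_inv_id_assoc, pullback.lift_snd])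
  have hsec : sec ≫ m = 𝟙 ZT := by
    refine pullback.hom_ext ?_ ?_
    · rw [Category.assoc, pullback.lift_fst, pullback.lift_fst_assoc, Category.id_comp, Category.assoc,
        Category.assoc, reassoc_of% hψ, Iso.hom_inv_id_assoc, pullback.lift_fst]
    · rw [Category.assoc, pullback.lift_snd, pullback.lift_snd, Category.id_comp]
  have hm : Function.Surjective m := fun z => ⟨sec z, by rw [← Scheme.Hom.comp_apply, hsec]; rfl⟩
  have : PreconnectedSpace ↥ZT := hm.denseRange.preconnectedSpace m.continuous
  have : Nonempty ↥ZT := by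
    let q' := Spec.map α
    have : Surjective q' := ⟨surjective_of_zeroAcyclic q' hq⟩
    have : Surjective (pullback.snd q' jL) := MorphismProperty.pullback_snd (P := @Surjective) _ _ inferInstance
    obtain ⟨z, -⟩ := (pullback.snd q' jL).surjective default
    exact ⟨m z⟩
  have : ConnectedSpace ↥ZT := { toNonempty := inferInstance }
  -- the residue field of the generic point is separably closed
  have : IsSepClosed L := by
    refine IsSepClosed.of_exists_root _ fun f hf hi _ => ?_
    let : Algebra L Ω := ιL.toAlgebra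
    have : IsScalarTower B L Ω := IsScalarTower.of_algebraMap_eq fun b =>
      (IsFractionRing.lift_algebraMap (K := L) (g := B.val.toRingHom) Subtype.val_injective b).symm
    obtain ⟨ω, hω⟩ := IsAlgClosed.exists_root (f.map ιL) (by
      rw [Polynomial.degree_map]; exact (Polynomial.degree_pos_of_irreducible hi).ne')
    have hω₀ : Polynomial.aeval ω f = 0 := by
      rw [Polynomial.aeval_def, ← Polynomial.eval_map]
      exact hω
    obtain ⟨d, hd, hdω⟩ := ((IsFractionRing.isAlgebraic_iff B L Ω).2
      ⟨f, hf.ne_zero, hω₀⟩).exists_integral_multiple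
    have hω' : d • ω ∈ B := (mem_integralClosure_iff RY Ω).2 (isIntegral_trans _ hdω)
    let z := IsLocalization.mk' L (⟨d • ω, hω'⟩ : B) (⟨d, mem_nonZeroDivisors_of_ne_zero hd⟩ : nonZeroDivisors B)
    have hz : ιL z = ω := by
      have h1 := congrArg ιL (IsLocalization.mk'_spec L (⟨d • ω, hω'⟩ : B)
        (⟨d, mem_nonZeroDivisors_of_ne_zero hd⟩ : nonZeroDivisors B))
      rw [map_mul, IsFractionRing.lift_algebraMap, IsFractionRing.lift_algebraMap] at h1
      refine mul_right_cancel₀ (b := (d : Ω)) (fun h0 => hd (Subtype.ext h0)) (h1.trans ?_)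
      show (d : Ω) * ω = ω * (d : Ω)
      exact mul_comm _ _
    refine ⟨z, ιL.injective ?_⟩
    rw [map_zero, ← Polynomial.eval₂_hom, hz]
    exact hω₀
  have := connFibres_to_sepClosed (pullback.snd p (jL ≫ r)) Ω (Spec.map (CommRingCat.ofHom ιL))
  let i := pullbackLeftPullbackSndIso p (jL ≫ r) (Spec.map (CommRingCat.ofHom ιL)) ≪≫
    pullback.congrHom rfl hφ'.symm
  exact (Scheme.homeoOfIso i).surjective.denseRange.preconnectedSpace (Scheme.homeoOfIso i).continuous

end Groth.Agent.Et18.H0Lift
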