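import Groth.Agent.Et18.H0Lift.AcyclicConn

/-!
# Universally locally 0-acyclic morphisms: strict localizations are universal quotient maps
-/

set_option autoImplicit false
set_option backward.isDefEq.respectTransparency.types false
set_option backward.isDefEq.respectTransparency false

universe u

open CategoryTheory CategoryTheory.Limits AlgebraicGeometry IsLocalRing

namespace Groth.Agent.Et18.H0Lift

open HenselLib

/-- Quasi-compact generalizing surjections are quotient maps. -/
theorem isQuotientMap_of_generalizing {X Y : Scheme.{u}} (p : X ⟶ Y) [QuasiCompact p]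
    (hs : Function.Surjective p) (hgen : GeneralizingMap p) : Topology.IsQuotientMap p := by
  refine (Topology.isQuotientMap_iff _).2 ⟨.of_isOpen_preimage_iff_isOpen fun E => ⟨fun hE => ?_,
    fun hE => hE.preimage p.continuous⟩, hs⟩
  rw [← isClosed_compl_iff]
  refine isClosed_of_closure_subset fun y hy hyE => ?_
  let T : TopologicalSpace.Closeds X := ⟨(p ⁻¹' E)ᶜ, hE.isClosed_compl⟩
  let ι := (Scheme.IdealSheafData.vanishingIdeal T).subschemeι
  have hι : Set.range ι = (p ⁻¹' E)ᶜ := by
    simp only [ι, Scheme.IdealSheafData.range_subschemeι,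
      Scheme.IdealSheafData.coe_support_vanishingIdeal, T]
    rfl
  have hr : Eᶜ ⊆ Set.range (ι ≫ p) := fun z hz => by
    obtain ⟨w, rfl⟩ := hs z
    obtain ⟨v, hv⟩ : w ∈ Set.range ι := hι ▸ hz
    exact ⟨v, by rw [Scheme.Hom.comp_apply, hv]⟩
  obtain ⟨v, hv⟩ := H8Top.exists_specializes_of_mem_closure_range (ι ≫ p) (closure_mono hr hy)
  obtain ⟨w, rfl⟩ := hs y
  obtain ⟨w', hw', hpw⟩ := hgen hv
  have h1 : w' ∈ p ⁻¹' E := hw'.mem_open hE hyE
  have h2 : ι v ∈ (p ⁻¹' E)ᶜ := hι ▸ ⟨v, rfl⟩
  exact h2 (show p (ι v) ∈ E from (hpw.trans (Scheme.Hom.comp_apply ι p v)) ▸ h1)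

variable {X Y : Scheme.{u}} (g : X ⟶ Y) (hg : EtAcyc.IsULocZeroAcyclic g)
  {x : X} (RX : Type u) [CommRing RX] [IsLocalRing RX]
  [Algebra (X.presheaf.stalk x) RX] [IsLocalHom (algebraMap (X.presheaf.stalk x) RX)]
  [Hensel.IsStrictHenselization (X.presheaf.stalk x) RX]
  {y : Y} (RY : Type u) [CommRing RY] [IsLocalRing RY]
  [Algebra (Y.presheaf.stalk y) RY] [IsLocalHom (algebraMap (Y.presheaf.stalk y) RY)]
  [Hensel.IsStrictHenselization (Y.presheaf.stalk y) RY]
  [Algebra RY RX] [IsLocalHom (algebraMap RY RX)]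
  (hp : Spec.map (CommRingCat.ofHom (algebraMap RY RX)) ≫ Hens2.specOf Y y RY = Hens2.specOf X x RX ≫ g)

set_option maxHeartbeats 1000000 in
include hg hp in
/-- Base changes of maps of strict localizations of a universally locally 0-acyclic morphism are generalizing
surjections. -/
theorem uQuot_strictMap : UQuot (Spec.map (CommRingCat.ofHom (algebraMap RY RX))) := by
  intro X' Y' p' b' b sq
  let p := Spec.map (CommRingCat.ofHom (algebraMap RY RX))
  have hX := (inferInstance : Hensel.IsStrictHenselization (X.presheaf.stalk x) RX)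
  have hY := (inferInstance : Hensel.IsStrictHenselization (Y.presheaf.stalk y) RY)
  have := hY.henselian
  have := hX.henselian
  have := hY.isSepClosure.sep_closed
  have : IsLocalHom (CommRingCat.ofHom (algebraMap RY RX)).hom := inferInstanceAs (IsLocalHom (algebraMap RY RX))
  have hps : Surjective p := by
    obtain ⟨t, -, ht⟩ := Scheme.Pullback.exists_preimage_pullback (f := p) (g := 𝟙 (Spec (CommRingCat.of RY)))
      (closedPoint RX) (closedPoint RY) (Spec_closedPoint (f := CommRingCat.ofHom (algebraMap RY RX)))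
    obtain ⟨S, _, _, q, s, hq, hsq, -, -⟩ :=
      exists_strict_point g RX RY p hg hp (C₀ := RY) (𝟙 _) t ht
    refine ⟨fun v => ?_⟩
    obtain ⟨u, hu⟩ := surjective_of_zeroAcyclic q hq v
    refine ⟨(s ≫ pullback.fst p (𝟙 _)) u, ?_⟩
    rw [← Scheme.Hom.comp_apply, Category.assoc, pullback.condition, Category.comp_id, hsq, hu]
  have : Surjective p' := MorphismProperty.of_isPullback (P := @Surjective) sq hps
  have : QuasiCompact p' := MorphismProperty.of_isPullback (P := @QuasiCompact) sq inferInstance
  refine ⟨p'.surjective, isQuotientMap_of_generalizing p' p'.surjective fun z y₁ h => ?_⟩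
  let C := LocalSH (Y'.presheaf.stalk (p' z))
  let C₁ := LocalSH (Y'.presheaf.stalk y₁)
  have hC := isStrictHenselization_localSH (R := Y'.presheaf.stalk (p' z))
  have hC₁ := isStrictHenselization_localSH (R := Y'.presheaf.stalk y₁)
  have := hC.henselian
  have := hC.isSepClosure.sep_closed
  let sC : Spec (CommRingCat.of C) ⟶ Y' := Hens2.specOf Y' (p' z) C
  obtain ⟨gs, hgs⟩ := (Specialization.exists_iff (X := Y') C C₁).2 h
  obtain ⟨c, hc₁, hc₂⟩ := Scheme.Pullback.exists_preimage_pullback (f := p') (g := sC) z (closedPoint C)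
    (Specialization.specOf_closedPoint C).symm
  let d : pullback p' sC ⟶ pullback p (sC ≫ b) :=
    pullback.lift (pullback.fst _ _ ≫ b') (pullback.snd _ _) (by
      rw [Category.assoc, sq.w, pullback.condition_assoc])
  have ht : pullback.snd p (sC ≫ b) (d c) = closedPoint C := by
    rw [← Scheme.Hom.comp_apply, pullback.lift_snd, hc₂]
  obtain ⟨S, _, _, q, s, hq, hsq, hst, -⟩ := exists_strict_point g RX RY p hg hp (sC ≫ b) (d c) ht
  let k : pullback p (sC ≫ b) ⟶ X' := sq.lift (pullback.fst _ _) (pullback.snd _ _ ≫ sC)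
    (pullback.condition.trans (Category.assoc _ _ _).symm)
  have hdk : d ≫ k = pullback.fst p' sC := by
    refine sq.hom_ext ?_ ?_
    · rw [Category.assoc, IsPullback.lift_fst, pullback.lift_fst]
    · rw [Category.assoc, IsPullback.lift_snd, pullback.lift_snd_assoc]
      exact pullback.condition.symm
  obtain ⟨u, hu⟩ := surjective_of_zeroAcyclic q hq (gs (closedPoint C₁))
  refine ⟨(s ≫ k) u, ?_, ?_⟩
  · have h1 : (s ≫ k) (closedPoint S) = z := by
      rw [Scheme.Hom.comp_apply, hst, ← Scheme.Hom.comp_apply, hdk, hc₁]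
    exact ((IsLocalRing.specializes_closedPoint u).map (s ≫ k).continuous).trans (specializes_of_eq h1)
  · rw [← Scheme.Hom.comp_apply, Category.assoc, IsPullback.lift_snd, ← Category.assoc, hsq,
      Scheme.Hom.comp_apply, hu, ← Scheme.Hom.comp_apply, hgs]
    exact Specialization.specOf_closedPoint C₁

end Groth.Agent.Et18.H0Lift
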