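import Groth.Agent.Et18.H0Lift.SuppCalc
import Groth.Agent.Et18.H0Lift.ProperStalk
import Groth.Agent.Et18.ShriekProper

/-!
# Transport of sections, and properness of supports
-/

set_option autoImplicit false
set_option backward.isDefEq.respectTransparency.types false
set_option backward.isDefEq.respectTransparency false

universe u

open CategoryTheory CategoryTheory.Limits AlgebraicGeometry Opposite

namespace Groth.Agent.Et18.H0Lift

variable {X T T' : Scheme.{u}} {F G : EtCoh.Ab X} (a : T' ⟶ T) (b : T ⟶ X) {c : T' ⟶ X} (h : a ≫ b = c)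

/-- The inverse image of a composite as an iterated one, on global sections. -/
noncomputable def splitSec (τ : gSec c F) : gSec a ((EtCoh.pull b).obj F) :=
  (compHom a b F).hom.app (op (EtCoh.top T')) (h.symm ▸ τ : gSec (a ≫ b) F)

variable {a b h}

theorem bijective_splitSec : Function.Bijective (splitSec (F := F) a b h) := by
  subst h
  have := isIso_compHom a b F
  have : IsIso ((compHom a b F).hom.app (op (EtCoh.top T'))) :=
    inferInstanceAs (IsIso (((sheafToPresheaf _ _).map (compHom a b F)).app _))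
  exact ConcreteCategory.bijective_of_isIso ((compHom a b F).hom.app (op (EtCoh.top T')))

theorem hasGerm_splitSec_iff {τ : gSec c F} {Ω : Type u} [Field Ω] [IsSepClosed Ω]
    {η₁ : Spec (CommRingCat.of Ω) ⟶ T} (ξ : FibrePts a η₁) {η : Spec (CommRingCat.of Ω) ⟶ X}
    (ζ : FibrePts c η) (hζ : ζ.1 = ξ.1) (hb : η₁ ≫ b = η) {e : (EtCoh.stalk η).obj F} :
    HasGerm (splitSec a b h τ) ξ (toPull b η ⟨η₁, hb⟩ F e) ↔ HasGerm τ ζ e := by
  subst h
  obtain ⟨ξ, hξ⟩ := ξ
  obtain ⟨z, hc⟩ := ζ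
  obtain rfl : z = ξ := hζ
  have := isIso_compHom a b F
  have hinj : Function.Injective ((EtCoh.stalk z).map (compHom a b F)) :=
    (ConcreteCategory.bijective_of_isIso _).1
  have k1 := stalk_compHom a b z hξ hb hc e
  have k2 : gm ((EtCoh.pull a).obj ((EtCoh.pull b).obj F)) z _ (topPt z) (splitSec a b rfl τ) =
      (EtCoh.stalk z).map (compHom a b F) (gm ((EtCoh.pull (a ≫ b)).obj F) z _ (topPt z) τ) :=
    (gm_hom (compHom a b F) z _ (topPt z) τ).symm
  exact ⟨fun he => hinj (k1.trans (he.trans k2)),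
    fun he => k1.symm.trans ((congrArg ((EtCoh.stalk z).map (compHom a b F)) he).trans k2.symm)⟩

theorem gSupp_splitSec (τ : gSec c F) : gSupp (splitSec a b h τ) = gSupp τ := by
  ext y
  let z := algPoint T' y
  let ξ : FibrePts a (z ≫ a) := ⟨z, rfl⟩
  let ζ : FibrePts c ((z ≫ a) ≫ b) := ⟨z, by rw [Category.assoc, h]⟩
  obtain ⟨e, he⟩ := exists_hasGerm τ ζ
  have h1 := mem_gSupp_iff he
  have h2 := mem_gSupp_iff ((hasGerm_splitSec_iff (h := h) ξ ζ rfl rfl).2 he)
  change z default ∈ gSupp τ ↔ _ at h1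
  change z default ∈ gSupp (splitSec a b h τ) ↔ _ at h2
  rw [algPoint_default] at h1 h2
  rw [h1, h2]
  refine not_iff_not.2 ⟨fun h0 => ?_, fun h0 => by rw [h0, map_zero]⟩
  exact (bijective_toPull b (⟨z ≫ a, rfl⟩ : FibrePts b ((z ≫ a) ≫ b)) F).1 (h0.trans (map_zero _).symm)

variable (φ : F ⟶ G)

/-- Functoriality of global sections of inverse images. -/
noncomputable def mapSec {c : T' ⟶ X} (τ : gSec c F) : gSec c G :=
  ((EtCoh.pull c).map φ).hom.app (op (EtCoh.top T')) τ

theorem hasGerm_mapSec {c : T' ⟶ X} {τ : gSec c F} {Ω : Type u} [Field Ω] [IsSepClosed Ω]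
    {η : Spec (CommRingCat.of Ω) ⟶ X} {ξ : FibrePts c η} {e : (EtCoh.stalk η).obj F} (he : HasGerm τ ξ e) :
    HasGerm (mapSec φ τ) ξ ((EtCoh.stalk η).map φ e) := by
  refine Eq.trans ?_ (gm_hom ((EtCoh.pull c).map φ) ξ.1 _ (topPt ξ.1) τ)
  refine Eq.trans ?_ (congrArg ((EtCoh.stalk ξ.1).map ((EtCoh.pull c).map φ)) he)
  obtain ⟨V, v, t, rfl⟩ :=
    (Scheme.pointSmallEtale η).toPresheafFiber_jointly_surjective (P := F.obj) e
  refine (congrArg (toPull c η ξ G) (gm_hom φ η V v t)).trans ((gm_unit c ξ G V v _).symm.trans ?_)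
  refine Eq.trans ?_ (congrArg ((EtCoh.stalk ξ.1).map ((EtCoh.pull c).map φ)) (gm_unit c ξ F V v t))
  refine Eq.trans ?_ (gm_hom ((EtCoh.pull c).map φ) ξ.1 _ _ _).symm
  exact congrArg (gm _ ξ.1 _ _) (ConcreteCategory.congr_hom
    (congrArg (fun k => k.hom.app (op V)) ((EtCoh.pullPushAdj c).unit.naturality φ)) t)

theorem gSupp_mapSec [IsIso φ] {c : T' ⟶ X} (τ : gSec c F) : gSupp (mapSec φ τ) = gSupp τ := by
  ext y
  let ξ : FibrePts c (algPoint T' y ≫ c) := ⟨algPoint T' y, rfl⟩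
  obtain ⟨e, he⟩ := exists_hasGerm τ ξ
  have h1 := mem_gSupp_iff he
  have h2 := mem_gSupp_iff (hasGerm_mapSec φ he)
  change algPoint T' y default ∈ gSupp τ ↔ _ at h1
  change algPoint T' y default ∈ gSupp (mapSec φ τ) ↔ _ at h2
  rw [algPoint_default] at h1 h2
  rw [h1, h2]
  refine not_iff_not.2 ⟨fun h0 => ?_, fun h0 => by rw [h0, map_zero]⟩
  exact (ConcreteCategory.bijective_of_isIso ((EtCoh.stalk (algPoint T' y ≫ c)).map φ)).1
    (h0.trans (map_zero _).symm)

omit b φ in
/-- A closed subset in an open, proper over the base, is proper over the base in the open. -/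
theorem isProperOver_openPreimage {S : Scheme.{u}} (j : T' ⟶ T) [IsOpenImmersion j] (g : T ⟶ S)
    [IsSeparated g] [LocallyOfFiniteType g] {A : Set T} (hA : ClSub.IsProperOver g A) (hAj : A ⊆ Set.range j) :
    ClSub.IsProperOver (j ≫ g) (j ⁻¹' A) := by
  rw [isProperOver_comp_iff, Set.image_preimage_eq_of_subset hAj]
  have hc : IsClosed (j ⁻¹' A) := hA.1.preimage j.continuous
  refine ⟨⟨hc, ?_⟩, hA⟩
  let ι := (redSub (j ⁻¹' A) hc).subschemeι
  change IsProper (ι ≫ j)
  have hr : IsClosed (Set.range (ι ≫ j)) := by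
    rw [show ⇑(ι ≫ j) = j ∘ ι from funext (Scheme.Hom.comp_apply ι j), Set.range_comp, range_redSub,
      Set.image_preimage_eq_of_subset hAj]
    exact hA.1
  have : IsClosedImmersion (ι ≫ j) := IsClosedImmersion.of_isPreimmersion _ hr
  infer_instance

omit b φ in
/-- The preimage of a closed subset proper over the base under a proper morphism. -/
theorem isProperOver_properPreimage {S : Scheme.{u}} (p : T' ⟶ T) [IsProper p] (g : T ⟶ S)
    [IsSeparated g] [LocallyOfFiniteType g] {A : Set T} (hA : ClSub.IsProperOver g A) :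
    ClSub.IsProperOver (p ≫ g) (p ⁻¹' A) := by
  rw [isProperOver_comp_iff]
  exact ⟨isProperOver_of_isProper p (hA.1.preimage p.continuous),
    IsProperOver.of_subset hA (p.isClosedMap _ (hA.1.preimage p.continuous)) (Set.image_preimage_subset _ _)⟩

/-- Shrinking an étale neighbourhood away from a closed subset. -/
theorem exists_shrink {Y : Scheme.{u}} {Ω : Type u} [Field Ω] [IsSepClosed Ω]
    {η : Spec (CommRingCat.of Ω) ⟶ Y} (V : Y.Etale) (v : (Scheme.pointSmallEtale η).fiber.obj V)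
    (C : Set V.left) (hC : IsClosed C) (hv : fiberPt v ∉ C) :
    ∃ (V₀ : Y.Etale) (i : V₀ ⟶ V) (v₀ : (Scheme.pointSmallEtale η).fiber.obj V₀),
      IsOpenImmersion i.left ∧ (Scheme.pointSmallEtale η).fiber.map i v₀ = v ∧
        ∀ z : V₀.left, i.left z ∉ C := by
  let O : V.left.Opens := ⟨Cᶜ, hC.isOpen_compl⟩
  let vl : Spec (CommRingCat.of Ω) ⟶ V.left := v.left
  obtain ⟨l, hl⟩ : ∃ l : Spec (CommRingCat.of Ω) ⟶ (O : Scheme.{u}), l ≫ O.ι = vl := by
    refine ⟨IsOpenImmersion.lift O.ι vl ?_, IsOpenImmersion.lift_fac _ _ _⟩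
    rintro _ ⟨p, rfl⟩
    rw [Subsingleton.elim p default, Scheme.Opens.range_ι]
    exact hv
  have : Etale V.hom := V.prop
  exact ⟨etalePiece V O, etalePieceHom V O,
    Over.homMk l ((Category.assoc _ _ _).symm.trans ((congrArg (· ≫ V.hom) hl).trans (Over.w v))),
    inferInstanceAs (IsOpenImmersion O.ι), Over.OverMorphism.ext hl, fun z => z.2⟩

end Groth.Agent.Et18.H0Lift
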