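import Groth.Agent.Et18.H0Lift.FamilyDescent
import Groth.Agent.Et18.H0Lift.SuppTransfer
import Groth.Agent.Et18.H0Lift.ConnectedDescent

/-!
# Descent of sections along morphisms whose geometric fibres are connected inside a bigger scheme
-/

set_option autoImplicit false
set_option backward.isDefEq.respectTransparency.types false
set_option backward.isDefEq.respectTransparency false

universe u

open CategoryTheory CategoryTheory.Limits AlgebraicGeometry Opposite TopologicalSpace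

namespace Groth.Agent.Et18.H0Lift

variable {T : Scheme.{u}} {F : EtCoh.Ab T}

/-- Over a separably closed field germs of pulled back sheaves are constant on connected components. -/
theorem hasGerm_of_connected {Z : Scheme.{u}} {Ω : Type u} [Field Ω] [IsSepClosed Ω]
    (η : Spec (CommRingCat.of Ω) ⟶ T) (p : Z ⟶ Spec (CommRingCat.of Ω)) {c : Z ⟶ T} (h : p ≫ η = c)
    (σ : gSec c F) (ζ₁ ζ₂ : Spec (CommRingCat.of Ω) ⟶ Z) (h₁ : ζ₁ ≫ p = 𝟙 _) (h₂ : ζ₂ ≫ p = 𝟙 _)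
    (hcc : connectedComponent (ζ₁ default) = connectedComponent (ζ₂ default))
    (k₁ : ζ₁ ≫ c = η) (k₂ : ζ₂ ≫ c = η) {e : (EtCoh.stalk η).obj F}
    (he : HasGerm σ ⟨ζ₁, k₁⟩ e) : HasGerm σ ⟨ζ₂, k₂⟩ e := by
  let B := Spec (CommRingCat.of Ω)
  let G := (EtCoh.pull η).obj F
  obtain ⟨V, v, t, rfl⟩ := (Scheme.pointSmallEtale η).toPresheafFiber_jointly_surjective (P := F.obj) e
  let l : B ⟶ V.left := v.left
  let s := pullAt F V l (Over.w v) t
  let ξ₀ : FibrePts η η := ⟨𝟙 B, Category.id_comp _⟩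
  have hs : toPull η η ξ₀ F (gm F η V v t) = gm G (𝟙 B) (EtCoh.top B) (topPt (𝟙 B)) s := by
    have h0 : HasGerm s ξ₀ (gm F η V (fibOf ξ₀ V l (Over.w v)) t) := hasGerm_pullAt V l (Over.w v) t ξ₀
    rw [show fibOf ξ₀ V l (Over.w v) = v from Over.OverMorphism.ext (Category.id_comp _)] at h0
    exact h0
  let τ := splitSec p η h σ
  let D : Set ((EtCoh.bc p).obj (EtCoh.top B)).left :=
    EtShriek.sectSupp ((EtCoh.pull p).obj G) _ (diffAt p G τ (EtCoh.top B) s)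
  have hDopen : IsOpen D := isOpen_iff_forall_mem_open.2 fun c hc => by
    obtain ⟨N, hN, hcN, hsub⟩ := isOpen_sectSupp_fibre p G τ (EtCoh.top B) s
      (EtShriek.prV p (EtCoh.top B) c) c hc rfl
    exact ⟨N, fun c' hc' => hsub c' hc' (Subsingleton.elim (α := B) _ _), hN, hcN⟩
  let ℓ : Z ⟶ ((EtCoh.bc p).obj (EtCoh.top B)).left :=
    pullback.lift p (𝟙 Z) ((Category.comp_id p).trans (Category.id_comp p).symm)
  have hD : IsClopen (ℓ ⁻¹' D) :=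
    ⟨(isClosed_sectSupp _ _ _).preimage ℓ.continuous, hDopen.preimage ℓ.continuous⟩
  have key : ∀ (ζ : B ⟶ Z) (hζ : ζ ≫ p = 𝟙 B) (k : ζ ≫ c = η),
      ζ default ∉ ℓ ⁻¹' D ↔ HasGerm σ ⟨ζ, k⟩ (gm F η V v t) := by
    intro ζ hζ k
    let ξ : FibrePts p (𝟙 B) := ⟨ζ, hζ⟩
    have hpt : fiberPt (bcLift p (𝟙 B) ξ (EtCoh.top B) (topPt (𝟙 B))) = ℓ (ζ default) := by
      rw [bcLift_fiberPt (EtCoh.top B) ξ (topPt (𝟙 B)) (ζ ≫ ℓ) ?_ ?_, Scheme.Hom.comp_apply]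
      · refine ((Category.assoc _ _ _).trans ((congrArg (ζ ≫ ·) (pullback.lift_fst _ _ _)).trans ?_)).symm
        exact hζ
      · exact (Category.assoc _ _ _).trans ((congrArg (ζ ≫ ·) (pullback.lift_snd _ _ _)).trans (Category.comp_id _))
    rw [Set.mem_preimage, ← hpt]
    refine (gm_diffAt τ (EtCoh.top B) s ξ (topPt (𝟙 B))).trans ?_
    rw [← hs]
    exact hasGerm_splitSec_iff (h := h) ξ (ζ := ⟨ζ, k⟩) rfl (Category.id_comp η)
  refine (key ζ₂ h₂ k₂).1 fun hm => ?_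
  refine ((key ζ₁ h₁ k₁).2 he) (hD.connectedComponent_subset hm ?_)
  rw [← hcc]
  exact mem_connectedComponent

/-- A morphism, an open of its source, and connectedness of the traces of the open on the geometric fibres. -/
def JoinedFibres {X' U : Scheme.{u}} (p : X' ⟶ U) (O : X'.Opens) : Prop :=
  ∀ (Ω : Type u) [Field Ω] [IsSepClosed Ω] (t : Spec (CommRingCat.of Ω) ⟶ U)
    (z₁ z₂ : Spec (CommRingCat.of Ω) ⟶ X') (h₁ : z₁ ≫ p = t) (h₂ : z₂ ≫ p = t),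
    z₁ default ∈ O → z₂ default ∈ O →
      connectedComponent ((pullback.lift z₁ (𝟙 _) (by rw [h₁, Category.id_comp]) :
          Spec (CommRingCat.of Ω) ⟶ pullback p t) default) =
        connectedComponent ((pullback.lift z₂ (𝟙 _) (by rw [h₂, Category.id_comp]) :
          Spec (CommRingCat.of Ω) ⟶ pullback p t) default)

/-- Sections descend along morphisms with joined fibres. -/
theorem exists_descend_joined {X' U Q TV : Scheme.{u}} {p : X' ⟶ U} {O : X'.Opens} (hj : JoinedFibres p O)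
    [UniversallyOpen (O.ι ≫ p)] {gT : TV ⟶ U} {qX : Q ⟶ X'} {qT : Q ⟶ TV} (sq : IsPullback qX qT p gT)
    (hs : ∀ y : TV, gT y ∈ p '' (O : Set X')) {cT : TV ⟶ T} {c : Q ⟶ T} (hc : qT ≫ cT = c) (σ : gSec c F) :
    ∃ s : gSec cT F, ∀ (Ω : Type u) [Field Ω] [IsSepClosed Ω] (η : Spec (CommRingCat.of Ω) ⟶ T)
      (ξ : FibrePts c η) (ξ' : FibrePts cT η) (e : (EtCoh.stalk η).obj F),
      qX (ξ.1 default) ∈ O → ξ.1 ≫ qT = ξ'.1 → HasGerm σ ξ e → HasGerm s ξ' e := by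
  let OQ : Q.Opens := qX ⁻¹ᵁ O
  let π := OQ.ι ≫ qT
  let cO := OQ.ι ≫ c
  let σO := pullSec OQ.ι c F (c := cO) rfl σ
  have hπ : UniversallyOpen π := by
    have h1 : IsPullback (qX ∣_ O) OQ.ι O.ι qX := (isPullback_morphismRestrict qX O)
    exact MorphismProperty.of_isPullback (P := @UniversallyOpen) (h1.paste_vert sq) ‹_›
  obtain ⟨s, hs'⟩ := exists_descend_family (F := F) cT (ι := ULift.{u + 1} Unit) (S := fun _ => OQ.toScheme)
    (fun _ => π) (fi := fun _ => cO) (fun _ => hπ) (fun y => by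
      obtain ⟨z, hzO, hz⟩ := hs y
      obtain ⟨w, hw₁, hw₂⟩ := Scheme.exists_preimage_of_isPullback sq z y hz
      exact ⟨⟨()⟩, ⟨w, show qX w ∈ O by rw [hw₁]; exact hzO⟩, hw₂⟩)
    (fun _ => by simp only [π, cO, Category.assoc, hc]) (fun _ => σO) (by
      intro i j Ω _ _ η ξ₁ ξ₂ e hg he
      let a₁ := ξ₁.1 ≫ OQ.ι
      let a₂ := ξ₂.1 ≫ OQ.ι
      let τ := a₁ ≫ qT
      let Z := pullback p (τ ≫ gT)
      obtain ⟨m, hm₁, hm₂⟩ : ∃ m : Z ⟶ Q, m ≫ qX = pullback.fst p (τ ≫ gT) ∧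
          m ≫ qT = pullback.snd p (τ ≫ gT) ≫ τ :=
        ⟨sq.lift (pullback.fst _ _) (pullback.snd _ _ ≫ τ) (pullback.condition.trans (Category.assoc _ _ _).symm),
          sq.lift_fst _ _ _, sq.lift_snd _ _ _⟩
      have hk : a₂ ≫ qT = τ := by
        simp only [a₂, τ, a₁, Category.assoc]
        exact hg.symm
      have hzp : ∀ a : Spec (CommRingCat.of Ω) ⟶ Q, a ≫ qT = τ → (a ≫ qX) ≫ p = τ ≫ gT := fun a ha => by
        rw [Category.assoc, sq.w, ← Category.assoc, ha]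
      let ζ₁ : Spec (CommRingCat.of Ω) ⟶ Z :=
        pullback.lift (a₁ ≫ qX) (𝟙 _) (by rw [hzp a₁ rfl, Category.id_comp])
      let ζ₂ : Spec (CommRingCat.of Ω) ⟶ Z :=
        pullback.lift (a₂ ≫ qX) (𝟙 _) (by rw [hzp a₂ hk, Category.id_comp])
      have e₁ : ζ₁ ≫ m = a₁ := sq.hom_ext (by simp [ζ₁, hm₁]) (by simp [ζ₁, hm₂, τ]; exact Category.id_comp _)
      have e₂ : ζ₂ ≫ m = a₂ := sq.hom_ext (by simp [ζ₂, hm₁]) (by simp [ζ₂, hm₂, hk]; exact Category.id_comp _)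
      have hη : ∀ a : Spec (CommRingCat.of Ω) ⟶ OQ.toScheme, a ≫ cO = η → (a ≫ OQ.ι) ≫ c = η :=
        fun a ha => (Category.assoc _ _ _).trans ha
      have hcomp : pullback.snd p (τ ≫ gT) ≫ η = m ≫ c := by
        rw [← hη ξ₁.1 ξ₁.2, ← hc, reassoc_of% hm₂]
        simp only [τ, a₁, Category.assoc]
      have k₁ : ζ₁ ≫ m ≫ c = η := by rw [← Category.assoc, e₁]; exact hη ξ₁.1 ξ₁.2
      have k₂ : ζ₂ ≫ m ≫ c = η := by rw [← Category.assoc, e₂]; exact hη ξ₂.1 ξ₂.2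
      have hcc := hj Ω (τ ≫ gT) (a₁ ≫ qX) (a₂ ≫ qX) (hzp a₁ rfl) (hzp a₂ hk)
        (show qX (OQ.ι (ξ₁.1 default)) ∈ O from (ξ₁.1 default).2)
        (show qX (OQ.ι (ξ₂.1 default)) ∈ O from (ξ₂.1 default).2)
      have g₁ : HasGerm σ (⟨a₁, hη _ ξ₁.2⟩ : FibrePts c η) e := HasGerm.of_pullSec rfl rfl he
      have g₂ := hasGerm_pullSec m (c := m ≫ c) rfl (⟨ζ₁, k₁⟩ : FibrePts (m ≫ c) η) ⟨a₁, hη _ ξ₁.2⟩ e₁ g₁
      have g₃ := hasGerm_of_connected η (pullback.snd p (τ ≫ gT)) hcomp _ ζ₁ ζ₂ (pullback.lift_snd _ _ _)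
        (pullback.lift_snd _ _ _) hcc k₁ k₂ g₂
      exact hasGerm_pullSec OQ.ι rfl ξ₂ ⟨a₂, hη _ ξ₂.2⟩ rfl (HasGerm.of_pullSec rfl e₂ g₃))
  refine ⟨s, fun Ω _ _ η ξ ξ' e hO hq he => ?_⟩
  obtain ⟨a, ha⟩ : ∃ a : Spec (CommRingCat.of Ω) ⟶ OQ.toScheme, a ≫ OQ.ι = ξ.1 := by
    refine ⟨IsOpenImmersion.lift OQ.ι ξ.1 ?_, IsOpenImmersion.lift_fac _ _ _⟩
    rintro _ ⟨z, rfl⟩
    rw [Subsingleton.elim z default, Scheme.Opens.range_ι]
    exact hO
  let ξO : FibrePts cO η := ⟨a, by rw [← ξ.2, ← ha, Category.assoc]⟩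
  have h1 : HasGerm σO ξO e := hasGerm_pullSec OQ.ι rfl ξO ξ ha he
  rw [← hs' ⟨()⟩] at h1
  exact HasGerm.of_pullSec _ (show a ≫ OQ.ι ≫ qT = ξ'.1 by rw [← Category.assoc, ha, hq]) h1

end Groth.Agent.Et18.H0Lift
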