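import Groth.Agent.Et18.H0Lift.ConnStrict
import Groth.Prelude.Def_EtAcyc

/-!
# Maps of strict localizations along flat morphisms with geometrically reduced fibres are 0-acyclic
-/

set_option autoImplicit false
set_option backward.isDefEq.respectTransparency.types false
set_option backward.isDefEq.respectTransparency false

universe u

open CategoryTheory CategoryTheory.Limits AlgebraicGeometry IsLocalRing
open scoped TensorProduct

namespace Groth.Agent.Et18.H0Lift

open HenselLib

/-- Flatness over a hull from flatness over the base. -/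
theorem flat_of_hull {R K C : Type u} [CommRing R] [CommRing K] [Algebra R K] [CommRing C] [Algebra R C]
    [Module.Flat R C] (f : Hull R K →ₐ[R] C) : f.toRingHom.Flat := by
  algebraize [f.toRingHom]
  refine flat_of_flat_stages fun P => ?_
  let : Algebra P.Ring C := ((algebraMap (Hull R K) C).comp (ι P).toRingHom).toAlgebra
  have : IsScalarTower R P.Ring C :=
    IsScalarTower.of_algebraMap_eq fun r => ((f.comp (ι P)).commutes r).symm
  exact flat_of_flat_of_etale (R := R)

/-- A strictly henselian map of hulls is flat. -/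
theorem flat_strict_map {R₀ A RY RX : Type u} [CommRing R₀] [CommRing A] [Algebra R₀ A] [Module.Flat R₀ A]
    [CommRing RY] [IsLocalRing RY] [CommRing RX] [IsLocalRing RX]
    [Algebra R₀ RY] [Algebra A RX] [Algebra R₀ RX] [IsScalarTower R₀ A RX] [Algebra RY RX]
    [IsScalarTower R₀ RY RX]
    (eY : Hull R₀ (ResidueField RY) ≃ₐ[R₀] RY) (eX : Hull A (ResidueField RX) ≃ₐ[A] RX) :
    Module.Flat RY RX := by
  have : Module.Flat A RX := Module.Flat.of_linearEquiv eX.symm.toLinearEquiv
  have : Module.Flat R₀ RX := Module.Flat.trans R₀ A RX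
  have h := flat_of_hull ((IsScalarTower.toAlgHom R₀ RY RX).comp eY.toAlgHom)
  have h' : ((IsScalarTower.toAlgHom R₀ RY RX).comp eY.toAlgHom).toRingHom.comp eY.symm.toAlgHom.toRingHom =
      algebraMap RY RX := RingHom.ext fun x => congrArg (algebraMap RY RX) (eY.apply_symm_apply x)
  rw [← RingHom.flat_algebraMap_iff, ← h']
  exact (RingHom.Flat.of_bijective eY.symm.bijective).comp h

/-- The ring theoretic form. -/
theorem isZeroAcyclic_strict {R₀ A OY OX RY RX : Type u} [CommRing R₀] [CommRing A] [Algebra R₀ A]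
    [CommRing OY] [IsLocalRing OY] [CommRing OX] [IsLocalRing OX] [Algebra R₀ OY] [Algebra A OX]
    (MY : Submonoid R₀) [IsLocalization MY OY] (MX : Submonoid A) [IsLocalization MX OX]
    [CommRing RY] [IsLocalRing RY] [Algebra OY RY] [IsLocalHom (algebraMap OY RY)]
    [hY : Hensel.IsStrictHenselization OY RY]
    [CommRing RX] [IsLocalRing RX] [Algebra OX RX] [IsLocalHom (algebraMap OX RX)]
    [hX : Hensel.IsStrictHenselization OX RX]
    [Algebra R₀ RY] [IsScalarTower R₀ OY RY] [Algebra A RX] [IsScalarTower A OX RX]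
    [Algebra R₀ RX] [IsScalarTower R₀ A RX] [Algebra RY RX] [IsScalarTower R₀ RY RX]
    [IsLocalHom (algebraMap RY RX)]
    (hflat : Flat (Spec.map (CommRingCat.ofHom (algebraMap R₀ A))))
    (hfp : LocallyOfFinitePresentation (Spec.map (CommRingCat.ofHom (algebraMap R₀ A))))
    (hred : GeomRedFibres (Spec.map (CommRingCat.ofHom (algebraMap R₀ A)))) :
    EtAcyc.IsZeroAcyclic (Spec.map (CommRingCat.ofHom (algebraMap RY RX))) := by
  have := hY.henselian
  have := hX.henselian
  have := hY.isSepClosure.sep_closed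
  have := hX.isSepClosure.sep_closed
  obtain ⟨eY, -⟩ := SHull.exists_equiv (A := R₀) (R := RY) OY MY
  obtain ⟨eX, heX⟩ := SHull.exists_equiv (A := A) (R := RX) OX MX
  have : Module.Flat R₀ A :=
    RingHom.flat_algebraMap_iff.mp ((HasRingHomProperty.Spec_iff (P := @Flat)).mp hflat)
  have := flat_strict_map eY eX
  let p := Spec.map (CommRingCat.ofHom (algebraMap RY RX))
  have : Flat p := (HasRingHomProperty.Spec_iff (P := @Flat)).mpr (RingHom.flat_algebraMap_iff.mpr this)
  have : Module.FaithfullyFlat RY RX := Module.FaithfullyFlat.of_flat_of_isLocalHom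
  have : Surjective p := ⟨PrimeSpectrum.comap_surjective_of_faithfullyFlat⟩
  refine isZeroAcyclic_of_connFibres (p := p) fun Ω₀ _ _ η => ?_
  let Ω := AlgebraicClosure Ω₀
  let j := Spec.map (CommRingCat.ofHom (algebraMap Ω₀ Ω))
  obtain ⟨φ, hφ⟩ := Spec.map_surjective (j ≫ η)
  let : Algebra RY Ω := φ.hom.toAlgebra
  let : Algebra R₀ Ω := (φ.hom.comp (algebraMap R₀ RY)).toAlgebra
  have : IsScalarTower R₀ RY Ω := IsScalarTower.of_algebraMap_eq' rfl
  have hpre : PreconnectedSpace ↥(Spec (CommRingCat.of (RX ⊗[RY] Ω))) :=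
    CAlgH3.preconnectedSpace_of_idempotents fun e he => idempotent_fibre eY eX heX hflat hfp hred e he
  let l : pullback p (j ≫ η) ⟶ pullback p η :=
    pullback.lift (pullback.fst _ _) (pullback.snd _ _ ≫ j) (by rw [Category.assoc, pullback.condition])
  have hl : IsPullback l (pullback.snd p (j ≫ η)) (pullback.snd p η) j := by
    refine IsPullback.of_right ?_ (pullback.lift_snd _ _ _) (IsPullback.of_hasPullback p η)
    rw [pullback.lift_fst]
    exact IsPullback.of_hasPullback p (j ≫ η)
  have : Surjective j := ⟨fun x => ⟨default, Subsingleton.elim _ _⟩⟩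
  have : Surjective l := MorphismProperty.of_isPullback (P := @Surjective) hl.flip inferInstance
  let i : pullback p (j ≫ η) ≅ Spec (CommRingCat.of (RX ⊗[RY] Ω)) :=
    pullback.congrHom rfl hφ.symm ≪≫ pullbackSpecIso RY RX Ω
  have : PreconnectedSpace ↥(pullback p (j ≫ η)) :=
    (Scheme.homeoOfIso i).symm.surjective.denseRange.preconnectedSpace (Scheme.homeoOfIso i).symm.continuous
  exact l.surjective.denseRange.preconnectedSpace l.continuous

/-- Flat morphisms locally of finite presentation with geometrically reduced fibres are locally 0-acyclic. -/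
theorem isLocZeroAcyclic_of_geomRed {X Y : Scheme.{u}} (g : X ⟶ Y) [Flat g] [LocallyOfFinitePresentation g]
    (hred : GeomRedFibres g) : EtAcyc.IsLocZeroAcyclic g := by
  intro x RY RX _ _ _ _ _ _ _ _ _ _ _ _ hcomm
  obtain ⟨V, hV, hxV, -⟩ := exists_isAffineOpen_mem_and_subset (X := Y) (x := g x) (U := ⊤) trivial
  obtain ⟨W, hW, hxW, hle⟩ := exists_isAffineOpen_mem_and_subset (X := X) (x := x) (U := g ⁻¹ᵁ V) hxV
  let φ := g.appLE V W hle
  have sq : IsPullback (𝟙 _) (Spec.map φ) (hW.fromSpec ≫ g) hV.fromSpec :=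
    IsPullback.of_horiz_isIso_mono ⟨by rw [Category.id_comp, IsAffineOpen.SpecMap_appLE_fromSpec]⟩
  have hflat : Flat (Spec.map φ) := MorphismProperty.of_isPullback (P := @Flat) sq inferInstance
  have hfp : LocallyOfFinitePresentation (Spec.map φ) :=
    MorphismProperty.of_isPullback (P := @LocallyOfFinitePresentation) sq inferInstance
  have hr : GeomRedFibres (Spec.map φ) := (hred.comp_etale hW.fromSpec).isPullback sq
  let := Y.presheaf.algebra_section_stalk ⟨g x, hxV⟩
  let := X.presheaf.algebra_section_stalk ⟨x, hxW⟩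
  have := hV.isLocalization_stalk ⟨g x, hxV⟩
  have := hW.isLocalization_stalk ⟨x, hxW⟩
  let : Algebra Γ(Y, V) Γ(X, W) := φ.hom.toAlgebra
  let : Algebra Γ(Y, V) RY :=
    ((algebraMap (Y.presheaf.stalk (g x)) RY).comp (Y.presheaf.germ V (g x) hxV).hom).toAlgebra
  let : Algebra Γ(X, W) RX :=
    ((algebraMap (X.presheaf.stalk x) RX).comp (X.presheaf.germ W x hxW).hom).toAlgebra
  let : Algebra Γ(Y, V) RX := ((algebraMap Γ(X, W) RX).comp φ.hom).toAlgebra
  have : IsScalarTower Γ(Y, V) (Y.presheaf.stalk (g x)) RY := IsScalarTower.of_algebraMap_eq' rfl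
  have : IsScalarTower Γ(X, W) (X.presheaf.stalk x) RX := IsScalarTower.of_algebraMap_eq' rfl
  have : IsScalarTower Γ(Y, V) Γ(X, W) RX := IsScalarTower.of_algebraMap_eq' rfl
  have hgerm : ∀ r, X.presheaf.germ W x hxW (φ r) = g.stalkMap x (Y.presheaf.germ V (g x) hxV r) := fun r => by
    rw [Scheme.Hom.germ_stalkMap_apply g V x hxV r]
    simp only [φ, Scheme.Hom.appLE, CommRingCat.comp_apply]
    exact X.presheaf.germ_res_apply _ _ _ _
  have : IsScalarTower Γ(Y, V) RY RX := IsScalarTower.of_algebraMap_eq fun r =>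
    (congrArg (algebraMap (X.presheaf.stalk x) RX) (hgerm r)).trans
      (RingHom.congr_fun hcomm (Y.presheaf.germ V (g x) hxV r)).symm
  exact isZeroAcyclic_strict (R₀ := Γ(Y, V)) (A := Γ(X, W)) (OY := Y.presheaf.stalk (g x))
    (OX := X.presheaf.stalk x) (hV.primeIdealOf ⟨g x, hxV⟩).asIdeal.primeCompl
    (hW.primeIdealOf ⟨x, hxW⟩).asIdeal.primeCompl hflat hfp hr

/-- Universal form. -/
theorem isULocZeroAcyclic_of_geomRed {X Y : Scheme.{u}} (g : X ⟶ Y) [Flat g] [LocallyOfFinitePresentation g]
    (hred : GeomRedFibres g) : EtAcyc.IsULocZeroAcyclic g := by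
  intro X₁ Y₁ g₁ b' b sq
  have : Flat g₁ := MorphismProperty.of_isPullback (P := @Flat) sq inferInstance
  have : LocallyOfFinitePresentation g₁ :=
    MorphismProperty.of_isPullback (P := @LocallyOfFinitePresentation) sq inferInstance
  exact isLocZeroAcyclic_of_geomRed g₁ (hred.isPullback sq)

end Groth.Agent.Et18.H0Lift
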