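import Groth.Agent.Et18.H0Lift.ConnTwist
import Groth.Agent.Et18.H0Lift.ConnUnitQuot
import Groth.Agent.Et18.H0Lift.ConnStrictScheme
import Groth.Agent.Et18.H0Lift.SepFieldBC
import Groth.Prelude.Def_EtAcyc
import Mathlib.FieldTheory.PurelyInseparable.PerfectClosure
import Mathlib.RingTheory.KrullDimension.Zero

/-!
# Local 0-acyclicity over zero dimensional bases
-/

set_option autoImplicit false
set_option backward.isDefEq.respectTransparency.types false
set_option backward.isDefEq.respectTransparency false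

universe u

open CategoryTheory CategoryTheory.Limits AlgebraicGeometry IsLocalRing
open scoped TensorProduct

namespace Groth.Agent.Et18.H0Lift

open HenselLib RadicialStrict

/-- Points of a zero dimensional local ring extend uniquely to purely inseparable extensions of the residue field. -/
theorem uniqueExt_residue {R₀ k' : Type u} [CommRing R₀] [IsLocalRing R₀] [Ring.KrullDimLE 0 R₀] [Field k']
    [Algebra (ResidueField R₀) k'] [IsPurelyInseparable (ResidueField R₀) k'] [Algebra R₀ k']
    [IsScalarTower R₀ (ResidueField R₀) k'] : UniqueExt R₀ k' := by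
  intro K _ _ f
  have hker : RingHom.ker f = maximalIdeal R₀ := by
    have : (RingHom.ker f).IsPrime := RingHom.ker_isPrime f
    exact Ring.KrullDimLE.eq_maximalIdeal_of_isPrime _
  have : IsLocalHom f := ⟨fun x hx => by_contra fun hxu => hx.ne_zero
    (RingHom.mem_ker.1 (hker ▸ (IsLocalRing.mem_maximalIdeal x).2 hxu))⟩
  let : Algebra (ResidueField R₀) K := (ResidueField.lift f).toAlgebra
  have : Algebra.IsAlgebraic (ResidueField R₀) k' := inferInstance
  let g : k' →ₐ[ResidueField R₀] K := IsAlgClosed.lift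
  refine ⟨g.toRingHom, RingHom.ext fun r => ?_, fun g' hg' => ?_⟩
  · show g (algebraMap R₀ k' r) = f r
    rw [IsScalarTower.algebraMap_apply R₀ (ResidueField R₀) k', g.commutes]
    rfl
  · refine IsPurelyInseparable.injective_comp_algebraMap (ResidueField R₀) k' K (RingHom.ext fun x => ?_)
    obtain ⟨r, rfl⟩ := residue_surjective x
    show g' (algebraMap (ResidueField R₀) k' (residue R₀ r)) = g (algebraMap (ResidueField R₀) k' (residue R₀ r))
    rw [g.commutes]
    exact (congrArg g' (IsScalarTower.algebraMap_apply R₀ (ResidueField R₀) k' r).symm).trans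
      (RingHom.congr_fun hg' r)

/-- Maps with unique extensions of points are surjective on spectra. -/
theorem surjective_comap_of_uniqueExt {R T : Type u} [CommRing R] [CommRing T] (f : R →+* T)
    (h : ∀ (K : Type u) [Field K] [IsAlgClosed K] (g : R →+* K), ∃ g' : T →+* K, g'.comp f = g) :
    Function.Surjective (PrimeSpectrum.comap f) := fun q => by
  let K := AlgebraicClosure q.asIdeal.ResidueField
  let χ : R →+* K := (algebraMap q.asIdeal.ResidueField K).comp (algebraMap R q.asIdeal.ResidueField)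
  obtain ⟨χ', hχ'⟩ := h K χ
  refine ⟨⟨RingHom.ker χ', RingHom.ker_isPrime χ'⟩, PrimeSpectrum.ext ?_⟩
  ext x
  show χ' (f x) = 0 ↔ _
  rw [← RingHom.comp_apply, hχ', RingHom.comp_apply, map_eq_zero]
  exact Ideal.algebraMap_residueField_eq_zero

/-- Flatness over the base change of a hull along a surjection. -/
theorem flat_tensor_hull {R R' K M : Type u} [CommRing R] [CommRing R'] [Algebra R R'] [CommRing K] [Algebra R K]
    (hsurj : Function.Surjective (algebraMap R R')) {RY : Type u} [CommRing RY] [Algebra R RY]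
    (e : Hull R K ≃ₐ[R] RY) [CommRing M] [Algebra R' M] [Module.Flat R' M]
    (F : R' ⊗[R] RY →ₐ[R'] M) : F.toRingHom.Flat := by
  algebraize [F.toRingHom]
  have hrep : ∀ x : R' ⊗[R] RY, ∃ y : RY, (1 : R') ⊗ₜ[R] y = x := by
    intro x
    induction x using TensorProduct.induction_on with
    | zero => exact ⟨0, by simp⟩
    | tmul r y =>
        obtain ⟨r₀, rfl⟩ := hsurj r
        exact ⟨r₀ • y, by rw [← TensorProduct.smul_tmul, Algebra.algebraMap_eq_smul_one]⟩
    | add a b ha hb =>
        obtain ⟨a', rfl⟩ := ha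
        obtain ⟨b', rfl⟩ := hb
        exact ⟨a' + b', TensorProduct.tmul_add _ _ _⟩
  refine Module.Flat.of_forall_isTrivialRelation fun {l r x} hrel => ?_
  choose y hy using fun i => hrep (r i)
  obtain ⟨P, w, hw⟩ := exists_rep_fintype (R := R) (K := K) fun i => e.symm (y i)
  let jP : R' ⊗[R] P.Ring →ₐ[R'] R' ⊗[R] RY :=
    Algebra.TensorProduct.map (AlgHom.id R' R') (e.toAlgHom.comp (ι P))
  let : Algebra (R' ⊗[R] P.Ring) M := (F.comp jP).toRingHom.toAlgebra
  have : IsScalarTower R' (R' ⊗[R] P.Ring) M :=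
    IsScalarTower.of_algebraMap_eq (R := R') (S := R' ⊗[R] P.Ring) (A := M) fun a => ((F.comp jP).commutes a).symm
  have : Module.Flat (R' ⊗[R] P.Ring) M := flat_of_flat_of_etale (R := R') (A := R' ⊗[R] P.Ring) (C := M)
  have hw' : ∀ i, jP ((1 : R') ⊗ₜ[R] w i) = r i := fun i => by
    show (1 : R') ⊗ₜ[R] e (ι P (w i)) = r i
    rw [hw, e.apply_symm_apply, hy]
  have hsmul : ∀ (a : R' ⊗[R] P.Ring) (c : M), a • c = jP a • c := fun a c => by
    rw [Algebra.smul_def, Algebra.smul_def]; rfl
  have hrel' : ∑ i, ((1 : R') ⊗ₜ[R] w i) • x i = 0 := by simpa only [hsmul, hw'] using hrel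
  obtain ⟨n, a, z, ha, ha'⟩ := Module.Flat.isTrivialRelation_of_sum_smul_eq_zero (R := R' ⊗[R] P.Ring) (M := M) hrel'
  refine ⟨n, fun i j => jP (a i j), z, fun i => ?_, fun j => ?_⟩
  · simpa only [← hsmul] using ha i
  · simp only [← hw', ← map_mul, ← map_sum, ha', map_zero]

theorem surjective_includeRight {R R' T : Type u} [CommRing R] [CommRing R'] [CommRing T] [Algebra R R']
    [Algebra R T] (hsurj : Function.Surjective (algebraMap R R')) :
    Function.Surjective (Algebra.TensorProduct.includeRight.toRingHom : T →+* R' ⊗[R] T) := fun x => by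
  induction x using TensorProduct.induction_on with
  | zero => exact ⟨0, map_zero _⟩
  | tmul r y =>
      obtain ⟨r₀, rfl⟩ := hsurj r
      refine ⟨r₀ • y, ?_⟩
      show (1 : R') ⊗ₜ[R] (r₀ • y) = _
      rw [← TensorProduct.smul_tmul, ← Algebra.algebraMap_eq_smul_one]
  | add a b ha hb =>
      obtain ⟨a', rfl⟩ := ha
      obtain ⟨b', rfl⟩ := hb
      exact ⟨a' + b', map_add _ _ _⟩

/-- Base changes of a flat algebra over an algebra factoring through a field are flat. -/
theorem flat_spec_residue {R₀ A R₁ R' T : Type u} [CommRing R₀] [CommRing A] [Algebra R₀ A] [CommRing R₁]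
    [Algebra R₀ R₁] [CommRing R'] [Algebra R₁ R'] {k : Type u} [Field k] [Algebra R₀ k] (ik : k →+* R')
    (hik : ∀ r, ik (algebraMap R₀ k r) = algebraMap R₁ R' (algebraMap R₀ R₁ r))
    [CommRing T] [Algebra (R₁ ⊗[R₀] A) T] [Module.Flat (R₁ ⊗[R₀] A) T] [Algebra R₁ T]
    [IsScalarTower R₁ (R₁ ⊗[R₀] A) T] : Module.Flat R' (R' ⊗[R₁] T) := by
  let qA := Spec.map (CommRingCat.ofHom (algebraMap R₀ A))
  let tR := Spec.map (CommRingCat.ofHom (algebraMap R₀ R₁))
  let t0 := Spec.map (CommRingCat.ofHom (algebraMap R₀ k))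
  let t := Spec.map (CommRingCat.ofHom (algebraMap R₁ R'))
  let tk := Spec.map (CommRingCat.ofHom ik)
  let qS := Spec.map (CommRingCat.ofHom (algebraMap R₁ (R₁ ⊗[R₀] A)))
  let gX := Spec.map (CommRingCat.ofHom (algebraMap (R₁ ⊗[R₀] A) T))
  let qX := Spec.map (CommRingCat.ofHom (algebraMap R₁ T))
  have hqX : gX ≫ qS = qX := by
    simp only [gX, qS, qX, ← Spec.map_comp]
    exact congrArg Spec.map (CommRingCat.hom_ext (RingHom.ext fun r =>
      (IsScalarTower.algebraMap_apply R₁ (R₁ ⊗[R₀] A) T r).symm))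
  have htk : tk ≫ t0 = t ≫ tR := by
    simp only [tk, t0, t, tR, ← Spec.map_comp]
    exact congrArg Spec.map (CommRingCat.hom_ext (RingHom.ext hik))
  have sq0 : IsPullback (Spec.map (CommRingCat.ofHom
      (Algebra.TensorProduct.includeRight.toRingHom : A →+* R₁ ⊗[R₀] A))) qS qA tR :=
    (isPullback_SpecMap_of_isPushout _ _ _ _ (CommRingCat.isPushout_tensorProduct R₀ R₁ A)).flip
  have hgX : Flat gX :=
    (HasRingHomProperty.Spec_iff (P := @Flat)).mpr (RingHom.flat_algebraMap_iff.mpr inferInstance)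
  have hY0 : Flat (pullback.snd qA t0) := flat_to_field _
  have sq1 := (IsPullback.of_hasPullback qS t).paste_horiz sq0
  rw [← htk] at sq1
  let Y0 := IsPullback.of_hasPullback qA t0
  let l := Y0.lift (pullback.fst qS t ≫ Spec.map (CommRingCat.ofHom
      (Algebra.TensorProduct.includeRight.toRingHom : A →+* R₁ ⊗[R₀] A))) (pullback.snd qS t ≫ tk)
    (by rw [sq1.w, Category.assoc])
  have sq2 : IsPullback l (pullback.snd qS t) (pullback.snd qA t0) tk := by
    refine IsPullback.of_right ?_ (Y0.lift_snd _ _ _) Y0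
    rw [Y0.lift_fst]
    exact sq1
  have hY1 : Flat (pullback.snd qS t) := MorphismProperty.of_isPullback (P := @Flat) sq2 hY0
  have sq3 := (IsPullback.of_hasPullback gX (pullback.fst qS t)).paste_vert (IsPullback.of_hasPullback qS t)
  rw [hqX] at sq3
  have hY2 : Flat (pullback.snd gX (pullback.fst qS t)) :=
    MorphismProperty.pullback_snd (P := @Flat) _ _ hgX
  have sqX : IsPullback (Spec.map (CommRingCat.ofHom (Algebra.TensorProduct.includeRight.toRingHom : T →+* R' ⊗[R₁] T)))
      (Spec.map (CommRingCat.ofHom (Algebra.TensorProduct.includeLeftRingHom : R' →+* R' ⊗[R₁] T))) qX t :=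
    (isPullback_SpecMap_of_isPushout _ _ _ _ (CommRingCat.isPushout_tensorProduct R₁ R' T)).flip
  have hfl : Flat (Spec.map (CommRingCat.ofHom (Algebra.TensorProduct.includeLeftRingHom : R' →+* R' ⊗[R₁] T))) := by
    rw [← IsPullback.isoIsPullback_hom_snd _ _ sqX sq3]
    infer_instance
  exact RingHom.flat_algebraMap_iff.mp ((HasRingHomProperty.Spec_iff (P := @Flat)).mp hfl)

/-- The square of reductions of a map of algebras is cartesian. -/
theorem isPullback_reduction {R₁ R' RY RX : Type u} [CommRing R₁] [CommRing R'] [CommRing RY] [CommRing RX]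
    [Algebra R₁ R'] [Algebra R₁ RY] [Algebra R₁ RX] [Algebra RY RX] [IsScalarTower R₁ RY RX] :
    IsPullback (Spec.map (CommRingCat.ofHom (Algebra.TensorProduct.includeRight.toRingHom : RX →+* R' ⊗[R₁] RX)))
      (Spec.map (CommRingCat.ofHom
        (Algebra.TensorProduct.map (AlgHom.id R' R') (IsScalarTower.toAlgHom R₁ RY RX)).toRingHom))
      (Spec.map (CommRingCat.ofHom (algebraMap RY RX)))
      (Spec.map (CommRingCat.ofHom (Algebra.TensorProduct.includeRight.toRingHom : RY →+* R' ⊗[R₁] RY))) := by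
  refine IsPullback.of_bot ?_ ?_
    ((isPullback_SpecMap_of_isPushout _ _ _ _ (CommRingCat.isPushout_tensorProduct R₁ R' RY)).flip)
  · rw [← Spec.map_comp, ← Spec.map_comp]
    convert (isPullback_SpecMap_of_isPushout _ _ _ _ (CommRingCat.isPushout_tensorProduct R₁ R' RX)).flip using 1
    · refine congrArg Spec.map (CommRingCat.hom_ext (RingHom.ext fun r => ?_))
      show Algebra.TensorProduct.map (AlgHom.id R' R') (IsScalarTower.toAlgHom R₁ RY RX) (r ⊗ₜ[R₁] (1 : RY)) =
        r ⊗ₜ[R₁] (1 : RX)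
      simp
    · refine congrArg Spec.map (CommRingCat.hom_ext (RingHom.ext fun r => ?_))
      exact (IsScalarTower.algebraMap_apply R₁ RY RX r).symm
  · rw [← Spec.map_comp, ← Spec.map_comp]
    refine congrArg Spec.map (CommRingCat.hom_ext (RingHom.ext fun y => ?_))
    show (1 : R') ⊗ₜ[R₁] algebraMap RY RX y =
      Algebra.TensorProduct.map (AlgHom.id R' R') (IsScalarTower.toAlgHom R₁ RY RX) ((1 : R') ⊗ₜ[R₁] y)
    simp

/-- A radicial perfect field over a zero dimensional local ring. -/
theorem exists_perfect_radicial (R₀ : Type u) [CommRing R₀] [IsLocalRing R₀] [Ring.KrullDimLE 0 R₀] :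
    ∃ (k : Type u) (_ : Field k) (_ : PerfectField k) (_ : Algebra R₀ k) (_ : Algebra.IsIntegral R₀ k),
      UniqueExt R₀ k := by
  let K := perfectClosure (ResidueField R₀) (AlgebraicClosure (ResidueField R₀))
  let : Algebra R₀ K := ((algebraMap (ResidueField R₀) K).comp (residue R₀)).toAlgebra
  have : IsScalarTower R₀ (ResidueField R₀) K :=
    IsScalarTower.of_algebraMap_eq (R := R₀) (S := ResidueField R₀) (A := K) fun _ => rfl
  have : Algebra.IsIntegral R₀ (ResidueField R₀) :=
    Algebra.IsIntegral.of_surjective (Algebra.ofId R₀ (ResidueField R₀)) residue_surjective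
  exact ⟨K, inferInstance, inferInstance, inferInstance, Algebra.IsIntegral.trans (ResidueField R₀),
    uniqueExt_residue⟩

/-- Geometric fibres over zero dimensional local bases. -/
theorem idempotent_fibre_zeroDim {R₀ A R₁ RY RX : Type u} [CommRing R₀] [IsLocalRing R₀]
    [Ring.KrullDimLE 0 R₀] [CommRing A] [Algebra R₀ A] [CommRing R₁] [Algebra R₀ R₁]
    [CommRing RY] [HenselianLocalRing RY] [IsSepClosed (ResidueField RY)]
    [CommRing RX] [HenselianLocalRing RX] [IsSepClosed (ResidueField RX)]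
    [Algebra R₁ RY] [Algebra (R₁ ⊗[R₀] A) RX] [Algebra R₁ RX] [IsScalarTower R₁ (R₁ ⊗[R₀] A) RX]
    [Algebra RY RX] [IsScalarTower R₁ RY RX] [IsLocalHom (algebraMap RY RX)]
    (eY : Hull R₁ (ResidueField RY) ≃ₐ[R₁] RY)
    (eX : Hull (R₁ ⊗[R₀] A) (ResidueField RX) ≃ₐ[R₁ ⊗[R₀] A] RX)
    (heX : ∀ h, residue RX (eX h) = hullPt (R₁ ⊗[R₀] A) (ResidueField RX) h)
    {Ω : Type u} [Field Ω] [IsAlgClosed Ω] [Algebra RY Ω]
    (ε : RX ⊗[RY] Ω) (hε : IsIdempotentElem ε) : ε = 0 ∨ ε = 1 := by
  obtain ⟨k, _, _, _, _, hk⟩ := exists_perfect_radicial R₀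
  let A'' := (k ⊗[R₀] A) ⧸ nilradical (k ⊗[R₀] A)
  have : _root_.IsReduced A'' := (Ideal.isRadical_iff_quotient_reduced _).mp (Ideal.radical_isRadical _)
  let qA : A →ₐ[R₀] A'' := (Ideal.Quotient.mkₐ R₀ _).comp Algebra.TensorProduct.includeRight
  let R'' := k ⊗[R₀] R₁
  let : Algebra R₁ R'' := (Algebra.TensorProduct.includeRight.toRingHom : R₁ →+* R'').toAlgebra
  have : Algebra.IsIntegral R₁ R'' := by
    let e : R₁ ⊗[R₀] k ≃ₐ[R₁] R'' :=
      { (Algebra.TensorProduct.comm R₀ R₁ k).toRingEquiv with commutes' := fun _ => rfl }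
    exact Algebra.IsIntegral.of_surjective e.toAlgHom e.surjective
  have hR : UniqueExt R₁ R'' := fun K _ _ f => hk.tensor K f
  obtain ⟨w, hw⟩ := StageTensor.exists_lift_ringHom (B := R₀) (C := R₁) (D := A) (S := R'' ⊗[k] A'')
    ((Algebra.TensorProduct.includeLeftRingHom : R'' →+* R'' ⊗[k] A'').comp (algebraMap R₁ R''))
    ((Algebra.TensorProduct.includeRight.toRingHom : A'' →+* R'' ⊗[k] A'').comp qA.toRingHom)
    (fun r => by
      show ((1 : k) ⊗ₜ[R₀] algebraMap R₀ R₁ r) ⊗ₜ[k] (1 : A'') = (1 : R'') ⊗ₜ[k] qA (algebraMap R₀ A r)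
      rw [← tmul_one_eq, qA.commutes]
      exact tmul_one_eq (B := k) (C := R'') (D := A'') (algebraMap R₀ k r))
  let : Algebra (R₁ ⊗[R₀] A) (R'' ⊗[k] A'') := w.toAlgebra
  have hSR : ∀ r : R₁, algebraMap (R₁ ⊗[R₀] A) (R'' ⊗[k] A'') (algebraMap R₁ (R₁ ⊗[R₀] A) r) =
      algebraMap R₁ R'' r ⊗ₜ[k] (1 : A'') := fun r => by
    show w (r ⊗ₜ[R₀] (1 : A)) = _
    rw [hw, map_one, mul_one]
    rfl
  have hA : ∀ a : A, w ((1 : R₁) ⊗ₜ[R₀] a) = (1 : R'') ⊗ₜ[k] qA a := fun a => by
    rw [hw, map_one, one_mul]; rfl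
  have : Algebra.IsIntegral (R₁ ⊗[R₀] A) (R'' ⊗[k] A'') := by
    let I := integralClosure (R₁ ⊗[R₀] A) (R'' ⊗[k] A'')
    have hb : ∀ y, w y ∈ I := fun y => I.algebraMap_mem y
    have hc : ∀ c : k, (algebraMap k R'' c) ⊗ₜ[k] (1 : A'') ∈ I := fun c => by
      refine IsIntegral.map_of_comp_eq (algebraMap R₀ (R₁ ⊗[R₀] A))
        ((Algebra.TensorProduct.includeLeftRingHom : R'' →+* R'' ⊗[k] A'').comp (algebraMap k R''))
        (RingHom.ext fun r => ?_) (Algebra.IsIntegral.isIntegral (R := R₀) c)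
      show w (algebraMap R₀ R₁ r ⊗ₜ[R₀] (1 : A)) = ((algebraMap R₀ k r) ⊗ₜ[R₀] (1 : R₁)) ⊗ₜ[k] (1 : A'')
      rw [tmul_one_eq (B := R₀) (C := k)]
      exact hSR (algebraMap R₀ R₁ r)
    have hR1 : ∀ r : R'', r ⊗ₜ[k] (1 : A'') ∈ I := fun r => by
      induction r using TensorProduct.induction_on with
      | zero => rw [TensorProduct.zero_tmul]; exact I.zero_mem
      | tmul c r₁ =>
          have e : (c ⊗ₜ[R₀] r₁ : R'') = algebraMap k R'' c * algebraMap R₁ R'' r₁ := by
            show _ = (c ⊗ₜ[R₀] (1 : R₁)) * ((1 : k) ⊗ₜ[R₀] r₁)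
            simp
          rw [e, show (algebraMap k R'' c * algebraMap R₁ R'' r₁) ⊗ₜ[k] (1 : A'') =
            (algebraMap k R'' c ⊗ₜ[k] (1 : A'')) * (algebraMap R₁ R'' r₁ ⊗ₜ[k] (1 : A'')) by simp, ← hSR]
          exact I.mul_mem (hc c) (hb _)
      | add a b ha hb => rw [TensorProduct.add_tmul]; exact I.add_mem ha hb
    refine ⟨fun x => ?_⟩
    induction x using TensorProduct.induction_on with
    | zero => exact isIntegral_zero
    | tmul r a =>
        obtain ⟨y, rfl⟩ := Ideal.Quotient.mk_surjective a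
        rw [show r ⊗ₜ[k] Ideal.Quotient.mk (nilradical (k ⊗[R₀] A)) y =
          (r ⊗ₜ[k] (1 : A'')) * ((1 : R'') ⊗ₜ[k] Ideal.Quotient.mk (nilradical (k ⊗[R₀] A)) y) by simp]
        refine I.mul_mem (hR1 r) ?_
        induction y using TensorProduct.induction_on with
        | zero => rw [map_zero, TensorProduct.tmul_zero]; exact I.zero_mem
        | tmul c a =>
            have e : Ideal.Quotient.mk (nilradical (k ⊗[R₀] A)) (c ⊗ₜ[R₀] a) = algebraMap k A'' c * qA a := by
              show _ = Ideal.Quotient.mk _ (c ⊗ₜ[R₀] (1 : A)) * Ideal.Quotient.mk _ ((1 : k) ⊗ₜ[R₀] a)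
              rw [← map_mul, Algebra.TensorProduct.tmul_mul_tmul, mul_one, one_mul]
            rw [e, show (1 : R'') ⊗ₜ[k] (algebraMap k A'' c * qA a) =
              ((1 : R'') ⊗ₜ[k] algebraMap k A'' c) * ((1 : R'') ⊗ₜ[k] qA a) by simp, ← tmul_one_eq, ← hA]
            exact I.mul_mem (hc c) (hb _)
        | add a b ha hb => rw [map_add, TensorProduct.tmul_add]; exact I.add_mem ha hb
    | add a b ha hb => exact ha.add hb
  have hS : UniqueExt (R₁ ⊗[R₀] A) (R'' ⊗[k] A'') := by
    intro K _ _ f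
    let f₀ : R₀ →+* K := f.comp (algebraMap R₀ (R₁ ⊗[R₀] A))
    obtain ⟨gk, hgk, huk⟩ := hk K f₀
    obtain ⟨gR, hgR, huR⟩ := hR K (f.comp (algebraMap R₁ (R₁ ⊗[R₀] A)))
    obtain ⟨gA₀, hgA₀⟩ := StageTensor.exists_lift_ringHom (B := R₀) (C := k) (D := A) gk
      (f.comp Algebra.TensorProduct.includeRight.toRingHom) (fun r => by
        show gk (algebraMap R₀ k r) = f ((1 : R₁) ⊗ₜ[R₀] algebraMap R₀ A r)
        rw [← tmul_one_eq]
        exact RingHom.congr_fun hgk r)
    let gA : A'' →+* K := Ideal.Quotient.lift _ gA₀ fun y hy => ((mem_nilradical.1 hy).map gA₀).eq_zero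
    have hkR : gR.comp (algebraMap k R'') = gk := huk _ (RingHom.ext fun r => by
      show gR (algebraMap R₀ k r ⊗ₜ[R₀] (1 : R₁)) = f (algebraMap R₀ R₁ r ⊗ₜ[R₀] (1 : A))
      rw [tmul_one_eq]
      exact RingHom.congr_fun hgR (algebraMap R₀ R₁ r))
    obtain ⟨g, hg⟩ := StageTensor.exists_lift_ringHom (B := k) (C := R'') (D := A'') gR gA (fun c => by
      rw [show gR (algebraMap k R'' c) = gk c from RingHom.congr_fun hkR c]
      show gk c = gA₀ (c ⊗ₜ[R₀] (1 : A))
      rw [hgA₀, map_one, mul_one])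
    refine ⟨g, RingHom.ext fun y => ?_, fun g' hg' => ?_⟩
    · induction y using TensorProduct.induction_on with
      | zero => rw [map_zero, map_zero]
      | tmul r a =>
          show g (w (r ⊗ₜ[R₀] a)) = f (r ⊗ₜ[R₀] a)
          rw [hw, map_mul]
          show g (algebraMap R₁ R'' r ⊗ₜ[k] (1 : A'')) * g ((1 : R'') ⊗ₜ[k] qA a) = _
          rw [hg, hg, map_one, map_one, mul_one, one_mul,
            show gR (algebraMap R₁ R'' r) = f (r ⊗ₜ[R₀] (1 : A)) from RingHom.congr_fun hgR r]
          show f (r ⊗ₜ[R₀] (1 : A)) * gA₀ ((1 : k) ⊗ₜ[R₀] a) = _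
          rw [hgA₀, map_one, one_mul]
          show f (r ⊗ₜ[R₀] (1 : A)) * f ((1 : R₁) ⊗ₜ[R₀] a) = _
          rw [← map_mul, Algebra.TensorProduct.tmul_mul_tmul, mul_one, one_mul]
      | add a b ha hb => rw [map_add, map_add, ha, hb]
    · have hl : g'.comp Algebra.TensorProduct.includeLeftRingHom = gR := huR _ (RingHom.ext fun r => by
        show g' (algebraMap R₁ R'' r ⊗ₜ[k] (1 : A'')) = _
        rw [← hSR]
        exact RingHom.congr_fun hg' _)
      have hr : g'.comp Algebra.TensorProduct.includeRight.toRingHom = gA := Ideal.Quotient.ringHom_ext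
        (RingHom.ext fun y => by
          show g' ((1 : R'') ⊗ₜ[k] Ideal.Quotient.mk (nilradical (k ⊗[R₀] A)) y) = gA₀ y
          induction y using TensorProduct.induction_on with
          | zero => simp
          | tmul c a =>
              have e : Ideal.Quotient.mk (nilradical (k ⊗[R₀] A)) (c ⊗ₜ[R₀] a) = algebraMap k A'' c * qA a := by
                show _ = Ideal.Quotient.mk _ (c ⊗ₜ[R₀] (1 : A)) * Ideal.Quotient.mk _ ((1 : k) ⊗ₜ[R₀] a)
                rw [← map_mul, Algebra.TensorProduct.tmul_mul_tmul, mul_one, one_mul]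
              rw [e, show (1 : R'') ⊗ₜ[k] (algebraMap k A'' c * qA a) =
                ((1 : R'') ⊗ₜ[k] algebraMap k A'' c) * ((1 : R'') ⊗ₜ[k] qA a) by simp, map_mul, hgA₀, ← tmul_one_eq,
                show g' (algebraMap k R'' c ⊗ₜ[k] (1 : A'')) = gk c from
                  (RingHom.congr_fun hl _).trans (RingHom.congr_fun hkR c), ← hA]
              exact congrArg (gk c * ·) (RingHom.congr_fun hg' _)
          | add a b ha hb => rw [map_add, TensorProduct.tmul_add, map_add, map_add, ha, hb])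
      refine RingHom.ext fun x => ?_
      induction x using TensorProduct.induction_on with
      | zero => rw [map_zero, map_zero]
      | tmul r a =>
          rw [hg, show r ⊗ₜ[k] a = (r ⊗ₜ[k] (1 : A'')) * ((1 : R'') ⊗ₜ[k] a) by simp, map_mul]
          exact congrArg₂ (· * ·) (RingHom.congr_fun hl r) (RingHom.congr_fun hr a)
      | add a b ha hb => rw [map_add, map_add, ha, hb]
  exact idempotent_fibre_twist (k := k) (A'' := A'') (R₁'' := R'') (S := R₁ ⊗[R₀] A) hR hS hSR eY eX heX ε hε

/-- The ring theoretic form over a zero dimensional local base. -/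
theorem isZeroAcyclic_strict_zeroDim {R₀ A R₁ OY OX RY RX : Type u} [CommRing R₀] [IsLocalRing R₀]
    [Ring.KrullDimLE 0 R₀] [CommRing A] [Algebra R₀ A] [CommRing R₁] [Algebra R₀ R₁]
    [CommRing OY] [IsLocalRing OY] [CommRing OX] [IsLocalRing OX] [Algebra R₁ OY] [Algebra (R₁ ⊗[R₀] A) OX]
    (MY : Submonoid R₁) [IsLocalization MY OY] (MX : Submonoid (R₁ ⊗[R₀] A)) [IsLocalization MX OX]
    [CommRing RY] [IsLocalRing RY] [Algebra OY RY] [IsLocalHom (algebraMap OY RY)]
    [hY : Hensel.IsStrictHenselization OY RY]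
    [CommRing RX] [IsLocalRing RX] [Algebra OX RX] [IsLocalHom (algebraMap OX RX)]
    [hX : Hensel.IsStrictHenselization OX RX]
    [Algebra R₁ RY] [IsScalarTower R₁ OY RY] [Algebra (R₁ ⊗[R₀] A) RX] [IsScalarTower (R₁ ⊗[R₀] A) OX RX]
    [Algebra R₁ RX] [IsScalarTower R₁ (R₁ ⊗[R₀] A) RX] [Algebra RY RX] [IsScalarTower R₁ RY RX]
    [IsLocalHom (algebraMap RY RX)] :
    EtAcyc.IsZeroAcyclic (Spec.map (CommRingCat.ofHom (algebraMap RY RX))) := by
  have := hY.henselian
  have := hX.henselian
  have := hY.isSepClosure.sep_closed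
  have := hX.isSepClosure.sep_closed
  obtain ⟨eY, -⟩ := SHull.exists_equiv (A := R₁) (R := RY) OY MY
  obtain ⟨eX, heX⟩ := SHull.exists_equiv (A := R₁ ⊗[R₀] A) (R := RX) OX MX
  let k := ResidueField R₀
  let p := Spec.map (CommRingCat.ofHom (algebraMap RY RX))
  -- the residue field
  have hk : UniqueExt R₀ k := uniqueExt_residue (k' := k)
  let R' := k ⊗[R₀] R₁
  let : Algebra R₁ R' := (Algebra.TensorProduct.includeRight.toRingHom : R₁ →+* R').toAlgebra
  have hsurj : Function.Surjective (algebraMap R₁ R') := fun x => by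
    induction x using TensorProduct.induction_on with
    | zero => exact ⟨0, map_zero _⟩
    | tmul c r =>
        obtain ⟨c₀, rfl⟩ := residue_surjective c
        refine ⟨c₀ • r, ?_⟩
        show (1 : k) ⊗ₜ[R₀] (c₀ • r) = _
        rw [← TensorProduct.smul_tmul]
        exact congrArg (· ⊗ₜ[R₀] r) ((Algebra.algebraMap_eq_smul_one (A := k) c₀).symm)
    | add a b ha hb =>
        obtain ⟨a', rfl⟩ := ha
        obtain ⟨b', rfl⟩ := hb
        exact ⟨a' + b', map_add _ _ _⟩
  have hR' : UniqueExt R₁ R' := fun K _ _ f => hk.tensor K f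
  let jY : RY →+* R' ⊗[R₁] RY := Algebra.TensorProduct.includeRight.toRingHom
  have hjYs : Function.Surjective jY := surjective_includeRight hsurj
  let pY := Spec.map (CommRingCat.ofHom jY)
  have : IsClosedImmersion pY := IsClosedImmersion.spec_of_surjective _ hjYs
  have : Surjective pY := ⟨surjective_comap_of_uniqueExt jY fun K _ _ g => (hR'.tensor K g).exists⟩
  -- the reduction is flat
  let F : R' ⊗[R₁] RY →ₐ[R'] R' ⊗[R₁] RX :=
    Algebra.TensorProduct.map (AlgHom.id R' R') (IsScalarTower.toAlgHom R₁ RY RX)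
  have : Module.Flat R' (R' ⊗[R₁] RX) := by
    have : Module.Flat (R₁ ⊗[R₀] A) RX := Module.Flat.of_linearEquiv eX.symm.toLinearEquiv
    exact flat_spec_residue (A := A) (T := RX) (k := k) (Algebra.TensorProduct.includeLeftRingHom : k →+* R')
      fun r => tmul_one_eq r
  have hFflat := flat_tensor_hull hsurj eY F
  let pF := Spec.map (CommRingCat.ofHom F.toRingHom)
  have : Flat pF := (HasRingHomProperty.Spec_iff (P := @Flat)).mpr hFflat
  have sqF : IsPullback (Spec.map (CommRingCat.ofHom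
      (Algebra.TensorProduct.includeRight.toRingHom : RX →+* R' ⊗[R₁] RX))) pF p pY :=
    isPullback_reduction
  have hpsurj : Surjective pF := by
    let jX : RX →+* R' ⊗[R₁] RX := Algebra.TensorProduct.includeRight.toRingHom
    obtain ⟨gX₀, hgX₀, -⟩ := hR'.tensor (AlgebraicClosure (ResidueField RX))
      ((algebraMap (ResidueField RX) (AlgebraicClosure (ResidueField RX))).comp (residue RX))
    obtain ⟨gY₀, hgY₀, -⟩ := hR'.tensor (AlgebraicClosure (ResidueField RY))
      ((algebraMap (ResidueField RY) (AlgebraicClosure (ResidueField RY))).comp (residue RY))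
    have : Nontrivial (R' ⊗[R₁] RX) := gX₀.domain_nontrivial
    have : Nontrivial (R' ⊗[R₁] RY) := gY₀.domain_nontrivial
    have := IsLocalRing.of_surjective' jY hjYs
    have hjXs : Function.Surjective jX := surjective_includeRight hsurj
    have := IsLocalRing.of_surjective' jX hjXs
    have : IsLocalHom jX := IsLocalHom.of_surjective jX hjXs
    let : Algebra (R' ⊗[R₁] RY) (R' ⊗[R₁] RX) := F.toRingHom.toAlgebra
    have : IsLocalHom (algebraMap (R' ⊗[R₁] RY) (R' ⊗[R₁] RX)) := ⟨fun x hx => by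
      obtain ⟨y, rfl⟩ := hjYs x
      have e : F (jY y) = jX (algebraMap RY RX y) := by simp [F, jY, jX]
      have h1 : IsUnit (jX (algebraMap RY RX y)) := e ▸ hx
      exact (IsUnit.of_map (algebraMap RY RX) y (IsUnit.of_map jX _ h1)).map jY⟩
    have : Module.Flat (R' ⊗[R₁] RY) (R' ⊗[R₁] RX) := hFflat
    have : Module.FaithfullyFlat (R' ⊗[R₁] RY) (R' ⊗[R₁] RX) := Module.FaithfullyFlat.of_flat_of_isLocalHom
    exact ⟨PrimeSpectrum.comap_surjective_of_faithfullyFlat⟩
  have hu : UQuot p := by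
    intro X' Y' p' b' b sq
    let c := pullback.fst b pY
    have hc : Surjective c := MorphismProperty.pullback_fst (P := @Surjective) _ _ inferInstance
    have : IsClosedImmersion c := MorphismProperty.pullback_fst (P := @IsClosedImmersion) _ _ inferInstance
    have hcq : Topology.IsQuotientMap c :=
      (IsClosedImmersion.base_closed (f := c)).isClosedMap.isQuotientMap c.continuous hc.surj
    let q' := pullback.snd c (pullback.fst b pY)
    have sq₁ := IsPullback.of_hasPullback p' c
    have sq₂ : IsPullback (pullback.fst p' c ≫ b') (pullback.snd p' c) p (c ≫ b) := sq₁.paste_horiz sq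
    have e : c ≫ b = pullback.snd b pY ≫ pY := pullback.condition
    rw [e] at sq₂
    let l := sqF.lift (pullback.fst p' c ≫ b') (pullback.snd p' c ≫ pullback.snd b pY)
      (by rw [sq₂.w, Category.assoc])
    have sq₃ : IsPullback l (pullback.snd p' c) pF (pullback.snd b pY) := by
      refine IsPullback.of_right ?_ (sqF.lift_snd _ _ _) sqF
      rw [sqF.lift_fst]
      exact sq₂
    have : Flat (pullback.snd p' c) := MorphismProperty.of_isPullback (P := @Flat) sq₃ inferInstance
    have : QuasiCompact (pullback.snd p' c) := MorphismProperty.of_isPullback (P := @QuasiCompact) sq₃ inferInstance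
    have : Surjective (pullback.snd p' c) := MorphismProperty.of_isPullback (P := @Surjective) sq₃ hpsurj
    have hq : Topology.IsQuotientMap (c ∘ pullback.snd p' c) :=
      hcq.comp (Flat.isQuotientMap_of_surjective _)
    have heq : (c ∘ pullback.snd p' c : _ → _) = p' ∘ pullback.fst p' c := funext fun z => by
      show c (pullback.snd p' c z) = p' (pullback.fst p' c z)
      rw [← Scheme.Hom.comp_apply, ← Scheme.Hom.comp_apply, pullback.condition]
    rw [heq] at hq
    exact ⟨hq.surjective.of_comp, hq.of_comp (pullback.fst p' c).continuous p'.continuous⟩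
  refine isZeroAcyclic_of_connFibres' (p := p) hu fun Ω₀ _ _ η => ?_
  let Ω := AlgebraicClosure Ω₀
  let j := Spec.map (CommRingCat.ofHom (algebraMap Ω₀ Ω))
  obtain ⟨φ, hφ⟩ := Spec.map_surjective (j ≫ η)
  let : Algebra RY Ω := φ.hom.toAlgebra
  have hpre : PreconnectedSpace ↥(Spec (CommRingCat.of (RX ⊗[RY] Ω))) :=
    CAlgH3.preconnectedSpace_of_idempotents fun e he => idempotent_fibre_zeroDim eY eX heX e he
  let l : pullback p (j ≫ η) ⟶ pullback p η :=
    pullback.lift (pullback.fst _ _) (pullback.snd _ _ ≫ j) (by rw [Category.assoc, pullback.condition])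
  have hl : IsPullback l (pullback.snd p (j ≫ η)) (pullback.snd p η) j := by
    refine IsPullback.of_right ?_ (pullback.lift_snd _ _ _) (IsPullback.of_hasPullback p η)
    rw [pullback.lift_fst]
    exact IsPullback.of_hasPullback p (j ≫ η)
  have : Surjective j := ⟨fun x => ⟨default, Subsingleton.elim _ _⟩⟩
  have : Surjective l := MorphismProperty.of_isPullback (P := @Surjective) hl.flip inferInstance
  let i : pullback p (j ≫ η) ≅ Spec (CommRingCat.of (RX ⊗[RY] Ω)) :=
    pullback.congrHom rfl hφ.symm ≪≫ pullbackSpecIso RY RX Ω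
  have : PreconnectedSpace ↥(pullback p (j ≫ η)) :=
    (Scheme.homeoOfIso i).symm.surjective.denseRange.preconnectedSpace (Scheme.homeoOfIso i).symm.continuous
  exact l.surjective.denseRange.preconnectedSpace l.continuous

end Groth.Agent.Et18.H0Lift
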