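import Groth.Agent.Et18.SHull
import Groth.Agent.HenselLib.HullProps
import Mathlib.RingTheory.TensorProduct.Maps

/-!
# Models of strictly henselian rings over smaller base rings
-/

set_option autoImplicit false
set_option backward.isDefEq.respectTransparency.types false
set_option backward.isDefEq.respectTransparency false

universe u

open IsLocalRing
open scoped TensorProduct

namespace Groth.Agent.Et18.StrictModel

open HenselLib

/-- Points of étale algebras over strictly henselian rings lift along local maps. -/
theorem existsUnique_lift_etale {R S T B : Type u} [CommRing R] [CommRing S] [HenselianLocalRing S]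
    [IsSepClosed (ResidueField S)] [CommRing T] [HenselianLocalRing T] [Algebra R S] [Algebra R T]
    [CommRing B] [Algebra R B] [Algebra.Etale R B] (h : S →ₐ[R] T) [IsLocalHom h.toRingHom]
    (φ : B →ₐ[R] T) : ∃! b : B →ₐ[R] S, h.comp b = φ := by
  let i : ResidueField S →ₐ[R] ResidueField T :=
    { ResidueField.map h.toRingHom with
      commutes' := fun r => by
        show ResidueField.map h.toRingHom (residue S (algebraMap R S r)) = residue T (algebraMap R T r)
        rw [ResidueField.map_residue]
        exact congrArg (residue T) (h.commutes r) }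
  let σ : B →ₐ[R] ResidueField T := (IsScalarTower.toAlgHom R T (ResidueField T)).comp φ
  have hmem : ∀ x, σ x ∈ i.range := fun x => by
    let : Algebra (ResidueField S) (ResidueField T) := i.toRingHom.toAlgebra
    have : IsScalarTower R (ResidueField S) (ResidueField T) :=
      IsScalarTower.of_algebraMap_eq (R := R) (S := ResidueField S) (A := ResidueField T) fun r => (i.commutes r).symm
    let gk : ResidueField S ⊗[R] B →ₐ[ResidueField S] ResidueField T :=
      Algebra.TensorProduct.lift (Algebra.ofId _ _) σ fun _ _ => Commute.all _ _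
    obtain ⟨c, hc⟩ := mem_range_of_unramified gk ((1 : ResidueField S) ⊗ₜ[R] x)
    exact ⟨c, hc.trans (by simp [gk])⟩
  let σ' : B →ₐ[R] ResidueField S :=
    (AlgEquiv.ofInjective i i.toRingHom.injective).symm.toAlgHom.comp (σ.codRestrict i.range hmem)
  have hσ' : ∀ x, i (σ' x) = σ x := fun x =>
    congrArg Subtype.val ((AlgEquiv.ofInjective i i.toRingHom.injective).apply_symm_apply ⟨σ x, hmem x⟩)
  obtain ⟨b, hb, hbu⟩ := existsUnique_to_residueField S σ'
  refine ⟨b, ?_, fun b' hb' => hbu b' fun x => i.toRingHom.injective ?_⟩
  · refine (existsUnique_to_residueField T σ).unique (y₁ := h.comp b) (y₂ := φ) (fun x => ?_) fun x => rfl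
    show residue T (h (b x)) = σ x
    rw [← hσ', ← hb x]
    rfl
  · show i (residue S (b' x)) = i (σ' x)
    rw [hσ']
    exact congrArg (residue T) (DFunLike.congr_fun hb' x)

/-- Maps out of hulls lift along local maps. -/
theorem exists_hom_lift {R H K S T : Type u} [CommRing R] [CommRing H] [Algebra R H] [CommRing K] [Algebra R K]
    (e : Hull R K ≃ₐ[R] H) [CommRing S] [HenselianLocalRing S] [IsSepClosed (ResidueField S)] [CommRing T]
    [HenselianLocalRing T] [Algebra R S] [Algebra R T] (h : S →ₐ[R] T) [IsLocalHom h.toRingHom]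
    (φ : H →ₐ[R] T) : ∃ g : H →ₐ[R] S, h.comp g = φ := by
  choose g hg hu using fun P : Pt R K => existsUnique_lift_etale h (φ.comp (e.toAlgHom.comp (ι P)))
  obtain ⟨G, hG⟩ := exists_desc g fun P Q f => hu P _ (AlgHom.ext fun x => by
    show h (g Q (f.map x)) = φ (e (ι P x))
    rw [← ι_map f x]
    exact DFunLike.congr_fun (hg Q) (f.map x))
  refine ⟨G.comp e.symm.toAlgHom, AlgHom.ext fun r => ?_⟩
  obtain ⟨z, rfl⟩ := e.surjective r
  obtain ⟨P, x, rfl⟩ := exists_rep z
  show h (G (e.symm (e (ι P x)))) = _
  rw [e.symm_apply_apply, show G (ι P x) = g P x from DFunLike.congr_fun (hG P) x]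
  exact DFunLike.congr_fun (hg P) x

/-- A Noetherian strictly henselian model over a Noetherian base. -/
theorem exists_strict_model {R T : Type u} [CommRing R] [IsNoetherianRing R] [CommRing T] [HenselianLocalRing T]
    [IsSepClosed (ResidueField T)] [Algebra R T] :
    ∃ (S : Type u) (_ : CommRing S) (_ : HenselianLocalRing S) (_ : IsNoetherianRing S)
      (_ : IsSepClosed (ResidueField S)) (_ : Algebra R S) (e : Hull R (ResidueField S) ≃ₐ[R] S)
      (h : S →ₐ[R] T), (∀ x, residue S (e x) = hullPt R (ResidueField S) x) ∧ IsLocalHom h.toRingHom := by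
  let p : Ideal R := (maximalIdeal T).comap (algebraMap R T)
  let O := Localization.AtPrime p
  let f : O →+* T := IsLocalization.lift (M := p.primeCompl) (g := algebraMap R T)
    fun s => IsLocalRing.notMem_maximalIdeal.1 s.2
  have hf : ∀ r, f (algebraMap R O r) = algebraMap R T r := fun r => IsLocalization.lift_eq _ r
  have : IsLocalHom f := ⟨fun o ho => by
    obtain ⟨a, s, rfl⟩ := IsLocalization.exists_mk'_eq p.primeCompl o
    refine (IsLocalization.AtPrime.isUnit_mk'_iff O p a s).2 fun ha => ?_
    have h1 : f (IsLocalization.mk' O a s) * f (algebraMap R O s) = f (algebraMap R O a) := by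
      rw [← map_mul, IsLocalization.mk'_spec]
    rw [hf, hf] at h1
    exact (IsLocalRing.mem_maximalIdeal _).1 ha (h1 ▸ ho.mul (IsLocalRing.notMem_maximalIdeal.1 s.2))⟩
  have : IsNoetherianRing O := IsLocalization.isNoetherianRing p.primeCompl O inferInstance
  let S := LocalSH O
  have hS := isStrictHenselization_localSH (R := O)
  have : IsNoetherianRing S := isNoetherianRing_localSH
  have hcl := isSepClosure_residueField_localSH (R := O)
  have : IsSepClosed (ResidueField S) := hcl.sep_closed
  let : Algebra (ResidueField O) (ResidueField T) := (ResidueField.map f).toAlgebra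
  let τ : ResidueField S →ₐ[ResidueField O] ResidueField T := IsSepClosed.lift
  obtain ⟨g, ⟨hg, hgres⟩, -⟩ := hS.universal T f τ.toRingHom
    (RingHom.ext fun o => τ.commutes o)
  let : Algebra R S := ((algebraMap O S).comp (algebraMap R O)).toAlgebra
  have : IsScalarTower R O S := IsScalarTower.of_algebraMap_eq' rfl
  obtain ⟨e, he⟩ := SHull.exists_equiv (A := R) (R := S) O p.primeCompl
  let h : S →ₐ[R] T := { g with commutes' := fun r => (RingHom.congr_fun hg (algebraMap R O r)).trans (hf r) }
  refine ⟨S, inferInstance, inferInstance, inferInstance, inferInstance, inferInstance, e, h, he,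
    ⟨fun x hx => by_contra fun hxu => (?_ : ¬ IsUnit (g x)) hx⟩⟩
  rw [← mem_nonunits_iff, ← IsLocalRing.mem_maximalIdeal, ← residue_eq_zero_iff, hgres,
    (residue_eq_zero_iff x).2 ((IsLocalRing.mem_maximalIdeal x).2 hxu)]
  exact map_zero τ.toRingHom

end Groth.Agent.Et18.StrictModel
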