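import Groth.Agent.Et18.H0Lift.ConnNoeth
import Groth.Agent.Et18.H0Lift.ConnStrictScheme
import Groth.Agent.Et18.H0Lift.StrictModel
import Mathlib.RingTheory.Smooth.NoetherianDescent

/-!
# Geometric fibres of maps of strict localizations over arbitrary base changes of Noetherian rings
-/

set_option autoImplicit false
set_option backward.isDefEq.respectTransparency.types false
set_option backward.isDefEq.respectTransparency false

universe u

open CategoryTheory CategoryTheory.Limits AlgebraicGeometry IsLocalRing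
open scoped TensorProduct

namespace Groth.Agent.Et18.H0Lift

open HenselLib

/-- Stages have geometrically reduced fibres. -/
theorem geomRed_stage {R₀ A B C : Type u} [CommRing R₀] [CommRing A] [CommRing B] [CommRing C] [Algebra R₀ A]
    [Algebra R₀ B] [Algebra.Etale R₀ B] [Algebra A C] [Algebra.Etale A C] [Algebra R₀ C] [IsScalarTower R₀ A C]
    (ψ : B →ₐ[R₀] C) (hred : GeomRedFibres (Spec.map (CommRingCat.ofHom (algebraMap R₀ A)))) :
    GeomRedFibres (Spec.map (CommRingCat.ofHom ψ.toRingHom)) := by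
  let gA := Spec.map (CommRingCat.ofHom (algebraMap R₀ A))
  let fW : Spec (CommRingCat.of C) ⟶ Spec (CommRingCat.of B) := Spec.map (CommRingCat.ofHom ψ.toRingHom)
  let πX := Spec.map (CommRingCat.ofHom (algebraMap A C))
  let πU := Spec.map (CommRingCat.ofHom (algebraMap R₀ B))
  have : Etale πX := etale_spec
  have : Etale πU := etale_spec
  have hw : fW ≫ πU = πX ≫ gA := by
    simp only [fW, πU, πX, gA, ← Spec.map_comp]
    refine congrArg Spec.map (CommRingCat.hom_ext (RingHom.ext fun r => ?_))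
    exact (ψ.commutes r).trans (IsScalarTower.algebraMap_apply R₀ A C r)
  let γ : Spec (CommRingCat.of C) ⟶ pullback (πX ≫ gA) πU :=
    pullback.lift (𝟙 _) fW ((Category.id_comp _).trans hw.symm)
  have : Etale γ := MorphismProperty.of_postcomp (W := @Etale) (W' := @Etale) γ
    (pullback.fst (πX ≫ gA) πU) inferInstance (by rw [pullback.lift_fst]; infer_instance)
  have hγ : fW = γ ≫ pullback.snd _ _ := (pullback.lift_snd _ _ _).symm
  change GeomRedFibres fW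
  rw [hγ]
  exact ((hred.comp_etale πX).isPullback (IsPullback.of_hasPullback (πX ≫ gA) πU)).comp_etale γ

/-- Geometrically reduced fibres in terms of tensor products. -/
theorem isReduced_tensor {B C : Type u} [CommRing B] [CommRing C] [Algebra B C]
    (h : GeomRedFibres (Spec.map (CommRingCat.ofHom (algebraMap B C)))) (L : Type u) [Field L] [Algebra B L] :
    _root_.IsReduced (C ⊗[B] L) := by
  have := h L (Spec.map (CommRingCat.ofHom (algebraMap B L)))
  have : AlgebraicGeometry.IsReduced (Spec (CommRingCat.of (C ⊗[B] L))) :=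
    isReduced_of_isOpenImmersion (pullbackSpecIso B C L).inv
  exact (affine_isReduced_iff _).mp this

/-- The comparison maps of a stage with a fibre. -/
theorem exists_stage_maps {R₀ B C RY RX Ω : Type u} [CommRing R₀] [CommRing B] [CommRing C]
    [CommRing RY] [CommRing RX] [CommRing Ω] [Algebra R₀ B] [Algebra R₀ C] [Algebra B C]
    [IsScalarTower R₀ B C] [Algebra R₀ Ω] [Algebra B Ω] [IsScalarTower R₀ B Ω] [Algebra RY RX]
    [Algebra RY Ω] (cX : C →+* RX) (cY : B →+* RY) (hX : ∀ b, cX (algebraMap B C b) = algebraMap RY RX (cY b))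
    (hY : ∀ b, algebraMap B Ω b = algebraMap RY Ω (cY b))
    (θ : C ⊗[R₀] Ω →+* RX ⊗[RY] Ω) (hθ : ∀ c ω, θ (c ⊗ₜ[R₀] ω) = cX c ⊗ₜ[RY] ω) :
    ∃ (Φ : C ⊗[B] Ω →+* RX ⊗[RY] Ω) (π : C ⊗[R₀] Ω →+* C ⊗[B] Ω),
      (∀ b, π (algebraMap B C b ⊗ₜ[R₀] (1 : Ω) - 1 ⊗ₜ[R₀] algebraMap B Ω b) = 0) ∧ ∀ z, Φ (π z) = θ z := by
  obtain ⟨π, hπ⟩ := StageTensor.exists_lift_ringHom (B := R₀) (C := C) (D := Ω)
    (Algebra.TensorProduct.includeLeftRingHom : C →+* C ⊗[B] Ω)
    (Algebra.TensorProduct.includeRight.toRingHom : Ω →+* C ⊗[B] Ω)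
    (fun r => by
      show algebraMap R₀ C r ⊗ₜ[B] (1 : Ω) = (1 : C) ⊗ₜ[B] algebraMap R₀ Ω r
      rw [IsScalarTower.algebraMap_apply R₀ B C, IsScalarTower.algebraMap_apply R₀ B Ω,
        Algebra.algebraMap_eq_smul_one (A := C), TensorProduct.smul_tmul, ← Algebra.algebraMap_eq_smul_one])
  obtain ⟨Φ, hΦ⟩ := StageTensor.exists_lift_ringHom (B := B) (C := C) (D := Ω)
    ((Algebra.TensorProduct.includeLeftRingHom : RX →+* RX ⊗[RY] Ω).comp cX)
    (Algebra.TensorProduct.includeRight.toRingHom : Ω →+* RX ⊗[RY] Ω)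
    (fun x => by
      show cX (algebraMap B C x) ⊗ₜ[RY] (1 : Ω) = (1 : RX) ⊗ₜ[RY] algebraMap B Ω x
      rw [hX, hY, Algebra.algebraMap_eq_smul_one (A := RX), TensorProduct.smul_tmul,
        ← Algebra.algebraMap_eq_smul_one])
  refine ⟨Φ, π, fun x => ?_, fun z => ?_⟩
  · rw [map_sub, hπ, hπ, map_one, map_one, mul_one, one_mul, sub_eq_zero]
    show algebraMap B C x ⊗ₜ[B] (1 : Ω) = (1 : C) ⊗ₜ[B] algebraMap B Ω x
    rw [Algebra.algebraMap_eq_smul_one (A := C), TensorProduct.smul_tmul, ← Algebra.algebraMap_eq_smul_one]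
  · induction z using TensorProduct.induction_on with
    | zero => simp
    | tmul p ω =>
        rw [hπ, map_mul, hθ]
        show Φ (p ⊗ₜ[B] 1) * Φ (1 ⊗ₜ[B] ω) = _
        rw [hΦ, hΦ, map_one, map_one, mul_one, one_mul]
        show (cX p ⊗ₜ[RY] (1 : Ω)) * ((1 : RX) ⊗ₜ[RY] ω) = _
        rw [Algebra.TensorProduct.tmul_mul_tmul, mul_one, one_mul]
    | add a b ha hb => rw [map_add, map_add, map_add, ha, hb]

/-- Square-zero elements at a stage. -/
theorem eq_zero_of_stage_map {R₀ B C RY RX : Type u} [CommRing R₀] [CommRing B] [CommRing C] [CommRing RY]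
    [CommRing RX] [Algebra RY RX] [Algebra R₀ B] [Algebra R₀ C] [Algebra R₀ RY] {L : Type u} [Field L]
    [Algebra R₀ L] [Algebra RY L] [IsScalarTower R₀ RY L] (ψ : B →ₐ[R₀] C)
    (h : GeomRedFibres (Spec.map (CommRingCat.ofHom ψ.toRingHom)))
    (cY : B →ₐ[R₀] RY) (cX : C →+* RX) (hX : ∀ b, cX (ψ b) = algebraMap RY RX (cY b))
    (θ : C ⊗[R₀] L →+* RX ⊗[RY] L) (hθ : ∀ c ω, θ (c ⊗ₜ[R₀] ω) = cX c ⊗ₜ[RY] ω)
    (z : C ⊗[R₀] L) (hz : z * z ∈ Ideal.span (Set.range fun b : B =>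
      ψ b ⊗ₜ[R₀] (1 : L) - 1 ⊗ₜ[R₀] algebraMap RY L (cY b))) :
    θ z = 0 := by
  algebraize [ψ.toRingHom]
  let : Algebra B L := ((algebraMap RY L).comp cY.toRingHom).toAlgebra
  have : IsScalarTower R₀ B C := IsScalarTower.of_algebraMap_eq fun r => (ψ.commutes r).symm
  have : IsScalarTower R₀ B L := IsScalarTower.of_algebraMap_eq fun r =>
    ((IsScalarTower.algebraMap_apply R₀ RY L r).trans
      (congrArg (algebraMap RY L) (cY.commutes r).symm))
  obtain ⟨Φ, π, hπ, hΦ⟩ := exists_stage_maps (B := B) (C := C) cX cY.toRingHom hX (fun _ => rfl) θ hθ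
  have := isReduced_tensor (B := B) (C := C) h L
  have h0 : π z = 0 := IsNilpotent.eq_zero ⟨2, by
    rw [pow_two, ← map_mul]
    exact RingHom.mem_ker.1 ((Ideal.span_le (I := RingHom.ker π)).2 (by rintro _ ⟨b, rfl⟩; exact hπ b) hz)⟩
  rw [← hΦ, h0, map_zero]

/-- Fibres of maps of hulls over maps with geometrically reduced fibres are reduced. -/
theorem isReduced_fibre_hull {R₀ A RY RX : Type u} [CommRing R₀] [CommRing A] [Algebra R₀ A] [CommRing RY]
    [CommRing RX] [HenselianLocalRing RX] [Algebra R₀ RY] [Algebra A RX] [Algebra R₀ RX]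
    [IsScalarTower R₀ A RX] [Algebra RY RX] [IsScalarTower R₀ RY RX] {KY : Type u} [CommRing KY] [Algebra R₀ KY]
    (eY : Hull R₀ KY ≃ₐ[R₀] RY) (eX : Hull A (ResidueField RX) ≃ₐ[A] RX)
    (heX : ∀ h, residue RX (eX h) = hullPt A (ResidueField RX) h)
    (hred : GeomRedFibres (Spec.map (CommRingCat.ofHom (algebraMap R₀ A))))
    (L : Type u) [Field L] [Algebra RY L] : _root_.IsReduced (RX ⊗[RY] L) := by
  let : Algebra R₀ L := ((algebraMap RY L).comp (algebraMap R₀ RY)).toAlgebra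
  have : IsScalarTower R₀ RY L := IsScalarTower.of_algebraMap_eq' rfl
  refine (isReduced_iff_pow_one_lt 2 one_lt_two).2 fun ε hε => ?_
  obtain ⟨Q, P, ψ, z, hψ, hzε, hz⟩ := StageTensor.exists_stage_rel L eY eX heX 0 ε
    (by rw [Nat.cast_zero, zero_mul, ← pow_two, hε])
  rw [← hzε]
  exact eq_zero_of_stage_map ψ (geomRed_stage (A := A) ψ hred) (eY.toAlgHom.comp (ι Q))
    (eX.toAlgHom.comp (ι P)).toRingHom hψ (StageTensor.toFibre L eX P).toRingHom
    (fun c ω => StageTensor.toFibre_tmul L eX P c ω) z (by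
      have e : z * z - ((0 : ℕ) : P.Ring ⊗[R₀] L) * z = z * z :=
        sub_eq_self.mpr ((congrArg (· * z) Nat.cast_zero).trans (zero_mul z))
      exact e ▸ hz)

/-- Every element of a base change is defined over a finitely generated subalgebra. -/
theorem exists_finset_base {R₀ R₁ A : Type u} [CommRing R₀] [CommRing R₁] [CommRing A] [Algebra R₀ R₁]
    [Algebra R₀ A] (x : R₁ ⊗[R₀] A) : ∃ s : Finset R₁, ∀ R' : Subalgebra R₀ R₁, (↑s : Set R₁) ⊆ R' →
      x ∈ (Algebra.TensorProduct.map R'.val (AlgHom.id R₀ A)).range := by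
  classical
  induction x using TensorProduct.induction_on with
  | zero => exact ⟨∅, fun _ _ => zero_mem _⟩
  | tmul r a => exact ⟨{r}, fun R' h => ⟨(⟨r, h (by simp)⟩ : R') ⊗ₜ[R₀] a, rfl⟩⟩
  | add a b ha hb =>
      obtain ⟨s, hs⟩ := ha
      obtain ⟨t, ht⟩ := hb
      refine ⟨s ∪ t, fun R' h => add_mem (hs R' (fun y hy => h ?_)) (ht R' (fun y hy => h ?_))⟩
      · exact Finset.mem_coe.2 (Finset.mem_union_left _ hy)
      · exact Finset.mem_coe.2 (Finset.mem_union_right _ hy)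

/-- Every element of a base change is defined over a finitely generated subalgebra (second tensor factor). -/
theorem exists_finset_stage {R₀ R₁ A : Type u} [CommRing R₀] [CommRing R₁] [CommRing A] [Algebra R₀ R₁]
    [Algebra R₀ A] {A₀ : Type u} [CommRing A₀] [Algebra A₀ (R₁ ⊗[R₀] A)] {P₀ : Type u} [CommRing P₀]
    [Algebra A₀ P₀] (y : (R₁ ⊗[R₀] A) ⊗[A₀] P₀) : ∃ s : Finset R₁, ∀ R' : Subalgebra R₀ R₁, (↑s : Set R₁) ⊆ R' →
      y ∈ AddSubmonoid.closure {w | ∃ a ∈ (Algebra.TensorProduct.map R'.val (AlgHom.id R₀ A)).range,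
        ∃ p : P₀, a ⊗ₜ[A₀] p = w} := by
  classical
  induction y using TensorProduct.induction_on with
  | zero => exact ⟨∅, fun _ _ => zero_mem _⟩
  | tmul x p =>
      obtain ⟨s, hs⟩ := exists_finset_base x
      exact ⟨s, fun R' h => AddSubmonoid.subset_closure ⟨x, hs R' h, p, rfl⟩⟩
  | add a b ha hb =>
      obtain ⟨s, hs⟩ := ha
      obtain ⟨t, ht⟩ := hb
      refine ⟨s ∪ t, fun R' h => add_mem (hs R' (fun y hy => h ?_)) (ht R' (fun y hy => h ?_))⟩
      · exact Finset.mem_coe.2 (Finset.mem_union_left _ hy)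
      · exact Finset.mem_coe.2 (Finset.mem_union_right _ hy)

theorem tmul_one_eq {B C D : Type u} [CommRing B] [CommRing C] [CommRing D] [Algebra B C] [Algebra B D] (b : B) :
    algebraMap B C b ⊗ₜ[B] (1 : D) = (1 : C) ⊗ₜ[B] algebraMap B D b := by
  rw [Algebra.algebraMap_eq_smul_one (A := C), TensorProduct.smul_tmul, ← Algebra.algebraMap_eq_smul_one]

set_option maxHeartbeats 1000000 in
/-- Idempotents coming from stages over base changes of a map of Noetherian rings are trivial. -/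
theorem idempotent_of_stage_data {R₀ A R₁ RY RX Q P : Type u} [CommRing R₀] [IsNoetherianRing R₀]
    [CommRing A] [IsNoetherianRing A] [Algebra R₀ A] [Module.Flat R₀ A] [CommRing R₁] [Algebra R₀ R₁]
    [CommRing RY] [HenselianLocalRing RY] [IsSepClosed (ResidueField RY)]
    [CommRing RX] [HenselianLocalRing RX] [IsSepClosed (ResidueField RX)]
    [Algebra R₁ RY] [Algebra (R₁ ⊗[R₀] A) RX] [Algebra R₁ RX] [IsScalarTower R₁ (R₁ ⊗[R₀] A) RX]
    [Algebra RY RX] [IsScalarTower R₁ RY RX] [IsLocalHom (algebraMap RY RX)]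
    [CommRing Q] [Algebra R₁ Q] [Algebra.Etale R₁ Q]
    [CommRing P] [Algebra (R₁ ⊗[R₀] A) P] [Algebra.Etale (R₁ ⊗[R₀] A) P] [Algebra R₁ P]
    [IsScalarTower R₁ (R₁ ⊗[R₀] A) P]
    (ψ : Q →ₐ[R₁] P) (jY : Q →ₐ[R₁] RY) (jX : P →ₐ[R₁ ⊗[R₀] A] RX)
    (hψ : ∀ q, jX (ψ q) = algebraMap RY RX (jY q))
    (hred : GeomRedFibres (Spec.map (CommRingCat.ofHom (algebraMap R₀ A))))
    {Ω : Type u} [Field Ω] [IsAlgClosed Ω] [Algebra RY Ω] [Algebra R₁ Ω] [IsScalarTower R₁ RY Ω]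
    (θ : P ⊗[R₁] Ω →+* RX ⊗[RY] Ω) (hθ : ∀ p ω, θ (p ⊗ₜ[R₁] ω) = jX p ⊗ₜ[RY] ω)
    (z : P ⊗[R₁] Ω) (hz : z * z - z ∈ Ideal.span (Set.range fun q : Q =>
      ψ q ⊗ₜ[R₁] (1 : Ω) - 1 ⊗ₜ[R₁] algebraMap RY Ω (jY q))) : θ z = 0 ∨ θ z = 1 := by
  classical
  obtain ⟨A₀, P₀, _, _, ⟨gA, hgA⟩, _, ⟨eP⟩⟩ := Algebra.Etale.exists_subalgebra_fg ℤ (R₁ ⊗[R₀] A) P
  obtain ⟨RQ, Q₀, _, _, ⟨gR, hgR⟩, _, ⟨eQ⟩⟩ := Algebra.Etale.exists_subalgebra_fg ℤ R₁ Q
  obtain ⟨G, hG⟩ := (inferInstance : Algebra.FiniteType RQ Q₀).out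
  let qmap : Q₀ →+* Q := eQ.symm.toRingEquiv.toRingHom.comp Algebra.TensorProduct.includeRight.toRingHom
  have hqmapR : ∀ r : RQ, qmap (algebraMap RQ Q₀ r) = algebraMap R₁ Q (r : R₁) := fun r => by
    show eQ.symm ((1 : R₁) ⊗ₜ[RQ] algebraMap RQ Q₀ r) = _
    rw [← tmul_one_eq]
    exact eQ.symm.commutes (r : R₁)
  choose s₁ hs₁ using fun a : R₁ ⊗[R₀] A => exists_finset_base a
  choose s₂ hs₂ using fun q : Q₀ => exists_finset_stage (A₀ := A₀) (eP (ψ (qmap q)))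
  let S : Finset R₁ := gR ∪ gA.biUnion s₁ ∪ G.biUnion s₂
  let R' : Subalgebra R₀ R₁ := Algebra.adjoin R₀ ↑S
  have hS : ∀ x ∈ S, x ∈ R' := fun x hx => Algebra.subset_adjoin hx
  have : IsNoetherianRing R' := by
    have : Algebra.FiniteType R₀ R' := (Subalgebra.fg_iff_finiteType R').1 (Subalgebra.fg_adjoin_finset S)
    exact Algebra.FiniteType.isNoetherianRing R₀ R'
  have : IsNoetherianRing (R' ⊗[R₀] A) := by
    have : Algebra.FiniteType R₀ R' := (Subalgebra.fg_iff_finiteType R').1 (Subalgebra.fg_adjoin_finset S)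
    have : IsNoetherianRing (A ⊗[R₀] R') := Algebra.FiniteType.isNoetherianRing A (A ⊗[R₀] R')
    exact isNoetherianRing_of_ringEquiv _ (Algebra.TensorProduct.comm R₀ A R').toRingEquiv
  let ιA : R' ⊗[R₀] A →ₐ[R₀] R₁ ⊗[R₀] A := Algebra.TensorProduct.map R'.val (AlgHom.id R₀ A)
  have hιA : Function.Injective ιA :=
    Module.Flat.rTensor_preserves_injective_linearMap (M := A) R'.val.toLinearMap Subtype.val_injective
  have hA0le : ∀ a ∈ A₀, a ∈ ιA.toRingHom.range := by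
    have : A₀ ≤ subalgebraOfSubring ιA.toRingHom.range := by
      rw [← hgA]
      refine Algebra.adjoin_le fun a ha => ?_
      exact hs₁ a R' fun x hx => hS x (Finset.mem_union_left _ (Finset.mem_union_right _
        (Finset.mem_biUnion.2 ⟨a, ha, hx⟩)))
    exact fun a ha => this ha
  have hRQle : ∀ r ∈ RQ, r ∈ R' := by
    have : RQ ≤ R'.restrictScalars ℤ := by
      rw [← hgR]
      exact Algebra.adjoin_le fun a ha => hS a (Finset.mem_union_left _ (Finset.mem_union_left _ ha))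
    exact fun a ha => this ha
  let eι := RingEquiv.ofBijective ιA.toRingHom.rangeRestrict
    ⟨fun a b h => hιA (congrArg Subtype.val h), ιA.toRingHom.rangeRestrict_surjective⟩
  let j : A₀ →+* R' ⊗[R₀] A := eι.symm.toRingHom.comp
    ((A₀.val.toRingHom).codRestrict ιA.toRingHom.range fun a => hA0le a.1 a.2)
  have hj : ∀ a, ιA (j a) = (a : R₁ ⊗[R₀] A) := fun a => congrArg Subtype.val (eι.apply_symm_apply _)
  let : Algebra A₀ (R' ⊗[R₀] A) := j.toAlgebra
  let ι₀ : R' ⊗[R₀] A →ₐ[A₀] R₁ ⊗[R₀] A := { ιA.toRingHom with commutes' := hj }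
  let ι₂ : (R' ⊗[R₀] A) ⊗[A₀] P₀ →ₐ[A₀] (R₁ ⊗[R₀] A) ⊗[A₀] P₀ := Algebra.TensorProduct.map ι₀ (AlgHom.id A₀ P₀)
  have hι₂ : Function.Injective ι₂ :=
    Module.Flat.rTensor_preserves_injective_linearMap (M := P₀) ι₀.toLinearMap hιA
  let ιC : (R' ⊗[R₀] A) ⊗[A₀] P₀ →+* P := eP.symm.toRingEquiv.toRingHom.comp ι₂.toRingHom
  have hιC : Function.Injective ιC := eP.symm.injective.comp hι₂
  let rQ : RQ →+* R' := RQ.val.toRingHom.codRestrict R' fun r => hRQle r.1 r.2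
  have hrange : ∀ q : Q₀, ψ (qmap q) ∈ RingHom.range (R := (R' ⊗[R₀] A) ⊗[A₀] P₀) ιC := by
    intro q
    have hq : q ∈ Algebra.adjoin RQ (G : Set Q₀) := hG.ge Algebra.mem_top
    induction hq using Algebra.adjoin_induction with
    | mem x hx =>
        have hle : AddSubmonoid.closure {w | ∃ a ∈ ιA.range, ∃ p : P₀, a ⊗ₜ[A₀] p = w} ≤
            ι₂.range.toSubmodule.toAddSubmonoid := by
          rw [AddSubmonoid.closure_le]
          rintro _ ⟨_, ⟨a, rfl⟩, p, rfl⟩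
          exact ⟨a ⊗ₜ[A₀] p, rfl⟩
        obtain ⟨c, hc⟩ := hle (hs₂ x R' fun y hy => hS y (Finset.mem_union_right _
          (Finset.mem_biUnion.2 ⟨x, hx, hy⟩)))
        refine ⟨c, ?_⟩
        show eP.symm (ι₂ c) = _
        rw [show ι₂ c = eP (ψ (qmap x)) from hc, eP.symm_apply_apply]
    | algebraMap r =>
        refine ⟨((rQ r) ⊗ₜ[R₀] (1 : A)) ⊗ₜ[A₀] (1 : P₀), ?_⟩
        rw [hqmapR, ψ.commutes]
        show eP.symm (((r : R₁) ⊗ₜ[R₀] (1 : A)) ⊗ₜ[A₀] (1 : P₀)) = _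
        exact (eP.symm.commutes ((r : R₁) ⊗ₜ[R₀] (1 : A))).trans
          (IsScalarTower.algebraMap_apply R₁ (R₁ ⊗[R₀] A) P (r : R₁)).symm
    | add x y _ _ hx hy => rw [map_add, map_add]; exact add_mem hx hy
    | mul x y _ _ hx hy => rw [map_mul, map_mul]; exact mul_mem hx hy
  let eC := RingEquiv.ofBijective (RingHom.rangeRestrict (R := (R' ⊗[R₀] A) ⊗[A₀] P₀) ιC)
    ⟨fun a b h => hιC (congrArg Subtype.val h), RingHom.rangeRestrict_surjective (R := (R' ⊗[R₀] A) ⊗[A₀] P₀) ιC⟩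
  let cQ : Q₀ →+* (R' ⊗[R₀] A) ⊗[A₀] P₀ := eC.symm.toRingHom.comp ((ψ.toRingHom.comp qmap).codRestrict (RingHom.range (R := (R' ⊗[R₀] A) ⊗[A₀] P₀) ιC) hrange)
  have hcQ : ∀ q, ιC (cQ q) = ψ (qmap q) := fun q => congrArg Subtype.val (eC.apply_symm_apply _)
  -- the models
  let : Algebra R' RY := ((algebraMap R₁ RY).comp R'.val.toRingHom).toAlgebra
  let : Algebra (R' ⊗[R₀] A) RX := ((algebraMap (R₁ ⊗[R₀] A) RX).comp ιA.toRingHom).toAlgebra
  obtain ⟨SY, _, _, _, _, _, eY', hY, -, _⟩ := StrictModel.exists_strict_model (R := R') (T := RY)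
  obtain ⟨SX, _, _, _, _, _, eX', hX, heX', _⟩ := StrictModel.exists_strict_model (R := R' ⊗[R₀] A) (T := RX)
  let : Algebra R' SX := ((algebraMap (R' ⊗[R₀] A) SX).comp (algebraMap R' (R' ⊗[R₀] A))).toAlgebra
  have : IsScalarTower R' (R' ⊗[R₀] A) SX :=
    IsScalarTower.of_algebraMap_eq (R := R') (S := R' ⊗[R₀] A) (A := SX) fun _ => rfl
  let : Algebra R' RX := ((algebraMap R₁ RX).comp R'.val.toRingHom).toAlgebra
  have hR1X : ∀ r : R₁, algebraMap (R₁ ⊗[R₀] A) RX (r ⊗ₜ[R₀] (1 : A)) = algebraMap R₁ RX r := fun r =>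
    (IsScalarTower.algebraMap_apply R₁ (R₁ ⊗[R₀] A) RX r).symm
  have hR1Y : ∀ r : R₁, algebraMap RY RX (algebraMap R₁ RY r) = algebraMap R₁ RX r := fun r =>
    (IsScalarTower.algebraMap_apply R₁ RY RX r).symm
  let hX' : SX →ₐ[R'] RX :=
    { hX.toRingHom with commutes' := fun r => (hX.commutes (r ⊗ₜ[R₀] (1 : A))).trans (hR1X r) }
  have : IsLocalHom hX'.toRingHom := ‹IsLocalHom hX.toRingHom›
  let φ : SY →ₐ[R'] RX :=
    { (algebraMap RY RX).comp hY.toRingHom with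
      commutes' := fun r => (congrArg (algebraMap RY RX) (hY.commutes r)).trans (hR1Y r) }
  obtain ⟨g, hg⟩ := StrictModel.exists_hom_lift eY' hX' φ
  have hg' : ∀ y, hX (g y) = algebraMap RY RX (hY y) := fun y => DFunLike.congr_fun hg y
  let : Algebra SY SX := g.toRingHom.toAlgebra
  have : IsScalarTower R' SY SX := IsScalarTower.of_algebraMap_eq fun r => (g.commutes r).symm
  have : IsLocalHom (algebraMap SY SX) := ⟨fun y hy => by
    have h1 : IsUnit (algebraMap RY RX (hY y)) := by rw [← hg']; exact hy.map hX.toRingHom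
    exact IsUnit.of_map hY.toRingHom y (IsUnit.of_map (algebraMap RY RX) _ h1)⟩
  have : Module.Flat SY SX := flat_strict_map (R₀ := R') (A := R' ⊗[R₀] A) eY' eX'
  have hred' : GeomRedFibres (Spec.map (CommRingCat.ofHom (algebraMap R' (R' ⊗[R₀] A)))) :=
    hred.isPullback (isPullback_SpecMap_of_isPushout _ _ _ _ (CommRingCat.isPushout_tensorProduct R₀ R' A)).flip
  have hredS : ∀ (L : Type u) [Field L] [Algebra SY L], _root_.IsReduced (SX ⊗[SY] L) := fun L _ _ =>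
    isReduced_fibre_hull (R₀ := R') (A := R' ⊗[R₀] A) eY' eX' heX' hred' L
  -- lifts of the stages
  let : Algebra RQ SY := ((algebraMap R' SY).comp rQ).toAlgebra
  let : Algebra RQ SX := ((algebraMap R' SX).comp rQ).toAlgebra
  let : Algebra RQ RY := ((algebraMap R' RY).comp rQ).toAlgebra
  let : Algebra RQ RX := ((algebraMap R' RX).comp rQ).toAlgebra
  let hYQ : SY →ₐ[RQ] RY := { hY.toRingHom with commutes' := fun r => hY.commutes (rQ r) }
  have : IsLocalHom hYQ.toRingHom := ‹IsLocalHom hY.toRingHom›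
  let hXQ : SX →ₐ[RQ] RX := { hX.toRingHom with commutes' := fun r => hX'.commutes (rQ r) }
  have : IsLocalHom hXQ.toRingHom := ‹IsLocalHom hX.toRingHom›
  let φQ : Q₀ →ₐ[RQ] RY :=
    { jY.toRingHom.comp qmap with
      commutes' := fun r => (congrArg jY (hqmapR r)).trans
        (jY.commutes (r : R₁)) }
  obtain ⟨α, hα, -⟩ := StrictModel.existsUnique_lift_etale hYQ φQ
  let : Algebra A₀ SX := ((algebraMap (R' ⊗[R₀] A) SX).comp j).toAlgebra
  let : Algebra A₀ RX := ((algebraMap (R₁ ⊗[R₀] A) RX).comp A₀.val.toRingHom).toAlgebra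
  let hXA : SX →ₐ[A₀] RX :=
    { hX.toRingHom with
      commutes' := fun a => (hX.commutes (j a)).trans (congrArg (algebraMap (R₁ ⊗[R₀] A) RX) (hj a)) }
  have : IsLocalHom hXA.toRingHom := ‹IsLocalHom hX.toRingHom›
  let φP : P₀ →ₐ[A₀] RX :=
    { jX.toRingHom.comp
        (eP.symm.toRingEquiv.toRingHom.comp Algebra.TensorProduct.includeRight.toRingHom) with
      commutes' := fun a => by
        show jX (eP.symm ((1 : R₁ ⊗[R₀] A) ⊗ₜ[A₀] algebraMap A₀ P₀ a)) = _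
        rw [← tmul_one_eq]
        exact (congrArg jX (eP.symm.commutes (a : R₁ ⊗[R₀] A))).trans
          (jX.commutes (a : R₁ ⊗[R₀] A)) }
  obtain ⟨β, hβ, -⟩ := StrictModel.existsUnique_lift_etale hXA φP
  obtain ⟨βC, hβC⟩ := StageTensor.exists_lift_ringHom (B := A₀) (C := R' ⊗[R₀] A) (D := P₀)
    (algebraMap (R' ⊗[R₀] A) SX) β.toRingHom (fun a => (β.commutes a).symm)
  have hXC : ∀ c, hX (βC c) = jX (ιC c) := fun c => by
    induction c using TensorProduct.induction_on with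
    | zero => simp
    | tmul a p =>
        rw [hβC, map_mul, hX.commutes]
        have e1 : hX (β p) = jX (eP.symm ((1 : R₁ ⊗[R₀] A) ⊗ₜ[A₀] p)) := DFunLike.congr_fun hβ p
        have e2 : jX (eP.symm ((ιA a) ⊗ₜ[A₀] (1 : P₀))) = algebraMap (R₁ ⊗[R₀] A) RX (ιA a) :=
          (congrArg jX (eP.symm.commutes (ιA a))).trans
            (jX.commutes (ιA a))
        show algebraMap (R₁ ⊗[R₀] A) RX (ιA a) * hX (β p) = jX (eP.symm (ιA a ⊗ₜ[A₀] p))
        rw [e1, ← e2, ← map_mul, ← map_mul, Algebra.TensorProduct.tmul_mul_tmul, mul_one, one_mul]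
    | add a b ha hb => simp only [map_add, ha, hb]
  let bQ : Q₀ →ₐ[RQ] SX :=
    { βC.comp cQ with
      commutes' := fun r => by
        have hc : cQ (algebraMap RQ Q₀ r) = ((rQ r) ⊗ₜ[R₀] (1 : A)) ⊗ₜ[A₀] (1 : P₀) := hιC (by
          rw [hcQ, hqmapR, ψ.commutes]
          show _ = eP.symm (((r : R₁) ⊗ₜ[R₀] (1 : A)) ⊗ₜ[A₀] (1 : P₀))
          exact (IsScalarTower.algebraMap_apply R₁ (R₁ ⊗[R₀] A) P (r : R₁)).trans
            (eP.symm.commutes ((r : R₁) ⊗ₜ[R₀] (1 : A))).symm)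
        show βC (cQ (algebraMap RQ Q₀ r)) = _
        rw [hc, hβC, map_one, mul_one]
        rfl }
  let gQ : Q₀ →ₐ[RQ] SX :=
    { g.toRingHom.comp α.toRingHom with
      commutes' := fun r => (congrArg g (α.commutes r)).trans (g.commutes (rQ r)) }
  have hbg : bQ = gQ := (StrictModel.existsUnique_lift_etale hXQ (hXQ.comp gQ)).unique (AlgHom.ext fun q => by
    show hX (βC (cQ q)) = hX (g (α q))
    rw [hXC, hcQ, hψ, hg', show hY (α q) = jY (qmap q) from DFunLike.congr_fun hα q]) rfl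
  let : Algebra SY Ω := ((algebraMap RY Ω).comp hY.toRingHom).toAlgebra
  -- the comparison
  obtain ⟨FA, hFA⟩ := StageTensor.exists_lift_ringHom (B := R₀) (C := R₁) (D := A)
    ((Algebra.TensorProduct.includeRight.toRingHom : Ω →+* SX ⊗[SY] Ω).comp (algebraMap R₁ Ω))
    ((Algebra.TensorProduct.includeLeftRingHom : SX →+* SX ⊗[SY] Ω).comp
      ((algebraMap (R' ⊗[R₀] A) SX).comp Algebra.TensorProduct.includeRight.toRingHom))
    (fun r => by
      show (1 : SX) ⊗ₜ[SY] algebraMap R₁ Ω (algebraMap R₀ R₁ r) =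
        algebraMap (R' ⊗[R₀] A) SX ((1 : R') ⊗ₜ[R₀] algebraMap R₀ A r) ⊗ₜ[SY] (1 : Ω)
      rw [IsScalarTower.algebraMap_apply R₁ RY Ω, ← tmul_one_eq (B := R₀) (C := R') (D := A),
        show algebraMap (R' ⊗[R₀] A) SX (algebraMap R₀ R' r ⊗ₜ[R₀] (1 : A)) =
          algebraMap SY SX (algebraMap R' SY (algebraMap R₀ R' r)) from
            (g.commutes (algebraMap R₀ R' r)).symm, tmul_one_eq (B := SY)]
      refine congrArg ((1 : SX) ⊗ₜ[SY] ·) ?_
      show _ = algebraMap RY Ω (hY (algebraMap R' SY (algebraMap R₀ R' r)))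
      rw [hY.commutes]
      rfl)
  have hFAι : ∀ a, FA (ιA a) = algebraMap (R' ⊗[R₀] A) SX a ⊗ₜ[SY] (1 : Ω) := fun a => by
    induction a using TensorProduct.induction_on with
    | zero => simp
    | tmul r a =>
        show FA ((r : R₁) ⊗ₜ[R₀] a) = _
        rw [hFA]
        show ((1 : SX) ⊗ₜ[SY] algebraMap R₁ Ω (r : R₁)) *
          (algebraMap (R' ⊗[R₀] A) SX ((1 : R') ⊗ₜ[R₀] a) ⊗ₜ[SY] (1 : Ω)) = _
        rw [IsScalarTower.algebraMap_apply R₁ RY Ω]
        show ((1 : SX) ⊗ₜ[SY] algebraMap RY Ω (algebraMap R' RY r)) *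
          (algebraMap (R' ⊗[R₀] A) SX ((1 : R') ⊗ₜ[R₀] a) ⊗ₜ[SY] (1 : Ω)) = _
        rw [← hY.commutes r, show algebraMap RY Ω (hY (algebraMap R' SY r)) =
            algebraMap SY Ω (algebraMap R' SY r) from rfl, ← tmul_one_eq (B := SY),
          Algebra.TensorProduct.tmul_mul_tmul, mul_one, show algebraMap SY SX (algebraMap R' SY r) =
            algebraMap (R' ⊗[R₀] A) SX (r ⊗ₜ[R₀] (1 : A)) from g.commutes r, ← map_mul,
          Algebra.TensorProduct.tmul_mul_tmul, mul_one, one_mul]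
    | add a b ha hb => rw [map_add, map_add, map_add, ha, hb, TensorProduct.add_tmul]
  obtain ⟨FW, hFW⟩ := StageTensor.exists_lift_ringHom (B := A₀) (C := R₁ ⊗[R₀] A) (D := P₀) FA
    ((Algebra.TensorProduct.includeLeftRingHom : SX →+* SX ⊗[SY] Ω).comp β.toRingHom)
    (fun a => by
      show FA (a : R₁ ⊗[R₀] A) = β (algebraMap A₀ P₀ a) ⊗ₜ[SY] (1 : Ω)
      rw [← hj, hFAι, β.commutes]
      rfl)
  let FP : P →+* SX ⊗[SY] Ω := FW.comp eP.toRingEquiv.toRingHom
  have hFPC : ∀ c, FP (ιC c) = βC c ⊗ₜ[SY] (1 : Ω) := fun c => by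
    show FW (eP (eP.symm (ι₂ c))) = _
    rw [eP.apply_symm_apply]
    induction c using TensorProduct.induction_on with
    | zero => simp
    | tmul a p =>
        show FW (ιA a ⊗ₜ[A₀] p) = _
        rw [hFW, hFAι, hβC]
        show (_ ⊗ₜ[SY] (1 : Ω)) * (β p ⊗ₜ[SY] (1 : Ω)) = _
        rw [Algebra.TensorProduct.tmul_mul_tmul, mul_one]
        rfl
    | add a b ha hb => rw [map_add, map_add, map_add, ha, hb, TensorProduct.add_tmul]
  have hFPr : ∀ r : R₁, FP (algebraMap R₁ P r) = (1 : SX) ⊗ₜ[SY] algebraMap R₁ Ω r := fun r => by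
    show FW (eP (algebraMap R₁ P r)) = _
    rw [IsScalarTower.algebraMap_apply R₁ (R₁ ⊗[R₀] A) P, eP.commutes]
    show FW (algebraMap R₁ (R₁ ⊗[R₀] A) r ⊗ₜ[A₀] (1 : P₀)) = _
    rw [hFW, map_one, mul_one]
    show FA (r ⊗ₜ[R₀] (1 : A)) = _
    rw [hFA, map_one, mul_one]
    rfl
  obtain ⟨G₀, hG₀⟩ := StageTensor.exists_lift_ringHom (B := R₁) (C := P) (D := Ω) FP
    (Algebra.TensorProduct.includeRight.toRingHom : Ω →+* SX ⊗[SY] Ω) hFPr
  have hkill : ∀ q : Q, G₀ (ψ q ⊗ₜ[R₁] (1 : Ω) - 1 ⊗ₜ[R₁] algebraMap RY Ω (jY q)) = 0 := by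
    intro q
    rw [map_sub, hG₀, hG₀, map_one, map_one, mul_one, one_mul, sub_eq_zero]
    show FP (ψ q) = (1 : SX) ⊗ₜ[SY] algebraMap RY Ω (jY q)
    obtain ⟨w, rfl⟩ := eQ.symm.surjective q
    induction w using TensorProduct.induction_on with
    | zero => simp
    | tmul r q₀ =>
        have hw : eQ.symm (r ⊗ₜ[RQ] q₀) = algebraMap R₁ Q r * qmap q₀ := by
          rw [show r ⊗ₜ[RQ] q₀ = algebraMap R₁ (R₁ ⊗[RQ] Q₀) r * ((1 : R₁) ⊗ₜ[RQ] q₀) by simp,
            map_mul, eQ.symm.commutes]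
          rfl
        rw [hw, map_mul, map_mul, ψ.commutes, hFPr, ← hcQ, hFPC,
          show βC (cQ q₀) = algebraMap SY SX (α q₀) from DFunLike.congr_fun hbg q₀, tmul_one_eq (B := SY),
          Algebra.TensorProduct.tmul_mul_tmul, one_mul]
        refine congrArg ((1 : SX) ⊗ₜ[SY] ·) ?_
        show algebraMap R₁ Ω r * algebraMap RY Ω (hY (α q₀)) = _
        rw [show hY (α q₀) = jY (qmap q₀) from DFunLike.congr_fun hα q₀, map_mul, map_mul,
          jY.commutes, IsScalarTower.algebraMap_apply R₁ RY Ω]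
    | add a b ha hb => simp only [map_add, ha, hb, TensorProduct.tmul_add]
  have hz' : IsIdempotentElem (G₀ z) := by
    refine sub_eq_zero.1 ?_
    rw [← map_mul, ← map_sub]
    refine RingHom.mem_ker.1 ((Ideal.span_le (I := RingHom.ker G₀)).2 ?_ hz)
    rintro _ ⟨q, rfl⟩
    exact hkill q
  obtain ⟨Φ, hΦ⟩ := StageTensor.exists_lift_ringHom (B := SY) (C := SX) (D := Ω)
    ((Algebra.TensorProduct.includeLeftRingHom : RX →+* RX ⊗[RY] Ω).comp hX.toRingHom)
    (Algebra.TensorProduct.includeRight.toRingHom : Ω →+* RX ⊗[RY] Ω)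
    (fun y => by
      show hX (g y) ⊗ₜ[RY] (1 : Ω) = (1 : RX) ⊗ₜ[RY] algebraMap RY Ω (hY y)
      rw [hg']
      exact tmul_one_eq (hY y))
  have hΦX : ∀ x : SX, Φ (x ⊗ₜ[SY] (1 : Ω)) = hX x ⊗ₜ[RY] (1 : Ω) := fun x => by
    rw [hΦ, map_one, mul_one]; rfl
  have hΦΩ : ∀ ω : Ω, Φ ((1 : SX) ⊗ₜ[SY] ω) = (1 : RX) ⊗ₜ[RY] ω := fun ω => by
    rw [hΦ, map_one, one_mul]; rfl
  have hΦA : ∀ x, Φ (FA x) = algebraMap (R₁ ⊗[R₀] A) RX x ⊗ₜ[RY] (1 : Ω) := fun x => by
    induction x using TensorProduct.induction_on with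
    | zero => simp
    | tmul r a =>
        rw [hFA, map_mul]
        show Φ ((1 : SX) ⊗ₜ[SY] algebraMap R₁ Ω r) *
          Φ (algebraMap (R' ⊗[R₀] A) SX ((1 : R') ⊗ₜ[R₀] a) ⊗ₜ[SY] (1 : Ω)) = _
        rw [hΦΩ, hΦX, hX.commutes, IsScalarTower.algebraMap_apply R₁ RY Ω r,
          ← tmul_one_eq (B := RY), hR1Y, ← hR1X, Algebra.TensorProduct.tmul_mul_tmul, mul_one]
        show (algebraMap (R₁ ⊗[R₀] A) RX (r ⊗ₜ[R₀] (1 : A)) *
          algebraMap (R₁ ⊗[R₀] A) RX (((1 : R') : R₁) ⊗ₜ[R₀] a)) ⊗ₜ[RY] (1 : Ω) = _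
        rw [← map_mul, Algebra.TensorProduct.tmul_mul_tmul, one_mul, OneMemClass.coe_one, mul_one]
    | add a b ha hb => rw [map_add, map_add, map_add, ha, hb, TensorProduct.add_tmul]
  have hΦP : ∀ p, Φ (FP p) = jX p ⊗ₜ[RY] (1 : Ω) := fun p => by
    obtain ⟨w, rfl⟩ := eP.symm.surjective p
    show Φ (FW (eP (eP.symm w))) = _
    rw [eP.apply_symm_apply]
    induction w using TensorProduct.induction_on with
    | zero => simp
    | tmul x p₀ =>
        rw [hFW, map_mul, hΦA]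
        show _ * Φ (β p₀ ⊗ₜ[SY] (1 : Ω)) = _
        rw [hΦX, Algebra.TensorProduct.tmul_mul_tmul, mul_one]
        refine congrArg (· ⊗ₜ[RY] (1 : Ω)) ?_
        rw [show hX (β p₀) = jX (eP.symm ((1 : R₁ ⊗[R₀] A) ⊗ₜ[A₀] p₀)) from DFunLike.congr_fun hβ p₀,
          show x ⊗ₜ[A₀] p₀ = algebraMap _ _ x * ((1 : R₁ ⊗[R₀] A) ⊗ₜ[A₀] p₀) by simp, map_mul, map_mul,
          eP.symm.commutes, jX.commutes]
    | add a b ha hb => simp only [map_add, ha, hb, TensorProduct.add_tmul]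
  have hΦG : ∀ w, Φ (G₀ w) = θ w := fun w => by
    induction w using TensorProduct.induction_on with
    | zero => simp
    | tmul p ω =>
        rw [hG₀, map_mul, hΦP, hθ]
        show _ * Φ ((1 : SX) ⊗ₜ[SY] ω) = _
        rw [hΦΩ, Algebra.TensorProduct.tmul_mul_tmul, mul_one, one_mul]
    | add a b ha hb => rw [map_add, map_add, map_add, ha, hb]
  rw [← hΦG]
  rcases idempotent_fibre_noetherian (B := SY) (C := SX) hredS (G₀ z) hz' with h | h
  · exact Or.inl (by rw [h, map_zero])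
  · exact Or.inr (by rw [h, map_one])

/-- Geometric fibres of maps of strict localizations over base changes of a map of Noetherian rings. -/
theorem idempotent_fibre_of_noetherian {R₀ A R₁ RY RX : Type u} [CommRing R₀] [IsNoetherianRing R₀]
    [CommRing A] [IsNoetherianRing A] [Algebra R₀ A] [Module.Flat R₀ A] [CommRing R₁] [Algebra R₀ R₁]
    [CommRing RY] [HenselianLocalRing RY] [IsSepClosed (ResidueField RY)]
    [CommRing RX] [HenselianLocalRing RX] [IsSepClosed (ResidueField RX)]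
    [Algebra R₁ RY] [Algebra (R₁ ⊗[R₀] A) RX] [Algebra R₁ RX] [IsScalarTower R₁ (R₁ ⊗[R₀] A) RX]
    [Algebra RY RX] [IsScalarTower R₁ RY RX] [IsLocalHom (algebraMap RY RX)]
    (eY : Hull R₁ (ResidueField RY) ≃ₐ[R₁] RY)
    (eX : Hull (R₁ ⊗[R₀] A) (ResidueField RX) ≃ₐ[R₁ ⊗[R₀] A] RX)
    (heX : ∀ h, residue RX (eX h) = hullPt (R₁ ⊗[R₀] A) (ResidueField RX) h)
    (hred : GeomRedFibres (Spec.map (CommRingCat.ofHom (algebraMap R₀ A))))
    {Ω : Type u} [Field Ω] [IsAlgClosed Ω] [Algebra RY Ω]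
    (ε : RX ⊗[RY] Ω) (hε : IsIdempotentElem ε) : ε = 0 ∨ ε = 1 := by
  let : Algebra R₁ Ω := ((algebraMap RY Ω).comp (algebraMap R₁ RY)).toAlgebra
  have : IsScalarTower R₁ RY Ω := IsScalarTower.of_algebraMap_eq' rfl
  obtain ⟨Q, P, ψ, z, hψ, hzε, hz⟩ := StageTensor.exists_stage_idempotent Ω eY eX heX ε hε
  rw [← hzε]
  exact idempotent_of_stage_data ψ (eY.toAlgHom.comp (ι Q)) (eX.toAlgHom.comp (ι P)) hψ hred
    (StageTensor.toFibre Ω eX P).toRingHom (fun c ω => StageTensor.toFibre_tmul Ω eX P c ω) z hz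

end Groth.Agent.Et18.H0Lift
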