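import Groth.Agent.Et18.H0Lift.ConnNoethDescent
import Groth.Prelude.Def_EtAcyc

/-!
# Flat morphisms of locally Noetherian schemes with geometrically reduced fibres are 0-acyclic
-/

set_option autoImplicit false
set_option backward.isDefEq.respectTransparency.types false
set_option backward.isDefEq.respectTransparency false

universe u

open CategoryTheory CategoryTheory.Limits AlgebraicGeometry IsLocalRing
open scoped TensorProduct

namespace Groth.Agent.Et18.H0Lift

open HenselLib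

/-- The ring theoretic form over base changes of Noetherian rings. -/
theorem isZeroAcyclic_strict_noetherian {R₀ A R₁ OY OX RY RX : Type u} [CommRing R₀] [IsNoetherianRing R₀]
    [CommRing A] [IsNoetherianRing A] [Algebra R₀ A] [Module.Flat R₀ A] [CommRing R₁] [Algebra R₀ R₁]
    [CommRing OY] [IsLocalRing OY] [CommRing OX] [IsLocalRing OX] [Algebra R₁ OY] [Algebra (R₁ ⊗[R₀] A) OX]
    (MY : Submonoid R₁) [IsLocalization MY OY] (MX : Submonoid (R₁ ⊗[R₀] A)) [IsLocalization MX OX]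
    [CommRing RY] [IsLocalRing RY] [Algebra OY RY] [IsLocalHom (algebraMap OY RY)]
    [hY : Hensel.IsStrictHenselization OY RY]
    [CommRing RX] [IsLocalRing RX] [Algebra OX RX] [IsLocalHom (algebraMap OX RX)]
    [hX : Hensel.IsStrictHenselization OX RX]
    [Algebra R₁ RY] [IsScalarTower R₁ OY RY] [Algebra (R₁ ⊗[R₀] A) RX] [IsScalarTower (R₁ ⊗[R₀] A) OX RX]
    [Algebra R₁ RX] [IsScalarTower R₁ (R₁ ⊗[R₀] A) RX] [Algebra RY RX] [IsScalarTower R₁ RY RX]
    [IsLocalHom (algebraMap RY RX)]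
    (hred : GeomRedFibres (Spec.map (CommRingCat.ofHom (algebraMap R₀ A)))) :
    EtAcyc.IsZeroAcyclic (Spec.map (CommRingCat.ofHom (algebraMap RY RX))) := by
  have := hY.henselian
  have := hX.henselian
  have := hY.isSepClosure.sep_closed
  have := hX.isSepClosure.sep_closed
  obtain ⟨eY, -⟩ := SHull.exists_equiv (A := R₁) (R := RY) OY MY
  obtain ⟨eX, heX⟩ := SHull.exists_equiv (A := R₁ ⊗[R₀] A) (R := RX) OX MX
  have := flat_strict_map (R₀ := R₁) (A := R₁ ⊗[R₀] A) eY eX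
  let p := Spec.map (CommRingCat.ofHom (algebraMap RY RX))
  have : Flat p := (HasRingHomProperty.Spec_iff (P := @Flat)).mpr (RingHom.flat_algebraMap_iff.mpr this)
  have : Module.FaithfullyFlat RY RX := Module.FaithfullyFlat.of_flat_of_isLocalHom
  have : Surjective p := ⟨PrimeSpectrum.comap_surjective_of_faithfullyFlat⟩
  refine isZeroAcyclic_of_connFibres (p := p) fun Ω₀ _ _ η => ?_
  let Ω := AlgebraicClosure Ω₀
  let j := Spec.map (CommRingCat.ofHom (algebraMap Ω₀ Ω))
  obtain ⟨φ, hφ⟩ := Spec.map_surjective (j ≫ η)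
  let : Algebra RY Ω := φ.hom.toAlgebra
  have hpre : PreconnectedSpace ↥(Spec (CommRingCat.of (RX ⊗[RY] Ω))) :=
    CAlgH3.preconnectedSpace_of_idempotents fun e he =>
      idempotent_fibre_of_noetherian eY eX heX hred e he
  let l : pullback p (j ≫ η) ⟶ pullback p η :=
    pullback.lift (pullback.fst _ _) (pullback.snd _ _ ≫ j) (by rw [Category.assoc, pullback.condition])
  have hl : IsPullback l (pullback.snd p (j ≫ η)) (pullback.snd p η) j := by
    refine IsPullback.of_right ?_ (pullback.lift_snd _ _ _) (IsPullback.of_hasPullback p η)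
    rw [pullback.lift_fst]
    exact IsPullback.of_hasPullback p (j ≫ η)
  have : Surjective j := ⟨fun x => ⟨default, Subsingleton.elim _ _⟩⟩
  have : Surjective l := MorphismProperty.of_isPullback (P := @Surjective) hl.flip inferInstance
  let i : pullback p (j ≫ η) ≅ Spec (CommRingCat.of (RX ⊗[RY] Ω)) :=
    pullback.congrHom rfl hφ.symm ≪≫ pullbackSpecIso RY RX Ω
  have : PreconnectedSpace ↥(pullback p (j ≫ η)) :=
    (Scheme.homeoOfIso i).symm.surjective.denseRange.preconnectedSpace (Scheme.homeoOfIso i).symm.continuous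
  exact l.surjective.denseRange.preconnectedSpace l.continuous

/-- Flat morphisms of locally Noetherian schemes with geometrically reduced fibres. -/
theorem isULocZeroAcyclic_of_noetherian {X Y : Scheme.{u}} (g : X ⟶ Y) [Flat g] [IsLocallyNoetherian X]
    [IsLocallyNoetherian Y] (hred : GeomRedFibres g) : EtAcyc.IsULocZeroAcyclic g := by
  intro X₁ Y₁ g₁ b' b sq x RY RX _ _ _ _ _ _ _ _ _ _ _ _ hcomm
  obtain ⟨V, hV, hxV, -⟩ := exists_isAffineOpen_mem_and_subset (X := Y) (x := g (b' x)) (U := ⊤) trivial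
  obtain ⟨W, hW, hxW, hle⟩ := exists_isAffineOpen_mem_and_subset (X := X) (x := b' x) (U := g ⁻¹ᵁ V) hxV
  have hb : g (b' x) = b (g₁ x) := by rw [← Scheme.Hom.comp_apply, sq.w, Scheme.Hom.comp_apply]
  obtain ⟨V₁, hV₁, hxV₁, hle₁⟩ :=
    exists_isAffineOpen_mem_and_subset (X := Y₁) (x := g₁ x) (U := b ⁻¹ᵁ V) (show b (g₁ x) ∈ V from hb ▸ hxV)
  let φ := g.appLE V W hle
  let φ₁ := b.appLE V V₁ hle₁
  have : IsNoetherianRing Γ(Y, V) := IsLocallyNoetherian.component_noetherian ⟨V, hV⟩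
  have : IsNoetherianRing Γ(X, W) := IsLocallyNoetherian.component_noetherian ⟨W, hW⟩
  let : Algebra Γ(Y, V) Γ(X, W) := φ.hom.toAlgebra
  let : Algebra Γ(Y, V) Γ(Y₁, V₁) := φ₁.hom.toAlgebra
  have sqW : IsPullback (𝟙 _) (Spec.map φ) (hW.fromSpec ≫ g) hV.fromSpec :=
    IsPullback.of_horiz_isIso_mono ⟨by rw [Category.id_comp, IsAffineOpen.SpecMap_appLE_fromSpec]⟩
  have : Module.Flat Γ(Y, V) Γ(X, W) := RingHom.flat_algebraMap_iff.mp
    ((HasRingHomProperty.Spec_iff (P := @Flat)).mp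
      (MorphismProperty.of_isPullback (P := @Flat) sqW inferInstance : Flat (Spec.map φ)))
  have hr : GeomRedFibres (Spec.map φ) := (hred.comp_etale hW.fromSpec).isPullback sqW
  let S₁ := Γ(Y₁, V₁) ⊗[Γ(Y, V)] Γ(X, W)
  let m : pullback (Spec.map φ₁) (Spec.map φ) ⟶ pullback b g :=
    pullback.map _ _ _ _ hV₁.fromSpec hW.fromSpec hV.fromSpec
      (IsAffineOpen.SpecMap_appLE_fromSpec b hV hV₁ hle₁) (IsAffineOpen.SpecMap_appLE_fromSpec g hV hW hle)
  let i₀ : pullback (Spec.map φ₁) (Spec.map φ) ≅ Spec (CommRingCat.of S₁) :=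
    pullbackSpecIso Γ(Y, V) Γ(Y₁, V₁) Γ(X, W)
  let c : Spec (CommRingCat.of S₁) ⟶ X₁ := i₀.inv ≫ m ≫ sq.flip.isoPullback.inv
  have : IsOpenImmersion c := inferInstance
  have hc₁ : c ≫ g₁ = Spec.map (CommRingCat.ofHom
      (Algebra.TensorProduct.includeLeftRingHom : Γ(Y₁, V₁) →+* S₁)) ≫ hV₁.fromSpec := by
    simp only [c, m, Category.assoc, IsPullback.isoPullback_inv_fst, pullback.lift_fst]
    rw [← Category.assoc]
    exact congrArg (· ≫ hV₁.fromSpec) (pullbackSpecIso_inv_fst _ _ _)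
  -- the point lies in the chart
  let k := X₁.fromSpecResidueField x
  have hk : ∀ z, k z = x := fun z => Scheme.fromSpecResidueField_apply x z
  have hk₁ : Set.range (k ≫ g₁) ⊆ Set.range hV₁.fromSpec := by
    rintro _ ⟨z, rfl⟩
    rw [Scheme.Hom.comp_apply, hk, hV₁.range_fromSpec]
    exact hxV₁
  have hk₂ : Set.range (k ≫ b') ⊆ Set.range hW.fromSpec := by
    rintro _ ⟨z, rfl⟩
    rw [Scheme.Hom.comp_apply, hk, hW.range_fromSpec]
    exact hxW
  let l : Spec (X₁.residueField x) ⟶ pullback (Spec.map φ₁) (Spec.map φ) :=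
    pullback.lift (IsOpenImmersion.lift hV₁.fromSpec _ hk₁) (IsOpenImmersion.lift hW.fromSpec _ hk₂) (by
      rw [← cancel_mono hV.fromSpec, Category.assoc, Category.assoc,
        IsAffineOpen.SpecMap_appLE_fromSpec b hV hV₁ hle₁, IsAffineOpen.SpecMap_appLE_fromSpec g hV hW hle,
        IsOpenImmersion.lift_fac_assoc, IsOpenImmersion.lift_fac_assoc, Category.assoc, Category.assoc, sq.w])
  have hlc : (l ≫ i₀.hom) ≫ c = k := by
    rw [← cancel_mono sq.flip.isoPullback.hom]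
    simp only [c, Category.assoc, Iso.hom_inv_id_assoc, Iso.inv_hom_id, Category.comp_id]
    refine pullback.hom_ext ?_ ?_
    · simp only [m, Category.assoc, pullback.lift_fst, IsPullback.isoPullback_hom_fst]
      rw [← Category.assoc, pullback.lift_fst, IsOpenImmersion.lift_fac]
    · simp only [m, Category.assoc, pullback.lift_snd, IsPullback.isoPullback_hom_snd]
      rw [← Category.assoc, pullback.lift_snd, IsOpenImmersion.lift_fac]
  let z₀ : Spec (CommRingCat.of S₁) := (l ≫ i₀.hom) default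
  have hz : c z₀ = x :=
    (Scheme.Hom.comp_apply (l ≫ i₀.hom) c default).symm.trans
      ((congrArg (fun f : Spec (X₁.residueField x) ⟶ X₁ => f default) hlc).trans (hk default))
  clear_value z₀
  subst hz
  -- algebra structures on the local rings
  let σ := c.stalkMap z₀
  let ρ : CommRingCat.of S₁ ⟶ X₁.presheaf.stalk (c z₀) := StructureSheaf.toStalk S₁ z₀ ≫ inv σ
  let : Algebra S₁ (X₁.presheaf.stalk (c z₀)) := ρ.hom.toAlgebra
  have : IsLocalization.AtPrime (X₁.presheaf.stalk (c z₀)) z₀.asIdeal := by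
    let : Algebra S₁ ((Spec (CommRingCat.of S₁)).presheaf.stalk z₀) := (StructureSheaf.toStalk S₁ z₀).hom.toAlgebra
    have : IsLocalization.AtPrime ((Spec (CommRingCat.of S₁)).presheaf.stalk z₀) z₀.asIdeal :=
      StructureSheaf.IsLocalization.to_stalk S₁ z₀
    let e : (Spec (CommRingCat.of S₁)).presheaf.stalk z₀ ≃ₐ[S₁] X₁.presheaf.stalk (c z₀) :=
      { (asIso σ).symm.commRingCatIsoToRingEquiv with commutes' := fun _ => rfl }
    exact IsLocalization.isLocalization_of_algEquiv z₀.asIdeal.primeCompl e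
  let := Y₁.presheaf.algebra_section_stalk ⟨g₁ (c z₀), hxV₁⟩
  have := hV₁.isLocalization_stalk ⟨g₁ (c z₀), hxV₁⟩
  let : Algebra Γ(Y₁, V₁) RY :=
    ((algebraMap (Y₁.presheaf.stalk (g₁ (c z₀))) RY).comp (Y₁.presheaf.germ V₁ _ hxV₁).hom).toAlgebra
  let : Algebra S₁ RX := ((algebraMap (X₁.presheaf.stalk (c z₀)) RX).comp ρ.hom).toAlgebra
  let : Algebra Γ(Y₁, V₁) RX :=
    ((algebraMap S₁ RX).comp Algebra.TensorProduct.includeLeftRingHom).toAlgebra
  have : IsScalarTower Γ(Y₁, V₁) (Y₁.presheaf.stalk (g₁ (c z₀))) RY := IsScalarTower.of_algebraMap_eq' rfl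
  have : IsScalarTower S₁ (X₁.presheaf.stalk (c z₀)) RX := IsScalarTower.of_algebraMap_eq' rfl
  have : IsScalarTower Γ(Y₁, V₁) S₁ RX :=
    IsScalarTower.of_algebraMap_eq (R := Γ(Y₁, V₁)) (S := S₁) (A := RX) fun _ => rfl
  have key : Y₁.presheaf.germ V₁ _ hxV₁ ≫ g₁.stalkMap (c z₀) =
      CommRingCat.ofHom (Algebra.TensorProduct.includeLeftRingHom : Γ(Y₁, V₁) →+* S₁) ≫ ρ := by
    refine Spec.map_injective ((cancel_mono hV₁.fromSpec).1 ?_)
    have e1 : Spec.map (Y₁.presheaf.germ V₁ _ hxV₁) ≫ hV₁.fromSpec = Y₁.fromSpecStalk (g₁ (c z₀)) :=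
      hV₁.fromSpecStalk_eq_fromSpecStalk hxV₁
    have e2 : Spec.map (inv σ) ≫ (Spec (CommRingCat.of S₁)).fromSpecStalk z₀ ≫ c = X₁.fromSpecStalk (c z₀) := by
      rw [← Scheme.SpecMap_stalkMap_fromSpecStalk c, ← Category.assoc, ← Spec.map_comp, IsIso.hom_inv_id,
        Spec.map_id, Category.id_comp]
    rw [Spec.map_comp, Category.assoc, e1, Scheme.SpecMap_stalkMap_fromSpecStalk, Spec.map_comp, Category.assoc,
      ← hc₁, ← e2]
    simp only [ρ, Spec.map_comp, Category.assoc, Spec.fromSpecStalk_eq']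
  have : IsScalarTower Γ(Y₁, V₁) RY RX := IsScalarTower.of_algebraMap_eq fun r =>
    (congrArg (algebraMap (X₁.presheaf.stalk (c z₀)) RX)
      (DFunLike.congr_fun (congrArg CommRingCat.Hom.hom key) r)).symm.trans
      (RingHom.congr_fun hcomm (Y₁.presheaf.germ V₁ _ hxV₁ r)).symm
  exact isZeroAcyclic_strict_noetherian (R₀ := Γ(Y, V)) (A := Γ(X, W)) (R₁ := Γ(Y₁, V₁))
    (OY := Y₁.presheaf.stalk (g₁ (c z₀))) (OX := X₁.presheaf.stalk (c z₀))
    (hV₁.primeIdealOf ⟨g₁ (c z₀), hxV₁⟩).asIdeal.primeCompl z₀.asIdeal.primeCompl hr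

end Groth.Agent.Et18.H0Lift
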