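import Mathlib.RingTheory.Smooth.NoetherianDescent
import Mathlib.RingTheory.TensorProduct.Maps
import Mathlib.RingTheory.Flat.Basic
import Mathlib.RingTheory.Etale.Basic
import Mathlib.RingTheory.Smooth.Flat

/-!
# Reduction of stages to subalgebras
-/

set_option autoImplicit false
set_option backward.isDefEq.respectTransparency.types false
set_option backward.isDefEq.respectTransparency false

universe u

open scoped TensorProduct

namespace Groth.Agent.Et18.StageReduce

/-- Base change along an injection with injective base change stays injective for flat algebras. -/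
theorem injective_rTensor_includeRight {R₁ S' S P' Ω : Type u} [CommRing R₁] [CommRing S'] [CommRing S]
    [CommRing P'] [CommRing Ω] [Algebra R₁ S'] [Algebra R₁ S] [Algebra S' S] [IsScalarTower R₁ S' S]
    [Algebra S' P'] [Module.Flat S' P'] [Algebra R₁ P'] [IsScalarTower R₁ S' P'] [Algebra R₁ Ω]
    (hinj : Function.Injective ((IsScalarTower.toAlgHom R₁ S' S).toLinearMap.rTensor Ω)) :
    Function.Injective
      (Algebra.TensorProduct.map
        ((Algebra.TensorProduct.includeLeft : P' →ₐ[S'] P' ⊗[S'] S).restrictScalars R₁) (AlgHom.id R₁ Ω)) := by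
  let u : S' ⊗[R₁] Ω →ₗ[S'] S ⊗[R₁] Ω :=
    TensorProduct.AlgebraTensorModule.map ((Algebra.ofId S' S).toLinearMap) (LinearMap.id : Ω →ₗ[R₁] Ω)
  have hu : Function.Injective u := hinj
  have hl := Module.Flat.lTensor_preserves_injective_linearMap (M := P') u hu
  let e₁ : P' ⊗[R₁] Ω ≃ₗ[S'] P' ⊗[S'] (S' ⊗[R₁] Ω) :=
    (TensorProduct.AlgebraTensorModule.cancelBaseChange R₁ S' S' P' Ω).symm
  let e₂ := TensorProduct.AlgebraTensorModule.assoc R₁ S' S' P' S Ω
  have key : ∀ x : P' ⊗[R₁] Ω, e₂ (Algebra.TensorProduct.map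
      ((Algebra.TensorProduct.includeLeft : P' →ₐ[S'] P' ⊗[S'] S).restrictScalars R₁) (AlgHom.id R₁ Ω) x) =
      u.lTensor P' (e₁ x) := by
    intro x
    induction x using TensorProduct.induction_on with
    | zero => simp
    | tmul p ω =>
        simp only [e₁, e₂, u, Algebra.TensorProduct.map_tmul, AlgHom.coe_restrictScalars',
          Algebra.TensorProduct.includeLeft_apply, TensorProduct.AlgebraTensorModule.cancelBaseChange_symm_tmul,
          TensorProduct.AlgebraTensorModule.assoc_tmul, LinearMap.lTensor_tmul,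
          TensorProduct.AlgebraTensorModule.map_tmul, AlgHom.toLinearMap_apply, map_one, AlgHom.id_apply,
          LinearMap.id_apply]
    | add a b ha hb => simp only [map_add, ha, hb]
  intro x y h
  exact e₁.injective (hl (by rw [← key, ← key, h]))

/-- Ring maps out of tensor products. -/
theorem exists_lift_ringHom {B C D T : Type u} [CommRing B] [CommRing C] [CommRing D] [CommRing T]
    [Algebra B C] [Algebra B D] (fC : C →+* T) (fD : D →+* T)
    (h : ∀ b, fC (algebraMap B C b) = fD (algebraMap B D b)) :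
    ∃ F : C ⊗[B] D →+* T, ∀ c d, F (c ⊗ₜ[B] d) = fC c * fD d := by
  let : Algebra B T := (fC.comp (algebraMap B C)).toAlgebra
  exact ⟨(Algebra.TensorProduct.lift ({ fC with commutes' := fun _ => rfl } : C →ₐ[B] T)
    ({ fD with commutes' := fun b => (h b).symm } : D →ₐ[B] T) fun _ _ => Commute.all _ _).toRingHom,
    fun _ _ => Algebra.TensorProduct.lift_tmul _ _ _ _ _⟩

/-- The descended stage. -/
theorem exists_descend {R₁ S' S A₀ P₀ P Ω : Type u} [CommRing R₁] [CommRing S'] [CommRing S] [CommRing A₀]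
    [CommRing P₀] [CommRing P] [CommRing Ω] [Algebra A₀ S'] [Algebra A₀ S] [Algebra S' S] [IsScalarTower A₀ S' S]
    [Algebra R₁ S'] [Algebra R₁ S] [IsScalarTower R₁ S' S] [Algebra A₀ P₀] [Algebra.Etale A₀ P₀] [Algebra S P]
    [Algebra R₁ P] [IsScalarTower R₁ S P] [Algebra R₁ Ω] (eP : P ≃ₐ[S] S ⊗[A₀] P₀)
    (hS : Function.Injective (algebraMap S' S))
    (hinj : Function.Injective ((IsScalarTower.toAlgHom R₁ S' S).toLinearMap.rTensor Ω)) :
    ∃ (P' : Type u) (_ : CommRing P') (_ : Algebra S' P') (_ : Algebra.Etale S' P') (_ : Algebra R₁ P')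
      (_ : IsScalarTower R₁ S' P') (j : P' →ₐ[R₁] P),
      (∀ a : S', j (algebraMap S' P' a) = algebraMap S P (algebraMap S' S a)) ∧ Function.Injective j ∧
      Function.Injective (Algebra.TensorProduct.map j (AlgHom.id R₁ Ω)) ∧
      ∀ (a : S') (p : P₀), eP.symm (algebraMap S' S a ⊗ₜ[A₀] p) ∈ j.range := by
  let i₀ : S' →ₐ[A₀] S := IsScalarTower.toAlgHom A₀ S' S
  let j₁ : S' ⊗[A₀] P₀ →+* P :=
    eP.symm.toRingEquiv.toRingHom.comp (Algebra.TensorProduct.map i₀ (AlgHom.id A₀ P₀)).toRingHom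
  have hj₁ : ∀ a p, j₁ (a ⊗ₜ[A₀] p) = eP.symm (algebraMap S' S a ⊗ₜ[A₀] p) := fun _ _ => rfl
  have hjS : ∀ a : S', j₁ (algebraMap S' (S' ⊗[A₀] P₀) a) = algebraMap S P (algebraMap S' S a) := fun a => by
    show j₁ (a ⊗ₜ[A₀] (1 : P₀)) = _
    rw [hj₁]
    exact eP.symm.commutes (algebraMap S' S a)
  let j : S' ⊗[A₀] P₀ →ₐ[R₁] P := { j₁ with
    commutes' := fun r => by
      show j₁ (algebraMap S' (S' ⊗[A₀] P₀) (algebraMap R₁ S' r)) = _
      rw [hjS, ← IsScalarTower.algebraMap_apply R₁ S' S, ← IsScalarTower.algebraMap_apply R₁ S P] }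
  have hjinj : Function.Injective j := fun a b h =>
    Module.Flat.rTensor_preserves_injective_linearMap (M := P₀) i₀.toLinearMap hS (eP.symm.injective h)
  refine ⟨S' ⊗[A₀] P₀, inferInstance, inferInstance, inferInstance, inferInstance, inferInstance, j, hjS, hjinj,
    ?_, fun a p => ⟨a ⊗ₜ[A₀] p, rfl⟩⟩
  have h0 := injective_rTensor_includeRight (S := S) (P' := S' ⊗[A₀] P₀) (Ω := Ω) (S' := S') hinj
  obtain ⟨back, hback⟩ := exists_lift_ringHom (B := A₀) (C := S) (D := P₀)
    (Algebra.TensorProduct.includeRight.toRingHom : S →+* (S' ⊗[A₀] P₀) ⊗[S'] S)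
    ((Algebra.TensorProduct.includeLeftRingHom : S' ⊗[A₀] P₀ →+* (S' ⊗[A₀] P₀) ⊗[S'] S).comp
      Algebra.TensorProduct.includeRight.toRingHom) (fun a => by
      show (1 : S' ⊗[A₀] P₀) ⊗ₜ[S'] algebraMap A₀ S a = ((1 : S') ⊗ₜ[A₀] algebraMap A₀ P₀ a) ⊗ₜ[S'] (1 : S)
      rw [IsScalarTower.algebraMap_apply A₀ S' S, Algebra.algebraMap_eq_smul_one (A := S),
        ← TensorProduct.smul_tmul, ← Algebra.algebraMap_eq_smul_one, Algebra.TensorProduct.algebraMap_apply,
        Algebra.algebraMap_eq_smul_one (A := P₀), ← TensorProduct.smul_tmul, ← Algebra.algebraMap_eq_smul_one]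
      rfl)
  have hb : ∀ w, back (eP (j w)) = w ⊗ₜ[S'] (1 : S) := fun w => by
    show back (eP (j₁ w)) = _
    induction w using TensorProduct.induction_on with
    | zero => simp
    | tmul a p =>
        rw [hj₁, eP.apply_symm_apply, hback]
        show ((1 : S' ⊗[A₀] P₀) ⊗ₜ[S'] algebraMap S' S a) * (((1 : S') ⊗ₜ[A₀] p) ⊗ₜ[S'] (1 : S)) = _
        rw [Algebra.TensorProduct.tmul_mul_tmul, one_mul, mul_one, Algebra.algebraMap_eq_smul_one (A := S),
          ← TensorProduct.smul_tmul, TensorProduct.smul_tmul', smul_eq_mul, mul_one]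
    | add a b ha hb => rw [map_add, map_add, map_add, ha, hb, TensorProduct.add_tmul]
  let backR : P →ₐ[R₁] (S' ⊗[A₀] P₀) ⊗[S'] S :=
    { back.comp eP.toRingEquiv.toRingHom with
      commutes' := fun r => by
        show back (eP (algebraMap R₁ P r)) = _
        rw [show algebraMap R₁ P r = j (algebraMap R₁ _ r) from (j.commutes r).symm, hb]
        rfl }
  refine Function.Injective.of_comp (f := Algebra.TensorProduct.map backR (AlgHom.id R₁ Ω)) ?_
  convert h0 using 1
  funext x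
  induction x using TensorProduct.induction_on with
  | zero => simp
  | tmul w ω =>
      show backR (j w) ⊗ₜ[R₁] ω = _
      rw [show backR (j w) = w ⊗ₜ[S'] (1 : S) from hb w]
      rfl
  | add a b ha hb =>
      simp only [Function.comp_apply] at ha hb ⊢
      rw [map_add, map_add, map_add, ha, hb]

/-- A stage over an algebra with a relation comes from a stage over one of a cofinal family of subalgebras. -/
theorem exists_reduce {R₁ S Q P Ω : Type u} [CommRing R₁] [CommRing S] [Algebra R₁ S] [CommRing Q] [Algebra R₁ Q]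
    [Algebra.FiniteType R₁ Q] [CommRing P] [Algebra S P] [Algebra.Etale S P] [Algebra R₁ P] [IsScalarTower R₁ S P]
    [CommRing Ω] [Algebra R₁ Ω] (good : Subalgebra R₁ S → Prop)
    (hsub : ∀ t : Finset S, ∃ S' : Subalgebra R₁ S, (↑t : Set S) ⊆ S' ∧ good S' ∧
      Function.Injective (S'.val.toLinearMap.rTensor Ω))
    (ψ : Q →ₐ[R₁] P) (u : Q → Ω) (z : P ⊗[R₁] Ω)
    (hz : z * z - z ∈ Ideal.span (Set.range fun q : Q => ψ q ⊗ₜ[R₁] (1 : Ω) - 1 ⊗ₜ[R₁] u q)) :
    ∃ S' : Subalgebra R₁ S, good S' ∧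
      ∃ (P' : Type u) (_ : CommRing P') (_ : Algebra S' P') (_ : Algebra.Etale S' P') (_ : Algebra R₁ P')
        (_ : IsScalarTower R₁ S' P') (j : P' →ₐ[R₁] P) (ψ' : Q →ₐ[R₁] P') (z' : P' ⊗[R₁] Ω),
        (∀ a : S', j (algebraMap S' P' a) = algebraMap S P (a : S)) ∧ j.comp ψ' = ψ ∧
        Algebra.TensorProduct.map j (AlgHom.id R₁ Ω) z' = z ∧
        z' * z' - z' ∈ Ideal.span (Set.range fun q : Q => ψ' q ⊗ₜ[R₁] (1 : Ω) - 1 ⊗ₜ[R₁] u q) := by
  classical
  obtain ⟨A₀, P₀, _, _, ⟨gA, hgA⟩, _, ⟨eP⟩⟩ := Algebra.Etale.exists_subalgebra_fg ℤ S P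
  obtain ⟨G, hG⟩ := (inferInstance : Algebra.FiniteType R₁ Q).out
  obtain ⟨c, hc⟩ := Finsupp.mem_span_range_iff_exists_finsupp.1 hz
  let cl : Subalgebra R₁ S → Set P := fun S' => {p | ∃ a ∈ S', ∃ p₀ : P₀, eP.symm (a ⊗ₜ[A₀] p₀) = p}
  let W : Subalgebra R₁ S → AddSubmonoid (P ⊗[R₁] Ω) := fun S' =>
    AddSubmonoid.closure {y | ∃ p ∈ cl S', ∃ ω : Ω, p ⊗ₜ[R₁] ω = y}
  have hP : ∀ p : P, ∃ t : Finset S, ∀ S' : Subalgebra R₁ S, (↑t : Set S) ⊆ S' →
      p ∈ AddSubmonoid.closure (cl S') := by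
    intro p
    obtain ⟨w, rfl⟩ := eP.symm.surjective p
    induction w using TensorProduct.induction_on with
    | zero => exact ⟨∅, fun _ _ => by rw [map_zero]; exact zero_mem _⟩
    | tmul a p₀ =>
        exact ⟨{a}, fun S' h => AddSubmonoid.subset_closure ⟨a, h (by simp), p₀, rfl⟩⟩
    | add a b ha hb =>
        obtain ⟨t₁, h₁⟩ := ha
        obtain ⟨t₂, h₂⟩ := hb
        refine ⟨t₁ ∪ t₂, fun S' h => by
          rw [map_add]
          exact add_mem (h₁ S' fun y hy => h (Finset.mem_coe.2 (Finset.mem_union_left _ hy)))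
            (h₂ S' fun y hy => h (Finset.mem_coe.2 (Finset.mem_union_right _ hy)))⟩
  have hW : ∀ y : P ⊗[R₁] Ω, ∃ t : Finset S, ∀ S' : Subalgebra R₁ S, (↑t : Set S) ⊆ S' → y ∈ W S' := by
    intro y
    induction y using TensorProduct.induction_on with
    | zero => exact ⟨∅, fun _ _ => zero_mem _⟩
    | tmul p ω =>
        obtain ⟨t, ht⟩ := hP p
        refine ⟨t, fun S' h => ?_⟩
        have hle : AddSubmonoid.closure (cl S') ≤
            (W S').comap ((TensorProduct.mk R₁ P Ω).flip ω).toAddMonoidHom := by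
          rw [AddSubmonoid.closure_le]
          exact fun p hp => AddSubmonoid.subset_closure ⟨p, hp, ω, rfl⟩
        exact hle (ht S' h)
    | add a b ha hb =>
        obtain ⟨t₁, h₁⟩ := ha
        obtain ⟨t₂, h₂⟩ := hb
        exact ⟨t₁ ∪ t₂, fun S' h =>
          add_mem (h₁ S' fun y hy => h (Finset.mem_coe.2 (Finset.mem_union_left _ hy)))
            (h₂ S' fun y hy => h (Finset.mem_coe.2 (Finset.mem_union_right _ hy)))⟩
  choose tP htP using hP
  choose tW htW using hW
  obtain ⟨S', hS', hgood, hinj⟩ := hsub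
    (gA ∪ G.biUnion (fun q => tP (ψ q)) ∪ tW z ∪ c.support.biUnion (fun q => tW (c q)))
  have hA0 : ∀ a ∈ A₀, a ∈ S' := by
    have : A₀ ≤ S'.restrictScalars ℤ := by
      rw [← hgA]
      exact Algebra.adjoin_le fun a ha => hS' (by simp [Finset.mem_coe.1 ha])
    exact fun a ha => this ha
  let j₀ : A₀ →+* S' := A₀.val.toRingHom.codRestrict S' fun a => hA0 a.1 a.2
  let : Algebra A₀ S' := j₀.toAlgebra
  let i₀ : S' →ₐ[A₀] S := { S'.val.toRingHom with commutes' := fun _ => rfl }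
  have : IsScalarTower A₀ S' S := IsScalarTower.of_algebraMap_eq fun _ => rfl
  obtain ⟨P', _, _, _, _, _, j, hjS, hjinj, hjΩ, hjr⟩ :=
    exists_descend (S' := S') (R₁ := R₁) (Ω := Ω) eP Subtype.val_injective hinj
  let jΩ := Algebra.TensorProduct.map j (AlgHom.id R₁ Ω)
  have hcl : AddSubmonoid.closure (cl S') ≤ j.range.toSubmodule.toAddSubmonoid := by
    rw [AddSubmonoid.closure_le]
    rintro _ ⟨a, ha, p₀, rfl⟩
    exact hjr ⟨a, ha⟩ p₀
  have hWle : W S' ≤ jΩ.range.toSubmodule.toAddSubmonoid := by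
    rw [AddSubmonoid.closure_le]
    rintro _ ⟨p, hp, ω, rfl⟩
    obtain ⟨w, rfl⟩ := hcl (AddSubmonoid.subset_closure hp)
    exact ⟨w ⊗ₜ[R₁] ω, rfl⟩
  have hψr : ∀ q, ψ q ∈ j.range := fun q => by
    have hq : q ∈ Algebra.adjoin R₁ (G : Set Q) := hG.ge Algebra.mem_top
    have : Algebra.adjoin R₁ (G : Set Q) ≤ j.range.comap ψ := Algebra.adjoin_le fun x hx =>
      hcl (htP (ψ x) S' fun y hy => hS' (by
        simp only [Finset.coe_union, Set.mem_union, Finset.coe_biUnion, Set.mem_iUnion, Finset.mem_coe]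
        exact Or.inl (Or.inl (Or.inr ⟨x, hx, hy⟩))))
    exact this hq
  let ψ' : Q →ₐ[R₁] P' := (AlgEquiv.ofInjective j hjinj).symm.toAlgHom.comp (ψ.codRestrict j.range hψr)
  have hψ' : ∀ q, j (ψ' q) = ψ q := fun q =>
    congrArg Subtype.val ((AlgEquiv.ofInjective j hjinj).apply_symm_apply _)
  obtain ⟨z', hz'⟩ := hWle (htW z S' fun y hy => hS' (by
    simp only [Finset.coe_union, Set.mem_union]; exact Or.inl (Or.inr hy)))
  have hc' : ∀ q ∈ c.support, ∃ w, jΩ w = c q := fun q hq => hWle (htW (c q) S' fun y hy => hS' (by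
    simp only [Finset.coe_union, Set.mem_union, Finset.coe_biUnion, Set.mem_iUnion, Finset.mem_coe]
    exact Or.inr ⟨q, hq, hy⟩))
  choose! c' hc'' using hc'
  refine ⟨S', hgood, P', inferInstance, inferInstance, inferInstance, inferInstance, inferInstance,
    j, ψ', z', hjS, AlgHom.ext hψ', hz', ?_⟩
  have heq : z' * z' - z' = ∑ q ∈ c.support, c' q * (ψ' q ⊗ₜ[R₁] (1 : Ω) - 1 ⊗ₜ[R₁] u q) := hjΩ (by
    rw [map_sub, map_mul, show jΩ z' = z from hz', ← hc, Finsupp.sum, map_sum]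
    refine Finset.sum_congr rfl fun q hq => ?_
    rw [map_mul, hc'' q hq, map_sub, smul_eq_mul]
    show _ = c q * (j (ψ' q) ⊗ₜ[R₁] (1 : Ω) - j 1 ⊗ₜ[R₁] u q)
    rw [hψ', map_one])
  rw [heq]
  exact Ideal.sum_mem _ fun q _ => Ideal.mul_mem_left _ _ (Ideal.subset_span ⟨q, rfl⟩)

end Groth.Agent.Et18.StageReduce
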