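import Groth.Agent.Et18.H0Lift.ConnNoethDescent
import Groth.Agent.Et18.H0Lift.StageReduce
import Groth.Agent.AbVarLib.PerfectReduced

/-!
# Stages over base changes of reduced algebras over perfect fields
-/

set_option autoImplicit false
set_option backward.isDefEq.respectTransparency.types false
set_option backward.isDefEq.respectTransparency false

universe u

open CategoryTheory CategoryTheory.Limits AlgebraicGeometry IsLocalRing
open scoped TensorProduct

namespace Groth.Agent.Et18.H0Lift

/-- Reduced algebras over perfect fields have geometrically reduced fibres. -/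
theorem geomRed_of_perfect (k A : Type u) [Field k] [PerfectField k] [CommRing A] [_root_.IsReduced A]
    [Algebra k A] : GeomRedFibres (Spec.map (CommRingCat.ofHom (algebraMap k A))) := by
  intro K _ η
  obtain ⟨φ, rfl⟩ := Spec.map_surjective η
  let : Algebra k K := φ.hom.toAlgebra
  have := AbVarLib.isReduced_field_tensor_perfect k K A
  have : _root_.IsReduced (A ⊗[k] K) :=
    isReduced_of_injective (Algebra.TensorProduct.comm k A K) (Algebra.TensorProduct.comm k A K).injective
  have : AlgebraicGeometry.IsReduced (Spec (CommRingCat.of (A ⊗[k] K))) := inferInstance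
  exact isReduced_of_isOpenImmersion (pullbackSpecIso k A K).hom

/-- Base changes of inclusions of algebras over a field stay injective after tensoring over the base. -/
theorem injective_rTensor_range {k A R Ω : Type u} [Field k] [CommRing A] [Algebra k A] [CommRing R]
    [Algebra k R] [CommRing Ω] [Algebra R Ω] (A' : Subalgebra k A) :
    Function.Injective
      ((Algebra.TensorProduct.map (AlgHom.id R R) A'.val).range.val.toLinearMap.rTensor Ω) := by
  let : Algebra k Ω := ((algebraMap R Ω).comp (algebraMap k R)).toAlgebra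
  have : IsScalarTower k R Ω := IsScalarTower.of_algebraMap_eq' rfl
  let m := Algebra.TensorProduct.map (AlgHom.id R R) A'.val
  have hm : Function.Surjective m.rangeRestrict := m.rangeRestrict_surjective
  let e : ∀ (B : Type u) [CommRing B] [Algebra k B], (R ⊗[k] B) ⊗[R] Ω ≃ₗ[R] Ω ⊗[k] B := fun B _ _ =>
    (TensorProduct.comm R (R ⊗[k] B) Ω).trans (TensorProduct.AlgebraTensorModule.cancelBaseChange k R R Ω B)
  have key : ∀ x : (R ⊗[k] A') ⊗[R] Ω,
      e A (m.range.val.toLinearMap.rTensor Ω (m.rangeRestrict.toLinearMap.rTensor Ω x)) =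
        A'.val.toLinearMap.lTensor Ω (e A' x) := by
    intro x
    induction x using TensorProduct.induction_on with
    | zero => simp
    | tmul y ω =>
        induction y using TensorProduct.induction_on with
        | zero => simp
        | tmul r a => simp [e, m]
        | add a b ha hb => rw [TensorProduct.add_tmul, map_add, map_add, map_add, map_add, map_add, ha, hb]
    | add a b ha hb => rw [map_add, map_add, map_add, map_add, map_add, ha, hb]
  intro a b h
  obtain ⟨a, rfl⟩ := LinearMap.rTensor_surjective Ω (g := m.rangeRestrict.toLinearMap) hm a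
  obtain ⟨b, rfl⟩ := LinearMap.rTensor_surjective Ω (g := m.rangeRestrict.toLinearMap) hm b
  have h' := congrArg (e A) h
  rw [key, key] at h'
  exact congrArg _ ((e A').injective
    (Module.Flat.lTensor_preserves_injective_linearMap A'.val.toLinearMap Subtype.val_injective h'))

/-- Elements of base changes are defined over finitely generated subalgebras. -/
theorem exists_finset_tensor {k A R : Type u} [Field k] [CommRing A] [Algebra k A] [CommRing R] [Algebra k R]
    (x : R ⊗[k] A) : ∃ t : Finset A, ∀ A' : Subalgebra k A, (↑t : Set A) ⊆ A' →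
      x ∈ (Algebra.TensorProduct.map (AlgHom.id R R) A'.val).range := by
  classical
  induction x using TensorProduct.induction_on with
  | zero => exact ⟨∅, fun _ _ => zero_mem _⟩
  | tmul r a => exact ⟨{a}, fun A' h => ⟨r ⊗ₜ[k] (⟨a, h (by simp)⟩ : A'), rfl⟩⟩
  | add a b ha hb =>
      obtain ⟨s, hs⟩ := ha
      obtain ⟨t, ht⟩ := hb
      refine ⟨s ∪ t, fun A' h => add_mem (hs A' fun y hy => h ?_) (ht A' fun y hy => h ?_)⟩
      · exact Finset.mem_coe.2 (Finset.mem_union_left _ hy)
      · exact Finset.mem_coe.2 (Finset.mem_union_right _ hy)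

/-- Idempotents coming from stages over base changes of reduced algebras over a perfect field are trivial. -/
theorem idempotent_of_stage_reduced {k A R₁ RY RX Q P : Type u} [Field k] [PerfectField k]
    [CommRing A] [_root_.IsReduced A] [Algebra k A] [CommRing R₁] [Algebra k R₁]
    [CommRing RY] [HenselianLocalRing RY] [IsSepClosed (ResidueField RY)]
    [CommRing RX] [HenselianLocalRing RX] [IsSepClosed (ResidueField RX)]
    [Algebra R₁ RY] [Algebra (R₁ ⊗[k] A) RX] [Algebra R₁ RX] [IsScalarTower R₁ (R₁ ⊗[k] A) RX]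
    [Algebra RY RX] [IsScalarTower R₁ RY RX] [IsLocalHom (algebraMap RY RX)]
    [CommRing Q] [Algebra R₁ Q] [Algebra.Etale R₁ Q]
    [CommRing P] [Algebra (R₁ ⊗[k] A) P] [Algebra.Etale (R₁ ⊗[k] A) P] [Algebra R₁ P]
    [IsScalarTower R₁ (R₁ ⊗[k] A) P]
    (ψ : Q →ₐ[R₁] P) (jY : Q →ₐ[R₁] RY) (jX : P →ₐ[R₁ ⊗[k] A] RX)
    (hψ : ∀ q, jX (ψ q) = algebraMap RY RX (jY q))
    {Ω : Type u} [Field Ω] [IsAlgClosed Ω] [Algebra RY Ω] [Algebra R₁ Ω] [IsScalarTower R₁ RY Ω]
    (θ : P ⊗[R₁] Ω →+* RX ⊗[RY] Ω) (hθ : ∀ p ω, θ (p ⊗ₜ[R₁] ω) = jX p ⊗ₜ[RY] ω)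
    (z : P ⊗[R₁] Ω) (hz : z * z - z ∈ Ideal.span (Set.range fun q : Q =>
      ψ q ⊗ₜ[R₁] (1 : Ω) - 1 ⊗ₜ[R₁] algebraMap RY Ω (jY q))) : θ z = 0 ∨ θ z = 1 := by
  classical
  let good : Subalgebra R₁ (R₁ ⊗[k] A) → Prop := fun S' =>
    ∃ A' : Subalgebra k A, A'.FG ∧ S' = (Algebra.TensorProduct.map (AlgHom.id R₁ R₁) A'.val).range
  obtain ⟨S', ⟨A', hA', rfl⟩, P', _, _, _, _, _, j, ψ', z', hjS, hjψ, hjz, hz'⟩ :=
    StageReduce.exists_reduce (R₁ := R₁) (S := R₁ ⊗[k] A) good (fun t => by
      choose tA hs using fun x : R₁ ⊗[k] A => exists_finset_tensor x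
      refine ⟨_, fun x hx => ?_, ⟨Algebra.adjoin k ↑(t.biUnion tA), Subalgebra.fg_adjoin_finset _, rfl⟩,
        injective_rTensor_range _⟩
      exact hs x _ fun a ha => Algebra.subset_adjoin (Finset.mem_biUnion.2 ⟨x, hx, ha⟩))
      ψ (fun q => algebraMap RY Ω (jY q)) z hz
  let m := Algebra.TensorProduct.map (AlgHom.id R₁ R₁) A'.val
  have hm : Function.Injective m :=
    Module.Flat.lTensor_preserves_injective_linearMap (M := R₁) A'.val.toLinearMap Subtype.val_injective
  have : Algebra.FiniteType k A' := (Subalgebra.fg_iff_finiteType A').1 hA'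
  have : IsNoetherianRing A' := Algebra.FiniteType.isNoetherianRing k A'
  have : _root_.IsReduced A' := isReduced_of_injective A'.val Subtype.val_injective
  let : Algebra (R₁ ⊗[k] A') m.range := m.rangeRestrict.toRingHom.toAlgebra
  have : Algebra.Etale (R₁ ⊗[k] A') m.range :=
    Algebra.Etale.of_equiv (AlgEquiv.ofBijective (Algebra.ofId (R₁ ⊗[k] A') m.range)
      ⟨fun a b h => hm (congrArg Subtype.val h), m.rangeRestrict_surjective⟩)
  let : Algebra (R₁ ⊗[k] A') P' := ((algebraMap m.range P').comp m.rangeRestrict.toRingHom).toAlgebra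
  have : IsScalarTower (R₁ ⊗[k] A') m.range P' := IsScalarTower.of_algebraMap_eq' rfl
  have : Algebra.Etale (R₁ ⊗[k] A') P' := Algebra.Etale.comp (R₁ ⊗[k] A') m.range P'
  have : IsScalarTower R₁ (R₁ ⊗[k] A') P' :=
    IsScalarTower.of_algebraMap_eq (R := R₁) (S := R₁ ⊗[k] A') (A := P') fun r =>
      (IsScalarTower.algebraMap_apply R₁ m.range P' r).trans
        (congrArg (algebraMap m.range P') (m.rangeRestrict.commutes r).symm)
  let : Algebra (R₁ ⊗[k] A') RX := ((algebraMap (R₁ ⊗[k] A) RX).comp m.toRingHom).toAlgebra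
  have : IsScalarTower R₁ (R₁ ⊗[k] A') RX :=
    IsScalarTower.of_algebraMap_eq (R := R₁) (S := R₁ ⊗[k] A') (A := RX) fun r =>
      (IsScalarTower.algebraMap_apply R₁ (R₁ ⊗[k] A) RX r).trans
        (congrArg (algebraMap (R₁ ⊗[k] A) RX) (m.commutes r).symm)
  let jX' : P' →ₐ[R₁ ⊗[k] A'] RX :=
    { jX.toRingHom.comp j.toRingHom with
      commutes' := fun a => (congrArg jX (hjS (m.rangeRestrict a))).trans (jX.commutes (m a)) }
  let θ' : P' ⊗[R₁] Ω →+* RX ⊗[RY] Ω := θ.comp (Algebra.TensorProduct.map j (AlgHom.id R₁ Ω)).toRingHom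
  rw [← hjz]
  exact idempotent_of_stage_data (R₀ := k) (A := A') ψ' jY jX'
    (fun q => (congrArg jX (DFunLike.congr_fun hjψ q)).trans (hψ q)) (geomRed_of_perfect k A') θ'
    (fun p ω => hθ (j p) ω) z' hz'

end Groth.Agent.Et18.H0Lift
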