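import Groth.Agent.Et18.H0Lift.SetsFromAb
import Groth.Agent.Et18.BaseChange0Stalk

/-!
# Inverse images commute with passing to the underlying sheaf of sets
-/

set_option autoImplicit false
set_option backward.isDefEq.respectTransparency.types false
set_option backward.isDefEq.respectTransparency false

universe u

open CategoryTheory CategoryTheory.Limits AlgebraicGeometry Opposite

namespace Groth.Agent.Et18.H0Lift

variable {X Y : Scheme.{u}} (g : X ⟶ Y)

/-- The comparison between the inverse image of the underlying sheaf of sets and the underlying sheaf of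
sets of the inverse image. -/
noncomputable def pullSetsHom (G : EtCoh.Ab Y) :
    (EtDesc.pullSh g).obj ((setsOf Y).obj G) ⟶ (setsOf X).obj ((EtCoh.pull g).obj G) :=
  ((EtDesc.adjSh g).homEquiv _ _).symm ((setsOf Y).map ((EtCoh.pullPushAdj g).unit.app G))

lemma unit_pullSetsHom (G : EtCoh.Ab Y) (V : Y.Etale) :
    ((EtDesc.adjSh g).unit.app ((setsOf Y).obj G)).hom.app (op V) ≫
        (pullSetsHom g G).hom.app (op ((EtCoh.bc g).obj V)) =
      (forget AddCommGrpCat.{u + 1}).map (((EtCoh.pullPushAdj g).unit.app G).hom.app (op V)) := by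
  have h := ((EtDesc.adjSh g).homEquiv ((setsOf Y).obj G) ((setsOf X).obj ((EtCoh.pull g).obj G))).apply_symm_apply
    ((setsOf Y).map ((EtCoh.pullPushAdj g).unit.app G))
  rw [Adjunction.homEquiv_unit] at h
  exact congrArg (fun t => t.hom.app (op V)) h

variable {Ω : Type u} [Field Ω] [IsSepClosed Ω] (η : Spec (CommRingCat.of Ω) ⟶ Y)

/-- The stalk of a sheaf of sets maps to the stalk of its inverse image. -/
noncomputable def toPullSh (ξ : FibrePts g η) (G : EtDesc.Sh Y) :
    (stalkSh η).obj G ⟶ (stalkSh ξ.1).obj ((EtDesc.pullSh g).obj G) :=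
  (stalkSh η).map ((EtDesc.adjSh g).unit.app G) ≫
    (fibreNat g η (Type (u + 1)) ξ).app ((EtDesc.pullSh g).obj G)

lemma toPresheafFiber_toPullSh (ξ : FibrePts g η) (G : EtDesc.Sh Y) (V : Y.Etale)
    (v : (Scheme.pointSmallEtale η).fiber.obj V) :
    (Scheme.pointSmallEtale η).toPresheafFiber V v G.obj ≫ toPullSh g η ξ G =
      ((EtDesc.adjSh g).unit.app G).hom.app (op V) ≫
        (Scheme.pointSmallEtale ξ.1).toPresheafFiber ((EtCoh.bc g).obj V) (bcLift g η ξ V v)
          ((EtDesc.pullSh g).obj G).obj := by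
  unfold toPullSh
  refine (Category.assoc _ _ _).symm.trans ?_
  refine (congrArg (fun t => t ≫ _) ((Scheme.pointSmallEtale η).toPresheafFiber_naturality
    ((EtDesc.adjSh g).unit.app G).hom V v)).trans ?_
  refine (Category.assoc _ _ _).trans ?_
  exact congrArg _ (toPresheafFiber_fibreNat g η (Type (u + 1)) ξ ((EtDesc.pullSh g).obj G) V v)

theorem isIso_toPullSh (ξ : FibrePts g η) (G : EtDesc.Sh Y) : IsIso (toPullSh g η ξ G) := by
  let Φ := Scheme.pointSmallEtale ξ.1
  let adj := EtDesc.adjSh g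
  let c := Φ.sheafFiberComapIso (EtCoh.bc g) (EtCoh.coverPreserving_bc g) (Type (u + 1))
  let s := (fibrePointHom g η ξ).sheafFiber (A := Type (u + 1))
  have : toPullSh g η ξ G = s.app G ≫ c.hom.app G := by
    unfold toPullSh fibreNat pushFiberMap
    refine (Category.assoc _ _ _).symm.trans ?_
    refine (congrArg (fun t => t ≫ _) (s.naturality (adj.unit.app G))).trans ?_
    refine (Category.assoc _ _ _).trans (congrArg (fun t => s.app G ≫ t) ?_)
    refine (Category.assoc _ _ _).symm.trans ?_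
    refine (congrArg (fun t => t ≫ _) (c.hom.naturality (adj.unit.app G))).trans ?_
    refine (Category.assoc _ _ _).trans ?_
    change c.hom.app G ≫ Φ.sheafFiber.map ((EtDesc.pullSh g).map (adj.unit.app G)) ≫
      Φ.sheafFiber.map (adj.counit.app _) = c.hom.app G
    rw [← Functor.map_comp, adj.left_triangle_components, CategoryTheory.Functor.map_id]
    exact Category.comp_id _
  rw [this]
  have : IsIso s := by
    refine ⟨(inv (fibrePointHom g η ξ)).sheafFiber (A := Type (u + 1)), ?_, ?_⟩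
    · rw [← GrothendieckTopology.Point.Hom.sheafFiber_comp, IsIso.inv_hom_id,
        GrothendieckTopology.Point.Hom.sheafFiber_id]
    · rw [← GrothendieckTopology.Point.Hom.sheafFiber_comp, IsIso.hom_inv_id,
        GrothendieckTopology.Point.Hom.sheafFiber_id]
  infer_instance

/-- The stalk of the underlying sheaf of sets is the stalk. -/
noncomputable def stalkSetsIso {Z : Scheme.{u}} (ζ : Spec (CommRingCat.of Ω) ⟶ Z) (A : EtCoh.Ab Z) :
    (stalkSh ζ).obj ((setsOf Z).obj A) ≅ (forget AddCommGrpCat.{u + 1}).obj ((EtCoh.stalk ζ).obj A) :=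
  ((Scheme.pointSmallEtale ζ).presheafFiberCompIso (forget AddCommGrpCat.{u + 1})).app A.obj

lemma stalkSetsIso_germ {Z : Scheme.{u}} (ζ : Spec (CommRingCat.of Ω) ⟶ Z) (A : EtCoh.Ab Z) (V : Z.Etale)
    (v : (Scheme.pointSmallEtale ζ).fiber.obj V) :
    (Scheme.pointSmallEtale ζ).toPresheafFiber V v ((setsOf Z).obj A).obj ≫ (stalkSetsIso ζ A).hom =
      (forget AddCommGrpCat.{u + 1}).map ((Scheme.pointSmallEtale ζ).toPresheafFiber V v A.obj) :=
  (Scheme.pointSmallEtale ζ).toPresheafFiber_presheafFiberCompIso_hom_app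
    (forget AddCommGrpCat.{u + 1}) V v A.obj

theorem stalk_pullSetsHom (ξ : FibrePts g η) (G : EtCoh.Ab Y) :
    toPullSh g η ξ ((setsOf Y).obj G) ≫ (stalkSh ξ.1).map (pullSetsHom g G) ≫
        (stalkSetsIso ξ.1 ((EtCoh.pull g).obj G)).hom =
      (stalkSetsIso η G).hom ≫ (forget AddCommGrpCat.{u + 1}).map (toPull g η ξ G) := by
  refine (Scheme.pointSmallEtale η).presheafFiber_hom_ext (P := ((setsOf Y).obj G).obj) fun V v => ?_
  rw [← Category.assoc, toPresheafFiber_toPullSh, Category.assoc, ← Category.assoc _ (stalkSetsIso η G).hom,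
    stalkSetsIso_germ, ← Functor.map_comp, toPresheafFiber_toPull, Functor.map_comp]
  have h1 : (Scheme.pointSmallEtale ξ.1).toPresheafFiber ((EtCoh.bc g).obj V) (bcLift g η ξ V v)
      ((EtDesc.pullSh g).obj ((setsOf Y).obj G)).obj ≫ (stalkSh ξ.1).map (pullSetsHom g G) =
        (pullSetsHom g G).hom.app (op ((EtCoh.bc g).obj V)) ≫
          (Scheme.pointSmallEtale ξ.1).toPresheafFiber ((EtCoh.bc g).obj V) (bcLift g η ξ V v)
            ((setsOf X).obj ((EtCoh.pull g).obj G)).obj :=
    (Scheme.pointSmallEtale ξ.1).toPresheafFiber_naturality (pullSetsHom g G).hom _ _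
  refine (congrArg (((EtDesc.adjSh g).unit.app ((setsOf Y).obj G)).hom.app (op V) ≫ ·)
    ((Category.assoc _ _ _).symm.trans ((congrArg (· ≫ _) h1).trans ((Category.assoc _ _ _).trans
      (congrArg (_ ≫ ·) (stalkSetsIso_germ ξ.1 ((EtCoh.pull g).obj G) ((EtCoh.bc g).obj V)
        (bcLift g η ξ V v))))))).trans ?_
  exact (Category.assoc _ _ _).symm.trans (congrArg (· ≫ _) (unit_pullSetsHom g G V))

theorem isIso_pullSetsHom (G : EtCoh.Ab Y) : IsIso (pullSetsHom g G) := by
  refine isIso_of_stalksSh_family _ (exists_sepPoint X) _ fun x => ?_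
  let ξ : FibrePts g (sepPoint X x.down ≫ g) := ⟨sepPoint X x.down, rfl⟩
  have := isIso_toPullSh g _ ξ ((setsOf Y).obj G)
  have := isIso_toPull g _ ξ G
  have h := stalk_pullSetsHom g _ ξ G
  rw [← Category.assoc] at h
  have h' : IsIso ((toPullSh g _ ξ ((setsOf Y).obj G) ≫ (stalkSh ξ.1).map (pullSetsHom g G)) ≫
      (stalkSetsIso ξ.1 ((EtCoh.pull g).obj G)).hom) := by
    rw [h]; infer_instance
  have := IsIso.of_isIso_comp_right
    (toPullSh g _ ξ ((setsOf Y).obj G) ≫ (stalkSh ξ.1).map (pullSetsHom g G))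
    (stalkSetsIso ξ.1 ((EtCoh.pull g).obj G)).hom
  exact IsIso.of_isIso_comp_left (toPullSh g _ ξ ((setsOf Y).obj G)) _

end Groth.Agent.Et18.H0Lift
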