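import Groth.Agent.Et18.H0Lift.Supports
import Groth.Agent.Et18.H0Lift.PullSec
import Groth.Prelude.Def_SGA4b

/-!
# Descent of sections along universally submersive morphisms
-/

set_option autoImplicit false
set_option backward.isDefEq.respectTransparency.types false
set_option backward.isDefEq.respectTransparency false

universe u

open CategoryTheory CategoryTheory.Limits AlgebraicGeometry Opposite TopologicalSpace

namespace Groth.Agent.Et18.H0Lift

variable {X T : Scheme.{u}} (f : T ⟶ X) (F : EtCoh.Ab X)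

/-- A global section of an inverse image whose germs agree at all points over the same point. -/
def Compat (σ : EtCoh.sect ((EtCoh.pull f).obj F) (EtCoh.top T)) : Prop :=
  ∀ (Ω : Type u) [Field Ω] [IsSepClosed Ω] (η : Spec (CommRingCat.of Ω) ⟶ X) (ξ₁ ξ₂ : FibrePts f η)
    (e₁ e₂ : (EtCoh.stalk η).obj F),
    toPull f η ξ₁ F e₁ = gm ((EtCoh.pull f).obj F) ξ₁.1 _ (topPt ξ₁.1) σ →
    toPull f η ξ₂ F e₂ = gm ((EtCoh.pull f).obj F) ξ₂.1 _ (topPt ξ₂.1) σ → e₁ = e₂

theorem diffAt_restrict (σ : EtCoh.sect ((EtCoh.pull f).obj F) (EtCoh.top T)) {V W : X.Etale} (a : W ⟶ V)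
    (t : EtCoh.sect F V) :
    diffAt f F σ W (F.obj.map a.op t) =
      ((EtCoh.pull f).obj F).obj.map ((EtCoh.bc f).map a).op (diffAt f F σ V t) := by
  refine Eq.trans ?_ (map_sub _ _ _).symm
  unfold diffAt
  congr 1
  · exact ConcreteCategory.congr_hom (((EtCoh.pullPushAdj f).unit.app F).hom.naturality a.op) t
  · rw [← ConcreteCategory.comp_apply, ← Functor.map_comp, ← op_comp]
    congr 4
    exact (EtCore.topIsTerminal T).hom_ext _ _

variable {f F}

theorem gm_diffAt (σ : EtCoh.sect ((EtCoh.pull f).obj F) (EtCoh.top T)) (V : X.Etale) (t : EtCoh.sect F V)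
    {Ω : Type u} [Field Ω] [IsSepClosed Ω] {η : Spec (CommRingCat.of Ω) ⟶ X} (ξ : FibrePts f η)
    (v : (Scheme.pointSmallEtale η).fiber.obj V) :
    fiberPt (bcLift f η ξ V v) ∉ EtShriek.sectSupp ((EtCoh.pull f).obj F) _ (diffAt f F σ V t) ↔
      toPull f η ξ F (gm F η V v t) = gm ((EtCoh.pull f).obj F) ξ.1 _ (topPt ξ.1) σ := by
  rw [← gm_eq_zero_iff, show gm ((EtCoh.pull f).obj F) ξ.1 _ (bcLift f η ξ V v) (diffAt f F σ V t) =
      _ - _ from map_sub _ _ _, sub_eq_zero]
  have h1 : gm ((EtCoh.pull f).obj F) ξ.1 _ (bcLift f η ξ V v) (uAt f F V t) =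
      toPull f η ξ F (gm F η V v t) := gm_unit f ξ F V v t
  have h2 : gm ((EtCoh.pull f).obj F) ξ.1 _ (bcLift f η ξ V v)
      (((EtCoh.pull f).obj F).obj.map ((EtCore.topIsTerminal T).from _).op σ) =
      gm ((EtCoh.pull f).obj F) ξ.1 _ (topPt ξ.1) σ := by
    refine (gm_map _ _ _ _ σ).trans ?_
    rw [fibre_eq (EtCoh.top T) ((Scheme.pointSmallEtale ξ.1).fiber.map ((EtCore.topIsTerminal T).from _)
      (bcLift f η ξ V v)) (topPt ξ.1)]
  exact Iff.of_eq (congrArg₂ (· = ·) h1 h2)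

theorem saturated_diffAt {σ : EtCoh.sect ((EtCoh.pull f).obj F) (EtCoh.top T)} (hσ : Compat f F σ)
    (V : X.Etale) (t : EtCoh.sect F V) (b₁ b₂ : ((EtCoh.bc f).obj V).left)
    (h : EtShriek.prV f V b₁ = EtShriek.prV f V b₂)
    (h₁ : b₁ ∉ EtShriek.sectSupp ((EtCoh.pull f).obj F) _ (diffAt f F σ V t)) :
    b₂ ∉ EtShriek.sectSupp ((EtCoh.pull f).obj F) _ (diffAt f F σ V t) := by
  let B : Scheme.{u} := ((EtCoh.bc f).obj V).left
  let p : B ⟶ V.left := EtShriek.prV f V
  let q : B ⟶ T := ((EtCoh.bc f).obj V).hom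
  obtain ⟨c, hc₁, hc₂⟩ := Scheme.Pullback.exists_preimage_pullback (f := p) (g := p) b₁ b₂ h
  let ω := algPoint (pullback p p) c
  let l₁ := ω ≫ pullback.fst p p
  let l₂ := ω ≫ pullback.snd p p
  have hl : l₂ ≫ p = l₁ ≫ p := by
    simp only [l₁, l₂, Category.assoc, pullback.condition]
  let η := (l₁ ≫ p) ≫ V.hom
  let v : (Scheme.pointSmallEtale η).fiber.obj V := Over.homMk (l₁ ≫ p) rfl
  have hq : q ≫ f = p ≫ V.hom := (pullback.condition (f := V.hom) (g := f)).symm
  let ξ₁ : FibrePts f η := ⟨l₁ ≫ q, by simp only [η, Category.assoc, hq]⟩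
  let ξ₂ : FibrePts f η := ⟨l₂ ≫ q, by
    simp only [η, Category.assoc, hq]; rw [← Category.assoc, hl, Category.assoc]⟩
  have e₁ : fiberPt (bcLift f η ξ₁ V v) = b₁ := by
    have : (pullback.lift (l₁ ≫ p) (l₁ ≫ q) (by simp only [Category.assoc, hq]) :
        _ ⟶ pullback V.hom f) = l₁ := pullback.hom_ext (pullback.lift_fst _ _ _) (pullback.lift_snd _ _ _)
    refine Eq.trans (congrArg (fun k : _ ⟶ pullback V.hom f => k default) this) ?_
    rw [← hc₁]
    exact congrArg _ (algPoint_default _ c)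
  have hl' : (l₁ ≫ p) ≫ V.hom = (l₂ ≫ q) ≫ f := by
    rw [← hl, Category.assoc, Category.assoc]
    exact congrArg (l₂ ≫ ·) hq.symm
  have e₂ : fiberPt (bcLift f η ξ₂ V v) = b₂ := by
    have : (pullback.lift (l₁ ≫ p) (l₂ ≫ q) hl' :
        _ ⟶ pullback V.hom f) = l₂ :=
      pullback.hom_ext ((pullback.lift_fst _ _ _).trans hl.symm) (pullback.lift_snd _ _ _)
    refine Eq.trans (congrArg (fun k : _ ⟶ pullback V.hom f => k default) this) ?_
    rw [← hc₂]
    exact congrArg _ (algPoint_default _ c)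
  rw [← e₁, gm_diffAt σ V t ξ₁ v] at h₁
  rw [← e₂, gm_diffAt σ V t ξ₂ v]
  obtain ⟨e, he⟩ := (bijective_toPull f ξ₂ F).2 (gm ((EtCoh.pull f).obj F) ξ₂.1 _ (topPt ξ₂.1) σ)
  have heq := hσ _ η ξ₁ ξ₂ _ e h₁ he
  rw [heq]
  exact he

/-- Sections whose germs agree over points descend along universally submersive morphisms. -/
theorem exists_descend (hf : ∀ V : X.Etale, Function.Surjective (EtShriek.prV f V) ∧
      Topology.IsQuotientMap (EtShriek.prV f V))
    {σ : EtCoh.sect ((EtCoh.pull f).obj F) (EtCoh.top T)} (hσ : Compat f F σ) :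
    ∃ s : EtCoh.sect F (EtCoh.top X),
      uAt f F (EtCoh.top X) s =
        ((EtCoh.pull f).obj F).obj.map ((EtCore.topIsTerminal T).from _).op σ := by
  let G := (EtCoh.pull f).obj F
  have hloc : ∀ x : X, ∃ (W : X.Etale) (t : EtCoh.sect F W), x ∈ Set.range W.hom ∧
      ∀ b : ((EtCoh.bc f).obj W).left, b ∉ EtShriek.sectSupp G _ (diffAt f F σ W t) := by
    intro x
    obtain ⟨b₀, hb₀⟩ := (hf (EtCoh.top X)).1 x
    obtain ⟨V, t, b, hb, hbD⟩ := exists_local_at f F σ (((EtCoh.bc f).obj (EtCoh.top X)).hom b₀)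
    let D : Set ((EtCoh.bc f).obj V).left := EtShriek.sectSupp G _ (diffAt f F σ V t)
    have hpre : EtShriek.prV f V ⁻¹' (EtShriek.prV f V '' Dᶜ) = Dᶜ := by
      refine Set.Subset.antisymm ?_ (Set.subset_preimage_image _ _)
      rintro b' ⟨b'', hb'', he⟩
      exact saturated_diffAt hσ V t b'' b' he hb''
    have hO : IsOpen (EtShriek.prV f V '' Dᶜ) := by
      refine (hf V).2.isOpen_preimage.1 ?_
      rw [hpre]
      exact (isClosed_sectSupp _ _ _).isOpen_compl
    let V₀ : V.left.Opens := ⟨_, hO⟩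
    have : Etale V.hom := V.prop
    let W : X.Etale := Scheme.Etale.mk (V₀.ι ≫ V.hom)
    let a : W ⟶ V := MorphismProperty.Over.homMk V₀.ι rfl
    refine ⟨W, F.obj.map a.op t, ⟨⟨EtShriek.prV f V b, b, hbD, rfl⟩, ?_⟩, fun b' => ?_⟩
    · change V.hom (EtShriek.prV f V b) = x
      have hc : ∀ (U : X.Etale) (z : ((EtCoh.bc f).obj U).left),
          U.hom (EtShriek.prV f U z) = f (((EtCoh.bc f).obj U).hom z) := fun U z =>
        congrArg (fun k => k z) (pullback.condition (f := U.hom) (g := f))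
      rw [hc, hb, ← hc (EtCoh.top X)]
      exact hb₀
    · rw [diffAt_restrict, mem_sectSupp_map]
      change ((EtCoh.bc f).map a).left b' ∈ Dᶜ
      rw [← hpre]
      have hn : ((EtCoh.bc f).map a).left ≫ EtShriek.prV f V = EtShriek.prV f W ≫ a.left :=
        (EtCoh.isPullback_bc_map f a).w
      change EtShriek.prV f V (((EtCoh.bc f).map a).left b') ∈ V₀
      rw [← Scheme.Hom.comp_apply, hn]
      exact (EtShriek.prV f W b').2
  choose W t hx hclean using hloc
  obtain ⟨s, hs⟩ := exists_glue_cover (F := F) (EtCoh.top X) (fun x : ULift.{u + 1} X => W x.down)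
    (fun x => (EtCore.topIsTerminal X).from _)
    (fun x => ⟨⟨x⟩, by
      obtain ⟨z, hz⟩ := hx x
      refine ⟨z, Eq.trans ?_ hz⟩
      exact congrArg (fun k => k z)
        ((Category.comp_id _).symm.trans (Over.w ((EtCore.topIsTerminal X).from (W x)).hom))⟩)
    (fun x => t x.down) (fun k l R gk gl _ r hr => by
      obtain ⟨b, hb⟩ := (hf R).1 r
      rw [← hb, ← mem_sectSupp_unit f F] at hr
      revert hr
      have hd : uAt f F R (F.obj.map gk.op (t k.down) - F.obj.map gl.op (t l.down)) =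
          diffAt f F σ R (F.obj.map gk.op (t k.down)) - diffAt f F σ R (F.obj.map gl.op (t l.down)) := by
        refine (map_sub _ _ _).trans ?_
        exact (sub_sub_sub_cancel_right _ _ _).symm
      rw [hd]
      obtain ⟨w, hw⟩ := exists_fiber_point (algPoint T (((EtCoh.bc f).obj R).hom b))
        ((EtCoh.bc f).obj R) b (algPoint_default T _).symm
      rw [← hw]
      refine (gm_eq_zero_iff G _ _ w _).1 ((map_sub _ _ _).trans ?_)
      have h0 : ∀ (m : ULift.{u + 1} X) (g : R ⟶ W m.down),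
          gm G _ _ w (diffAt f F σ R (F.obj.map g.op (t m.down))) = 0 := fun m g => by
        refine (gm_eq_zero_iff G _ _ w _).2 ?_
        rw [diffAt_restrict, mem_sectSupp_map]
        exact hclean _ _
      exact sub_eq_zero.2 ((h0 k gk).trans (h0 l gl).symm))
  refine ⟨s, sect_ext_of_cover G _ (fun x : ULift.{u + 1} X => (EtCoh.bc f).obj (W x.down))
    (fun x => (EtCoh.bc f).map ((EtCore.topIsTerminal X).from _)) (fun b => ?_) _ _ fun x => ?_⟩
  · obtain ⟨z, hz⟩ := hx (EtShriek.prV f (EtCoh.top X) b)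
    let a := (EtCore.topIsTerminal X).from (W (EtShriek.prV f (EtCoh.top X) b))
    have ha : a.left z = EtShriek.prV f (EtCoh.top X) b :=
      (congrArg (fun k => k z) ((Category.comp_id _).symm.trans (Over.w a.hom))).trans hz
    obtain ⟨e, -, he⟩ := Scheme.Pullback.exists_preimage_pullback (f := a.left)
      (g := EtShriek.prV f (EtCoh.top X)) z b ha
    refine ⟨⟨_⟩, (EtCoh.isPullback_bc_map f a).flip.isoPullback.inv e, ?_⟩
    exact (congrArg (fun k => k e) (EtCoh.isPullback_bc_map f a).flip.isoPullback_inv_snd).trans he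
  · refine sub_eq_zero.1 ((map_sub _ _ _).symm.trans ?_)
    change G.obj.map _ (diffAt f F σ (EtCoh.top X) s) = 0
    rw [← diffAt_restrict, hs]
    exact eq_zero_of_sectSupp_eq_empty G _ _ (Set.eq_empty_iff_forall_notMem.2 (hclean x.down))

end Groth.Agent.Et18.H0Lift
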