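import Groth.Agent.Et18.H0Lift.ConnDescent
import Groth.Agent.Et18.H0Lift.SectAt
import Groth.Agent.Et18.H0Lift.PullSetsOf
import Groth.Agent.Et18.H0Lift.SubmDescent
import Groth.Agent.Et18.H0Lift.SetsFromAb
import Groth.Prelude.Def_EtAcyc
import Mathlib.AlgebraicGeometry.Morphisms.Flat

/-!
# Units of inverse images along flat quasi-compact morphisms with connected geometric fibres
-/

set_option autoImplicit false
set_option backward.isDefEq.respectTransparency.types false
set_option backward.isDefEq.respectTransparency false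

universe u

open CategoryTheory CategoryTheory.Limits AlgebraicGeometry Opposite TopologicalSpace

namespace Groth.Agent.Et18.H0Lift

variable {X Y : Scheme.{u}} (p : X ⟶ Y)

/-- All geometric fibres are preconnected. -/
def ConnFibres : Prop :=
  ∀ (Ω : Type u) [Field Ω] [IsSepClosed Ω] (η : Spec (CommRingCat.of Ω) ⟶ Y),
    PreconnectedSpace ↥(pullback p η)

variable {p} (F : EtCoh.Ab Y)

theorem injective_unit_of_surjective (hp : Function.Surjective p) (V : Y.Etale) :
    Function.Injective (((EtCoh.pullPushAdj p).unit.app F).hom.app (op V)) := by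
  refine (injective_iff_map_eq_zero (((EtCoh.pullPushAdj p).unit.app F).hom.app (op V)).hom).2
    fun t ht => eq_zero_of_sectSupp_eq_empty F V t (Set.eq_empty_iff_forall_notMem.2 fun v hv => ?_)
  obtain ⟨x, hx⟩ := hp (V.hom v)
  obtain ⟨b, hb, -⟩ := Scheme.Pullback.exists_preimage_pullback (f := V.hom) (g := p) v x hx.symm
  let b' : ((EtCoh.bc p).obj V).left := b
  have h1 : b' ∈ EtShriek.sectSupp ((EtCoh.pull p).obj F) _ (uAt p F V t) :=
    (mem_sectSupp_unit p F V t b').2 (Eq.mpr (congrArg (· ∈ EtShriek.sectSupp F V t) hb) hv)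
  have h0 : uAt p F V t = 0 := ht
  rw [h0] at h1
  exact notMem_sectSupp_zero _ _ _ h1

theorem surjective_unit_of_connFibres [Flat p] [QuasiCompact p] [Surjective p] (hc : ConnFibres p)
    (V : Y.Etale) : Function.Surjective (((EtCoh.pullPushAdj p).unit.app F).hom.app (op V)) := by
  intro σ
  let P := (EtCoh.bc p).obj V
  let p' : P.left ⟶ V.left := EtShriek.prV p V
  have hsq : IsPullback P.hom p' p V.hom :=
    (IsPullback.of_hasPullback V.hom p).flip
  have hflat : Flat p' := MorphismProperty.of_isPullback (P := @Flat) hsq inferInstance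
  have hqc : QuasiCompact p' := MorphismProperty.of_isPullback (P := @QuasiCompact) hsq inferInstance
  have hsurj : Surjective p' := MorphismProperty.of_isPullback (P := @Surjective) hsq inferInstance
  have hcomm : p' ≫ V.hom = P.hom ≫ p := hsq.w.symm
  let G := (EtCoh.pull V.hom).obj F
  let τ := toSec p F P σ
  let σ' : gSec p' G := splitSec p' V.hom hcomm τ
  have hσ : Compat p' G σ' := by
    intro Ω _ _ η ξ₁ ξ₂ e₁ e₂ h₁ h₂
    let Z := pullback p' η
    have hZ : IsPullback (pullback.fst p' η ≫ P.hom) (pullback.snd p' η) p (η ≫ V.hom) :=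
      (IsPullback.of_hasPullback p' η).paste_horiz hsq
    have := hc Ω (η ≫ V.hom)
    have : PreconnectedSpace ↥Z :=
      (Scheme.homeoOfIso hZ.isoPullback).symm.surjective.denseRange.preconnectedSpace
        (Scheme.homeoOfIso hZ.isoPullback).symm.continuous
    let ζ₁ : Spec (CommRingCat.of Ω) ⟶ Z := pullback.lift ξ₁.1 (𝟙 _) (ξ₁.2.trans (Category.id_comp _).symm)
    let ζ₂ : Spec (CommRingCat.of Ω) ⟶ Z := pullback.lift ξ₂.1 (𝟙 _) (ξ₂.2.trans (Category.id_comp _).symm)
    have k₁ : ζ₁ ≫ pullback.fst p' η ≫ p' = η := by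
      rw [← Category.assoc, show ζ₁ ≫ pullback.fst p' η = ξ₁.1 from pullback.lift_fst _ _ _]; exact ξ₁.2
    have k₂ : ζ₂ ≫ pullback.fst p' η ≫ p' = η := by
      rw [← Category.assoc, show ζ₂ ≫ pullback.fst p' η = ξ₂.1 from pullback.lift_fst _ _ _]; exact ξ₂.2
    have g₁ := hasGerm_pullSec (F := G) (pullback.fst p' η) (c := pullback.fst p' η ≫ p') rfl
      (⟨ζ₁, k₁⟩ : FibrePts _ η) ξ₁ (pullback.lift_fst _ _ _) (show HasGerm σ' ξ₁ e₁ from h₁)
    have g₂ := hasGerm_of_connected η (pullback.snd p' η) pullback.condition.symm _ ζ₁ ζ₂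
      (pullback.lift_snd _ _ _) (pullback.lift_snd _ _ _)
      (by rw [PreconnectedSpace.connectedComponent_eq_univ, PreconnectedSpace.connectedComponent_eq_univ])
      k₁ k₂ g₁
    exact (HasGerm.of_pullSec (F := G) rfl (pullback.lift_fst _ _ _) g₂).unique
      (show HasGerm σ' ξ₂ e₂ from h₂)
  obtain ⟨s, hs⟩ := exists_descend (f := p') (F := G) (fun W => by
    let sqW : IsPullback ((EtCoh.bc p').obj W).hom (EtShriek.prV p' W) p' W.hom :=
      (IsPullback.of_hasPullback W.hom p').flip
    have : Flat (EtShriek.prV p' W) := MorphismProperty.of_isPullback (P := @Flat) sqW hflat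
    have : QuasiCompact (EtShriek.prV p' W) := MorphismProperty.of_isPullback (P := @QuasiCompact) sqW hqc
    have : Surjective (EtShriek.prV p' W) := MorphismProperty.of_isPullback (P := @Surjective) sqW hsurj
    exact ⟨Surjective.surj (f := EtShriek.prV p' W), Flat.isQuotientMap_of_surjective _⟩) hσ
  obtain ⟨t, ht⟩ := exists_pullAt_id V s
  refine ⟨t, sub_eq_zero.1 (eq_zero_of_germs ((EtCoh.pull p).obj F) P _ fun w v hvw => ?_)⟩
  refine (map_sub _ _ _).trans (sub_eq_zero.2 ?_)
  let ν := algPoint X (P.hom w)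
  let ζ : Spec (CommRingCat.of _) ⟶ P.left := v.left
  have hζ : ζ ≫ P.hom = ν := Over.w v
  let η := ν ≫ p
  let ηV := ζ ≫ p'
  have hηV : ηV ≫ V.hom = η := by
    simp only [ηV, η, Category.assoc, hcomm, reassoc_of% hζ]
  obtain ⟨e, he⟩ := exists_hasGerm (f := P.hom ≫ p) τ
    (⟨ζ, by rw [← Category.assoc, hζ]⟩ : FibrePts (P.hom ≫ p) η)
  have hv : Over.homMk ζ hζ = v := Over.OverMorphism.ext rfl
  have g₁ := (hasGerm_toSec_iff σ ζ hζ rfl _ e).1 he
  refine Eq.trans ?_ (g₁.symm.trans (congrArg (fun k => gm _ ν P k σ) hv))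
  -- the germ of the descended section
  let ξ : FibrePts p' ηV := ⟨ζ, rfl⟩
  have g₂ : HasGerm σ' ξ (toPull V.hom η ⟨ηV, hηV⟩ F e) :=
    (hasGerm_splitSec_iff (h := hcomm) ξ (ζ := ⟨ζ, by rw [← Category.assoc, hζ]⟩) rfl hηV).2 he
  let ι : EtCoh.top P.left ⟶ (EtCoh.bc p').obj (EtCoh.top V.left) := downHom p'
  have hse : uAt p' G (EtCoh.top V.left) s =
      ((EtCoh.pull p').obj G).obj.map ((EtCore.topIsTerminal P.left).from _).op σ' := hs
  let ev : (Scheme.pointSmallEtale ηV).fiber.obj (EtCoh.top V.left) := topPt ηV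
  have g₃ : toPull p' ηV ξ G (gm G ηV _ ev s) = gm ((EtCoh.pull p').obj G) ζ _ (topPt ζ) σ' := by
    refine (gm_unit p' ξ G (EtCoh.top V.left) ev s).symm.trans ?_
    refine (congrArg (gm _ ζ _ _) hse).trans ?_
    rw [gm_map]
    exact congrArg (fun k => gm _ ζ _ k σ') (fibre_eq (EtCoh.top P.left) _ _)
  have g₄ : gm G ηV _ ev s = toPull V.hom η ⟨ηV, hηV⟩ F e :=
    (bijective_toPull p' ξ G).1 (g₃.trans g₂.symm)
  have g₅ : gm F η V (fibOf (⟨ηV, hηV⟩ : FibrePts V.hom η) V (𝟙 _) (Category.id_comp _)) t = e := by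
    refine (hasGerm_pullAt V (𝟙 _) (Category.id_comp _) t (⟨ηV, hηV⟩ : FibrePts V.hom η)).unique ?_
    rw [ht]
    exact g₄.symm
  refine Eq.trans ?_ (congrArg (toPull p η ⟨ν, rfl⟩ F) g₅)
  refine Eq.trans ?_ (gm_unit p (⟨ν, rfl⟩ : FibrePts p η) F V _ t)
  refine congrArg (fun k => gm _ ν P k (uAt p F V t)) ?_
  refine (bcLiftEquiv p η (⟨ν, rfl⟩ : FibrePts p η) V).symm.injective (Over.OverMorphism.ext ?_)
  change ζ ≫ p' = (pullback.lift (ηV ≫ 𝟙 _) ν _) ≫ EtShriek.prV p V
  rw [pullback.lift_fst, Category.comp_id]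

theorem isIso_unit_of_connFibres [Flat p] [QuasiCompact p] [Surjective p] (hc : ConnFibres p) :
    IsIso ((EtCoh.pullPushAdj p).unit.app F) := by
  let a := (EtCoh.pullPushAdj p).unit.app F
  have : ∀ U, IsIso (a.hom.app U) := fun U =>
    (ConcreteCategory.isIso_iff_bijective _).mpr ⟨injective_unit_of_surjective F Surjective.surj U.unop,
      surjective_unit_of_connFibres F hc U.unop⟩
  have : IsIso a.hom := NatIso.isIso_of_isIso_app _
  have : IsIso ((sheafToPresheaf _ _).map a) := inferInstanceAs (IsIso a.hom)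
  exact isIso_of_reflects_iso a (sheafToPresheaf _ _)

/-- The unit for sheaves of sets. -/
theorem isIso_unitSh_of_connFibres [Flat p] [QuasiCompact p] [Surjective p] (hc : ConnFibres p)
    (G : EtDesc.Sh Y) : IsIso ((EtDesc.adjSh p).unit.app G) := by
  have := ((EtDesc.adjSh p).rightAdjoint_preservesLimits :
    PreservesLimitsOfSize.{0, 0} (EtDesc.pushSh p))
  refine isIso_app_of_setsOf (EtDesc.adjSh p).unit (fun A => ?_) G
  have := isIso_unit_of_connFibres A hc
  have := isIso_pullSetsHom p A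
  have key : (EtDesc.adjSh p).unit.app ((setsOf Y).obj A) ≫ (EtDesc.pushSh p).map (pullSetsHom p A) =
      (setsOf Y).map ((EtCoh.pullPushAdj p).unit.app A) :=
    Sheaf.hom_ext (NatTrans.ext (funext fun U => unit_pullSetsHom p A U.unop))
  have : IsIso ((EtDesc.adjSh p).unit.app ((setsOf Y).obj A) ≫
      (EtDesc.pushSh p).map (pullSetsHom p A)) := by
    rw [key]; infer_instance
  exact IsIso.of_isIso_comp_right _ ((EtDesc.pushSh p).map (pullSetsHom p A))

/-- A flat quasi-compact surjection with connected geometric fibres is 0-acyclic. -/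
theorem isZeroAcyclic_of_connFibres [Flat p] [QuasiCompact p] [Surjective p] (hc : ConnFibres p) :
    EtAcyc.IsZeroAcyclic p := by
  intro V G
  have sq : IsPullback (pullback.snd V.hom p) (EtAcyc.prj p V) p V.hom :=
    (IsPullback.of_hasPullback V.hom p).flip
  have : Flat (EtAcyc.prj p V) := MorphismProperty.of_isPullback (P := @Flat) sq inferInstance
  have : QuasiCompact (EtAcyc.prj p V) := MorphismProperty.of_isPullback (P := @QuasiCompact) sq inferInstance
  have : Surjective (EtAcyc.prj p V) := MorphismProperty.of_isPullback (P := @Surjective) sq inferInstance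
  refine isIso_unitSh_of_connFibres (p := EtAcyc.prj p V) (fun Ω _ _ η => ?_) G
  have hZ := (IsPullback.of_hasPullback (EtAcyc.prj p V) η).paste_horiz sq
  have := hc Ω (η ≫ V.hom)
  exact (Scheme.homeoOfIso hZ.isoPullback).symm.surjective.denseRange.preconnectedSpace
    (Scheme.homeoOfIso hZ.isoPullback).symm.continuous

end Groth.Agent.Et18.H0Lift
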