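import Groth.Agent.Et18.H0Lift.BaseChangeRed
import Groth.Agent.Et18.H0Lift.ConnUnit
import Groth.Agent.Et18.StageTensor
import Groth.Agent.Et18.SHull
import Groth.Agent.Et18.StrictlyHenselBase
import Groth.Agent.CAlgH3.Components
import Groth.Prelude.Def_Hens2
import Mathlib.RingTheory.Flat.FaithfullyFlat.Algebra

/-!
# Geometric fibres of maps of strict localizations
-/

set_option autoImplicit false
set_option backward.isDefEq.respectTransparency.types false
set_option backward.isDefEq.respectTransparency false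

universe u

open CategoryTheory CategoryTheory.Limits AlgebraicGeometry IsLocalRing
open scoped TensorProduct

namespace Groth.Agent.Et18.H0Lift

open HenselLib

theorem etale_spec {B C : Type u} [CommRing B] [CommRing C] [Algebra B C] [Algebra.Etale B C] :
    Etale (Spec.map (CommRingCat.ofHom (algebraMap B C))) :=
  (HasRingHomProperty.Spec_iff (P := @Etale)).mpr (RingHom.etale_algebraMap.mpr inferInstance)

/-- Lifts to étale schemes agreeing at the closed geometric point of a local scheme are equal. -/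
theorem hom_ext_of_closedPoint {R : Type u} [CommRing R] [IsLocalRing R] {U' U : Scheme.{u}} (a : U' ⟶ U)
    [Etale a] (σ₁ σ₂ : Spec (CommRingCat.of R) ⟶ U') (h : σ₁ ≫ a = σ₂ ≫ a) {K : Type u} [Field K]
    (k : Spec (CommRingCat.of K) ⟶ Spec (CommRingCat.of R)) (hk : k default = (closedPoint R : PrimeSpectrum R))
    (he : k ≫ σ₁ = k ≫ σ₂) : σ₁ = σ₂ := by
  let c := pullback.lift σ₁ σ₂ h
  let Δ := pullback.diagonal a
  have hc : c (closedPoint R) ∈ Set.range Δ := ⟨(k ≫ σ₁) default, by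
    have h1 : (k ≫ σ₁) ≫ Δ = k ≫ c := by
      refine pullback.hom_ext ?_ ?_
      · simp [Δ, c]
      · simp [Δ, c, he]
    rw [← Scheme.Hom.comp_apply, h1, Scheme.Hom.comp_apply, hk]⟩
  have huniv : Set.range c ⊆ Set.range Δ := by
    rintro _ ⟨p, rfl⟩
    exact ((specializes_closedPoint (R := R) p).map c.continuous).mem_open Δ.isOpenEmbedding.isOpen_range hc
  have e := IsOpenImmersion.lift_fac Δ c huniv
  have e₁ := congrArg (· ≫ pullback.fst a a) e
  have e₂ := congrArg (· ≫ pullback.snd a a) e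
  rw [Category.assoc, pullback.diagonal_fst, Category.comp_id, pullback.lift_fst] at e₁
  rw [Category.assoc, pullback.diagonal_snd, Category.comp_id, pullback.lift_snd] at e₂
  exact e₁.symm.trans e₂

theorem preconnectedSpace_of_idempotents_Spec {B : Type u} [CommRing B]
    (h : ∀ e : B, IsIdempotentElem e → e = 0 ∨ e = 1) : PreconnectedSpace (Spec (CommRingCat.of B)) :=
  CAlgH3.preconnectedSpace_of_idempotents h

/-- Points of a geometric fibre of a map of strictly local schemes lie in one component of the geometric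
fibre of a smaller-stage neighbourhood. -/
theorem mem_clopen_iff_of_joined {RY RX : Type u} [CommRing RY] [HenselianLocalRing RY]
    [IsSepClosed (ResidueField RY)] [CommRing RX] [HenselianLocalRing RX] [IsSepClosed (ResidueField RX)]
    [Algebra RY RX] [IsLocalHom (algebraMap RY RX)] {W U : Scheme.{u}} (fW : W ⟶ U) [Flat fW]
    [LocallyOfFinitePresentation fW] [QuasiCompact fW] [QuasiSeparated fW] (hredW : GeomRedFibres fW)
    (aX : Spec (CommRingCat.of RX) ⟶ W) (aY : Spec (CommRingCat.of RY) ⟶ U)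
    (hcomm : Spec.map (CommRingCat.ofHom (algebraMap RY RX)) ≫ aY = aX ≫ fW)
    {Ω : Type u} [Field Ω] [IsAlgClosed Ω] (t₀ : Spec (CommRingCat.of Ω) ⟶ Spec (CommRingCat.of RY))
    (u : pullback (Spec.map (CommRingCat.ofHom (algebraMap RY RX))) t₀ ⟶ pullback fW (t₀ ≫ aY))
    (hu₁ : u ≫ pullback.fst _ _ = pullback.fst _ _ ≫ aX) (hu₂ : u ≫ pullback.snd _ _ = pullback.snd _ _)
    (D' : Set ↑(pullback fW (t₀ ≫ aY))) (hD' : IsClopen D')
    (p₁ p₂ : ↑(pullback (Spec.map (CommRingCat.ofHom (algebraMap RY RX))) t₀)) (h : u p₁ ∈ D') : u p₂ ∈ D' := by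
  let q := Spec.map (CommRingCat.ofHom (algebraMap RY RX))
  -- the neighbourhood
  let cRX : ↥(Spec (CommRingCat.of RX)) := (closedPoint RX : PrimeSpectrum RX)
  obtain ⟨U', a, _, O, hxO, hjoin⟩ := exists_connected_nhd fW hredW (aX cRX)
  obtain ⟨o, hoO, ho⟩ := hxO
  let K := AlgebraicClosure (ResidueField RX)
  let kX := closedGeomPt RX
  have hkX : kX default = cRX := by
    change Spec.map _ _ = cRX
    exact (Spec.map_apply _ _).symm ▸ (PrimeSpectrum.ext (by
      ext r
      simp [cRX, IsLocalRing.closedPoint, RingHom.mem_ker, IsLocalRing.residue_eq_zero_iff]))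
  let VX : (Spec (CommRingCat.of RX)).Etale :=
    Scheme.Etale.mk (pullback.snd (O.ι ≫ pullback.fst fW a) aX)
  obtain ⟨cX, -, hcX⟩ := Scheme.Pullback.exists_preimage_pullback (f := O.ι ≫ pullback.fst fW a) (g := aX)
    ⟨o, hoO⟩ cRX ho
  obtain ⟨vX, -⟩ := exists_fiber_point kX VX cX (hcX.trans hkX.symm)
  obtain ⟨σX, hσX⟩ := exists_section_of_fiber RX VX vX
  let sO : Spec (CommRingCat.of RX) ⟶ O.toScheme := σX.left ≫ pullback.fst _ _
  have hsO : sO ≫ O.ι ≫ pullback.fst fW a = aX := by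
    simp only [sO, Category.assoc]
    rw [pullback.condition]
    exact ((Category.assoc _ _ _).symm.trans (congrArg (· ≫ aX) (Over.w σX.hom))).trans (Category.id_comp _)
  let vl := kX ≫ sO ≫ O.ι ≫ pullback.snd fW a
  let ρ : ResidueField RY →+* K :=
    (algebraMap (ResidueField RX) K).comp (ResidueField.map (algebraMap RY RX))
  let kY : Spec (CommRingCat.of K) ⟶ Spec (CommRingCat.of RY) :=
    Spec.map (CommRingCat.ofHom (ρ.comp (residue RY)))
  have hkY : kX ≫ q = kY := by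
    simp only [kX, q, kY, closedGeomPt, ← Spec.map_comp]
    rfl
  have hvl : vl ≫ a = kY ≫ aY := by
    rw [← hkY]
    simp only [vl, Category.assoc]
    rw [← pullback.condition, reassoc_of% hsO]
    exact congrArg (kX ≫ ·) hcomm.symm
  let VY : (Spec (CommRingCat.of RY)).Etale := Scheme.Etale.mk (pullback.snd a aY)
  let vY : (Scheme.pointSmallEtale kY).fiber.obj VY :=
    Over.homMk (pullback.lift vl kY hvl) (pullback.lift_snd _ _ _)
  obtain ⟨σY, hσY⟩ := exists_section_of_residue RY ρ VY vY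
  let sY : Spec (CommRingCat.of RY) ⟶ U' := σY.left ≫ pullback.fst _ _
  have hsY : sY ≫ a = aY := by
    simp only [sY, Category.assoc]
    rw [pullback.condition]
    exact ((Category.assoc _ _ _).symm.trans (congrArg (· ≫ aY) (Over.w σY.hom))).trans (Category.id_comp _)
  have hkey : sO ≫ O.ι ≫ pullback.snd fW a = q ≫ sY := by
    refine hom_ext_of_closedPoint a _ _ ?_ kX hkX ?_
    · simp only [Category.assoc, hsY]
      rw [← pullback.condition, reassoc_of% hsO]
      exact hcomm.symm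
    · rw [reassoc_of% hkY]
      exact ((congrArg (· ≫ pullback.fst a aY) hσY).trans (pullback.lift_fst _ _ _)).symm.trans
        (Category.assoc _ _ _)
  -- the fibre
  let t' := t₀ ≫ sY
  let T := pullback q t₀
  let W' := pullback (pullback.snd fW a) t'
  let m : T ⟶ W' := pullback.lift (pullback.fst q t₀ ≫ sO ≫ O.ι) (pullback.snd q t₀) (by
    simp only [t', Category.assoc, hkey]
    rw [← Category.assoc, pullback.condition, Category.assoc])
  have hconn : ∀ p₁ p₂ : T, connectedComponent (m p₁) = connectedComponent (m p₂) := by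
    intro p₁ p₂
    obtain ⟨c, hc₁, hc₂⟩ := Scheme.Pullback.exists_preimage_pullback (f := pullback.snd q t₀)
      (g := pullback.snd q t₀) p₁ p₂ (Subsingleton.elim (α := Spec (CommRingCat.of Ω)) _ _)
    let L := AlgebraicClosure ((pullback (pullback.snd q t₀) (pullback.snd q t₀)).residueField c)
    let ω : Spec (CommRingCat.of L) ⟶ _ := algPoint _ c
    let j := ω ≫ pullback.fst _ _ ≫ pullback.snd q t₀
    have hj : ω ≫ pullback.snd _ _ ≫ pullback.snd q t₀ = j := congrArg (ω ≫ ·) pullback.condition.symm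
    let z₁ := ω ≫ pullback.fst _ _ ≫ pullback.fst q t₀ ≫ sO ≫ O.ι
    let z₂ := ω ≫ pullback.snd _ _ ≫ pullback.fst q t₀ ≫ sO ≫ O.ι
    have h₁ : z₁ ≫ pullback.snd fW a = j ≫ t' := by
      simp only [z₁, j, t', Category.assoc, hkey]
      rw [pullback.condition_assoc]
    have h₂ : z₂ ≫ pullback.snd fW a = j ≫ t' := by
      rw [← hj]
      simp only [z₂, t', Category.assoc, hkey]
      rw [pullback.condition_assoc]
    have hO : ∀ x : Spec (CommRingCat.of RX), (sO ≫ O.ι) x ∈ O := fun x => by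
      rw [Scheme.Hom.comp_apply]; exact (sO x).2
    have hj' := hjoin L (j ≫ t') z₁ z₂ h₁ h₂
      (by simp only [z₁, Scheme.Hom.comp_apply]; exact (sO _).2)
      (by simp only [z₂, Scheme.Hom.comp_apply]; exact (sO _).2)
    let l : pullback (pullback.snd fW a) (j ≫ t') ⟶ W' :=
      pullback.lift (pullback.fst _ _) (pullback.snd _ _ ≫ j) (pullback.condition.trans (Category.assoc _ _ _).symm)
    have e₁ : (pullback.lift z₁ (𝟙 _) (by rw [h₁, Category.id_comp]) :
        Spec (CommRingCat.of L) ⟶ pullback (pullback.snd fW a) (j ≫ t')) ≫ l = (ω ≫ pullback.fst _ _) ≫ m := by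
      refine pullback.hom_ext ?_ ?_
      · simp [l, m, z₁]
      · simp [l, m, j]
        exact Category.id_comp _
    have e₂ : (pullback.lift z₂ (𝟙 _) (by rw [h₂, Category.id_comp]) :
        Spec (CommRingCat.of L) ⟶ pullback (pullback.snd fW a) (j ≫ t')) ≫ l = (ω ≫ pullback.snd _ _) ≫ m := by
      refine pullback.hom_ext ?_ ?_
      · simp [l, m, z₂]
      · simp [l, m]
        exact (Category.id_comp _).trans hj.symm
    have h3 := l.continuous.mapsTo_connectedComponent _ (hj' ▸ mem_connectedComponent)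
    rw [← Scheme.Hom.comp_apply, ← Scheme.Hom.comp_apply, e₁, e₂] at h3
    have hω : ω default = c := algPoint_default _ c
    simp only [Scheme.Hom.comp_apply, hω, hc₁, hc₂] at h3
    exact connectedComponent_eq h3 |>.symm
  let v : W' ⟶ pullback fW (t₀ ≫ aY) :=
    pullback.lift (pullback.fst _ _ ≫ pullback.fst fW a) (pullback.snd _ _) (by
      rw [Category.assoc, pullback.condition, pullback.condition_assoc]
      simp only [t', Category.assoc, hsY])
  have hmv : m ≫ v = u := by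
    refine pullback.hom_ext ?_ ?_
    · simp only [v, Category.assoc, pullback.lift_fst, pullback.lift_fst_assoc, m, hsO, hu₁]
      rfl
    · simp only [v, Category.assoc, pullback.lift_snd, m, hu₂]
      rfl
  rw [← hmv, Scheme.Hom.comp_apply] at h ⊢
  exact (hD'.preimage v.continuous).connectedComponent_subset h
    (by rw [← hconn p₂ p₁]; exact mem_connectedComponent)

/-- The idempotent criterion at a stage. -/
theorem idempotent_of_stage {RY RX B C : Type u} [CommRing RY] [HenselianLocalRing RY]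
    [IsSepClosed (ResidueField RY)] [CommRing RX] [HenselianLocalRing RX] [IsSepClosed (ResidueField RX)]
    [Algebra RY RX] [IsLocalHom (algebraMap RY RX)] [CommRing B] [CommRing C] [Algebra B C]
    {Ω : Type u} [Field Ω] [IsAlgClosed Ω] [Algebra RY Ω] [Algebra B Ω]
    [Flat (Spec.map (CommRingCat.ofHom (algebraMap B C)))]
    [LocallyOfFinitePresentation (Spec.map (CommRingCat.ofHom (algebraMap B C)))]
    (hred : GeomRedFibres (Spec.map (CommRingCat.ofHom (algebraMap B C))))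
    (cY : B →+* RY) (cX : C →+* RX) (hY : ∀ b, algebraMap B Ω b = algebraMap RY Ω (cY b))
    (hX : ∀ b, cX (algebraMap B C b) = algebraMap RY RX (cY b))
    (Φ : C ⊗[B] Ω →+* RX ⊗[RY] Ω) (hΦ₁ : ∀ c, Φ (c ⊗ₜ[B] 1) = cX c ⊗ₜ[RY] 1)
    (hΦ₂ : ∀ ω, Φ (1 ⊗ₜ[B] ω) = 1 ⊗ₜ[RY] ω)
    (e' : C ⊗[B] Ω) (he' : IsIdempotentElem e') : Φ e' = 0 ∨ Φ e' = 1 := by
  let q := Spec.map (CommRingCat.ofHom (algebraMap RY RX))
  let fW := Spec.map (CommRingCat.ofHom (algebraMap B C))
  let aX := Spec.map (CommRingCat.ofHom cX)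
  let aY := Spec.map (CommRingCat.ofHom cY)
  let t₀ : Spec (CommRingCat.of Ω) ⟶ Spec (CommRingCat.of RY) :=
    Spec.map (CommRingCat.ofHom (algebraMap RY Ω))
  have hcomm : q ≫ aY = aX ≫ fW := by
    simp only [q, aY, aX, fW, ← Spec.map_comp]
    exact congrArg Spec.map (CommRingCat.hom_ext (RingHom.ext fun b => (hX b).symm))
  have hs : t₀ ≫ aY = Spec.map (CommRingCat.ofHom (algebraMap B Ω)) := by
    simp only [t₀, aY, ← Spec.map_comp]
    exact congrArg Spec.map (CommRingCat.hom_ext (RingHom.ext fun b => (hY b).symm))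
  let u : pullback q t₀ ⟶ pullback fW (t₀ ≫ aY) :=
    pullback.lift (pullback.fst q t₀ ≫ aX) (pullback.snd q t₀) (by
      rw [Category.assoc, ← hcomm, ← Category.assoc, pullback.condition, Category.assoc])
  let n : pullback fW (t₀ ≫ aY) ⟶ Spec (CommRingCat.of (C ⊗[B] Ω)) :=
    (pullback.lift (f := Spec.map (CommRingCat.ofHom (algebraMap B C)))
      (g := Spec.map (CommRingCat.ofHom (algebraMap B Ω))) (pullback.fst fW (t₀ ≫ aY))
      (pullback.snd fW (t₀ ≫ aY)) (by rw [← hs]; exact pullback.condition)) ≫ (pullbackSpecIso B C Ω).hom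
  have hmn : (pullbackSpecIso RY RX Ω).inv ≫ u ≫ n = Spec.map (CommRingCat.ofHom Φ) := by
    rw [← cancel_mono (pullbackSpecIso B C Ω).inv]
    simp only [n, Category.assoc, Iso.hom_inv_id, Category.comp_id]
    refine pullback.hom_ext ?_ ?_
    · simp only [Category.assoc, pullback.lift_fst, pullback.lift_fst_assoc, u,
        Category.comp_id]
      rw [pullbackSpecIso_inv_fst]
      refine ((Category.assoc _ _ _).symm.trans (congrArg (· ≫ aX) (pullbackSpecIso_inv_fst RY RX Ω))).trans ?_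
      simp only [aX, ← Spec.map_comp]
      exact congrArg Spec.map (CommRingCat.hom_ext (RingHom.ext fun c => (hΦ₁ c).symm))
    · simp only [Category.assoc, pullback.lift_snd, pullback.lift_snd_assoc, u,
        Category.comp_id]
      rw [pullbackSpecIso_inv_snd]
      rw [show (pullbackSpecIso B C Ω).inv ≫ pullback.snd _ _ = _ from pullbackSpecIso_inv_snd B C Ω,
        ← Spec.map_comp]
      exact congrArg Spec.map (CommRingCat.hom_ext (RingHom.ext fun w => (hΦ₂ w).symm))
  let D : Set ↑(pullback fW (t₀ ≫ aY)) :=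
    n ⁻¹' (PrimeSpectrum.basicOpen e' : Set (PrimeSpectrum (C ⊗[B] Ω)))
  have hD : IsClopen D := (PrimeSpectrum.isClopen_iff.2 ⟨e', he', rfl⟩).preimage n.continuous
  have hmem : ∀ p : PrimeSpectrum (RX ⊗[RY] Ω),
      Φ e' ∉ p.asIdeal ↔ u ((pullbackSpecIso RY RX Ω).inv p) ∈ D := by
    intro p
    show _ ↔ n (u ((pullbackSpecIso RY RX Ω).inv p)) ∈ PrimeSpectrum.basicOpen e'
    rw [← Scheme.Hom.comp_apply, ← Scheme.Hom.comp_apply, hmn]
    exact Iff.rfl
  have hε : IsIdempotentElem (Φ e') := he'.map Φ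
  by_cases hex : ∃ p : PrimeSpectrum (RX ⊗[RY] Ω), Φ e' ∉ p.asIdeal
  · obtain ⟨p₀, hp₀⟩ := hex
    refine Or.inr ?_
    have hu : IsUnit (Φ e') := by
      by_contra hnu
      obtain ⟨I, hI, hεI⟩ := exists_max_ideal_of_mem_nonunits hnu
      exact ((hmem ⟨I, hI.isPrime⟩).2 (mem_clopen_iff_of_joined fW hred aX aY hcomm t₀ u
        (pullback.lift_fst _ _ _) (pullback.lift_snd _ _ _) D hD _ _ ((hmem p₀).1 hp₀))) hεI
    exact (IsIdempotentElem.iff_eq_one_of_isUnit hu).1 hε
  · push Not at hex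
    refine Or.inl (hε.eq_zero_of_isNilpotent ?_)
    rw [← mem_nilradical, nilradical_eq_sInf, Submodule.mem_sInf]
    exact fun I hI => hex ⟨I, hI⟩

/-- Maps of étale stages over a map with geometrically reduced fibres. -/
theorem stage_props {R₀ A B C : Type u} [CommRing R₀] [CommRing A] [CommRing B] [CommRing C] [Algebra R₀ A]
    [Algebra R₀ B] [Algebra.Etale R₀ B] [Algebra A C] [Algebra.Etale A C] [Algebra R₀ C] [IsScalarTower R₀ A C]
    (ψ : B →ₐ[R₀] C) (hflat : Flat (Spec.map (CommRingCat.ofHom (algebraMap R₀ A))))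
    (hfp : LocallyOfFinitePresentation (Spec.map (CommRingCat.ofHom (algebraMap R₀ A))))
    (hred : GeomRedFibres (Spec.map (CommRingCat.ofHom (algebraMap R₀ A)))) :
    Flat (Spec.map (CommRingCat.ofHom ψ.toRingHom)) ∧
      LocallyOfFinitePresentation (Spec.map (CommRingCat.ofHom ψ.toRingHom)) ∧
      GeomRedFibres (Spec.map (CommRingCat.ofHom ψ.toRingHom)) := by
  let gA := Spec.map (CommRingCat.ofHom (algebraMap R₀ A))
  let fW : Spec (CommRingCat.of C) ⟶ Spec (CommRingCat.of B) := Spec.map (CommRingCat.ofHom ψ.toRingHom)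
  let πX := Spec.map (CommRingCat.ofHom (algebraMap A C))
  let πU := Spec.map (CommRingCat.ofHom (algebraMap R₀ B))
  have : Etale πX := etale_spec
  have : Etale πU := etale_spec
  have hw : fW ≫ πU = πX ≫ gA := by
    simp only [fW, πU, πX, gA, ← Spec.map_comp]
    refine congrArg Spec.map (CommRingCat.hom_ext (RingHom.ext fun r => ?_))
    exact (ψ.commutes r).trans (IsScalarTower.algebraMap_apply R₀ A C r)
  let γ : Spec (CommRingCat.of C) ⟶ pullback (πX ≫ gA) πU :=
    pullback.lift (𝟙 _) fW ((Category.id_comp _).trans hw.symm)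
  have : Etale γ := MorphismProperty.of_postcomp (W := @Etale) (W' := @Etale) γ
    (pullback.fst (πX ≫ gA) πU) inferInstance (by rw [pullback.lift_fst]; infer_instance)
  have hγ : fW = γ ≫ pullback.snd _ _ := (pullback.lift_snd _ _ _).symm
  change Flat fW ∧ LocallyOfFinitePresentation fW ∧ GeomRedFibres fW
  rw [hγ]
  exact ⟨inferInstance, inferInstance,
    ((hred.comp_etale πX).isPullback (IsPullback.of_hasPullback (πX ≫ gA) πU)).comp_etale γ⟩

/-- The comparison of a stage with a fibre. -/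
theorem exists_stage_comparison {R₀ B C RY RX Ω : Type u} [CommRing R₀] [CommRing B] [CommRing C]
    [CommRing RY] [CommRing RX] [CommRing Ω] [Algebra R₀ B] [Algebra R₀ C] [Algebra B C]
    [IsScalarTower R₀ B C] [Algebra R₀ Ω] [Algebra B Ω] [IsScalarTower R₀ B Ω] [Algebra RY RX]
    [Algebra RY Ω] (cX : C →+* RX) (cY : B →+* RY) (hX : ∀ b, cX (algebraMap B C b) = algebraMap RY RX (cY b))
    (hY : ∀ b, algebraMap B Ω b = algebraMap RY Ω (cY b))
    (θ : C ⊗[R₀] Ω →+* RX ⊗[RY] Ω) (hθ : ∀ c ω, θ (c ⊗ₜ[R₀] ω) = cX c ⊗ₜ[RY] ω)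
    (z : C ⊗[R₀] Ω) (hz : z * z - z ∈ Ideal.span (Set.range fun b : B =>
      algebraMap B C b ⊗ₜ[R₀] (1 : Ω) - 1 ⊗ₜ[R₀] algebraMap B Ω b)) :
    ∃ (Φ : C ⊗[B] Ω →+* RX ⊗[RY] Ω) (e' : C ⊗[B] Ω), IsIdempotentElem e' ∧
      (∀ c, Φ (c ⊗ₜ[B] 1) = cX c ⊗ₜ[RY] 1) ∧ (∀ ω, Φ (1 ⊗ₜ[B] ω) = 1 ⊗ₜ[RY] ω) ∧ Φ e' = θ z := by
  obtain ⟨πQ, hπQ⟩ := StageTensor.exists_lift_ringHom (B := R₀) (C := C) (D := Ω)
    (Algebra.TensorProduct.includeLeftRingHom : C →+* C ⊗[B] Ω)
    (Algebra.TensorProduct.includeRight.toRingHom : Ω →+* C ⊗[B] Ω)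
    (fun r => by
      show algebraMap R₀ C r ⊗ₜ[B] (1 : Ω) = (1 : C) ⊗ₜ[B] algebraMap R₀ Ω r
      rw [IsScalarTower.algebraMap_apply R₀ B C, IsScalarTower.algebraMap_apply R₀ B Ω,
        Algebra.algebraMap_eq_smul_one (A := C), TensorProduct.smul_tmul, ← Algebra.algebraMap_eq_smul_one])
  obtain ⟨Φ, hΦ⟩ := StageTensor.exists_lift_ringHom (B := B) (C := C) (D := Ω)
    ((Algebra.TensorProduct.includeLeftRingHom : RX →+* RX ⊗[RY] Ω).comp cX)
    (Algebra.TensorProduct.includeRight.toRingHom : Ω →+* RX ⊗[RY] Ω)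
    (fun x => by
      show cX (algebraMap B C x) ⊗ₜ[RY] (1 : Ω) = (1 : RX) ⊗ₜ[RY] algebraMap B Ω x
      rw [hX, hY, Algebra.algebraMap_eq_smul_one (A := RX), TensorProduct.smul_tmul,
        ← Algebra.algebraMap_eq_smul_one])
  have hΦ₁ : ∀ c, Φ (c ⊗ₜ[B] 1) = cX c ⊗ₜ[RY] 1 := fun c => by
    refine (hΦ c 1).trans ?_
    show (cX c ⊗ₜ[RY] (1 : Ω)) * ((1 : RX) ⊗ₜ[RY] (1 : Ω)) = _
    rw [Algebra.TensorProduct.tmul_mul_tmul, mul_one, mul_one]
  have hΦ₂ : ∀ ω, Φ (1 ⊗ₜ[B] ω) = 1 ⊗ₜ[RY] ω := fun ω => by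
    refine (hΦ 1 ω).trans ?_
    simp
  refine ⟨Φ, πQ z, ?_, hΦ₁, hΦ₂, ?_⟩
  · refine sub_eq_zero.1 ?_
    rw [← map_mul, ← map_sub]
    refine RingHom.mem_ker.1 ((Ideal.span_le (I := RingHom.ker πQ)).2 ?_ hz)
    rintro _ ⟨x, rfl⟩
    show πQ _ = 0
    rw [map_sub, hπQ, hπQ, map_one, map_one, mul_one, one_mul, sub_eq_zero]
    show algebraMap B C x ⊗ₜ[B] (1 : Ω) = (1 : C) ⊗ₜ[B] algebraMap B Ω x
    rw [Algebra.algebraMap_eq_smul_one (A := C), TensorProduct.smul_tmul, ← Algebra.algebraMap_eq_smul_one]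
  · clear hz
    induction z using TensorProduct.induction_on with
    | zero => simp
    | tmul p ω =>
        rw [hπQ, map_mul, hθ]
        show Φ (p ⊗ₜ[B] 1) * Φ (1 ⊗ₜ[B] ω) = _
        rw [hΦ₁, hΦ₂, Algebra.TensorProduct.tmul_mul_tmul, mul_one, one_mul]
    | add a b ha hb => rw [map_add, map_add, map_add, ha, hb]

/-- The criterion for stages with an algebra map of stages. -/
theorem idempotent_of_stage_map {R₀ B C RY RX : Type u} [CommRing R₀] [CommRing B] [CommRing C]
    [CommRing RY] [HenselianLocalRing RY] [IsSepClosed (ResidueField RY)] [CommRing RX]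
    [HenselianLocalRing RX] [IsSepClosed (ResidueField RX)] [Algebra RY RX] [IsLocalHom (algebraMap RY RX)]
    [Algebra R₀ B] [Algebra R₀ C] [Algebra R₀ RY] {Ω : Type u} [Field Ω] [IsAlgClosed Ω] [Algebra R₀ Ω]
    [Algebra RY Ω] [IsScalarTower R₀ RY Ω] (ψ : B →ₐ[R₀] C)
    (h : Flat (Spec.map (CommRingCat.ofHom ψ.toRingHom)) ∧
      LocallyOfFinitePresentation (Spec.map (CommRingCat.ofHom ψ.toRingHom)) ∧
      GeomRedFibres (Spec.map (CommRingCat.ofHom ψ.toRingHom)))
    (cY : B →ₐ[R₀] RY) (cX : C →+* RX) (hX : ∀ b, cX (ψ b) = algebraMap RY RX (cY b))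
    (θ : C ⊗[R₀] Ω →+* RX ⊗[RY] Ω) (hθ : ∀ c ω, θ (c ⊗ₜ[R₀] ω) = cX c ⊗ₜ[RY] ω)
    (z : C ⊗[R₀] Ω) (hz : z * z - z ∈ Ideal.span (Set.range fun b : B =>
      ψ b ⊗ₜ[R₀] (1 : Ω) - 1 ⊗ₜ[R₀] algebraMap RY Ω (cY b))) :
    θ z = 0 ∨ θ z = 1 := by
  algebraize [ψ.toRingHom]
  let : Algebra B Ω := ((algebraMap RY Ω).comp cY.toRingHom).toAlgebra
  have : IsScalarTower R₀ B C := IsScalarTower.of_algebraMap_eq fun r => (ψ.commutes r).symm
  have : IsScalarTower R₀ B Ω := IsScalarTower.of_algebraMap_eq fun r =>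
    ((IsScalarTower.algebraMap_apply R₀ RY Ω r).trans
      (congrArg (algebraMap RY Ω) (cY.commutes r).symm))
  obtain ⟨h₁, h₂, h₃⟩ := h
  have : Flat (Spec.map (CommRingCat.ofHom (algebraMap B C))) := h₁
  have : LocallyOfFinitePresentation (Spec.map (CommRingCat.ofHom (algebraMap B C))) := h₂
  obtain ⟨Φ, e', he', hΦ₁, hΦ₂, hΦe⟩ := exists_stage_comparison (B := B) (C := C)
    cX cY.toRingHom hX (fun _ => rfl) θ hθ z hz
  rw [← hΦe]
  exact idempotent_of_stage h₃ _ _ (fun _ => rfl) hX Φ hΦ₁ hΦ₂ e' he'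

section

variable {R₀ A RY RX : Type u} [CommRing R₀] [CommRing A] [Algebra R₀ A]
  [CommRing RY] [HenselianLocalRing RY] [IsSepClosed (ResidueField RY)]
  [CommRing RX] [HenselianLocalRing RX] [IsSepClosed (ResidueField RX)]
  [Algebra R₀ RY] [Algebra A RX] [Algebra R₀ RX] [IsScalarTower R₀ A RX] [Algebra RY RX]
  [IsScalarTower R₀ RY RX] [IsLocalHom (algebraMap RY RX)]
  (eY : Hull R₀ (ResidueField RY) ≃ₐ[R₀] RY) (eX : Hull A (ResidueField RX) ≃ₐ[A] RX)
  (heX : ∀ h, residue RX (eX h) = hullPt A (ResidueField RX) h)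

include eY heX in
/-- Geometric fibres of the map of strict localizations have no nontrivial idempotents. -/
theorem idempotent_fibre (hflat : Flat (Spec.map (CommRingCat.ofHom (algebraMap R₀ A))))
    (hfp : LocallyOfFinitePresentation (Spec.map (CommRingCat.ofHom (algebraMap R₀ A))))
    (hred : GeomRedFibres (Spec.map (CommRingCat.ofHom (algebraMap R₀ A))))
    {Ω : Type u} [Field Ω] [IsAlgClosed Ω] [Algebra R₀ Ω] [Algebra RY Ω] [IsScalarTower R₀ RY Ω]
    (ε : RX ⊗[RY] Ω) (hε : IsIdempotentElem ε) : ε = 0 ∨ ε = 1 := by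
  obtain ⟨Q, P, ψ, z, hψ, hzε, hz⟩ := StageTensor.exists_stage_idempotent Ω eY eX heX ε hε
  rw [← hzε]
  exact idempotent_of_stage_map ψ (stage_props (A := A) ψ hflat hfp hred) (eY.toAlgHom.comp (ι Q))
    (eX.toAlgHom.comp (ι P)).toRingHom hψ (StageTensor.toFibre Ω eX P).toRingHom
    (fun c ω => StageTensor.toFibre_tmul Ω eX P c ω) z hz

end

end Groth.Agent.Et18.H0Lift
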