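import Groth.Agent.HenselLib.LocalInt
import Mathlib.FieldTheory.IsAlgClosed.Basic
import Mathlib.RingTheory.TensorProduct.Maps

/-!
# Radicial integral extensions of strictly henselian rings
-/

set_option autoImplicit false
set_option backward.isDefEq.respectTransparency.types false
set_option backward.isDefEq.respectTransparency false

universe u

open IsLocalRing
open scoped TensorProduct

namespace Groth.Agent.Et18.RadicialStrict

/-- Every point with values in an algebraically closed field extends uniquely. -/
def UniqueExt (R T : Type u) [CommRing R] [CommRing T] [Algebra R T] : Prop :=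
  ∀ (K : Type u) [Field K] [IsAlgClosed K] (f : R →+* K), ∃! g : T →+* K, g.comp (algebraMap R T) = f

/-- Algebras with unique extensions of points are stable under base change. -/
theorem UniqueExt.tensor {R T S : Type u} [CommRing R] [CommRing T] [CommRing S] [Algebra R T] [Algebra R S]
    (h : UniqueExt R T) (K : Type u) [Field K] [IsAlgClosed K] (f : S →+* K) :
    ∃! g : T ⊗[R] S →+* K, g.comp Algebra.TensorProduct.includeRight.toRingHom = f := by
  obtain ⟨gT, hgT, huT⟩ := h K (f.comp (algebraMap R S))
  let : Algebra R K := (f.comp (algebraMap R S)).toAlgebra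
  let a : T →ₐ[R] K := { gT with commutes' := fun r => RingHom.congr_fun hgT r }
  let b : S →ₐ[R] K := { f with commutes' := fun _ => rfl }
  refine ⟨(Algebra.TensorProduct.lift a b fun _ _ => Commute.all _ _).toRingHom, RingHom.ext fun s => ?_,
    fun g hg => RingHom.ext fun x => ?_⟩
  · show Algebra.TensorProduct.lift a b (fun _ _ => Commute.all _ _) ((1 : T) ⊗ₜ[R] s) = f s
    rw [Algebra.TensorProduct.lift_tmul, map_one, one_mul]
    rfl
  · have hgl : g.comp Algebra.TensorProduct.includeLeftRingHom = gT := huT _ (RingHom.ext fun r => by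
      show g (algebraMap R T r ⊗ₜ[R] (1 : S)) = f (algebraMap R S r)
      rw [Algebra.algebraMap_eq_smul_one (A := T), TensorProduct.smul_tmul, ← Algebra.algebraMap_eq_smul_one]
      exact RingHom.congr_fun hg _)
    induction x using TensorProduct.induction_on with
    | zero => simp
    | tmul t s =>
        show g (t ⊗ₜ[R] s) = Algebra.TensorProduct.lift a b (fun _ _ => Commute.all _ _) (t ⊗ₜ[R] s)
        rw [Algebra.TensorProduct.lift_tmul, show t ⊗ₜ[R] s = (t ⊗ₜ[R] (1 : S)) * ((1 : T) ⊗ₜ[R] s) by simp,
          map_mul]
        exact congrArg₂ (· * ·) (RingHom.congr_fun hgl t) (RingHom.congr_fun hg s)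
    | add a b ha hb => rw [map_add, map_add, ha, hb]

/-- An integral algebra with unique extensions of points over a strictly henselian ring is strictly henselian. -/
theorem exists_henselian (R T : Type u) [CommRing R] [HenselianLocalRing R] [IsSepClosed (ResidueField R)]
    [CommRing T] [Algebra R T] [Algebra.IsIntegral R T] (h : UniqueExt R T) :
    ∃ (_ : HenselianLocalRing T), IsSepClosed (ResidueField T) ∧ IsLocalHom (algebraMap R T) := by
  let K := AlgebraicClosure (ResidueField R)
  let iR : R →+* K := (algebraMap (ResidueField R) K).comp (residue R)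
  obtain ⟨g₀, hg₀, -⟩ := h K iR
  have : Nontrivial T := ⟨⟨0, 1, fun h01 => zero_ne_one (α := K) (by rw [← map_zero g₀, h01, map_one])⟩⟩
  have key : ∀ M : Ideal T, M.IsMaximal → M = RingHom.ker g₀ := by
    intro M hM
    let q := T ⧸ M
    let : Field q := Ideal.Quotient.field M
    have hcomap : M.comap (algebraMap R T) = maximalIdeal R :=
      eq_maximalIdeal (Ideal.isMaximal_comap_of_isIntegral_of_isMaximal (R := R) M)
    have : IsLocalHom (algebraMap R q) := by
      refine ⟨fun c hc => by_contra fun hcu => hc.ne_zero ?_⟩
      rw [IsScalarTower.algebraMap_apply R T q]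
      exact Ideal.Quotient.eq_zero_iff_mem.2 (hcomap.ge ((IsLocalRing.mem_maximalIdeal c).2 hcu))
    let : Algebra (ResidueField R) q := (ResidueField.lift (algebraMap R q)).toAlgebra
    have : IsScalarTower R (ResidueField R) q := IsScalarTower.of_algebraMap_eq fun _ => rfl
    have : Algebra.IsIntegral R q :=
      Algebra.IsIntegral.of_surjective (Ideal.Quotient.mkₐ R M) Ideal.Quotient.mk_surjective
    have : Algebra.IsIntegral (ResidueField R) q := Algebra.IsIntegral.tower_top R
    let j : q →ₐ[ResidueField R] K := IsAlgClosed.lift
    have he : j.toRingHom.comp (Ideal.Quotient.mk M) = g₀ := (h K iR).unique (RingHom.ext fun r => by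
      show j (Ideal.Quotient.mk M (algebraMap R T r)) = algebraMap (ResidueField R) K (residue R r)
      rw [← j.commutes]
      rfl) hg₀
    rw [← he]
    ext x
    rw [RingHom.mem_ker, RingHom.comp_apply, map_eq_zero_iff _ j.toRingHom.injective,
      Ideal.Quotient.eq_zero_iff_mem]
  obtain ⟨M, hM⟩ := Ideal.exists_maximal T
  have : IsLocalRing T := IsLocalRing.of_unique_max_ideal
    ⟨M, hM, fun N hN => (key N hN).trans (key M hM).symm⟩
  have : IsLocalHom (algebraMap R T) := HenselLib.LocalInt.isLocalHom_of_isIntegral R T
  exact ⟨HenselLib.henselianLocalRing_of_isIntegral R T, HenselLib.LocalInt.isSepClosed_residueField R T, ‹_›⟩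

end Groth.Agent.Et18.RadicialStrict
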