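import Groth.Agent.Et18.H0Lift.ConnPerfect
import Groth.Agent.Et18.H0Lift.RadicialStrict

/-!
# Geometric fibres of maps of strict localizations after radicial twists to perfect fields
-/

set_option autoImplicit false
set_option backward.isDefEq.respectTransparency.types false
set_option backward.isDefEq.respectTransparency false

universe u

open CategoryTheory CategoryTheory.Limits AlgebraicGeometry IsLocalRing
open scoped TensorProduct

namespace Groth.Agent.Et18.H0Lift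

open HenselLib RadicialStrict

theorem eq_zero_of_forall_point {B C : Type u} [CommRing B] [CommRing C] (μ : B →+* C)
    (h : ∀ (K : Type u) [Field K] [IsAlgClosed K] (χ : B →+* K), ∃ χ' : C →+* K, χ'.comp μ = χ) {x : B}
    (hx : IsIdempotentElem x) (h0 : μ x = 0) : x = 0 := by
  refine hx.eq_zero_of_isNilpotent ?_
  rw [← mem_nilradical, nilradical_eq_sInf, Submodule.mem_sInf]
  intro (I : Ideal B) hI
  have : I.IsPrime := hI
  let K := AlgebraicClosure I.ResidueField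
  let χ : B →+* K := (algebraMap I.ResidueField K).comp (algebraMap B I.ResidueField)
  obtain ⟨χ', hχ'⟩ := h K χ
  have h1 : χ x = 0 := by rw [← hχ', RingHom.comp_apply, h0, map_zero]
  exact Ideal.algebraMap_residueField_eq_zero.1 ((map_eq_zero (algebraMap I.ResidueField K)).1 h1)

/-- Base changes as rings with their universal property. -/
structure Pushout (R R'' T : Type u) [CommRing R] [CommRing R''] [Algebra R R''] [CommRing T] [Algebra R T]
    (T'' : Type u) [CommRing T''] [Algebra R'' T''] where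
  /-- the map -/
  i : T →+* T''
  comm : ∀ r, i (algebraMap R T r) = algebraMap R'' T'' (algebraMap R R'' r)
  desc : ∀ (U : Type u) [CommRing U] (f'' : R'' →+* U) (f : T →+* U),
    (∀ r, f'' (algebraMap R R'' r) = f (algebraMap R T r)) →
      ∃ g : T'' →+* U, g.comp (algebraMap R'' T'') = f'' ∧ g.comp i = f
  ext : ∀ (U : Type u) [CommRing U] (g₁ g₂ : T'' →+* U),
    g₁.comp (algebraMap R'' T'') = g₂.comp (algebraMap R'' T'') → g₁.comp i = g₂.comp i → g₁ = g₂

/-- The tensor product is a base change. -/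
noncomputable def pushoutTensor (R R'' T : Type u) [CommRing R] [CommRing R''] [Algebra R R''] [CommRing T]
    [Algebra R T] : Pushout R R'' T (R'' ⊗[R] T) where
  i := Algebra.TensorProduct.includeRight.toRingHom
  comm r := (tmul_one_eq r).symm
  desc U _ f'' f h := by
    obtain ⟨g, hg⟩ := StageTensor.exists_lift_ringHom f'' f h
    exact ⟨g, RingHom.ext fun x => (hg x 1).trans (by rw [map_one, mul_one]),
      RingHom.ext fun x => (hg 1 x).trans (by rw [map_one, one_mul])⟩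
  ext U _ g₁ g₂ hl hr := RingHom.ext fun x => by
    induction x using TensorProduct.induction_on with
    | zero => rw [map_zero, map_zero]
    | tmul a b =>
        rw [show a ⊗ₜ[R] b = (a ⊗ₜ[R] (1 : T)) * ((1 : R'') ⊗ₜ[R] b) by simp, map_mul, map_mul]
        exact congrArg₂ (· * ·) (RingHom.congr_fun hl a) (RingHom.congr_fun hr b)
    | add a b ha hb => rw [map_add, map_add, ha, hb]

/-- Radicial base changes of strictly henselian rings. -/
theorem exists_twist {R R'' T : Type u} [CommRing R] [CommRing R''] [Algebra R R''] [Algebra.IsIntegral R R'']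
    (hR : UniqueExt R R'') [CommRing T] [HenselianLocalRing T] [IsSepClosed (ResidueField T)] [Algebra R T] :
    ∃ (T'' : Type u) (_ : CommRing T'') (_ : HenselianLocalRing T'') (_ : IsSepClosed (ResidueField T''))
      (_ : Algebra R'' T'') (D : Pushout R R'' T T''), IsLocalHom D.i ∧ D.i.IsIntegral := by
  let algT : Algebra T (R'' ⊗[R] T) :=
    (Algebra.TensorProduct.includeRight.toRingHom : T →+* R'' ⊗[R] T).toAlgebra
  have : Algebra.IsIntegral T (R'' ⊗[R] T) := by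
    let e : T ⊗[R] R'' ≃ₐ[T] R'' ⊗[R] T :=
      { (Algebra.TensorProduct.comm R T R'').toRingEquiv with commutes' := fun _ => rfl }
    exact Algebra.IsIntegral.of_surjective e.toAlgHom e.surjective
  obtain ⟨_, h₁, h₂⟩ := exists_henselian T (R'' ⊗[R] T) fun K _ _ f => hR.tensor K f
  exact ⟨R'' ⊗[R] T, inferInstance, inferInstance, h₁, inferInstance, pushoutTensor R R'' T, h₂,
    Algebra.IsIntegral.isIntegral⟩

/-- Base changes of étale algebras. -/
theorem exists_etale_bc (R R'' T : Type u) [CommRing R] [CommRing R''] [Algebra R R''] [CommRing T] [Algebra R T]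
    [Algebra.Etale R T] : ∃ (T'' : Type u) (_ : CommRing T'') (_ : Algebra R'' T'') (_ : Algebra.Etale R'' T''),
      Nonempty (Pushout R R'' T T'') :=
  ⟨R'' ⊗[R] T, inferInstance, inferInstance, inferInstance, ⟨pushoutTensor R R'' T⟩⟩

/-- Geometric fibres have no idempotents if they have none after a radicial twist to a perfect field. -/
theorem idempotent_fibre_twist {k A'' R₁'' R₁ S RY RX : Type u} [Field k] [PerfectField k]
    [CommRing A''] [_root_.IsReduced A''] [Algebra k A''] [CommRing R₁''] [Algebra k R₁'']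
    [CommRing R₁] [CommRing S] [Algebra R₁ S]
    [Algebra R₁ R₁''] [Algebra.IsIntegral R₁ R₁''] (hR : UniqueExt R₁ R₁'')
    [Algebra S (R₁'' ⊗[k] A'')] [Algebra.IsIntegral S (R₁'' ⊗[k] A'')] (hS : UniqueExt S (R₁'' ⊗[k] A''))
    (hSR : ∀ r : R₁, algebraMap S (R₁'' ⊗[k] A'') (algebraMap R₁ S r) = algebraMap R₁ R₁'' r ⊗ₜ[k] (1 : A''))
    [CommRing RY] [HenselianLocalRing RY] [IsSepClosed (ResidueField RY)]
    [CommRing RX] [HenselianLocalRing RX] [IsSepClosed (ResidueField RX)]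
    [Algebra R₁ RY] [Algebra S RX] [Algebra R₁ RX] [IsScalarTower R₁ S RX]
    [Algebra RY RX] [IsScalarTower R₁ RY RX] [IsLocalHom (algebraMap RY RX)]
    (eY : Hull R₁ (ResidueField RY) ≃ₐ[R₁] RY) (eX : Hull S (ResidueField RX) ≃ₐ[S] RX)
    (heX : ∀ h, residue RX (eX h) = hullPt S (ResidueField RX) h)
    {Ω : Type u} [Field Ω] [IsAlgClosed Ω] [Algebra RY Ω]
    (ε : RX ⊗[RY] Ω) (hε : IsIdempotentElem ε) : ε = 0 ∨ ε = 1 := by
  let : Algebra R₁ Ω := ((algebraMap RY Ω).comp (algebraMap R₁ RY)).toAlgebra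
  have : IsScalarTower R₁ RY Ω := IsScalarTower.of_algebraMap_eq' rfl
  obtain ⟨Q, P, ψ, z, hψ, hzε, hz⟩ := StageTensor.exists_stage_idempotent Ω eY eX heX ε hε
  -- the twisted strictly henselian rings
  obtain ⟨TY, _, _, _, _, DY, hYloc, hYint⟩ := exists_twist hR (T := RY)
  obtain ⟨TX, _, _, _, _, DX, hXloc, hXint⟩ := exists_twist hS (T := RX)
  let iS : R₁'' →+* R₁'' ⊗[k] A'' := Algebra.TensorProduct.includeLeftRingHom
  let cR : R₁'' →+* TX := (algebraMap (R₁'' ⊗[k] A'') TX).comp iS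
  have hcR : ∀ r : R₁, cR (algebraMap R₁ R₁'' r) = DX.i (algebraMap R₁ RX r) := fun r => by
    show algebraMap _ TX (algebraMap R₁ R₁'' r ⊗ₜ[k] (1 : A'')) = _
    rw [← hSR, IsScalarTower.algebraMap_apply R₁ S RX, DX.comm]
  obtain ⟨h, hhR, hhY⟩ := DY.desc TX cR (DX.i.comp (algebraMap RY RX)) fun r =>
    (hcR r).trans (congrArg DX.i (IsScalarTower.algebraMap_apply R₁ RY RX r))
  have hhY' : ∀ y, h (DY.i y) = DX.i (algebraMap RY RX y) := fun y => RingHom.congr_fun hhY y
  let : Algebra TY TX := h.toAlgebra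
  have : IsLocalHom (algebraMap TY TX) := by
    let : Algebra RY TY := DY.i.toAlgebra
    have : Algebra.IsIntegral RY TY := ⟨hYint⟩
    let M : Ideal TY := (maximalIdeal TX).comap h
    have : M.IsPrime := inferInstanceAs ((maximalIdeal TX).comap h).IsPrime
    have hM : M = maximalIdeal TY := by
      refine eq_maximalIdeal (Ideal.isMaximal_of_isIntegral_of_isMaximal_comap (R := RY) M ?_)
      have e : M.comap (algebraMap RY TY) = maximalIdeal RY := by
        ext y
        show h (DY.i y) ∈ maximalIdeal TX ↔ _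
        rw [hhY', IsLocalRing.mem_maximalIdeal, IsLocalRing.mem_maximalIdeal]
        exact (map_mem_nonunits_iff DX.i (algebraMap RY RX y)).trans (map_mem_nonunits_iff (algebraMap RY RX) y)
      rw [e]
      infer_instance
    exact ((IsLocalRing.local_hom_TFAE _).out 4 0).mp hM
  -- the twisted point
  obtain ⟨gR, hgR, -⟩ := hR Ω (algebraMap R₁ Ω)
  let : Algebra R₁'' Ω := gR.toAlgebra
  obtain ⟨ν, hνR, hνY⟩ := DY.desc Ω gR (algebraMap RY Ω) fun r =>
    (RingHom.congr_fun hgR r).trans (IsScalarTower.algebraMap_apply R₁ RY Ω r)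
  let : Algebra TY Ω := ν.toAlgebra
  have hνY' : ∀ y, ν (DY.i y) = algebraMap RY Ω y := fun y => RingHom.congr_fun hνY y
  let : Algebra R₁'' TX := cR.toAlgebra
  have : IsScalarTower R₁'' (R₁'' ⊗[k] A'') TX :=
    IsScalarTower.of_algebraMap_eq (R := R₁'') (S := R₁'' ⊗[k] A'') (A := TX) fun _ => rfl
  have : IsScalarTower R₁'' TY TX := IsScalarTower.of_algebraMap_eq fun r => (RingHom.congr_fun hhR r).symm
  have : IsScalarTower R₁'' TY Ω := IsScalarTower.of_algebraMap_eq fun r => (RingHom.congr_fun hνR r).symm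
  obtain ⟨μ, hμ⟩ := StageTensor.exists_lift_ringHom (B := RY) (C := RX) (D := Ω)
    ((Algebra.TensorProduct.includeLeftRingHom : TX →+* TX ⊗[TY] Ω).comp DX.i)
    (Algebra.TensorProduct.includeRight.toRingHom : Ω →+* TX ⊗[TY] Ω)
    (fun y => by
      show DX.i (algebraMap RY RX y) ⊗ₜ[TY] (1 : Ω) = (1 : TX) ⊗ₜ[TY] algebraMap RY Ω y
      rw [← hhY', ← hνY']
      exact tmul_one_eq (B := TY) (C := TX) (D := Ω) (DY.i y))
  have hpoint : ∀ (K : Type u) [Field K] [IsAlgClosed K] (χ : RX ⊗[RY] Ω →+* K),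
      ∃ χ' : TX ⊗[TY] Ω →+* K, χ'.comp μ = χ := by
    intro K _ _ χ
    let χX : RX →+* K := χ.comp Algebra.TensorProduct.includeLeftRingHom
    let χΩ : Ω →+* K := χ.comp Algebra.TensorProduct.includeRight.toRingHom
    obtain ⟨gS, hgS, -⟩ := hS K (χX.comp (algebraMap S RX))
    obtain ⟨gT, hgTl, hgTr⟩ := DX.desc K gS χX fun s => RingHom.congr_fun hgS s
    have hgT' : ∀ x, gT (DX.i x) = χX x := fun x => RingHom.congr_fun hgTr x
    have hY : ∀ y, gT (h (DY.i y)) = χΩ (ν (DY.i y)) := fun y => by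
      rw [hhY', hgT', hνY']
      exact congrArg χ (tmul_one_eq (B := RY) (C := RX) (D := Ω) y)
    have heq : gT.comp h = χΩ.comp ν := by
      refine DY.ext K _ _ ?_ (RingHom.ext hY)
      obtain ⟨_, -, hu⟩ := hR K ((χΩ.comp ν).comp (DY.i.comp (algebraMap R₁ RY)))
      refine (hu _ (RingHom.ext fun r => ?_)).trans (hu _ (RingHom.ext fun r => ?_)).symm
      · show gT (h (algebraMap R₁'' TY (algebraMap R₁ R₁'' r))) = _
        rw [← DY.comm]
        exact hY _
      · show χΩ (ν (algebraMap R₁'' TY (algebraMap R₁ R₁'' r))) = _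
        rw [← DY.comm]
        rfl
    obtain ⟨χ', hχ'⟩ := StageTensor.exists_lift_ringHom (B := TY) (C := TX) (D := Ω) gT χΩ
      (fun y => RingHom.congr_fun heq y)
    refine ⟨χ', RingHom.ext fun w => ?_⟩
    induction w using TensorProduct.induction_on with
    | zero => simp
    | tmul x ω =>
        show χ' (μ (x ⊗ₜ[RY] ω)) = χ (x ⊗ₜ[RY] ω)
        rw [hμ, map_mul]
        show χ' (DX.i x ⊗ₜ[TY] (1 : Ω)) * χ' ((1 : TX) ⊗ₜ[TY] ω) = _
        rw [hχ', hχ', map_one, map_one, mul_one, one_mul, hgT']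
        show χ (x ⊗ₜ[RY] (1 : Ω)) * χ ((1 : RX) ⊗ₜ[RY] ω) = _
        rw [← map_mul, Algebra.TensorProduct.tmul_mul_tmul, mul_one, one_mul]
    | add a b ha hb => rw [map_add, map_add, ha, hb]
  suffices hμε : μ ε = 0 ∨ μ ε = 1 by
    rcases hμε with h0 | h1
    · exact Or.inl (eq_zero_of_forall_point μ hpoint hε h0)
    · refine Or.inr (sub_eq_zero.1 (eq_zero_of_forall_point μ hpoint hε.one_sub ?_)).symm
      rw [map_sub, map_one, h1, sub_self]
  -- the twisted stage
  obtain ⟨Q', _, _, _, ⟨DQ⟩⟩ := exists_etale_bc R₁ R₁'' Q.Ring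
  obtain ⟨P', _, _, _, ⟨DP⟩⟩ := exists_etale_bc S (R₁'' ⊗[k] A'') P.Ring
  let : Algebra R₁'' P' := ((algebraMap (R₁'' ⊗[k] A'') P').comp iS).toAlgebra
  have : IsScalarTower R₁'' (R₁'' ⊗[k] A'') P' :=
    IsScalarTower.of_algebraMap_eq (R := R₁'') (S := R₁'' ⊗[k] A'') (A := P') fun _ => rfl
  have hP'R : ∀ r : R₁, algebraMap R₁'' P' (algebraMap R₁ R₁'' r) = DP.i (algebraMap R₁ P.Ring r) := fun r => by
    show algebraMap _ P' (algebraMap R₁ R₁'' r ⊗ₜ[k] (1 : A'')) = _
    rw [← hSR, IsScalarTower.algebraMap_apply R₁ S P.Ring, DP.comm]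
  obtain ⟨ψ₀, hψ₀R, hψ₀⟩ := DQ.desc P' (algebraMap R₁'' P') (DP.i.comp ψ.toRingHom) fun r =>
    (hP'R r).trans (congrArg DP.i (ψ.commutes r).symm)
  let ψ'' : Q' →ₐ[R₁''] P' := { ψ₀ with commutes' := fun r => RingHom.congr_fun hψ₀R r }
  obtain ⟨jY₀, hjY₀R, hjY₀⟩ := DQ.desc TY (algebraMap R₁'' TY) (DY.i.comp (eY.toAlgHom.comp (ι Q)).toRingHom)
    fun r => (DY.comm r).symm.trans (congrArg DY.i ((eY.toAlgHom.comp (ι Q)).commutes r).symm)
  let jY'' : Q' →ₐ[R₁''] TY := { jY₀ with commutes' := fun r => RingHom.congr_fun hjY₀R r }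
  obtain ⟨jX₀, hjX₀R, hjX₀⟩ := DP.desc TX (algebraMap (R₁'' ⊗[k] A'') TX)
    (DX.i.comp (eX.toAlgHom.comp (ι P)).toRingHom)
    fun r => (DX.comm r).symm.trans (congrArg DX.i ((eX.toAlgHom.comp (ι P)).commutes r).symm)
  let jX'' : P' →ₐ[R₁'' ⊗[k] A''] TX := { jX₀ with commutes' := fun r => RingHom.congr_fun hjX₀R r }
  have hψ'' : jX₀.comp ψ₀ = h.comp jY₀ := by
    refine DQ.ext TX _ _ (RingHom.ext fun r => ?_) (RingHom.ext fun q => ?_)
    · show jX'' (ψ'' (algebraMap R₁'' Q' r)) = h (jY'' (algebraMap R₁'' Q' r))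
      rw [ψ''.commutes, jY''.commutes, IsScalarTower.algebraMap_apply R₁'' (R₁'' ⊗[k] A'') P', jX''.commutes]
      exact (RingHom.congr_fun hhR r).symm
    · show jX₀ (ψ₀ (DQ.i q)) = h (jY₀ (DQ.i q))
      rw [show ψ₀ (DQ.i q) = DP.i (ψ q) from RingHom.congr_fun hψ₀ q,
        show jY₀ (DQ.i q) = DY.i (eY (ι Q q)) from RingHom.congr_fun hjY₀ q, hhY',
        show jX₀ (DP.i (ψ q)) = DX.i (eX (ι P (ψ q))) from RingHom.congr_fun hjX₀ (ψ q), hψ]
  obtain ⟨F, hF⟩ := StageTensor.exists_lift_ringHom (B := R₁) (C := P.Ring) (D := Ω)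
    ((Algebra.TensorProduct.includeLeftRingHom : P' →+* P' ⊗[R₁''] Ω).comp DP.i)
    (Algebra.TensorProduct.includeRight.toRingHom : Ω →+* P' ⊗[R₁''] Ω)
    (fun r => by
      show DP.i (algebraMap R₁ P.Ring r) ⊗ₜ[R₁''] (1 : Ω) = (1 : P') ⊗ₜ[R₁''] algebraMap R₁ Ω r
      rw [← hP'R, ← RingHom.congr_fun hgR r]
      exact tmul_one_eq (B := R₁'') (C := P') (D := Ω) (algebraMap R₁ R₁'' r))
  obtain ⟨θ'', hθ''⟩ := StageTensor.exists_lift_ringHom (B := R₁'') (C := P') (D := Ω)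
    ((Algebra.TensorProduct.includeLeftRingHom : TX →+* TX ⊗[TY] Ω).comp jX''.toRingHom)
    (Algebra.TensorProduct.includeRight.toRingHom : Ω →+* TX ⊗[TY] Ω)
    (fun r => by
      show jX'' (algebraMap R₁'' P' r) ⊗ₜ[TY] (1 : Ω) = (1 : TX) ⊗ₜ[TY] algebraMap R₁'' Ω r
      rw [IsScalarTower.algebraMap_apply R₁'' (R₁'' ⊗[k] A'') P', jX''.commutes,
        ← IsScalarTower.algebraMap_apply R₁'' (R₁'' ⊗[k] A'') TX, IsScalarTower.algebraMap_apply R₁'' TY TX,
        IsScalarTower.algebraMap_apply R₁'' TY Ω]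
      exact tmul_one_eq (B := TY) (C := TX) (D := Ω) (algebraMap R₁'' TY r))
  have hθF : ∀ w, θ'' (F w) = μ (StageTensor.toFibre Ω eX P w) := fun w => by
    induction w using TensorProduct.induction_on with
    | zero => simp
    | tmul p ω =>
        rw [hF, map_mul, StageTensor.toFibre_tmul, hμ]
        show θ'' (DP.i p ⊗ₜ[R₁''] (1 : Ω)) * θ'' ((1 : P') ⊗ₜ[R₁''] ω) = _
        rw [hθ'', hθ'', map_one, map_one, mul_one, one_mul]
        show jX₀ (DP.i p) ⊗ₜ[TY] (1 : Ω) * ((1 : TX) ⊗ₜ[TY] ω) = _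
        rw [show jX₀ (DP.i p) = DX.i (eX (ι P p)) from RingHom.congr_fun hjX₀ p]
        rfl
    | add a b ha hb => rw [map_add, map_add, map_add, ha, hb, map_add]
  have hz'' : F z * F z - F z ∈ Ideal.span (Set.range fun q : Q' =>
      ψ'' q ⊗ₜ[R₁''] (1 : Ω) - 1 ⊗ₜ[R₁''] algebraMap TY Ω (jY'' q)) := by
    rw [← map_mul, ← map_sub]
    refine (Ideal.map_le_iff_le_comap.2 ((Ideal.span_le).2 ?_)) (Ideal.mem_map_of_mem F hz)
    rintro _ ⟨q, rfl⟩
    rw [SetLike.mem_coe, Ideal.mem_comap, map_sub]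
    refine Ideal.subset_span ⟨DQ.i q, ?_⟩
    show ψ₀ (DQ.i q) ⊗ₜ[R₁''] (1 : Ω) - 1 ⊗ₜ[R₁''] ν (jY₀ (DQ.i q)) = _
    rw [show ψ₀ (DQ.i q) = DP.i (ψ q) from RingHom.congr_fun hψ₀ q,
      show jY₀ (DQ.i q) = DY.i (eY (ι Q q)) from RingHom.congr_fun hjY₀ q, hνY', hF, hF, map_one, map_one,
      mul_one, one_mul]
    rfl
  rw [← hzε, ← hθF]
  exact idempotent_of_stage_reduced (k := k) (A := A'') (R₁ := R₁'') ψ'' jY'' jX''
    (fun q => RingHom.congr_fun hψ'' q) θ''
    (fun p ω => by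
      rw [hθ'']
      show (jX'' p ⊗ₜ[TY] (1 : Ω)) * ((1 : TX) ⊗ₜ[TY] ω) = _
      rw [Algebra.TensorProduct.tmul_mul_tmul, mul_one, one_mul]) (F z) hz''

end Groth.Agent.Et18.H0Lift
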