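import Groth.Agent.Et18.H0Lift.EffectiveClosed
import Groth.Agent.Et18.H0Lift.BaseChangeSets
import Groth.Agent.Et18.H0Lift.ProperBC0

/-!
# Effective descent along proper and integral surjective morphisms
-/

set_option autoImplicit false
set_option backward.isDefEq.respectTransparency.types false
set_option backward.isDefEq.respectTransparency false

universe u

open CategoryTheory CategoryTheory.Limits AlgebraicGeometry Opposite

namespace Groth.Agent.Et18.H0Lift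

variable {T X : Scheme.{u}} {f : T ⟶ X} {F' : EtDesc.Sh T}

/-- Two sections with equal germs agree on a neighbourhood. -/
theorem exists_eq_nhd {F : EtDesc.Sh T} {W₁ W₂ : T.Etale} {Ω : Type u} [Field Ω] [IsSepClosed Ω]
    (ξ : Spec (CommRingCat.of Ω) ⟶ T) (w₁ : (Scheme.pointSmallEtale ξ).fiber.obj W₁)
    (w₂ : (Scheme.pointSmallEtale ξ).fiber.obj W₂) (s₁ : EtDesc.sect F W₁) (s₂ : EtDesc.sect F W₂)
    (h : gmS F ξ W₁ w₁ s₁ = gmS F ξ W₂ w₂ s₂) :
    ∃ (W : T.Etale) (p₁ : W ⟶ W₁) (p₂ : W ⟶ W₂) (w : (Scheme.pointSmallEtale ξ).fiber.obj W),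
      (Scheme.pointSmallEtale ξ).fiber.map p₁ w = w₁ ∧ (Scheme.pointSmallEtale ξ).fiber.map p₂ w = w₂ ∧
      F.obj.map p₁.op s₁ = F.obj.map p₂.op s₂ := by
  obtain ⟨P, p₁, p₂, z, hz₁, hz₂⟩ : ∃ (P : T.Etale) (p₁ : P ⟶ W₁) (p₂ : P ⟶ W₂)
      (z : (Scheme.pointSmallEtale ξ).fiber.obj P),
      (Scheme.pointSmallEtale ξ).fiber.map p₁ z = w₁ ∧ (Scheme.pointSmallEtale ξ).fiber.map p₂ z = w₂ := by
    have h₁ : Etale W₁.hom := W₁.prop
    have h₂ : Etale W₂.hom := W₂.prop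
    let l₁ : Spec (CommRingCat.of Ω) ⟶ W₁.left := w₁.left
    let l₂ : Spec (CommRingCat.of Ω) ⟶ W₂.left := w₂.left
    have e₁ : l₁ ≫ W₁.hom = ξ := Over.w w₁
    have e₂ : l₂ ≫ W₂.hom = ξ := Over.w w₂
    obtain ⟨l, hl₁, hl₂⟩ : ∃ l : _ ⟶ pullback W₁.hom W₂.hom,
        l ≫ pullback.fst W₁.hom W₂.hom = l₁ ∧ l ≫ pullback.snd W₁.hom W₂.hom = l₂ :=
      ⟨pullback.lift l₁ l₂ (e₁.trans e₂.symm), pullback.lift_fst _ _ _, pullback.lift_snd _ _ _⟩
    exact ⟨Scheme.Etale.mk (pullback.fst W₁.hom W₂.hom ≫ W₁.hom),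
      MorphismProperty.Over.homMk (pullback.fst W₁.hom W₂.hom) rfl,
      MorphismProperty.Over.homMk (pullback.snd W₁.hom W₂.hom) pullback.condition.symm,
      Over.homMk l ((Category.assoc _ _ _).symm.trans ((congrArg (· ≫ W₁.hom) hl₁).trans e₁)),
      Over.OverMorphism.ext hl₁, Over.OverMorphism.ext hl₂⟩
  have e : gmS F ξ P z (F.obj.map p₁.op s₁) = gmS F ξ P z (F.obj.map p₂.op s₂) :=
    ((gmS_map F ξ p₁ z _).trans (congrArg (fun k => gmS F ξ W₁ k _) hz₁)).trans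
      (h.trans ((gmS_map F ξ p₂ z _).trans (congrArg (fun k => gmS F ξ W₂ k s₂) hz₂)).symm)
  obtain ⟨Q, q, z', hz', e'⟩ := ((Scheme.pointSmallEtale ξ).toPresheafFiber_eq_iff' (P := F.obj) P z
    (F.obj.map p₁.op s₁) (F.obj.map p₂.op s₂)).mp e
  refine ⟨Q, q ≫ p₁, q ≫ p₂, z', ?_, ?_, ?_⟩
  · refine Over.OverMorphism.ext ?_
    rw [← hz₁, ← hz']
    exact (Category.assoc _ _ _).symm
  · refine Over.OverMorphism.ext ?_
    rw [← hz₂, ← hz']
    exact (Category.assoc _ _ _).symm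
  · refine (ConcreteCategory.congr_hom (F.obj.map_comp p₁.op q.op) _).trans ?_
    exact e'.trans (ConcreteCategory.congr_hom (F.obj.map_comp p₂.op q.op) _).symm

/-- The points of the base change square over a point of `W`. -/
theorem bcLift_square {V : X.Etale} {W : T.Etale} (p : W ⟶ (EtCoh.bc f).obj V) {K : Type u} [Field K]
    [IsSepClosed K] {η : Spec (CommRingCat.of K) ⟶ X} (v : (Scheme.pointSmallEtale η).fiber.obj V)
    (ξ ξ₁ : FibrePts f η) (w : (Scheme.pointSmallEtale ξ.1).fiber.obj W)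
    (hw : (Scheme.pointSmallEtale ξ.1).fiber.map p w = bcLift f η ξ V v)
    (ζ : Spec (CommRingCat.of K) ⟶ EtDesc.X2 f) (h₁ : ζ ≫ pullback.fst f f = ξ₁.1)
    (h₂ : ζ ≫ pullback.snd f f = ξ.1) :
    (Scheme.pointSmallEtale ζ).fiber.map
        ((EtCoh.bc (pullback.snd f f)).map p ≫
          bcSquareHom f f (pullback.snd f f) (pullback.fst f f) pullback.condition V)
        (bcLift (pullback.snd f f) ξ.1 ⟨ζ, h₂⟩ W w) =
      bcLift (pullback.fst f f) ξ₁.1 ⟨ζ, h₁⟩ ((EtCoh.bc f).obj V) (bcLift f η ξ₁ V v) := by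
  let b := (EtCoh.bc (pullback.snd f f)).map p ≫
    bcSquareHom f f (pullback.snd f f) (pullback.fst f f) pullback.condition V
  have hw' := congrArg (fun k => k.left ≫ EtShriek.prV f V) hw
  refine Over.OverMorphism.ext (pullback.hom_ext (pullback.hom_ext ?_ ?_) ?_)
  · change (((bcLift (pullback.snd f f) ξ.1 ⟨ζ, h₂⟩ W w).left ≫
        ((EtCoh.bc (pullback.snd f f)).map p).left ≫
          (bcSquareHom f f (pullback.snd f f) (pullback.fst f f) pullback.condition V).left) ≫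
            EtShriek.prV (pullback.fst f f) _) ≫ EtShriek.prV f V =
      ((bcLift (pullback.fst f f) ξ₁.1 ⟨ζ, h₁⟩ _ (bcLift f η ξ₁ V v)).left ≫
        EtShriek.prV (pullback.fst f f) _) ≫ EtShriek.prV f V
    simp only [Category.assoc]
    rw [bcSquareHom_fst, reassoc_of% (EtCoh.isPullback_bc_map (pullback.snd f f) p).w]
    refine (Category.assoc _ _ _).symm.trans ?_
    refine (congrArg (· ≫ _) (pullback.lift_fst _ _ _)).trans ?_
    refine Eq.trans ?_ ((congrArg (· ≫ EtShriek.prV f V) (pullback.lift_fst _ _ _)).symm.trans (Category.assoc _ _ _))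
    refine ((Category.assoc _ _ _).symm.trans hw').trans ?_
    exact (pullback.lift_fst _ _ _).trans (pullback.lift_fst _ _ _).symm
  · have e := Over.w ((Scheme.pointSmallEtale ζ).fiber.map b (bcLift (pullback.snd f f) ξ.1 ⟨ζ, h₂⟩ W w))
    refine Eq.trans ?_ (((congrArg (· ≫ ((EtCoh.bc f).obj V).hom) (pullback.lift_fst _ _ _)).trans
      (pullback.lift_snd _ _ _)).symm)
    refine Eq.trans ?_ h₁
    refine (Category.assoc _ _ _).trans ?_
    refine (congrArg (_ ≫ ·) (pullback.condition (f := ((EtCoh.bc f).obj V).hom)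
      (g := pullback.fst f f))).trans ?_
    exact (Category.assoc _ _ _).symm.trans (congrArg (· ≫ pullback.fst f f) e)
  · exact (Over.w ((Scheme.pointSmallEtale ζ).fiber.map b (bcLift (pullback.snd f f) ξ.1 ⟨ζ, h₂⟩ W w))).trans
      (Over.w (bcLift (pullback.fst f f) ξ₁.1 ⟨ζ, h₁⟩ _ (bcLift f η ξ₁ V v))).symm

variable (φ : (EtDesc.pullSh (pullback.fst f f)).obj F' ≅ (EtDesc.pullSh (pullback.snd f f)).obj F')

theorem spreads_of_baseChange
    (h : IsIso (EtBC.baseChange0Sh f f (pullback.snd f f) (pullback.fst f f) pullback.condition F')) :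
    Spreads φ := by
  intro Ω _ _ ξ₀ g₀
  obtain ⟨W₀, w₀, t₀, rfl⟩ := (Scheme.pointSmallEtale ξ₀).toPresheafFiber_jointly_surjective (P := F'.obj) g₀
  let β := EtBC.baseChange0Sh f f (pullback.snd f f) (pullback.fst f f) pullback.condition F'
  let P := (EtDesc.pushSh (pullback.snd f f)).obj ((EtDesc.pullSh (pullback.fst f f)).obj F')
  let s : EtDesc.sect P W₀ := φ.inv.hom.app (op ((EtCoh.bc (pullback.snd f f)).obj W₀))
    (((EtDesc.adjSh (pullback.snd f f)).unit.app F').hom.app (op W₀) t₀)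
  have hb : Function.Bijective ((stalkSh ξ₀).map β) := (isIso_iff_bijective _).1 (Functor.map_isIso _ _)
  let ξ' : FibrePts f (ξ₀ ≫ f) := ⟨ξ₀, rfl⟩
  obtain ⟨e, he⟩ := hb.2 (gmS P ξ₀ W₀ w₀ s)
  obtain ⟨e', rfl⟩ := (bijective_toPullSh f ξ' ((EtDesc.pushSh f).obj F')).2 e
  obtain ⟨V, v₀, σ, rfl⟩ := (Scheme.pointSmallEtale (ξ₀ ≫ f)).toPresheafFiber_jointly_surjective
    (P := ((EtDesc.pushSh f).obj F').obj) e'
  let sq := bcSquareHom f f (pullback.snd f f) (pullback.fst f f) pullback.condition V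
  let σ₁ := ((EtDesc.adjSh (pullback.fst f f)).unit.app F').hom.app (op ((EtCoh.bc f).obj V)) σ
  have he' : gmS P ξ₀ ((EtCoh.bc f).obj V) (bcLift f _ ξ' V v₀)
      (((EtDesc.pullSh (pullback.fst f f)).obj F').obj.map sq.op σ₁) = gmS P ξ₀ W₀ w₀ s := by
    refine Eq.trans ?_ he
    refine Eq.trans ?_ (congrArg ((stalkSh ξ₀).map β) (gmS_unit f ξ' ((EtDesc.pushSh f).obj F') V v₀ σ))
    refine Eq.trans ?_ (gmS_hom β ξ₀ _ _ _).symm
    exact congrArg (gmS P ξ₀ _ _) (ConcreteCategory.congr_hom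
      (unit_baseChange0Sh f f (pullback.snd f f) (pullback.fst f f) pullback.condition F' V) σ).symm
  obtain ⟨W, p₁, p₂, w, hw₁, hw₂, e⟩ := exists_eq_nhd ξ₀ (bcLift f _ ξ' V v₀) w₀ _ s he'
  refine ⟨V, σ, W, p₁, w, F'.obj.map p₂.op t₀, ?_, fun K _ _ η v ξ ξ₁ w' hw' => ?_⟩
  · exact (gmS_map F' ξ₀ p₂ w t₀).trans (congrArg (fun k => gmS F' ξ₀ W₀ k t₀) hw₂)
  obtain ⟨ζ, h₁, h₂⟩ : ∃ ζ : Spec (CommRingCat.of K) ⟶ EtDesc.X2 f,
      ζ ≫ pullback.fst f f = ξ₁.1 ∧ ζ ≫ pullback.snd f f = ξ.1 :=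
    ⟨pullback.lift ξ₁.1 ξ.1 (ξ₁.2.trans ξ.2.symm), pullback.lift_fst _ _ _, pullback.lift_snd _ _ _⟩
  rw [DRel.iff ζ h₁ h₂]
  let G₁ := (EtDesc.pullSh (pullback.fst f f)).obj F'
  let u := bcLift (pullback.snd f f) ξ.1 ⟨ζ, h₂⟩ W w'
  let N := (EtCoh.bc (pullback.snd f f)).obj W
  have e₀ : toPullSh (pullback.fst f f) ξ₁.1 ⟨ζ, h₁⟩ F' (gmS F' ξ₁.1 _ (bcLift f η ξ₁ V v) σ) =
      gmS G₁ ζ N u (G₁.obj.map ((EtCoh.bc (pullback.snd f f)).map p₁ ≫ sq).op σ₁) := by
    refine Eq.trans ?_ (gmS_map G₁ ζ _ u σ₁).symm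
    rw [bcLift_square p₁ v ξ ξ₁ w' hw' ζ h₁ h₂]
    exact (gmS_unit (pullback.fst f f) (⟨ζ, h₁⟩ : FibrePts _ ξ₁.1) F' _ _ σ).symm
  have e₁ : G₁.obj.map ((EtCoh.bc (pullback.snd f f)).map p₁ ≫ sq).op σ₁ =
      φ.inv.hom.app (op N) (((EtDesc.adjSh (pullback.snd f f)).unit.app F').hom.app (op W)
        (F'.obj.map p₂.op t₀)) := by
    refine ((ConcreteCategory.congr_hom (G₁.obj.map_comp sq.op _) σ₁).trans e).trans ?_
    refine Eq.trans (ConcreteCategory.congr_hom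
      (φ.inv.hom.naturality ((EtCoh.bc (pullback.snd f f)).map p₂).op) _).symm ?_
    rw [ConcreteCategory.comp_apply]
    refine congrArg (fun z => φ.inv.hom.app (op N) z) ?_
    exact (ConcreteCategory.congr_hom
      (((EtDesc.adjSh (pullback.snd f f)).unit.app F').hom.naturality p₂.op) t₀).symm
  have e₂ : toPullSh (pullback.fst f f) ξ₁.1 ⟨ζ, h₁⟩ F' (gmS F' ξ₁.1 _ (bcLift f η ξ₁ V v) σ) =
      (stalkSh ζ).map φ.inv (toPullSh (pullback.snd f f) ξ.1 ⟨ζ, h₂⟩ F'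
        (gmS F' ξ.1 W w' (F'.obj.map p₂.op t₀))) := by
    rw [← gmS_unit (pullback.snd f f) (⟨ζ, h₂⟩ : FibrePts _ ξ.1) F' W w', gmS_hom]
    exact e₀.trans (congrArg (gmS G₁ ζ N u) e₁)
  rw [e₂, ← ConcreteCategory.comp_apply, ← Functor.map_comp, φ.inv_hom_id, CategoryTheory.Functor.map_id]
  rfl

/-- Effective descent along surjective morphisms satisfying proper base change in degree zero. -/
theorem isEffective_of_isCoupleHom [Surjective f] [IsCoupleHom f] [IsCoupleHom (pullback.snd f f)] (hφ : EtDesc.IsCocycle F' φ) :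
    EtDesc.IsEffective f F' φ := by
  have : UniversallyClosed f := IsCoupleHom.toUniversallyClosed
  have hq : ∀ V : X.Etale, Function.Surjective (EtShriek.prV f V) ∧
      Topology.IsQuotientMap (EtShriek.prV f V) := fun V => by
    have : Surjective (EtShriek.prV f V) :=
      MorphismProperty.pullback_fst (P := @Surjective) V.hom f inferInstance
    have : UniversallyClosed (EtShriek.prV f V) :=
      MorphismProperty.pullback_fst (P := @UniversallyClosed) V.hom f inferInstance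
    exact ⟨(EtShriek.prV f V).surjective, (EtShriek.prV f V).isClosedMap.isQuotientMap
      (EtShriek.prV f V).continuous (EtShriek.prV f V).surjective⟩
  refine isEffective_of_bijective φ fun y => bijective_of_spreads φ hφ hq (spreads_of_baseChange φ ?_) _
  exact isIso_baseChange0Sh_of_ab f f _ _ _
    (fun G => isIso_baseChange0_of_isCoupleHom G f f _ _ (IsPullback.of_hasPullback f f)) F'

end Groth.Agent.Et18.H0Lift
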