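import Groth.Agent.Et18.H0Lift.EffectiveClosed
import Groth.Agent.Et18.H0Lift.EffectiveProper
import Groth.Agent.H8Top.SchemeBasic
import Mathlib.AlgebraicGeometry.Morphisms.Flat
import Mathlib.AlgebraicGeometry.Morphisms.UniversallyOpen

/-!
# Effective descent along flat quasi-compact morphisms
-/

set_option autoImplicit false
set_option backward.isDefEq.respectTransparency.types false
set_option backward.isDefEq.respectTransparency false

universe u

open CategoryTheory CategoryTheory.Limits AlgebraicGeometry Opposite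

namespace Groth.Agent.Et18.H0Lift

variable {T X : Scheme.{u}} {f : T ⟶ X} {F' : EtDesc.Sh T}
  (φ : (EtDesc.pullSh (pullback.fst f f)).obj F' ≅ (EtDesc.pullSh (pullback.snd f f)).obj F')

/-- The comparison is injective on stalks when base changes are quotient maps. -/
theorem injective_stalk_descComparison
    (hq : ∀ V : X.Etale, Function.Surjective (EtShriek.prV f V) ∧ Topology.IsQuotientMap (EtShriek.prV f V))
    {Ω : Type u} [Field Ω] [IsSepClosed Ω] (ξ₀ : Spec (CommRingCat.of Ω) ⟶ T) :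
    Function.Injective ((stalkSh ξ₀).map (descComparison F' φ)) := by
  let G := descSheaf F' φ
  let ξ₀' : FibrePts f (ξ₀ ≫ f) := ⟨ξ₀, rfl⟩
  intro a b hab
  obtain ⟨a, rfl⟩ := (bijective_toPullSh f ξ₀' G).2 a
  obtain ⟨b, rfl⟩ := (bijective_toPullSh f ξ₀' G).2 b
  obtain ⟨V, v, s, t, rfl, rfl⟩ :=
    (Scheme.pointSmallEtale (ξ₀ ≫ f)).toPresheafFiber_jointly_surjective₂ (P := G.obj) a b
  rw [descComparison_germ φ ξ₀' V v s, descComparison_germ φ ξ₀' V v t] at hab
  let B := (EtCoh.bc f).obj V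
  let E : Set B.left := agreeLocus F' B s.1 t.1
  have sat : ∀ z₁ z₂ : B.left, EtShriek.prV f V z₁ = EtShriek.prV f V z₂ → z₁ ∈ E → z₂ ∈ E := by
    intro z₁ z₂ hz hz₁
    obtain ⟨c, hc₁, hc₂⟩ := Scheme.Pullback.exists_preimage_pullback (f := EtShriek.prV f V)
      (g := EtShriek.prV f V) z₁ z₂ hz
    obtain ⟨l₁, l₂, hl, hl₁, hl₂⟩ : ∃ (l₁ l₂ : Spec (CommRingCat.of
        (AlgebraicClosure ((pullback (EtShriek.prV f V) (EtShriek.prV f V)).residueField c))) ⟶ B.left),
        l₁ ≫ EtShriek.prV f V = l₂ ≫ EtShriek.prV f V ∧ l₁ default = z₁ ∧ l₂ default = z₂ := by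
      refine ⟨algPoint _ c ≫ pullback.fst _ _, algPoint _ c ≫ pullback.snd _ _, ?_, ?_, ?_⟩
      · simp only [Category.assoc, pullback.condition]
      · rw [Scheme.Hom.comp_apply, algPoint_default]; exact hc₁
      · rw [Scheme.Hom.comp_apply, algPoint_default]; exact hc₂
    obtain ⟨η, hη⟩ : ∃ η, (l₁ ≫ EtShriek.prV f V) ≫ V.hom = η := ⟨_, rfl⟩
    have hcond : B.hom ≫ f = EtShriek.prV f V ≫ V.hom := (pullback.condition (f := V.hom) (g := f)).symm
    have k₁ : (l₁ ≫ B.hom) ≫ f = η := by rw [← hη, Category.assoc, hcond, Category.assoc]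
    have k₂ : (l₂ ≫ B.hom) ≫ f = η := by rw [← hη, Category.assoc, hcond, ← Category.assoc, ← hl]
    let ξ₁ : FibrePts f η := ⟨l₁ ≫ B.hom, k₁⟩
    let ξ₂ : FibrePts f η := ⟨l₂ ≫ B.hom, k₂⟩
    let v' : (Scheme.pointSmallEtale η).fiber.obj V := Over.homMk (l₁ ≫ EtShriek.prV f V) hη
    have p₁ : fiberPt (bcLift f η ξ₁ V v') = z₁ := by
      refine (congrArg (fun k : _ ⟶ pullback V.hom f => k default) (pullback.hom_ext ?_ ?_)).trans hl₁
      · exact pullback.lift_fst _ _ _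
      · exact pullback.lift_snd _ _ _
    have p₂ : fiberPt (bcLift f η ξ₂ V v') = z₂ := by
      refine (congrArg (fun k : _ ⟶ pullback V.hom f => k default) (pullback.hom_ext ?_ ?_)).trans hl₂
      · exact (pullback.lift_fst _ _ _).trans hl
      · exact pullback.lift_snd _ _ _
    rw [← p₁, mem_agreeLocus_iff] at hz₁
    rw [← p₂, mem_agreeLocus_iff]
    exact DRel.unique_right (hz₁ ▸ s.2 _ η v' ξ₁ ξ₂) (t.2 _ η v' ξ₁ ξ₂)
  have hpre : EtShriek.prV f V ⁻¹' (EtShriek.prV f V '' E) = E :=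
    Set.Subset.antisymm (fun z₂ ⟨z₁, h₁, hz⟩ => sat z₁ z₂ hz h₁) (Set.subset_preimage_image _ _)
  have hO : IsOpen (EtShriek.prV f V '' E) := by
    refine (hq V).2.isOpen_preimage.1 ?_
    rw [hpre]; exact isOpen_agreeLocus _ _ _ _
  let V₀ : V.left.Opens := ⟨_, hO⟩
  have : Etale V.hom := V.prop
  let W : X.Etale := Scheme.Etale.mk (V₀.ι ≫ V.hom)
  let g : W ⟶ V := MorphismProperty.Over.homMk V₀.ι rfl
  obtain ⟨l, hl⟩ : ∃ l : Spec (CommRingCat.of Ω) ⟶ (V₀ : Scheme.{u}), l ≫ V₀.ι = v.left := by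
    refine ⟨IsOpenImmersion.lift V₀.ι v.left ?_, IsOpenImmersion.lift_fac _ _ _⟩
    rintro _ ⟨p, rfl⟩
    rw [Subsingleton.elim p default, Scheme.Opens.range_ι]
    exact ⟨_, (mem_agreeLocus_iff ξ₀ _).2 hab,
      congrArg (fun k : Spec _ ⟶ V.left => k default) (pullback.lift_fst _ _ _)⟩
  let w : (Scheme.pointSmallEtale (ξ₀ ≫ f)).fiber.obj W :=
    Over.homMk l ((Category.assoc _ _ _).symm.trans ((congrArg (· ≫ V.hom) hl).trans (Over.w v)))
  have hw : (Scheme.pointSmallEtale _).fiber.map g w = v := Over.OverMorphism.ext hl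
  refine congrArg _ ?_
  change gmS G _ V v s = gmS G _ V v t
  rw [← hw, ← gmS_map, ← gmS_map]
  refine congrArg (gmS G _ W w) (Subtype.ext (eq_of_gmS F' _ _ _ fun z => ?_))
  obtain ⟨ζ, hζ⟩ : ∃ ζ, algPoint T (((EtCoh.bc f).obj W).hom z) = ζ := ⟨_, rfl⟩
  obtain ⟨q, hq'⟩ := exists_fiber_point ζ ((EtCoh.bc f).obj W) z
    (by rw [← hζ]; exact (algPoint_default T _).symm)
  refine ⟨_, inferInstance, inferInstance, ζ, q, hq', ?_⟩
  refine (gmS_map F' ζ ((EtCoh.bc f).map g) q s.1).trans (Eq.trans ?_ (gmS_map F' ζ _ q t.1).symm)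
  refine (mem_agreeLocus_iff ζ _).1 ?_
  rw [← fiberPt_map, hq']
  change ((EtCoh.bc f).map g).left z ∈ E
  rw [← hpre]
  change EtShriek.prV f V (((EtCoh.bc f).map g).left z) ∈ V₀
  rw [← Scheme.Hom.comp_apply, (EtCoh.isPullback_bc_map f g).w]
  exact (EtShriek.prV f W z).2

/-- A point of a generization stable set avoids the closure of the image of the complement of an open set
containing the preimage of that set. -/
theorem not_mem_closure_image {N V : Scheme.{u}} (q : N ⟶ V) [QuasiCompact q] {R : Set V}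
    (hgen : StableUnderGeneralization R) {E : Set N} (hE : IsOpen E) {y : V} (hy : y ∈ R)
    (h : ∀ z, q z ∈ R → z ∈ E) : y ∉ closure (q '' Eᶜ) := by
  intro hy'
  let C : TopologicalSpace.Closeds N := ⟨Eᶜ, hE.isClosed_compl⟩
  let ι := (Scheme.IdealSheafData.vanishingIdeal C).subschemeι
  have hι : Set.range ι = Eᶜ := by
    simp only [ι, Scheme.IdealSheafData.range_subschemeι,
      Scheme.IdealSheafData.coe_support_vanishingIdeal, C]
    rfl
  have hr : Set.range (ι ≫ q) = q '' Eᶜ := by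
    rw [← hι, ← Set.range_comp]; rfl
  obtain ⟨v, hv⟩ := H8Top.exists_specializes_of_mem_closure_range (ι ≫ q) (hr ▸ hy')
  have h1 : ι v ∈ Eᶜ := hι ▸ ⟨v, rfl⟩
  exact h1 (h _ ((Scheme.Hom.comp_apply ι q v).symm ▸ hgen hv hy))

/-- Descent data are effective on stalks when germs spread out along a flat quasi-compact morphism. -/
theorem bijective_of_spreads_flat (hφ : EtDesc.IsCocycle F' φ) [Flat f] [QuasiCompact f]
    (hq : ∀ V : X.Etale, Function.Surjective (EtShriek.prV f V) ∧ Topology.IsQuotientMap (EtShriek.prV f V))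
    (hS : Spreads φ) {Ω : Type u} [Field Ω] [IsSepClosed Ω] (ξ₀ : Spec (CommRingCat.of Ω) ⟶ T) :
    Function.Bijective ((stalkSh ξ₀).map (descComparison F' φ)) := by
  let G := descSheaf F' φ
  let ξ₀' : FibrePts f (ξ₀ ≫ f) := ⟨ξ₀, rfl⟩
  refine ⟨injective_stalk_descComparison φ hq ξ₀, ?_⟩
  intro g₀
  obtain ⟨V, σ, W, p, w₀, t, hg₀, hS'⟩ := hS Ω ξ₀ g₀
  let B := (EtCoh.bc f).obj V
  let N₁ := (EtCoh.bc (pullback.fst f f)).obj B
  let N₂ := (EtCoh.bc (pullback.snd f f)).obj B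
  let q : N₁.left ⟶ V.left := EtShriek.prV (pullback.fst f f) B ≫ EtShriek.prV f V
  have hq₁ : (N₁.hom ≫ pullback.snd f f) ≫ f = q ≫ V.hom := by
    rw [Category.assoc, ← pullback.condition, ← Category.assoc]
    refine (congrArg (· ≫ f) (pullback.condition (f := B.hom) (g := pullback.fst f f)).symm).trans ?_
    rw [Category.assoc, Category.assoc]
    exact congrArg (_ ≫ ·) (pullback.condition (f := V.hom) (g := f)).symm
  obtain ⟨k, hk₁, hk₂⟩ : ∃ k : N₁.left ⟶ B.left,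
      k ≫ EtShriek.prV f V = q ∧ k ≫ B.hom = N₁.hom ≫ pullback.snd f f :=
    ⟨pullback.lift q (N₁.hom ≫ pullback.snd f f) hq₁.symm, pullback.lift_fst _ _ _, pullback.lift_snd _ _ _⟩
  obtain ⟨θ, hθ⟩ : ∃ θ : N₁ ⟶ N₂, θ.left ≫ EtShriek.prV (pullback.snd f f) B = k :=
    ⟨MorphismProperty.Over.homMk (pullback.lift k N₁.hom hk₂) (pullback.lift_snd _ _ _),
      pullback.lift_fst _ _ _⟩
  let s₁ := φ.hom.hom.app (op N₁) (((EtDesc.adjSh (pullback.fst f f)).unit.app F').hom.app (op B) σ)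
  let s₂ := ((EtDesc.pullSh (pullback.snd f f)).obj F').obj.map θ.op
    (((EtDesc.adjSh (pullback.snd f f)).unit.app F').hom.app (op B) σ)
  let E : Set N₁.left := agreeLocus _ N₁ s₁ s₂
  have hgerm : ∀ {K : Type u} [Field K] [IsSepClosed K] {η : Spec (CommRingCat.of K) ⟶ X}
      (v : (Scheme.pointSmallEtale η).fiber.obj V) (ξ₁ ξ₂ : FibrePts f η)
      (ξ : Spec (CommRingCat.of K) ⟶ EtDesc.X2 f) (h₁ : ξ ≫ pullback.fst f f = ξ₁.1)
      (_ : ξ ≫ pullback.snd f f = ξ₂.1),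
      fiberPt (bcLift (pullback.fst f f) ξ₁.1 ⟨ξ, h₁⟩ B (bcLift f η ξ₁ V v)) ∈ E ↔
        DRel φ ξ₁.1 ξ₂.1 (gmS F' ξ₁.1 _ (bcLift f η ξ₁ V v) σ) (gmS F' ξ₂.1 _ (bcLift f η ξ₂ V v) σ) :=
    fun v ξ₁ ξ₂ ξ h₁ h₂ => mem_agreeLocus_iff_drel φ V σ θ k hθ hk₁ hk₂ v ξ₁ ξ₂ ξ h₁ h₂
  obtain ⟨v₀, hv₀⟩ : ∃ v₀ : (Scheme.pointSmallEtale (ξ₀ ≫ f)).fiber.obj V,
      (Scheme.pointSmallEtale ξ₀).fiber.map p w₀ = bcLift f _ ξ₀' V v₀ :=
    ⟨(bcLiftEquiv f _ ξ₀' V).symm ((Scheme.pointSmallEtale ξ₀).fiber.map p w₀),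
      ((bcLiftEquiv f _ ξ₀' V).apply_symm_apply _).symm⟩
  have hE : IsOpen E := isOpen_agreeLocus _ _ _ _
  have hgen : StableUnderGeneralization (Set.range (p.left ≫ EtShriek.prV f V)) := by
    have : Flat (EtShriek.prV f V) := MorphismProperty.pullback_fst (P := @Flat) V.hom f inferInstance
    have : Etale p.left := etale_map_left p
    exact (Flat.generalizingMap (p.left ≫ EtShriek.prV f V)).stableUnderGeneralization_range
  have : QuasiCompact (EtShriek.prV (pullback.fst f f) B) :=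
    MorphismProperty.pullback_fst (P := @QuasiCompact) B.hom (pullback.fst f f)
      (MorphismProperty.pullback_fst (P := @QuasiCompact) f f inferInstance)
  have : QuasiCompact (EtShriek.prV f V) := MorphismProperty.pullback_fst (P := @QuasiCompact) V.hom f inferInstance
  have : QuasiCompact q := inferInstanceAs (QuasiCompact (_ ≫ _))
  have hfib : ∀ z : N₁.left, q z ∈ Set.range (p.left ≫ EtShriek.prV f V) → z ∈ E := by
    rintro z ⟨w₁, hz⟩
    obtain ⟨c, hc₁, hc₂⟩ := Scheme.Pullback.exists_preimage_pullback (f := q)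
      (g := p.left ≫ EtShriek.prV f V) z w₁ hz.symm
    obtain ⟨l, lw, hl, hlz⟩ : ∃ (l : Spec (CommRingCat.of
        (AlgebraicClosure ((pullback q (p.left ≫ EtShriek.prV f V)).residueField c))) ⟶ N₁.left)
        (lw : Spec (CommRingCat.of _) ⟶ W.left),
        l ≫ q = lw ≫ p.left ≫ EtShriek.prV f V ∧ l default = z := by
      refine ⟨algPoint _ c ≫ pullback.fst _ _, algPoint _ c ≫ pullback.snd _ _, ?_, ?_⟩
      · simp only [Category.assoc, pullback.condition]
      · rw [Scheme.Hom.comp_apply, algPoint_default]; exact hc₁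
    obtain ⟨η, hη⟩ : ∃ η, (l ≫ q) ≫ V.hom = η := ⟨_, rfl⟩
    let v : (Scheme.pointSmallEtale η).fiber.obj V := Over.homMk (l ≫ q) hη
    have k₁ : (l ≫ N₁.hom ≫ pullback.fst f f) ≫ f = η := by
      rw [← hη, Category.assoc l q, ← hq₁]
      simp only [Category.assoc, pullback.condition]
    have k₂ : (l ≫ N₁.hom ≫ pullback.snd f f) ≫ f = η := by
      rw [← hη, Category.assoc l q, ← hq₁]
      simp only [Category.assoc]
    have hpW : p.left ≫ B.hom = W.hom := Over.w p.hom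
    have kw : (lw ≫ W.hom) ≫ f = η := by
      rw [← hη, hl, ← hpW]
      simp only [Category.assoc]
      exact congrArg (lw ≫ p.left ≫ ·) (pullback.condition (f := V.hom) (g := f)).symm
    let ξ₁ : FibrePts f η := ⟨l ≫ N₁.hom ≫ pullback.fst f f, k₁⟩
    let ξ₂ : FibrePts f η := ⟨l ≫ N₁.hom ≫ pullback.snd f f, k₂⟩
    let ξw : FibrePts f η := ⟨lw ≫ W.hom, kw⟩
    let w : (Scheme.pointSmallEtale ξw.1).fiber.obj W := Over.homMk lw rfl
    have hw : (Scheme.pointSmallEtale ξw.1).fiber.map p w = bcLift f η ξw V v := by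
      refine Over.OverMorphism.ext (pullback.hom_ext ?_ ?_)
      · exact (Category.assoc _ _ _).trans (hl.symm.trans (pullback.lift_fst _ _ _).symm)
      · exact (Over.w ((Scheme.pointSmallEtale ξw.1).fiber.map p w)).trans (Over.w (bcLift f η ξw V v)).symm
    have h := (hS' _ η v ξw ξ₁ w hw).trans hφ ((hS' _ η v ξw ξ₂ w hw).symm hφ)
    refine Set.mem_of_eq_of_mem ?_ ((hgerm v ξ₁ ξ₂ (l ≫ N₁.hom) (Category.assoc _ _ _) (Category.assoc _ _ _)).2 h)
    refine hlz.symm.trans (congrArg (fun k : _ ⟶ N₁.left => k default) (pullback.hom_ext ?_ ?_))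
    · refine Eq.trans (pullback.hom_ext ?_ ?_) (pullback.lift_fst _ _ _).symm
      · exact (Category.assoc _ _ _).trans (pullback.lift_fst _ _ _).symm
      · refine (Category.assoc _ _ _).trans ((congrArg (l ≫ ·)
          (pullback.condition (f := B.hom) (g := pullback.fst f f))).trans ?_)
        exact (pullback.lift_snd _ _ _).symm
    · exact (pullback.lift_snd _ _ _).symm
  let C : Set V.left := closure (q '' Eᶜ)
  let V₀ : V.left.Opens := ⟨Cᶜ, isClosed_closure.isOpen_compl⟩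
  have : Etale V.hom := V.prop
  let U : X.Etale := Scheme.Etale.mk (V₀.ι ≫ V.hom)
  let g : U ⟶ V := MorphismProperty.Over.homMk V₀.ι rfl
  obtain ⟨l, hl⟩ : ∃ l : Spec (CommRingCat.of Ω) ⟶ (V₀ : Scheme.{u}), l ≫ V₀.ι = v₀.left := by
    refine ⟨IsOpenImmersion.lift V₀.ι v₀.left ?_, IsOpenImmersion.lift_fac _ _ _⟩
    rintro _ ⟨a, rfl⟩
    rw [Subsingleton.elim a default, Scheme.Opens.range_ι]
    refine not_mem_closure_image q hgen hE ?_ hfib
    refine ⟨fiberPt w₀, ?_⟩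
    have e := congrArg (fun r => EtShriek.prV f V (fiberPt r)) hv₀
    refine ((Scheme.Hom.comp_apply _ _ _).trans ?_).trans (e.trans ?_)
    · exact congrArg _ (fiberPt_map p w₀).symm
    · exact congrArg (fun k : Spec _ ⟶ V.left => k default) (pullback.lift_fst _ _ _)
  let u₀ : (Scheme.pointSmallEtale (ξ₀ ≫ f)).fiber.obj U :=
    Over.homMk l ((Category.assoc _ _ _).symm.trans ((congrArg (· ≫ V.hom) hl).trans (Over.w v₀)))
  have hu₀ : (Scheme.pointSmallEtale _).fiber.map g u₀ = v₀ := Over.OverMorphism.ext hl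
  have hσ : CompatSec φ U (F'.obj.map ((EtCoh.bc f).map g).op σ) := by
    intro K _ _ η v ξ₁ ξ₂
    rw [gmS_map, gmS_map, bcLift_map, bcLift_map]
    obtain ⟨ξ, h₁, h₂⟩ : ∃ ξ : Spec (CommRingCat.of K) ⟶ EtDesc.X2 f,
        ξ ≫ pullback.fst f f = ξ₁.1 ∧ ξ ≫ pullback.snd f f = ξ₂.1 :=
      ⟨pullback.lift ξ₁.1 ξ₂.1 (ξ₁.2.trans ξ₂.2.symm), pullback.lift_fst _ _ _, pullback.lift_snd _ _ _⟩
    refine (hgerm _ ξ₁ ξ₂ ξ h₁ h₂).1 (of_not_not fun hnot => ?_)
    let vl : Spec (CommRingCat.of K) ⟶ (V₀ : Scheme.{u}) := v.left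
    have hmem : V₀.ι (vl default) ∈ V₀ := (vl default).2
    have hcomp : (bcLift (pullback.fst f f) ξ₁.1 ⟨ξ, h₁⟩ B
        (bcLift f η ξ₁ V ((Scheme.pointSmallEtale η).fiber.map g v))).left ≫ q = vl ≫ V₀.ι := by
      refine (Category.assoc _ _ _).symm.trans ?_
      exact (congrArg (· ≫ EtShriek.prV f V) (pullback.lift_fst _ _ _)).trans (pullback.lift_fst _ _ _)
    refine hmem (subset_closure ⟨_, hnot, ?_⟩)
    exact congrArg (fun k : Spec _ ⟶ V.left => k default) hcomp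
  refine ⟨toPullSh f _ ξ₀' G (gmS G _ U u₀ ⟨_, hσ⟩), ?_⟩
  rw [descComparison_germ φ ξ₀' U u₀ ⟨_, hσ⟩]
  change gmS F' ξ₀ _ (bcLift f _ ξ₀' U u₀) (F'.obj.map ((EtCoh.bc f).map g).op σ) = g₀
  rw [gmS_map, bcLift_map g ξ₀' u₀, hu₀]
  exact DRel.unique_right (DRel.refl hφ ξ₀ _) (hg₀ ▸ hS' Ω _ v₀ ξ₀' ξ₀' w₀ hv₀)
/-- Effective descent along flat quasi-compact surjections with base change in degree zero. -/
theorem isEffective_of_flat [Surjective f] [Flat f] [QuasiCompact f] (hφ : EtDesc.IsCocycle F' φ)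
    (h : IsIso (EtBC.baseChange0Sh f f (pullback.snd f f) (pullback.fst f f) pullback.condition F')) :
    EtDesc.IsEffective f F' φ := by
  have hq : ∀ V : X.Etale, Function.Surjective (EtShriek.prV f V) ∧
      Topology.IsQuotientMap (EtShriek.prV f V) := fun V => by
    have : Surjective (EtShriek.prV f V) :=
      MorphismProperty.pullback_fst (P := @Surjective) V.hom f inferInstance
    have : Flat (EtShriek.prV f V) := MorphismProperty.pullback_fst (P := @Flat) V.hom f inferInstance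
    have : QuasiCompact (EtShriek.prV f V) :=
      MorphismProperty.pullback_fst (P := @QuasiCompact) V.hom f inferInstance
    exact ⟨(EtShriek.prV f V).surjective, Flat.isQuotientMap_of_surjective _⟩
  exact isEffective_of_bijective φ fun y => bijective_of_spreads_flat φ hφ hq (spreads_of_baseChange φ h) _

end Groth.Agent.Et18.H0Lift
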