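import Groth.Agent.Et18.H0Lift.DescentLocus
import Groth.Agent.Et18.H0Lift.EffectiveFlat
import Groth.Agent.Et18.PropBEpi

/-!
# Effective descent from consistent neighbourhoods
-/

set_option autoImplicit false
set_option backward.isDefEq.respectTransparency.types false
set_option backward.isDefEq.respectTransparency false

universe u

open CategoryTheory CategoryTheory.Limits AlgebraicGeometry Opposite

namespace Groth.Agent.Et18.H0Lift

/-- Sections of a sheaf of sets on a covering family agreeing on overlaps glue. -/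
theorem exists_glue_coverSh {X : Scheme.{u}} (F : EtDesc.Sh X) (U : X.Etale) {κ : Type (u + 1)}
    (W : κ → X.Etale) (a : ∀ k, W k ⟶ U) (hcov : ∀ x : U.left, ∃ k, x ∈ Set.range (a k).left)
    (t : ∀ k, EtDesc.sect F (W k))
    (h : ∀ (k l : κ) (R : X.Etale) (gk : R ⟶ W k) (gl : R ⟶ W l), gk ≫ a k = gl ≫ a l →
      F.obj.map gk.op (t k) = F.obj.map gl.op (t l)) :
    ∃ s : EtDesc.sect F U, ∀ k, F.obj.map (a k).op s = t k := by
  have hsheaf : Presieve.IsSheaf X.smallEtaleTopology F.obj :=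
    (CategoryTheory.isSheaf_iff_isSheaf_of_type _ _).1 F.property
  have hmem : Sieve.generate (Presieve.ofArrows W a) ∈ X.smallEtaleTopology U := by
    change Sieve.ofArrows _ _ ∈ _
    rw [Scheme.ofArrows_mem_smallEtaleTopology_iff, Set.eq_univ_iff_forall]
    exact fun x => Set.mem_iUnion.2 (hcov x)
  have hfor : (Presieve.ofArrows W a).IsSheafFor F.obj := by
    rw [Presieve.isSheafFor_iff_generate]; exact hsheaf _ hmem
  obtain ⟨s, hs, -⟩ := (Presieve.isSheafFor_arrows_iff _ _).mp hfor t fun k l R gk gl he => h k l R gk gl he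
  exact ⟨s, hs⟩

variable {T X : Scheme.{u}} {f : T ⟶ X} {F' : EtDesc.Sh T}
  (φ : (EtDesc.pullSh (pullback.fst f f)).obj F' ≅ (EtDesc.pullSh (pullback.snd f f)).obj F')

set_option maxHeartbeats 1000000 in
/-- A germ with a consistent neighbourhood extends to a compatible section. -/
theorem exists_compatSec_germ (hφ : EtDesc.IsCocycle F' φ) [UniversallyOpen f] (hC : Consistent φ)
    {Ω : Type u} [Field Ω] [IsSepClosed Ω] (ξ₀ : Spec (CommRingCat.of Ω) ⟶ T) (g₀ : (stalkSh ξ₀).obj F') :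
    ∃ (U : X.Etale) (σ : EtDesc.sect F' ((EtCoh.bc f).obj U))
      (u₀ : (Scheme.pointSmallEtale (ξ₀ ≫ f)).fiber.obj U),
      CompatSec φ U σ ∧ gmS F' ξ₀ _ (bcLift f _ ⟨ξ₀, rfl⟩ U u₀) σ = g₀ := by
  obtain ⟨V, W, p, w₀, t, hg₀, hcons⟩ := hC Ω ξ₀ g₀
  let B := (EtCoh.bc f).obj V
  let q₀ : W.left ⟶ V.left := p.left ≫ EtShriek.prV f V
  have : Etale p.left := etale_map_left p
  have : UniversallyOpen (EtShriek.prV f V) :=
    MorphismProperty.pullback_fst (P := @UniversallyOpen) V.hom f inferInstance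
  have : UniversallyOpen q₀ := inferInstanceAs (UniversallyOpen (_ ≫ _))
  have hBf : EtShriek.prV f V ≫ V.hom = B.hom ≫ f := pullback.condition
  have hq₀ : q₀ ≫ V.hom = W.hom ≫ f := by
    rw [Category.assoc, hBf, ← Category.assoc, show p.left ≫ B.hom = W.hom from Over.w p.hom]
  let V₀ : V.left.Opens := ⟨Set.range q₀, q₀.isOpenMap.isOpen_range⟩
  let U := etalePiece V V₀
  let a : U ⟶ V := etalePieceHom V V₀
  let B₁ := (EtCoh.bc f).obj U
  let m : B₁.left ⟶ V.left := ((EtCoh.bc f).map a).left ≫ EtShriek.prV f V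
  have hm : m ≫ V.hom = B₁.hom ≫ f := by
    rw [Category.assoc, hBf, ← Category.assoc,
      show ((EtCoh.bc f).map a).left ≫ B.hom = B₁.hom from Over.w ((EtCoh.bc f).map a).hom]
  have hmr : ∀ z, m z ∈ Set.range q₀ := fun z => by
    change (((EtCoh.bc f).map a).left ≫ EtShriek.prV f V) z ∈ _
    rw [(EtCoh.isPullback_bc_map f a).w]
    exact (EtShriek.prV f U z).2
  -- local pieces
  have hloc : ∀ z : B₁.left, ∃ (Wz : T.Etale) (i : Wz ⟶ B₁) (tz : EtDesc.sect F' Wz),
      z ∈ Set.range i.left ∧ ∀ (K : Type u) [Field K] [IsSepClosed K] (ξ ξ' : Spec (CommRingCat.of K) ⟶ T)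
        (y : (Scheme.pointSmallEtale ξ).fiber.obj Wz) (w : (Scheme.pointSmallEtale ξ').fiber.obj W),
        (y.left : _ ⟶ Wz.left) ≫ i.left ≫ m = (w.left : _ ⟶ W.left) ≫ q₀ →
          DRel φ ξ ξ' (gmS F' ξ Wz y tz) (gmS F' ξ' W w t) := by
    intro z
    obtain ⟨w₁, hw₁⟩ := hmr z
    obtain ⟨c, hc₁, hc₂⟩ := Scheme.Pullback.exists_preimage_pullback (f := m) (g := q₀) z w₁ hw₁.symm
    let l := algPoint _ c
    let lz := l ≫ pullback.fst m q₀
    let lw := l ≫ pullback.snd m q₀
    have hlq : lz ≫ m = lw ≫ q₀ := by simp only [lz, lw, Category.assoc, pullback.condition]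
    let ξz := lz ≫ B₁.hom
    let ξw := lw ≫ W.hom
    have hξ : ξw ≫ f = ξz ≫ f := by
      simp only [ξz, ξw, Category.assoc, ← hm, ← hq₀]
      exact ((Category.assoc _ _ _).symm.trans (congrArg (· ≫ V.hom) hlq.symm)).trans (Category.assoc _ _ _)
    obtain ⟨gz, hgz⟩ := DRel.exists_right (φ := φ) hξ
      (gmS F' ξw W (Over.homMk lw rfl) t)
    obtain ⟨W', w', t', ht'⟩ := (Scheme.pointSmallEtale ξz).toPresheafFiber_jointly_surjective (P := F'.obj) gz
    let α := (EtCore.topIsTerminal T).from B₁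
    let β := (EtCore.topIsTerminal T).from W'
    let W'' := pairObj α β
    let pf : W'' ⟶ B₁ := pairFst α β
    let t'' := F'.obj.map (pairSnd α β).op t'
    have hαβ : lz ≫ α.left = (w'.left : _ ⟶ W'.left) ≫ β.left := by
      have : IsIso (EtCoh.top T).hom := inferInstanceAs (IsIso (𝟙 _))
      refine (cancel_mono (EtCoh.top T).hom).1 ((Category.assoc _ _ _).trans ((congrArg (lz ≫ ·)
        (Over.w α.hom)).trans ((Over.w w').symm.trans ((congrArg (_ ≫ ·) (Over.w β.hom)).symm.trans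
          (Category.assoc _ _ _).symm))))
    let w'' : (Scheme.pointSmallEtale ξz).fiber.obj W'' := Over.homMk (pullback.lift lz w'.left hαβ) (by
      change pullback.lift lz _ _ ≫ pullback.fst α.left β.left ≫ B₁.hom = ξz
      rw [pullback.lift_fst_assoc])
    have ht'' : gmS F' ξz W'' w'' t'' = gz := by
      refine (gmS_map F' ξz (pairSnd α β) w'' t').trans (Eq.trans ?_ ht')
      exact congrArg (fun k => gmS F' ξz W' k t') (Over.OverMorphism.ext (pullback.lift_snd _ _ _))
    obtain ⟨E, hE, hEiff⟩ := exists_drel_locus φ W'' W t'' t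
    let R := pullback (pf.left ≫ m) q₀
    have hpf : pf.left ≫ B₁.hom = W''.hom := Over.w pf.hom
    let r : R ⟶ pullback (W''.hom ≫ f) (W.hom ≫ f) := pullback.lift (pullback.fst _ _) (pullback.snd _ _) (by
      rw [← hq₀, ← pullback.condition_assoc, ← hpf, Category.assoc, ← hm]
      simp only [m, Category.assoc])
    have : UniversallyOpen (pullback.fst (pf.left ≫ m) q₀) :=
      MorphismProperty.pullback_fst (P := @UniversallyOpen) _ _ inferInstance
    let O : W''.left.Opens :=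
      ⟨pullback.fst (pf.left ≫ m) q₀ '' (r ⁻¹' E), (pullback.fst (pf.left ≫ m) q₀).isOpenMap _
        (hE.preimage r.continuous)⟩
    let ι := etalePieceHom W'' O
    refine ⟨etalePiece W'' O, ι ≫ pf, F'.obj.map ι.op t'', ?_, fun K _ _ ξ ξ' y w hy => ?_⟩
    · let wl'' : Spec (CommRingCat.of _) ⟶ W''.left := pullback.lift lz w'.left hαβ
      let l₀ := pullback.lift (f := pf.left ≫ m) (g := q₀) wl'' lw (by
        change pullback.lift lz _ _ ≫ pullback.fst α.left β.left ≫ m = _
        rw [pullback.lift_fst_assoc, hlq])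
      have h0 : (l₀ ≫ r) default ∈ E := by
        refine (hEiff _ ξz ξw w'' (Over.homMk lw rfl) (l₀ ≫ r) ?_ ?_).2 ?_
        · rw [Category.assoc, pullback.lift_fst, pullback.lift_fst]; rfl
        · rw [Category.assoc, pullback.lift_snd, pullback.lift_snd]; rfl
        · rw [ht'']
          exact hgz.symm hφ
      have hm0 : fiberPt w'' ∈ O :=
        ⟨l₀ default, h0, congrArg (fun k : Spec (CommRingCat.of _) ⟶ W''.left => k default)
          (pullback.lift_fst _ _ _)⟩
      refine ⟨⟨fiberPt w'', hm0⟩, ?_⟩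
      change pf.left (fiberPt w'') = z
      refine (congrArg (fun k : _ ⟶ B₁.left => k default) (pullback.lift_fst _ _ _)).trans ?_
      change (l ≫ pullback.fst m q₀) default = z
      rw [Scheme.Hom.comp_apply, algPoint_default]; exact hc₁
    · let yl : Spec (CommRingCat.of K) ⟶ W''.left := (y.left : _ ⟶ (etalePiece W'' O).left) ≫ O.ι
      let wl : Spec (CommRingCat.of K) ⟶ W.left := w.left
      let yO : Spec (CommRingCat.of K) ⟶ (etalePiece W'' O).left := y.left
      have hy' : yl ≫ pf.left ≫ m = wl ≫ q₀ := by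
        refine Eq.trans ?_ hy
        refine (Category.assoc _ _ _).trans (congrArg (yO ≫ ·) ?_)
        exact (Category.assoc _ _ _).symm
      let l₁ : Spec (CommRingCat.of K) ⟶ R := pullback.lift yl wl hy'
      obtain ⟨rr, hrr, hrr'⟩ := (yO default).2
      obtain ⟨c', hc', -⟩ := Scheme.Pullback.exists_preimage_pullback (f := pullback.fst (pf.left ≫ m) q₀)
        (g := yl) rr default hrr'
      let l₂ := algPoint _ c' ≫ pullback.fst (pullback.fst (pf.left ≫ m) q₀) yl
      obtain ⟨i, hi⟩ := Spec.map_surjective (algPoint _ c' ≫ pullback.snd (pullback.fst (pf.left ≫ m) q₀) yl)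
      have h₂ : l₂ ≫ pullback.fst (pf.left ≫ m) q₀ = Spec.map i ≫ yl := by
        rw [hi, Category.assoc, Category.assoc, pullback.condition]
      let y₂ : (Scheme.pointSmallEtale (Spec.map i ≫ ξ)).fiber.obj W'' := Over.homMk (Spec.map i ≫ yl)
        ((Category.assoc _ _ _).trans (congrArg (_ ≫ ·) ((Category.assoc _ _ _).trans (Over.w y))))
      let ws := l₂ ≫ pullback.snd (pf.left ≫ m) q₀
      let wK : (Scheme.pointSmallEtale (Spec.map i ≫ ξ')).fiber.obj W := Over.homMk (Spec.map i ≫ wl)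
        ((Category.assoc _ _ _).trans (congrArg (_ ≫ ·) (Over.w w)))
      have hws : ws ≫ q₀ = (Spec.map i ≫ wl) ≫ q₀ := by
        simp only [ws, Category.assoc, ← pullback.condition]
        rw [reassoc_of% h₂, hy']
      have h0 : (l₂ ≫ r) default ∈ E := by
        rw [Scheme.Hom.comp_apply, Scheme.Hom.comp_apply, algPoint_default, hc']
        exact hrr
      have d₁ := (hEiff _ (Spec.map i ≫ ξ) (ws ≫ W.hom) y₂ (Over.homMk ws rfl) (l₂ ≫ r)
        (by rw [Category.assoc, pullback.lift_fst, h₂]; rfl)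
        (by rw [Category.assoc, pullback.lift_snd]; rfl)).1 h0
      have d₂ := d₁.trans hφ (hcons _ (ws ≫ W.hom) (Spec.map i ≫ ξ') (Over.homMk ws rfl) wK hws)
      have h1 := (hEiff _ _ _ y₂ wK ((Spec.map i ≫ l₁) ≫ r)
        (by simp only [Category.assoc, r, l₁, pullback.lift_fst]; rfl)
        (by simp only [Category.assoc, r, l₁, pullback.lift_snd]; rfl)).2 d₂
      have h1' : (l₁ ≫ r) default ∈ E := by
        rw [Category.assoc, Scheme.Hom.comp_apply] at h1
        exact Subsingleton.elim (Spec.map i default) default ▸ h1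
      have d := (hEiff _ ξ ξ' ((Scheme.pointSmallEtale ξ).fiber.map ι y) w (l₁ ≫ r)
        (by simp only [Category.assoc, r, l₁, pullback.lift_fst]; rfl)
        (by simp only [Category.assoc, r, l₁, pullback.lift_snd]; rfl)).1 h1'
      rw [gmS_map]
      exact d
  choose Wz iz tz hcov hrel using hloc
  -- gluing
  obtain ⟨σ, hσ⟩ := exists_glue_coverSh F' B₁ (fun z : ULift.{u + 1} B₁.left => Wz z.down)
    (fun z => iz z.down) (fun z => ⟨⟨z⟩, hcov z⟩) (fun z => tz z.down) (fun k j R gk gj he => by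
      refine eq_of_gmS F' R _ _ fun x => ?_
      let n : R.left ⟶ V.left := gk.left ≫ (iz k.down).left ≫ m
      obtain ⟨w₁, hw₁⟩ := hmr ((iz k.down).left (gk.left x))
      obtain ⟨c, hc, -⟩ := Scheme.Pullback.exists_preimage_pullback (f := n) (g := q₀) x w₁
        (by rw [hw₁]; rfl)
      let lx := algPoint _ c ≫ pullback.fst n q₀
      let lw := algPoint _ c ≫ pullback.snd n q₀
      let y : (Scheme.pointSmallEtale (lx ≫ R.hom)).fiber.obj R := Over.homMk lx rfl
      refine ⟨_, inferInstance, inferInstance, lx ≫ R.hom, y, ?_, ?_⟩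
      · change (algPoint _ c ≫ pullback.fst n q₀) default = x
        rw [Scheme.Hom.comp_apply, algPoint_default]; exact hc
      · rw [gmS_map, gmS_map]
        have e : lx ≫ n = lw ≫ q₀ := by simp only [lx, lw, Category.assoc, pullback.condition]
        have he' : gk.left ≫ (iz k.down).left = gj.left ≫ (iz j.down).left :=
          congrArg (fun h : R ⟶ B₁ => h.left) he
        refine DRel.unique_left (hrel k.down _ _ (lw ≫ W.hom) _ (Over.homMk lw rfl) ?_)
          (hrel j.down _ _ (lw ≫ W.hom) _ (Over.homMk lw rfl) ?_)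
        · change (lx ≫ gk.left) ≫ (iz k.down).left ≫ m = lw ≫ q₀
          rw [Category.assoc]; exact e
        · change (lx ≫ gj.left) ≫ (iz j.down).left ≫ m = lw ≫ q₀
          rw [Category.assoc, ← reassoc_of% he']; exact e)
  have hpiece : ∀ (K : Type u) [Field K] [IsSepClosed K] (ξ ξ' : Spec (CommRingCat.of K) ⟶ T)
      (b : (Scheme.pointSmallEtale ξ).fiber.obj B₁) (w : (Scheme.pointSmallEtale ξ').fiber.obj W),
      (b.left : _ ⟶ B₁.left) ≫ m = (w.left : _ ⟶ W.left) ≫ q₀ →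
        DRel φ ξ ξ' (gmS F' ξ B₁ b σ) (gmS F' ξ' W w t) := by
    intro K _ _ ξ ξ' b w hb
    let z := fiberPt b
    have : Etale (iz z).left := etale_map_left (iz z)
    obtain ⟨x, hx⟩ := hcov z
    obtain ⟨l, hl, -⟩ := Scheme.exists_fac_of_etale_of_isSepClosed (iz z).left (b.left : _ ⟶ B₁.left) x hx
    have hlW : l ≫ (Wz z).hom = ξ := by
      rw [show (Wz z).hom = (iz z).left ≫ B₁.hom from (Over.w (iz z).hom).symm, ← Category.assoc, hl]
      exact Over.w b
    let y : (Scheme.pointSmallEtale ξ).fiber.obj (Wz z) := Over.homMk l hlW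
    have e : (Scheme.pointSmallEtale ξ).fiber.map (iz z) y = b := Over.OverMorphism.ext hl
    rw [← e, ← gmS_map, hσ ⟨z⟩]
    refine hrel z K ξ ξ' y w ?_
    change l ≫ (iz z).left ≫ m = _
    rw [reassoc_of% hl]; exact hb
  let ξ₀' : FibrePts f (ξ₀ ≫ f) := ⟨ξ₀, rfl⟩
  obtain ⟨v₀, hv₀⟩ : ∃ v₀ : (Scheme.pointSmallEtale (ξ₀ ≫ f)).fiber.obj V,
      (Scheme.pointSmallEtale ξ₀).fiber.map p w₀ = bcLift f _ ξ₀' V v₀ :=
    ⟨(bcLiftEquiv f _ ξ₀' V).symm ((Scheme.pointSmallEtale ξ₀).fiber.map p w₀),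
      ((bcLiftEquiv f _ ξ₀' V).apply_symm_apply _).symm⟩
  have hvq : (w₀.left : _ ⟶ W.left) ≫ q₀ = (v₀.left : _ ⟶ V.left) := by
    refine (Category.assoc _ _ _).symm.trans ?_
    refine (congrArg (fun k => k.left ≫ EtShriek.prV f V) hv₀).trans ?_
    exact pullback.lift_fst _ _ _
  obtain ⟨l, hl⟩ : ∃ l : Spec (CommRingCat.of Ω) ⟶ (V₀ : Scheme.{u}), l ≫ V₀.ι = v₀.left := by
    refine ⟨IsOpenImmersion.lift V₀.ι v₀.left ?_, IsOpenImmersion.lift_fac _ _ _⟩
    rintro _ ⟨b, rfl⟩
    rw [Scheme.Opens.range_ι, ← hvq]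
    exact ⟨_, (Scheme.Hom.comp_apply _ _ _).symm⟩
  let u₀ : (Scheme.pointSmallEtale (ξ₀ ≫ f)).fiber.obj U :=
    Over.homMk l ((Category.assoc _ _ _).symm.trans ((congrArg (· ≫ V.hom) hl).trans (Over.w v₀)))
  have hmv : ∀ {K : Type u} [Field K] [IsSepClosed K] {η : Spec (CommRingCat.of K) ⟶ X}
      (ξ : FibrePts f η) (v : (Scheme.pointSmallEtale η).fiber.obj U),
      (bcLift f η ξ U v).left ≫ m = (v.left : _ ⟶ U.left) ≫ V₀.ι := by
    intro K _ _ η ξ v
    refine (congrArg ((bcLift f η ξ U v).left ≫ ·) (EtCoh.isPullback_bc_map f a).w).trans ?_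
    exact (Category.assoc _ _ _).symm.trans (congrArg (· ≫ V₀.ι) (pullback.lift_fst _ _ _))
  refine ⟨U, σ, u₀, fun K _ _ η v ξ₁ ξ₂ => ?_, ?_⟩
  · let b₁ := bcLift f η ξ₁ U v
    let b₂ := bcLift f η ξ₂ U v
    let vl : Spec (CommRingCat.of K) ⟶ (V₀ : Scheme.{u}) := v.left
    obtain ⟨w₁, hw₁⟩ := (vl default).2
    obtain ⟨c, -, -⟩ := Scheme.Pullback.exists_preimage_pullback (f := vl ≫ V₀.ι) (g := q₀) default w₁ hw₁.symm
    obtain ⟨i, hi⟩ := Spec.map_surjective (algPoint _ c ≫ pullback.fst (vl ≫ V₀.ι) q₀)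
    let lw := algPoint _ c ≫ pullback.snd (vl ≫ V₀.ι) q₀
    have hlw : Spec.map i ≫ vl ≫ V₀.ι = lw ≫ q₀ := by
      rw [hi]; simp only [lw, Category.assoc, pullback.condition]
    let e₁ : (Scheme.pointSmallEtale (Spec.map i ≫ ξ₁.1)).fiber.obj B₁ := Over.homMk (Spec.map i ≫ b₁.left)
      ((Category.assoc _ _ _).trans (congrArg (_ ≫ ·) (Over.w b₁)))
    let e₂ : (Scheme.pointSmallEtale (Spec.map i ≫ ξ₂.1)).fiber.obj B₁ := Over.homMk (Spec.map i ≫ b₂.left)
      ((Category.assoc _ _ _).trans (congrArg (_ ≫ ·) (Over.w b₂)))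
    have d₁ := hpiece _ _ (lw ≫ W.hom) e₁ (Over.homMk lw rfl)
      ((Category.assoc _ _ _).trans ((congrArg (_ ≫ ·) (hmv ξ₁ v)).trans hlw))
    have d₂ := hpiece _ _ (lw ≫ W.hom) e₂ (Over.homMk lw rfl)
      ((Category.assoc _ _ _).trans ((congrArg (_ ≫ ·) (hmv ξ₂ v)).trans hlw))
    obtain ⟨E, -, hE⟩ := exists_drel_locus φ B₁ B₁ σ σ
    let L : Spec (CommRingCat.of K) ⟶ pullback (B₁.hom ≫ f) (B₁.hom ≫ f) :=
      pullback.lift b₁.left b₂.left (by
        rw [← Category.assoc, ← Category.assoc, show b₁.left ≫ B₁.hom = ξ₁.1 from Over.w b₁,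
          show b₂.left ≫ B₁.hom = ξ₂.1 from Over.w b₂]
        exact ξ₁.2.trans ξ₂.2.symm)
    have h1 := (hE _ _ _ e₁ e₂ (Spec.map i ≫ L) (by rw [Category.assoc, pullback.lift_fst]; rfl)
      (by rw [Category.assoc, pullback.lift_snd]; rfl)).2 (d₁.trans hφ (d₂.symm hφ))
    refine (hE _ _ _ b₁ b₂ L (pullback.lift_fst _ _ _) (pullback.lift_snd _ _ _)).1 ?_
    rw [Scheme.Hom.comp_apply] at h1
    exact Subsingleton.elim (Spec.map i default) default ▸ h1
  · refine DRel.unique_left (hpiece Ω ξ₀ ξ₀ _ w₀ ?_) (hg₀ ▸ DRel.refl hφ ξ₀ (gmS F' ξ₀ W w₀ t)) |>.trans hg₀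
    rw [hmv ξ₀' u₀, hvq]; exact hl

/-- Effective descent along surjective universally open morphisms with consistent neighbourhoods. -/
theorem isEffective_of_consistent [Surjective f] [UniversallyOpen f] (hφ : EtDesc.IsCocycle F' φ)
    (hC : Consistent φ) : EtDesc.IsEffective f F' φ := by
  have hq : ∀ V : X.Etale, Function.Surjective (EtShriek.prV f V) ∧
      Topology.IsQuotientMap (EtShriek.prV f V) := fun V => by
    have : Surjective (EtShriek.prV f V) :=
      MorphismProperty.pullback_fst (P := @Surjective) V.hom f inferInstance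
    have : UniversallyOpen (EtShriek.prV f V) :=
      MorphismProperty.pullback_fst (P := @UniversallyOpen) V.hom f inferInstance
    exact ⟨(EtShriek.prV f V).surjective, (EtShriek.prV f V).isOpenMap.isQuotientMap
      (EtShriek.prV f V).continuous (EtShriek.prV f V).surjective⟩
  refine isEffective_of_bijective φ fun y => ⟨injective_stalk_descComparison φ hq _, fun g₀ => ?_⟩
  let ξ₀' : FibrePts f (sepPoint T y ≫ f) := ⟨sepPoint T y, rfl⟩
  obtain ⟨U, σ, u₀, hσ, he⟩ := exists_compatSec_germ φ hφ hC (sepPoint T y) g₀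
  refine ⟨toPullSh f _ ξ₀' (descSheaf F' φ) (gmS _ _ U u₀ ⟨σ, hσ⟩), ?_⟩
  exact (descComparison_germ φ ξ₀' U u₀ ⟨σ, hσ⟩).trans he

end Groth.Agent.Et18.H0Lift
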