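import Groth.Agent.Et18.H0Lift.AcyclicBC
import Groth.Agent.Et18.H0Lift.EffectiveLocal

/-!
# Consistent neighbourhoods from base change over affine opens
-/

set_option autoImplicit false
set_option backward.isDefEq.respectTransparency.types false
set_option backward.isDefEq.respectTransparency false

universe u

open CategoryTheory CategoryTheory.Limits AlgebraicGeometry Opposite

namespace Groth.Agent.Et18.H0Lift

/-- Base changes of universally locally 0-acyclic morphisms are so. -/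
theorem isULocZeroAcyclic_of_isPullback {X Y X' Y' : Scheme.{u}} {g : X ⟶ Y} (hg : EtAcyc.IsULocZeroAcyclic g)
    {g' : X' ⟶ Y'} {b' : X' ⟶ X} {b : Y' ⟶ Y} (sq : IsPullback b' g' g b) :
    EtAcyc.IsULocZeroAcyclic g' :=
  fun _ _ g₁ c' c sq' => hg g₁ (c' ≫ b') (c ≫ b) (sq'.paste_horiz sq)

variable {T X : Scheme.{u}} {f : T ⟶ X} {F' : EtDesc.Sh T}
  (φ : (EtDesc.pullSh (pullback.fst f f)).obj F' ≅ (EtDesc.pullSh (pullback.snd f f)).obj F')

set_option maxHeartbeats 2000000 in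
/-- Universally locally 0-acyclic morphisms give consistent neighbourhoods. -/
theorem consistent_of_uLocZeroAcyclic (hφ : EtDesc.IsCocycle F' φ) (hg : EtAcyc.IsULocZeroAcyclic f) :
    Consistent φ := by
  intro Ω _ _ ξ₀ g₀
  obtain ⟨W₀, w₀, t₀, rfl⟩ := (Scheme.pointSmallEtale ξ₀).toPresheafFiber_jointly_surjective (P := F'.obj) g₀
  obtain ⟨D, hD, hxD, -⟩ := exists_isAffineOpen_mem_and_subset (X := X) (x := f (ξ₀ default)) (U := ⊤) trivial
  obtain ⟨U, hU, hxU, hle⟩ :=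
    exists_isAffineOpen_mem_and_subset (X := T) (x := ξ₀ default) (U := f ⁻¹ᵁ D) hxD
  have : IsAffine U.toScheme := hU
  have : IsAffine D.toScheme := hD
  let u : U.toScheme ⟶ T := U.ι
  let d : D.toScheme ⟶ X := D.ι
  let a : U.toScheme ⟶ D.toScheme := f.resLE D U hle
  have hua : u ≫ f = a ≫ d := (Scheme.Hom.resLE_comp_ι f hle).symm
  let e := pullback.fst f d
  let fD := pullback.snd f d
  let G := (EtDesc.pullSh u).obj F'
  let R := pullback a fD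
  have hβ : IsIso (EtBC.baseChange0Sh a fD (pullback.snd a fD) (pullback.fst a fD) pullback.condition G) :=
    isIso_baseChange0Sh_of_uLocZeroAcyclic (IsPullback.of_hasPullback a fD)
      (isULocZeroAcyclic_of_isPullback hg (IsPullback.of_hasPullback f d)) G
  let r₁ := pullback.fst a fD
  let r₂ := pullback.snd a fD
  have hj : (r₁ ≫ u) ≫ f = (r₂ ≫ e) ≫ f := by
    rw [Category.assoc, hua, ← Category.assoc, show r₁ ≫ a = r₂ ≫ fD from pullback.condition, Category.assoc,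
      Category.assoc]
    exact congrArg (r₂ ≫ ·) pullback.condition.symm
  let j : R ⟶ EtDesc.X2 f := pullback.lift (r₁ ≫ u) (r₂ ≫ e) hj
  have hj₁ : j ≫ pullback.fst f f = r₁ ≫ u := pullback.lift_fst _ _ _
  let G₁ := (EtDesc.pullSh r₁).obj G
  let κ : (EtDesc.pullSh j).obj ((EtDesc.pullSh (pullback.fst f f)).obj F') ≅ G₁ :=
    EtDesc.pullVia j (pullback.fst f f) (r₁ ≫ u) hj₁ F' ≪≫ (EtDesc.pullVia r₁ u (r₁ ≫ u) rfl F').symm
  let W₁ := (EtCoh.bc e).obj W₀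
  let N₁ := (EtCoh.bc r₂).obj W₁
  let M₀ := (EtCoh.bc (pullback.snd f f)).obj W₀
  let M := (EtCoh.bc j).obj M₀
  let θl : N₁.left ⟶ M₀.left := pullback.lift (EtShriek.prV r₂ W₁ ≫ EtShriek.prV e W₀) (N₁.hom ≫ j) (by
    rw [Category.assoc, Category.assoc, pullback.lift_snd,
      show EtShriek.prV e W₀ ≫ W₀.hom = W₁.hom ≫ e from pullback.condition,
      show N₁.hom ≫ r₂ ≫ e = (N₁.hom ≫ r₂) ≫ e from (Category.assoc _ _ _).symm,
      show N₁.hom ≫ r₂ = EtShriek.prV r₂ W₁ ≫ W₁.hom from pullback.condition.symm, Category.assoc])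
  let θ : N₁ ⟶ M := MorphismProperty.Over.homMk (pullback.lift θl N₁.hom (pullback.lift_snd _ _ _))
    (pullback.lift_snd _ _ _)
  let s : EtDesc.sect G₁ N₁ := κ.hom.hom.app (op N₁)
    (((EtDesc.pullSh j).obj ((EtDesc.pullSh (pullback.fst f f)).obj F')).obj.map θ.op
      (((EtDesc.adjSh j).unit.app _).hom.app (op M₀)
        (φ.inv.hom.app (op M₀) (((EtDesc.adjSh (pullback.snd f f)).unit.app F').hom.app (op W₀) t₀))))
  let P := (EtDesc.pushSh r₂).obj G₁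
  obtain ⟨ξd, hξd⟩ : ∃ ξd : Spec (CommRingCat.of Ω) ⟶ D.toScheme, ξd ≫ d = ξ₀ ≫ f := by
    refine ⟨IsOpenImmersion.lift d (ξ₀ ≫ f) ?_, IsOpenImmersion.lift_fac _ _ _⟩
    rintro _ ⟨b, rfl⟩
    rw [Scheme.Opens.range_ι, Subsingleton.elim b default]
    exact hxD
  let ξD : Spec (CommRingCat.of Ω) ⟶ pullback f d := pullback.lift ξ₀ ξd hξd.symm
  let ξD' : FibrePts e ξ₀ := ⟨ξD, pullback.lift_fst _ _ _⟩
  have hb : Function.Bijective ((stalkSh ξD).map
      (EtBC.baseChange0Sh a fD r₂ r₁ pullback.condition G)) := (isIso_iff_bijective _).1 (Functor.map_isIso _ _)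
  obtain ⟨ε, hε⟩ := hb.2 (gmS P ξD W₁ (bcLift e ξ₀ ξD' W₀ w₀) s)
  obtain ⟨ε', rfl⟩ := (bijective_toPullSh fD (⟨ξD, rfl⟩ : FibrePts fD (ξD ≫ fD)) ((EtDesc.pushSh a).obj G)).2 ε
  obtain ⟨V, v₀, σ, rfl⟩ := (Scheme.pointSmallEtale (ξD ≫ fD)).toPresheafFiber_jointly_surjective
    (P := ((EtDesc.pushSh a).obj G).obj) ε'
  let sq := bcSquareHom a fD r₂ r₁ pullback.condition V
  let σ₁ := ((EtDesc.adjSh r₁).unit.app G).hom.app (op ((EtCoh.bc a).obj V)) σ
  have he' : gmS P ξD ((EtCoh.bc fD).obj V) (bcLift fD _ ⟨ξD, rfl⟩ V v₀) (G₁.obj.map sq.op σ₁) =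
      gmS P ξD W₁ (bcLift e ξ₀ ξD' W₀ w₀) s := by
    refine Eq.trans ?_ hε
    refine Eq.trans ?_ (congrArg ((stalkSh ξD).map _)
      (gmS_unit fD (⟨ξD, rfl⟩ : FibrePts fD _) ((EtDesc.pushSh a).obj G) V v₀ σ))
    refine Eq.trans ?_ (gmS_hom (EtBC.baseChange0Sh a fD r₂ r₁ pullback.condition G) ξD _ _ _).symm
    exact congrArg (gmS P ξD _ _) (ConcreteCategory.congr_hom
      (unit_baseChange0Sh a fD r₂ r₁ pullback.condition G V) σ).symm
  obtain ⟨WD, p₁, p₂, wD, -, hw₂, heq⟩ := exists_eq_nhd (F := P) (W₁ := (EtCoh.bc fD).obj V) (W₂ := W₁) ξD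
    (bcLift fD _ ⟨ξD, rfl⟩ V v₀) (bcLift e ξ₀ ξD' W₀ w₀) (G₁.obj.map sq.op σ₁) s he'
  -- transport to `T`
  have : Etale V.hom := V.prop
  have : Etale WD.hom := WD.prop
  let VX : X.Etale := Scheme.Etale.mk (V.hom ≫ d)
  let WT : T.Etale := Scheme.Etale.mk (WD.hom ≫ e)
  let O : WT.left.Opens := WT.hom ⁻¹ᵁ U
  let W := etalePiece WT O
  let iW : W.left ⟶ WD.left := O.ι
  let pl : W.left ⟶ ((EtCoh.bc f).obj VX).left :=
    pullback.lift (iW ≫ p₁.left ≫ EtShriek.prV fD V) W.hom (by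
      change (iW ≫ p₁.left ≫ EtShriek.prV fD V) ≫ V.hom ≫ d = (iW ≫ WD.hom ≫ e) ≫ f
      simp only [Category.assoc]
      refine congrArg (iW ≫ ·) ?_
      rw [show EtShriek.prV fD V ≫ V.hom ≫ d = (((EtCoh.bc fD).obj V).hom ≫ fD) ≫ d from
        ((Category.assoc _ _ _).symm.trans (congrArg (· ≫ d) pullback.condition)), Category.assoc]
      refine (Category.assoc _ _ _).symm.trans ((congrArg (· ≫ fD ≫ d) (Over.w p₁.hom)).trans ?_)
      exact congrArg (WD.hom ≫ ·) pullback.condition.symm)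
  let p : W ⟶ (EtCoh.bc f).obj VX := MorphismProperty.Over.homMk pl (pullback.lift_snd _ _ _)
  let π : W ⟶ W₀ := MorphismProperty.Over.homMk (iW ≫ p₂.left ≫ EtShriek.prV e W₀) (by
    change (iW ≫ p₂.left ≫ EtShriek.prV e W₀) ≫ W₀.hom = iW ≫ WD.hom ≫ e
    rw [Category.assoc, Category.assoc, show EtShriek.prV e W₀ ≫ W₀.hom = W₁.hom ≫ e from pullback.condition,
      reassoc_of% (Over.w p₂.hom)])
  let wl : Spec (CommRingCat.of Ω) ⟶ WT.left := wD.left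
  have hwl : wl ≫ WT.hom = ξ₀ := by
    change wl ≫ WD.hom ≫ e = ξ₀
    rw [← Category.assoc, show wl ≫ WD.hom = ξD from Over.w wD, pullback.lift_fst]
  obtain ⟨l, hl⟩ : ∃ l : Spec (CommRingCat.of Ω) ⟶ O.toScheme, l ≫ O.ι = wl := by
    refine ⟨IsOpenImmersion.lift O.ι wl ?_, IsOpenImmersion.lift_fac _ _ _⟩
    rintro _ ⟨b, rfl⟩
    rw [Scheme.Opens.range_ι, Subsingleton.elim b default]
    change (wl ≫ WT.hom) default ∈ U
    rw [hwl]
    exact hxU
  let w : (Scheme.pointSmallEtale ξ₀).fiber.obj W := Over.homMk l (by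
    change l ≫ O.ι ≫ WT.hom = ξ₀
    rw [reassoc_of% hl, hwl])
  refine ⟨VX, W, p, w, F'.obj.map π.op t₀, ?_, fun K _ _ ξ₁ ξ₂ w₁ w₂ hw => ?_⟩
  · refine (gmS_map F' ξ₀ π w t₀).trans (congrArg (fun k => gmS F' ξ₀ W₀ k t₀) (Over.OverMorphism.ext ?_))
    change l ≫ iW ≫ p₂.left ≫ EtShriek.prV e W₀ = _
    rw [reassoc_of% hl]
    refine (Category.assoc _ _ _).symm.trans ?_
    exact (congrArg (fun k => k.left ≫ EtShriek.prV e W₀) hw₂).trans (pullback.lift_fst _ _ _)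
  -- the key relation
  have key : ∀ (ξ : Spec (CommRingCat.of K) ⟶ T) (y : (Scheme.pointSmallEtale ξ).fiber.obj W)
      (u₁ : Spec (CommRingCat.of K) ⟶ U.toScheme) (vD : (Scheme.pointSmallEtale (u₁ ≫ a)).fiber.obj V)
      (g : (stalkSh (u₁ ≫ u)).obj F'),
      toPullSh u (u₁ ≫ u) ⟨u₁, rfl⟩ F' g = gmS G u₁ _ (bcLift a _ ⟨u₁, rfl⟩ V vD) σ →
      (y.left : _ ⟶ W.left) ≫ pl ≫ EtShriek.prV f VX = (vD.left : _ ⟶ V.left) →
      DRel φ (u₁ ≫ u) ξ g (gmS F' ξ W y (F'.obj.map π.op t₀)) := by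
    intro ξ y u₁ vD g hgu hy
    let yl : Spec (CommRingCat.of K) ⟶ WD.left := (y.left : _ ⟶ W.left) ≫ iW
    let ξD₁ := yl ≫ WD.hom
    have hy' : yl ≫ p₁.left ≫ EtShriek.prV fD V = (vD.left : _ ⟶ V.left) := by
      rw [← hy, show pl ≫ EtShriek.prV f VX = iW ≫ p₁.left ≫ EtShriek.prV fD V from pullback.lift_fst _ _ _]
      exact Category.assoc _ _ _
    have hξ : ξD₁ ≫ e = ξ := by
      simp only [ξD₁, yl, Category.assoc]
      exact Over.w y
    have hu₁ : u₁ ≫ a = ξD₁ ≫ fD := by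
      rw [← show (vD.left : _ ⟶ V.left) ≫ V.hom = u₁ ≫ a from Over.w vD, ← hy']
      simp only [ξD₁, Category.assoc]
      refine congrArg (yl ≫ ·) ?_
      rw [show EtShriek.prV fD V ≫ V.hom = ((EtCoh.bc fD).obj V).hom ≫ fD from pullback.condition,
        reassoc_of% (Over.w p₁.hom)]
    let ζR : Spec (CommRingCat.of K) ⟶ R := pullback.lift u₁ ξD₁ hu₁
    have h₁ : ζR ≫ r₁ = u₁ := pullback.lift_fst _ _ _
    have h₂ : ζR ≫ r₂ = ξD₁ := pullback.lift_snd _ _ _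
    let ζ := ζR ≫ j
    have k₁ : ζ ≫ pullback.fst f f = u₁ ≫ u := by
      rw [Category.assoc, hj₁, ← Category.assoc, h₁]
    have k₂ : ζ ≫ pullback.snd f f = ξ := by
      rw [Category.assoc, pullback.lift_snd, ← Category.assoc, h₂, hξ]
    let yD : (Scheme.pointSmallEtale ξD₁).fiber.obj WD := Over.homMk yl rfl
    let z := bcLift r₂ ξD₁ ⟨ζR, h₂⟩ WD yD
    have hz : (Scheme.pointSmallEtale ζR).fiber.map ((EtCoh.bc r₂).map p₁ ≫ sq) z =
        bcLift r₁ u₁ ⟨ζR, h₁⟩ ((EtCoh.bc a).obj V) (bcLift a _ ⟨u₁, rfl⟩ V vD) := by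
      refine Over.OverMorphism.ext (pullback.hom_ext (pullback.hom_ext ?_ ?_) ?_)
      · change ((z.left ≫ ((EtCoh.bc r₂).map p₁).left ≫ sq.left) ≫ EtShriek.prV r₁ _) ≫ EtShriek.prV a V =
          ((bcLift r₁ u₁ ⟨ζR, h₁⟩ _ (bcLift a _ ⟨u₁, rfl⟩ V vD)).left ≫ EtShriek.prV r₁ _) ≫ EtShriek.prV a V
        simp only [Category.assoc]
        rw [bcSquareHom_fst, reassoc_of% (EtCoh.isPullback_bc_map r₂ p₁).w]
        refine (Category.assoc _ _ _).symm.trans ((congrArg (· ≫ _) (pullback.lift_fst _ _ _)).trans ?_)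
        refine hy'.trans ?_
        refine Eq.trans ?_ ((congrArg (· ≫ EtShriek.prV a V) (pullback.lift_fst _ _ _)).symm.trans (Category.assoc _ _ _))
        exact (pullback.lift_fst _ _ _).symm
      · have e' := Over.w ((Scheme.pointSmallEtale ζR).fiber.map ((EtCoh.bc r₂).map p₁ ≫ sq) z)
        refine Eq.trans ?_ (((congrArg (· ≫ ((EtCoh.bc a).obj V).hom) (pullback.lift_fst _ _ _)).trans
          (pullback.lift_snd _ _ _)).symm)
        refine Eq.trans ?_ h₁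
        refine (Category.assoc _ _ _).trans ((congrArg (_ ≫ ·) (pullback.condition
          (f := ((EtCoh.bc a).obj V).hom) (g := r₁))).trans ?_)
        exact (Category.assoc _ _ _).symm.trans (congrArg (· ≫ r₁) e')
      · exact (Over.w ((Scheme.pointSmallEtale ζR).fiber.map ((EtCoh.bc r₂).map p₁ ≫ sq) z)).trans
          (Over.w (bcLift r₁ u₁ ⟨ζR, h₁⟩ _ (bcLift a _ ⟨u₁, rfl⟩ V vD))).symm
    -- both sides as germs at `ζR`
    let gt := gmS F' ξ W y (F'.obj.map π.op t₀)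
    obtain ⟨gL, hgL⟩ := (bijective_toPullSh (pullback.fst f f) (⟨ζ, k₁⟩ : FibrePts _ (u₁ ≫ u)) F').2
      ((stalkSh ζ).map φ.inv (toPullSh (pullback.snd f f) ξ ⟨ζ, k₂⟩ F' gt))
    suffices hsame : gL = g by
      rw [DRel.iff ζ k₁ k₂, ← hsame, hgL, ← ConcreteCategory.comp_apply, ← Functor.map_comp, φ.inv_hom_id,
        CategoryTheory.Functor.map_id]
      rfl
    -- left side through `κ`
    have hκ : ∀ x : (stalkSh (u₁ ≫ u)).obj F', (stalkSh ζR).map κ.hom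
        (toPullSh j ζ ⟨ζR, rfl⟩ _ (toPullSh (pullback.fst f f) (u₁ ≫ u) ⟨ζ, k₁⟩ F' x)) =
        toPullSh r₁ u₁ ⟨ζR, h₁⟩ G (toPullSh u (u₁ ≫ u) ⟨u₁, rfl⟩ F' x) := fun x => by
      have hc : ζR ≫ r₁ ≫ u = u₁ ≫ u := by rw [← Category.assoc, h₁]
      have e₁ := stalk_pullVia j (pullback.fst f f) hj₁ F' ζR rfl k₁ hc x
      have e₂ := stalk_pullVia r₁ u rfl F' ζR h₁ rfl hc x
      simp only [κ, Iso.trans_hom, Iso.symm_hom, Functor.map_comp, ConcreteCategory.comp_apply]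
      rw [e₁, ← e₂, ← ConcreteCategory.comp_apply, ← Functor.map_comp, Iso.hom_inv_id,
        CategoryTheory.Functor.map_id]
      rfl
    refine (bijective_toPullSh u (⟨u₁, rfl⟩ : FibrePts u (u₁ ≫ u)) F').1
      ((bijective_toPullSh r₁ (⟨ζR, h₁⟩ : FibrePts r₁ u₁) G).1 ?_)
    refine (hκ gL).symm.trans ?_
    rw [hgu, hgL, ← gmS_unit r₁ (⟨ζR, h₁⟩ : FibrePts r₁ u₁), ← hz, ← gmS_map]
    have hnat : G₁.obj.map ((EtCoh.bc r₂).map p₁ ≫ sq).op σ₁ = G₁.obj.map ((EtCoh.bc r₂).map p₂).op s :=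
      (ConcreteCategory.congr_hom (G₁.obj.map_comp sq.op _) σ₁).trans heq
    rw [hnat, gmS_map]
    refine Eq.trans ?_ (gmS_hom κ.hom ζR N₁ _ _)
    refine congrArg ((stalkSh ζR).map κ.hom) ?_
    let zM₀ : (Scheme.pointSmallEtale ζ).fiber.obj M₀ :=
      bcLift (pullback.snd f f) ξ ⟨ζ, k₂⟩ W₀ ((Scheme.pointSmallEtale ξ).fiber.map π y)
    rw [gmS_map, show (Scheme.pointSmallEtale ζR).fiber.map θ ((Scheme.pointSmallEtale ζR).fiber.map
      ((EtCoh.bc r₂).map p₂) z) = bcLift j ζ ⟨ζR, rfl⟩ M₀ zM₀ from ?_]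
    · refine Eq.trans ?_ (gmS_unit j (⟨ζR, rfl⟩ : FibrePts j ζ) _ M₀ zM₀ _).symm
      refine congrArg (toPullSh j ζ ⟨ζR, rfl⟩ _) ?_
      refine Eq.trans ?_ (gmS_hom φ.inv ζ M₀ zM₀ _)
      refine congrArg ((stalkSh ζ).map φ.inv) ?_
      refine Eq.trans ?_ (gmS_unit (pullback.snd f f) (⟨ζ, k₂⟩ : FibrePts _ ξ) _ W₀ _ _).symm
      exact congrArg (toPullSh (pullback.snd f f) ξ ⟨ζ, k₂⟩ F') (gmS_map F' ξ π y t₀)
    · refine Over.OverMorphism.ext (pullback.hom_ext ?_ ?_)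
      · refine Eq.trans ?_ (pullback.lift_fst _ _ _).symm
        refine pullback.hom_ext ?_ ?_
        · refine Eq.trans ?_ (pullback.lift_fst _ _ _).symm
          change (((z.left ≫ ((EtCoh.bc r₂).map p₂).left) ≫ θ.left) ≫ EtShriek.prV j M₀) ≫
            EtShriek.prV (pullback.snd f f) W₀ = (y.left : _ ⟶ W.left) ≫ iW ≫ p₂.left ≫ EtShriek.prV e W₀
          simp only [Category.assoc]
          rw [show θ.left ≫ EtShriek.prV j M₀ ≫ EtShriek.prV (pullback.snd f f) W₀ =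
            EtShriek.prV r₂ W₁ ≫ EtShriek.prV e W₀ from ((Category.assoc _ _ _).symm.trans
              ((congrArg (· ≫ _) (pullback.lift_fst _ _ _)).trans (pullback.lift_fst _ _ _))),
            reassoc_of% (EtCoh.isPullback_bc_map r₂ p₂).w]
          refine (Category.assoc _ _ _).symm.trans ((congrArg (· ≫ _) (pullback.lift_fst _ _ _)).trans ?_)
          exact Category.assoc _ _ _
        · refine Eq.trans ?_ (Over.w zM₀).symm
          have e' := Over.w ((Scheme.pointSmallEtale ζR).fiber.map θ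
            ((Scheme.pointSmallEtale ζR).fiber.map ((EtCoh.bc r₂).map p₂) z))
          refine (Category.assoc _ _ _).trans ((congrArg (_ ≫ ·) pullback.condition).trans ?_)
          exact (Category.assoc _ _ _).symm.trans (congrArg (· ≫ j) e')
      · exact (Over.w ((Scheme.pointSmallEtale ζR).fiber.map θ
          ((Scheme.pointSmallEtale ζR).fiber.map ((EtCoh.bc r₂).map p₂) z))).trans
          (Over.w (bcLift j ζ ⟨ζR, rfl⟩ M₀ zM₀)).symm
  -- conclusion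
  obtain ⟨u₁, hu₁⟩ : ∃ u₁ : Spec (CommRingCat.of K) ⟶ U.toScheme, u₁ ≫ u = ξ₁ := by
    refine ⟨IsOpenImmersion.lift u ξ₁ ?_, IsOpenImmersion.lift_fac _ _ _⟩
    rintro _ ⟨b, rfl⟩
    rw [Scheme.Opens.range_ι, Subsingleton.elim b default]
    let l₁ : Spec (CommRingCat.of K) ⟶ O.toScheme := w₁.left
    have h1 : l₁ ≫ O.ι ≫ WT.hom = ξ₁ := Over.w w₁
    rw [← h1, Scheme.Hom.comp_apply, Scheme.Hom.comp_apply]
    exact (l₁ default).2
  subst hu₁
  let vl : Spec (CommRingCat.of K) ⟶ V.left := (w₁.left : _ ⟶ W.left) ≫ pl ≫ EtShriek.prV f VX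
  let vD : (Scheme.pointSmallEtale (u₁ ≫ a)).fiber.obj V := Over.homMk vl (by
    rw [← cancel_mono d]
    change (vl ≫ V.hom) ≫ d = (u₁ ≫ a) ≫ d
    have h1 : (w₁.left : _ ⟶ W.left) ≫ W.hom = u₁ ≫ u := Over.w w₁
    have h2 : (u₁ ≫ a) ≫ d = (u₁ ≫ u) ≫ f :=
      (Category.assoc _ _ _).trans ((congrArg (u₁ ≫ ·) hua.symm).trans (Category.assoc _ _ _).symm)
    refine Eq.trans ?_ h2.symm
    rw [← h1]
    simp only [vl, Category.assoc]
    refine congrArg ((w₁.left : _ ⟶ W.left) ≫ ·) ?_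
    rw [show EtShriek.prV f VX ≫ V.hom ≫ d = ((EtCoh.bc f).obj VX).hom ≫ f from pullback.condition,
      ← Category.assoc, show pl ≫ ((EtCoh.bc f).obj VX).hom = W.hom from pullback.lift_snd _ _ _])
  obtain ⟨g, hg'⟩ := (bijective_toPullSh u (⟨u₁, rfl⟩ : FibrePts u (u₁ ≫ u)) F').2
    (gmS G u₁ _ (bcLift a _ ⟨u₁, rfl⟩ V vD) σ)
  exact ((key _ w₁ u₁ vD g hg' rfl).symm hφ).trans hφ (key _ w₂ u₁ vD g hg' hw.symm)

end Groth.Agent.Et18.H0Lift
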