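import Groth.Agent.Et18.H0Lift.SmoothBC0
import Groth.Agent.FlatMorLocalStr.SmoothFibres

/-!
# Inverse images along smooth morphisms and fibrewise dense open immersions
-/

set_option autoImplicit false
set_option backward.isDefEq.respectTransparency.types false
set_option backward.isDefEq.respectTransparency false

universe u

open CategoryTheory CategoryTheory.Limits AlgebraicGeometry Opposite TopologicalSpace

namespace Groth.Agent.Et18.H0Lift

theorem mem_sectSupp_iff_of_notMem_sub {X : Scheme.{u}} (F : EtCoh.Ab X) (U : X.Etale) (s t : EtCoh.sect F U)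
    (x : U.left) (h : x ∉ EtShriek.sectSupp F U (s - t)) :
    x ∈ EtShriek.sectSupp F U s ↔ x ∈ EtShriek.sectSupp F U t := by
  obtain ⟨v, hv⟩ := exists_fiber_point (algPoint X (U.hom x)) U x (algPoint_default X _).symm
  rw [← hv] at h ⊢
  rw [← gm_eq_zero_iff] at h
  have e : gm F _ U v s = gm F _ U v t := sub_eq_zero.1 ((map_sub _ _ _).symm.trans h)
  rw [← not_iff_not, ← gm_eq_zero_iff, ← gm_eq_zero_iff, e]

variable {X U S : Scheme.{u}} (f : X ⟶ S) [Smooth f] (j : U ⟶ X) [IsOpenImmersion j]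

/-- `j` is dense in every fibre of `f`. -/
def DenseInFibres : Prop :=
  ∀ x : X, x ∈ closure (Set.range j ∩ {y : X | f y = f x})

variable {f j}

theorem exists_mem_of_dense (hd : DenseInFibres f j) {B : Scheme.{u}} (π : B ⟶ X) [Etale π] {V : Scheme.{u}}
    (v : V ⟶ S) [Etale v] (q : B ⟶ V) (w : π ≫ f = q ≫ v) (N : Set B) (hN : IsOpen N) {b : B} (hb : b ∈ N) :
    ∃ b' ∈ N, π b' ∈ Set.range j ∧ q b' = q b := by
  have := FlatMorWeight.locallyQuasiFinite_of_etale v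
  have hdisc : DiscreteTopology ↥(v ⁻¹' {v (q b)}) := (v.isDiscrete_preimage_singleton (v (q b))).to_subtype
  obtain ⟨O, hO, hOr⟩ := isOpen_induced_iff.1 (isOpen_discrete ({⟨q b, rfl⟩} : Set ↥(v ⁻¹' {v (q b)})))
  have hbO : q b ∈ O := (Set.ext_iff.1 hOr ⟨q b, rfl⟩).2 rfl
  obtain ⟨x, ⟨b', ⟨hb'N, hb'O⟩, rfl⟩, hxj, hxf⟩ := mem_closure_iff.1 (hd (π b)) (π '' (N ∩ q ⁻¹' O))
    (π.isOpenMap _ (hN.inter (hO.preimage q.continuous))) ⟨b, ⟨hb, hbO⟩, rfl⟩
  refine ⟨b', hb'N, hxj, ?_⟩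
  have hvq : v (q b') = v (q b) := by
    have hxf' : f (π b') = f (π b) := hxf
    rwa [← Scheme.Hom.comp_apply, ← Scheme.Hom.comp_apply, w, Scheme.Hom.comp_apply,
      Scheme.Hom.comp_apply] at hxf'
  exact congrArg Subtype.val ((Set.ext_iff.1 hOr ⟨q b', hvq⟩).1 hb'O)

variable (F : EtCoh.Ab S)

/-- The support of a section of the inverse image meets the dense open. -/
theorem exists_mem_supp_of_dense (hd : DenseInFibres f j) (W : X.Etale)
    (σ : EtCoh.sect ((EtCoh.pull f).obj F) W) {y : W.left}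
    (hy : y ∈ EtShriek.sectSupp ((EtCoh.pull f).obj F) W σ) :
    ∃ y', y' ∈ EtShriek.sectSupp ((EtCoh.pull f).obj F) W σ ∧ W.hom y' ∈ Set.range j := by
  let τ := toSec f F W σ
  have hτ : ∀ z, z ∈ gSupp τ ↔ z ∈ EtShriek.sectSupp ((EtCoh.pull f).obj F) W σ := fun z => by
    rw [← gSupp_splitSec (a := W.hom) (b := f) (h := rfl) τ,
      show splitSec W.hom f rfl τ = pullAt ((EtCoh.pull f).obj F) W (𝟙 W.left) (Category.id_comp _) σ from
        ((bijective_splitSec (F := F) (a := W.hom) (b := f) (h := rfl)).2 _).choose_spec]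
    exact mem_sectSupp_pullAt _ W (𝟙 _) (Category.id_comp _) σ z
  let c := W.hom ≫ f
  obtain ⟨V, t, b, hb, hbd⟩ := exists_local_at c F τ y
  let B := (EtCoh.bc c).obj V
  let G := (EtCoh.pull c).obj F
  have key : ∀ z, z ∉ EtShriek.sectSupp G B (diffAt c F τ V t) →
      (EtShriek.prV c V z ∈ EtShriek.sectSupp F V t ↔ B.hom z ∈ gSupp τ) := fun z hz => by
    rw [← mem_sectSupp_unit c F V t z, mem_sectSupp_iff_of_notMem_sub G B _ _ z hz, mem_sectSupp_map]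
    have hh : ((EtCore.topIsTerminal W.left).from B).left = B.hom :=
      (Category.comp_id _).symm.trans (Over.w ((EtCore.topIsTerminal W.left).from B).hom)
    exact Iff.of_eq (congrArg (· ∈ gSupp τ) (congrArg (fun k : B.left ⟶ W.left => k z) hh))
  have : Etale B.hom := B.prop
  have : Etale W.hom := W.prop
  have : Etale V.hom := V.prop
  obtain ⟨b', hb'N, hb'j, hq⟩ := exists_mem_of_dense hd (B.hom ≫ W.hom) V.hom (EtShriek.prV c V)
    ((Category.assoc _ _ _).trans (pullback.condition (f := V.hom) (g := c)).symm) _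
    (isClosed_sectSupp G B _).isOpen_compl hbd
  refine ⟨B.hom b', (hτ _).1 ((key b' hb'N).1 ?_), by rwa [Scheme.Hom.comp_apply] at hb'j⟩
  exact Eq.mpr (congrArg (· ∈ EtShriek.sectSupp F V t) hq)
    ((key b hbd).2 (Eq.mpr (congrArg (· ∈ gSupp τ) hb) ((hτ y).2 hy)))

theorem injective_stalk_unit (hd : DenseInFibres f j) {Ω : Type u} [Field Ω] [IsSepClosed Ω]
    (η : Spec (CommRingCat.of Ω) ⟶ X) (ε : (EtCoh.stalk η).obj ((EtCoh.pull f).obj F))
    (hε : (EtCoh.stalk η).map ((EtCoh.pullPushAdj j).unit.app ((EtCoh.pull f).obj F)) ε = 0) : ε = 0 := by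
  let M := (EtCoh.pull f).obj F
  obtain ⟨W, w, σ, rfl⟩ := (Scheme.pointSmallEtale η).toPresheafFiber_jointly_surjective (P := M.obj) ε
  have h0 : gm ((EtCoh.push j).obj ((EtCoh.pull j).obj M)) η W w (uAt j M W σ) = 0 :=
    (gm_hom ((EtCoh.pullPushAdj j).unit.app M) η W w σ).symm.trans hε
  have h1 := (gm_eq_zero_iff _ η W w _).1 h0
  simp only [EtShriek.sectSupp, Set.mem_ofPred_eq, not_forall, not_not] at h1
  obtain ⟨W', i, ⟨w', hw'⟩, hz⟩ := h1
  refine (gm_eq_zero_iff M η W w σ).2 fun hm => ?_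
  rw [← hw'] at hm
  obtain ⟨y', hy', a, ha⟩ := exists_mem_supp_of_dense F hd W' (M.obj.map i.op σ)
    ((mem_sectSupp_map M i σ w').2 hm)
  obtain ⟨b, hb, -⟩ := Scheme.Pullback.exists_preimage_pullback (f := W'.hom) (g := j) y' a ha.symm
  let b' : ((EtCoh.bc j).obj W').left := b
  have hz' : ((EtCoh.pull j).obj M).obj.map ((EtCoh.bc j).map i).op (uAt j M W σ) = 0 := hz
  have h2 : b' ∈ EtShriek.sectSupp ((EtCoh.pull j).obj M) _
      (((EtCoh.pull j).obj M).obj.map ((EtCoh.bc j).map i).op (uAt j M W σ)) := by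
    rw [mem_sectSupp_map, mem_sectSupp_unit,
      show EtShriek.prV j W (((EtCoh.bc j).map i).left b') = i.left (EtShriek.prV j W' b') from
        congrArg (fun k => k b') (EtCoh.isPullback_bc_map j i).w]
    rw [show EtShriek.prV j W' b' = y' from hb]
    exact (mem_sectSupp_map M i σ y').1 hy'
  rw [hz'] at h2
  exact notMem_sectSupp_zero _ _ _ h2

theorem exists_stalk_unit (hd : DenseInFibres f j) {Ω : Type u} [Field Ω] [IsSepClosed Ω]
    (η : Spec (CommRingCat.of Ω) ⟶ X)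
    (δ : (EtCoh.stalk η).obj ((EtCoh.push j).obj ((EtCoh.pull j).obj ((EtCoh.pull f).obj F)))) :
    ∃ ε, (EtCoh.stalk η).map ((EtCoh.pullPushAdj j).unit.app ((EtCoh.pull f).obj F)) ε = δ := by
  let M := (EtCoh.pull f).obj F
  let N := (EtCoh.pull j).obj M
  let H := (EtCoh.push j).obj N
  obtain ⟨W, w, σ, rfl⟩ := (Scheme.pointSmallEtale η).toPresheafFiber_jointly_surjective (P := H.obj) δ
  let wl : Spec (CommRingCat.of Ω) ⟶ W.left := w.left
  have hwl : wl ≫ W.hom = η := Over.w w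
  have : Etale W.hom := W.prop
  let f₁ := W.hom ≫ f
  obtain ⟨S₀, hS₀, hxS, -⟩ := exists_isAffineOpen_mem_and_subset (X := S) (x := f₁ (wl default)) (U := ⊤) trivial
  obtain ⟨W₀, hW₀, hxW, hle⟩ := exists_isAffineOpen_mem_and_subset (X := W.left) (x := wl default)
    (U := f₁ ⁻¹ᵁ S₀) hxS
  have : IsAffine S₀.toScheme := hS₀
  have : IsAffine W₀.toScheme := hW₀
  obtain ⟨gW, hgW⟩ : ∃ gW : W₀.toScheme ⟶ S₀.toScheme, gW ≫ S₀.ι = W₀.ι ≫ f₁ := by
    refine ⟨IsOpenImmersion.lift S₀.ι (W₀.ι ≫ f₁) ?_, IsOpenImmersion.lift_fac _ _ _⟩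
    rintro _ ⟨z, rfl⟩
    rw [Scheme.Opens.range_ι]
    exact hle z.2
  have : Smooth f₁ := inferInstance
  have : Smooth gW := by
    have : Smooth (gW ≫ S₀.ι) := by rw [hgW]; infer_instance
    exact MorphismProperty.of_postcomp (W := @Smooth) (W' := @IsOpenImmersion) gW S₀.ι inferInstance this
  obtain ⟨U₁, a, ha, O, ⟨x', hx'O, hx'⟩, hconn⟩ :=
    exists_connected_nhd gW (geomRedFibres_of_smooth gW) ⟨wl default, hxW⟩
  have hj := JoinedFibres.of_isAlgClosed (pullback.snd gW a) O hconn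
  let p := pullback.snd gW a
  let aS := a ≫ S₀.ι
  let πX : pullback gW a ⟶ W.left := pullback.fst gW a ≫ W₀.ι
  have hπf : πX ≫ f₁ = p ≫ aS := by
    simp only [πX, p, aS, Category.assoc, ← hgW]
    exact pullback.condition_assoc _
  let P : (pullback gW a).Opens := (πX ≫ W.hom) ⁻¹ᵁ j.opensRange
  let p₂ := P.ι ≫ p
  let O₂ : P.toScheme.Opens := P.ι ⁻¹ᵁ O
  have hj₂ : JoinedFibres p₂ O₂ := by
    intro K _ _ t z₁ z₂ h₁ h₂ hO₁ hO₂
    let l : pullback p₂ t ⟶ pullback p t :=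
      pullback.lift (pullback.fst _ _ ≫ P.ι) (pullback.snd _ _) ((Category.assoc _ _ _).trans pullback.condition)
    have hsq : IsPullback (pullback.fst p₂ t) l P.ι (pullback.fst p t) :=
      IsPullback.of_bot (by
        rw [show l ≫ pullback.snd p t = pullback.snd p₂ t from pullback.lift_snd _ _ _]
        exact IsPullback.of_hasPullback p₂ t) (pullback.lift_fst _ _ _).symm (IsPullback.of_hasPullback p t)
    have : IsOpenImmersion l := MorphismProperty.of_isPullback (P := @IsOpenImmersion) hsq inferInstance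
    have hz : ∀ z (h : z ≫ p₂ = t), (z ≫ P.ι) ≫ p = t := fun z h => (Category.assoc _ _ _).trans h
    have hcc := hj K t (z₁ ≫ P.ι) (z₂ ≫ P.ι) (hz _ h₁) (hz _ h₂)
      (by rw [Scheme.Hom.comp_apply]; exact hO₁) (by rw [Scheme.Hom.comp_apply]; exact hO₂)
    have e : ∀ z (h : z ≫ p₂ = t), (pullback.lift z (𝟙 _) (by rw [h, Category.id_comp]) :
          Spec (CommRingCat.of K) ⟶ pullback p₂ t) ≫ l =
        pullback.lift (z ≫ P.ι) (𝟙 _) (by rw [hz z h, Category.id_comp]) := fun z h => by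
      refine pullback.hom_ext ?_ ?_
      · simp [l]
      · simp [l]
    rw [← e z₁ h₁, ← e z₂ h₂, Scheme.Hom.comp_apply, Scheme.Hom.comp_apply] at hcc
    let A₂ := (pullback.lift z₂ (𝟙 _) (by rw [h₂, Category.id_comp]) :
      Spec (CommRingCat.of K) ⟶ pullback p₂ t) default
    let C := connectedComponent (l A₂)
    have : Smooth gW := inferInstance
    have : Smooth p := inferInstanceAs (Smooth (pullback.snd gW a))
    have hirr : IsIrreducible C :=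
      FlatMorLocalStr.isIrreducible_connectedComponent (pullback.snd p t) _
    have hpre : _root_.IsPreconnected (l ⁻¹' C) := by
      have hirr' : IsPreirreducible (l ⁻¹' C) := hirr.2.preimage l.isOpenEmbedding
      exact hirr'.isPreconnected
    have hm₂ : l A₂ ∈ C := mem_connectedComponent
    exact (connectedComponent_eq (hpre.subset_connectedComponent (x := A₂) hm₂
      (show l _ ∈ C from hcc.le mem_connectedComponent))).symm
  obtain ⟨ŵ, hŵ, hŵd⟩ := Scheme.exists_fac_of_etale_of_isSepClosed πX wl x' (by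
    rw [Scheme.Hom.comp_apply, hx']; rfl)
  have : Flat p₂ := inferInstance
  have : LocallyOfFinitePresentation p₂ := inferInstance
  have : UniversallyOpen (O₂.ι ≫ p₂) := inferInstance
  let GO : U₁.Opens := ⟨Set.range (O₂.ι ≫ p₂), (O₂.ι ≫ p₂).isOpenMap.isOpen_range⟩
  have hx'G : p x' ∈ GO := by
    have : Etale πX := inferInstance
    obtain ⟨b', hb'O, hb'j, hb'p⟩ := exists_mem_of_dense hd (πX ≫ W.hom) aS p
      ((Category.assoc _ _ _).trans hπf) _ O.2 hx'O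
    exact ⟨⟨⟨b', hb'j⟩, hb'O⟩, hb'p⟩
  let V : S.Etale := Scheme.Etale.mk (GO.ι ≫ aS)
  let qX := pullback.fst p₂ GO.ι
  let qT := pullback.snd p₂ GO.ι
  have hsq : qX ≫ p₂ = qT ≫ GO.ι := pullback.condition
  -- the map to the base change of `W` along `j`
  obtain ⟨lU, hlU⟩ : ∃ lU : P.toScheme ⟶ U, lU ≫ j = P.ι ≫ πX ≫ W.hom := by
    refine ⟨IsOpenImmersion.lift j (P.ι ≫ πX ≫ W.hom) ?_, IsOpenImmersion.lift_fac _ _ _⟩
    rintro _ ⟨z, rfl⟩
    exact z.2
  let B₀ := (EtCoh.bc j).obj W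
  let MW : P.toScheme ⟶ B₀.left := pullback.lift (P.ι ≫ πX) lU ((Category.assoc _ _ _).trans hlU.symm)
  have hMW₁ : MW ≫ EtShriek.prV j W = P.ι ≫ πX := pullback.lift_fst _ _ _
  have hMW₂ : MW ≫ B₀.hom = lU := pullback.lift_snd _ _ _
  obtain ⟨τ₀, hτ₀⟩ := (bijective_splitSec (F := F) (a := B₀.hom ≫ j) (b := f) (h := rfl)).2
    (toSec j M B₀ σ)
  have hMc : (qX ≫ MW) ≫ (B₀.hom ≫ j) ≫ f = qT ≫ V.hom := by
    calc (qX ≫ MW) ≫ (B₀.hom ≫ j) ≫ f = qX ≫ P.ι ≫ πX ≫ f₁ := by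
          rw [Category.assoc, Category.assoc B₀.hom, reassoc_of% hMW₂, reassoc_of% hlU]
      _ = (qX ≫ p₂) ≫ aS := by simp only [hπf, p₂, Category.assoc]
      _ = qT ≫ V.hom := by simp [hsq, V, Scheme.Etale.mk, Category.assoc]
  let σQ := pullSec (qX ≫ MW) _ F hMc τ₀
  obtain ⟨s, hs⟩ := exists_descend_joined (F := F) hj₂ (IsPullback.of_hasPullback p₂ GO.ι) (cT := V.hom)
    (fun y => by
      obtain ⟨o, ho⟩ := y.2
      exact ⟨o.1, o.2, ho⟩) (rfl : qT ≫ V.hom = qT ≫ V.hom) σQ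
  obtain ⟨t, ht⟩ := exists_pullAt_id V s
  obtain ⟨vG, hvG⟩ : ∃ vG : Spec (CommRingCat.of Ω) ⟶ GO.toScheme, vG ≫ GO.ι = ŵ ≫ p := by
    refine ⟨IsOpenImmersion.lift GO.ι (ŵ ≫ p) ?_, IsOpenImmersion.lift_fac _ _ _⟩
    rintro _ ⟨z, rfl⟩
    rw [Subsingleton.elim z default, Scheme.Opens.range_ι, Scheme.Hom.comp_apply, hŵd]
    exact hx'G
  -- the neighbourhood
  let R₀ : (pullback gW a).Opens := O ⊓ p ⁻¹ᵁ GO
  obtain ⟨oG, hoG⟩ : ∃ oG : R₀.toScheme ⟶ GO.toScheme, oG ≫ GO.ι = R₀.ι ≫ p := by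
    refine ⟨IsOpenImmersion.lift GO.ι (R₀.ι ≫ p) ?_, IsOpenImmersion.lift_fac _ _ _⟩
    rintro _ ⟨z, rfl⟩
    rw [Scheme.Opens.range_ι]
    exact z.2.2
  let R : X.Etale := Scheme.Etale.mk (R₀.ι ≫ πX ≫ W.hom)
  let iW : R ⟶ W := MorphismProperty.Over.homMk (R₀.ι ≫ πX) (Category.assoc _ _ _)
  let iB : R ⟶ (EtCoh.bc f).obj V := MorphismProperty.Over.homMk (pullback.lift oG (R₀.ι ≫ πX ≫ W.hom) (by
      change oG ≫ GO.ι ≫ aS = _
      rw [reassoc_of% hoG, ← hπf]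
      simp [f₁, Category.assoc]))
    (pullback.lift_snd _ _ _)
  obtain ⟨rl, hrl⟩ : ∃ rl : Spec (CommRingCat.of Ω) ⟶ R₀.toScheme, rl ≫ R₀.ι = ŵ := by
    refine ⟨IsOpenImmersion.lift R₀.ι ŵ ?_, IsOpenImmersion.lift_fac _ _ _⟩
    rintro _ ⟨z, rfl⟩
    rw [Subsingleton.elim z default, Scheme.Opens.range_ι, hŵd]
    exact ⟨hx'O, hx'G⟩
  let r : (Scheme.pointSmallEtale η).fiber.obj R := Over.homMk rl (by
    change rl ≫ R₀.ι ≫ πX ≫ W.hom = η
    rw [reassoc_of% hrl, reassoc_of% hŵ, hwl])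
  have hiW : (Scheme.pointSmallEtale η).fiber.map iW r = w := Over.OverMorphism.ext (by
    change rl ≫ R₀.ι ≫ πX = wl
    rw [reassoc_of% hrl, hŵ])
  let zB := uAt f F V t
  refine ⟨gm M η ((EtCoh.bc f).obj V) ((Scheme.pointSmallEtale η).fiber.map iB r) zB,
    (gm_hom ((EtCoh.pullPushAdj j).unit.app M) η _ _ zB).trans ?_⟩
  rw [← hiW]
  refine ((gm_map H η iB r _).symm.trans ?_).trans (gm_map H η iW r σ)
  refine congrArg (gm H η R r) ?_
  change N.obj.map ((EtCoh.bc j).map iB).op (uAt j M _ zB) = N.obj.map ((EtCoh.bc j).map iW).op σ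
  refine sub_eq_zero.1 (eq_zero_of_sectSupp_eq_empty N _ (_ - _) (Set.eq_empty_iff_forall_notMem.2 fun c => ?_))
  let C := (EtCoh.bc j).obj R
  let ν := algPoint U (C.hom c)
  obtain ⟨r', hr'⟩ := exists_fiber_point ν C c (algPoint_default U _).symm
  rw [← hr']
  refine (gm_eq_zero_iff N ν C r' _).1 ((map_sub _ _ _).trans (sub_eq_zero.2 ?_))
  let ρ : Spec _ ⟶ C.left := r'.left
  have hρ : ρ ≫ C.hom = ν := Over.w r'
  let ρR := ρ ≫ EtShriek.prV j R
  have hρR : ρR ≫ R₀.ι ≫ πX ≫ W.hom = ν ≫ j := by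
    refine (Category.assoc _ _ _).trans ((congrArg (ρ ≫ ·) (pullback.condition (f := R.hom) (g := j))).trans ?_)
    exact (Category.assoc _ _ _).symm.trans (congrArg (· ≫ j) hρ)
  obtain ⟨ρP, hρP⟩ : ∃ ρP : _ ⟶ P.toScheme, ρP ≫ P.ι = ρR ≫ R₀.ι := by
    refine ⟨IsOpenImmersion.lift P.ι (ρR ≫ R₀.ι) ?_, IsOpenImmersion.lift_fac _ _ _⟩
    rintro _ ⟨z, rfl⟩
    rw [Scheme.Opens.range_ι]
    refine ⟨ν z, ?_⟩
    rw [← Scheme.Hom.comp_apply, ← hρR]
    simp only [Scheme.Hom.comp_apply]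
    rfl
  let τ := ρR ≫ oG
  obtain ⟨q₀, hq₁, hq₂⟩ : ∃ q₀ : _ ⟶ pullback p₂ GO.ι, q₀ ≫ qX = ρP ∧ q₀ ≫ qT = τ := by
    refine ⟨pullback.lift ρP τ ?_, pullback.lift_fst _ _ _, pullback.lift_snd _ _ _⟩
    simp only [τ, p₂, Category.assoc, hoG, reassoc_of% hρP]
  have hρU : ρP ≫ lU = ν := by
    rw [← cancel_mono j, Category.assoc, hlU, reassoc_of% hρP, hρR]
  have hτV : τ ≫ V.hom = (ν ≫ j) ≫ f := by
    rw [← hρR]
    simp only [τ, V, Scheme.Etale.mk, Category.assoc]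
    change ρR ≫ oG ≫ GO.ι ≫ aS = _
    rw [reassoc_of% hoG, ← hπf]
  have hqc : q₀ ≫ qT ≫ V.hom = (ν ≫ j) ≫ f := by rw [reassoc_of% hq₂, hτV]
  obtain ⟨ε, hε⟩ := exists_hasGerm σQ (⟨q₀, hqc⟩ : FibrePts (qT ≫ V.hom) ((ν ≫ j) ≫ f))
  have g₁ := hs _ _ ⟨q₀, hqc⟩ (⟨τ, hτV⟩ : FibrePts V.hom ((ν ≫ j) ≫ f)) ε (by
    show P.ι (qX (q₀ default)) ∈ O
    have h1 : (q₀ ≫ qX ≫ P.ι) default = (ρR ≫ R₀.ι) default := by rw [reassoc_of% hq₁, hρP]
    simp only [Scheme.Hom.comp_apply] at h1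
    exact Eq.mpr (congrArg (· ∈ O) h1) (ρR default).2.1) hq₂ hε
  rw [← ht] at g₁
  have hεt := g₁.unique (hasGerm_pullAt V (𝟙 _) (Category.id_comp _) t _)
  let ζ := q₀ ≫ qX ≫ MW
  have hζ : ζ ≫ B₀.hom = ν := by
    simp only [ζ, Category.assoc, hMW₂, reassoc_of% hq₁, hρU]
  have hζj : ζ ≫ B₀.hom ≫ j = ν ≫ j := by rw [← Category.assoc, hζ]
  have hζf : ζ ≫ (B₀.hom ≫ j) ≫ f = (ν ≫ j) ≫ f := by rw [← Category.assoc, hζj]
  have g₂ : HasGerm (toSec j M B₀ σ) (⟨ζ, hζj⟩ : FibrePts (B₀.hom ≫ j) (ν ≫ j))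
      (toPull f _ ⟨ν ≫ j, rfl⟩ F ε) := by
    rw [← hτ₀]
    exact (hasGerm_splitSec_iff (h := rfl) (⟨ζ, hζj⟩ : FibrePts (B₀.hom ≫ j) (ν ≫ j))
      (ζ := ⟨ζ, hζf⟩) rfl rfl).2 (HasGerm.of_pullSec hMc (by simp [ζ]) hε)
  have g₃ := (hasGerm_toSec_iff σ ζ hζ rfl hζj _).1 g₂
  have eW : (Scheme.pointSmallEtale ν).fiber.map ((EtCoh.bc j).map iW) r' = Over.homMk ζ hζ := by
    refine Over.OverMorphism.ext (pullback.hom_ext ?_ ?_)
    · change (ρ ≫ ((EtCoh.bc j).map iW).left) ≫ EtShriek.prV j W = ζ ≫ EtShriek.prV j W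
      rw [Category.assoc, (EtCoh.isPullback_bc_map j iW).w]
      simp only [ζ, Category.assoc, hMW₁, reassoc_of% hq₁, reassoc_of% hρP]
      simp [iW, ρR, Category.assoc]
    · exact (Over.w ((Scheme.pointSmallEtale ν).fiber.map ((EtCoh.bc j).map iW) r')).trans hζ.symm
  refine Eq.trans ?_ ((gm_map N ν ((EtCoh.bc j).map iW) r' σ).trans ((congrArg (fun k => gm N ν _ k σ) eW).trans g₃)).symm
  rw [hεt]
  refine (gm_map N ν ((EtCoh.bc j).map iB) r' _).trans ?_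
  refine Eq.trans ?_ (congrArg (toPull j _ (⟨ν, rfl⟩ : FibrePts j (ν ≫ j)) M)
    (gm_unit f (⟨ν ≫ j, rfl⟩ : FibrePts f ((ν ≫ j) ≫ f)) F V
      (fibOf (⟨τ, hτV⟩ : FibrePts V.hom ((ν ≫ j) ≫ f)) V (𝟙 _) (Category.id_comp _)) t))
  refine Eq.trans ?_ (gm_unit j (⟨ν, rfl⟩ : FibrePts j (ν ≫ j)) M _ _ zB)
  refine congrArg (fun k => gm N ν _ k (uAt j M _ zB)) ?_
  refine (bcLiftEquiv j _ (⟨ν, rfl⟩ : FibrePts j (ν ≫ j)) _).symm.injective (Over.OverMorphism.ext ?_)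
  change (ρ ≫ ((EtCoh.bc j).map iB).left) ≫ EtShriek.prV j ((EtCoh.bc f).obj V) =
    (pullback.lift (pullback.lift (τ ≫ 𝟙 _) (ν ≫ j) _) ν _) ≫ EtShriek.prV j ((EtCoh.bc f).obj V)
  rw [pullback.lift_fst, Category.assoc, (EtCoh.isPullback_bc_map j iB).w]
  refine pullback.hom_ext ?_ ?_
  · rw [pullback.lift_fst, Category.comp_id]
    simp only [Category.assoc]
    exact congrArg (fun k => ρ ≫ EtShriek.prV j R ≫ k) (pullback.lift_fst _ _ _)
  · rw [pullback.lift_snd]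
    simp only [Category.assoc]
    refine Eq.trans (congrArg (fun k => ρ ≫ EtShriek.prV j R ≫ k) (pullback.lift_snd _ _ _)) ?_
    exact (Category.assoc _ _ _).symm.trans hρR

/-- An inverse image along a smooth morphism is the direct image of its restriction to a fibrewise dense open. -/
theorem isIso_unit_of_dense (hd : DenseInFibres f j) :
    IsIso ((EtCoh.pullPushAdj j).unit.app ((EtCoh.pull f).obj F)) := by
  refine isIso_of_stalks_family (ι := ULift.{u + 1} X) (fun y => algPoint X y.down)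
    (fun y => ⟨⟨y⟩, algPoint_default X y⟩) _ fun y => (ConcreteCategory.isIso_iff_bijective _).mpr ⟨?_, ?_⟩
  · exact (injective_iff_map_eq_zero ((EtCoh.stalk (algPoint X y.down)).map
      ((EtCoh.pullPushAdj j).unit.app ((EtCoh.pull f).obj F))).hom).2 (injective_stalk_unit F hd _)
  · exact exists_stalk_unit F hd _

end Groth.Agent.Et18.H0Lift
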