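import Groth.Agent.Et18.H0Lift.SubsheafDescent

/-!
# Descent data on germs, and the sheaf of compatible sections
-/

set_option autoImplicit false
set_option backward.isDefEq.respectTransparency.types false
set_option backward.isDefEq.respectTransparency false

universe u

open CategoryTheory CategoryTheory.Limits AlgebraicGeometry Opposite

namespace Groth.Agent.Et18.H0Lift

variable {T X : Scheme.{u}} {f : T ⟶ X} {F' : EtDesc.Sh T}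
  (φ : (EtDesc.pullSh (pullback.fst f f)).obj F' ≅ (EtDesc.pullSh (pullback.snd f f)).obj F')

section Germs

variable {Ω : Type u} [Field Ω] [IsSepClosed Ω]

/-- The germs `g₁` and `g₂` correspond under the descent datum. -/
def DRel (ξ₁ ξ₂ : Spec (CommRingCat.of Ω) ⟶ T) (g₁ : (stalkSh ξ₁).obj F') (g₂ : (stalkSh ξ₂).obj F') : Prop :=
  ∃ (ξ : Spec (CommRingCat.of Ω) ⟶ EtDesc.X2 f) (h₁ : ξ ≫ pullback.fst f f = ξ₁)
    (h₂ : ξ ≫ pullback.snd f f = ξ₂),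
    (stalkSh ξ).map φ.hom (toPullSh (pullback.fst f f) ξ₁ ⟨ξ, h₁⟩ F' g₁) =
      toPullSh (pullback.snd f f) ξ₂ ⟨ξ, h₂⟩ F' g₂

variable {φ} {ξ₁ ξ₂ : Spec (CommRingCat.of Ω) ⟶ T}

theorem DRel.iff (ξ : Spec (CommRingCat.of Ω) ⟶ EtDesc.X2 f) (h₁ : ξ ≫ pullback.fst f f = ξ₁)
    (h₂ : ξ ≫ pullback.snd f f = ξ₂) (g₁ : (stalkSh ξ₁).obj F') (g₂ : (stalkSh ξ₂).obj F') :
    DRel φ ξ₁ ξ₂ g₁ g₂ ↔ (stalkSh ξ).map φ.hom (toPullSh (pullback.fst f f) ξ₁ ⟨ξ, h₁⟩ F' g₁) =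
      toPullSh (pullback.snd f f) ξ₂ ⟨ξ, h₂⟩ F' g₂ := by
  refine ⟨?_, fun h => ⟨ξ, h₁, h₂, h⟩⟩
  rintro ⟨ξ', h₁', h₂', h⟩
  obtain rfl : ξ = ξ' := pullback.hom_ext (h₁.trans h₁'.symm) (h₂.trans h₂'.symm)
  exact h

theorem DRel.exists_right (h : ξ₁ ≫ f = ξ₂ ≫ f) (g₁ : (stalkSh ξ₁).obj F') : ∃ g₂, DRel φ ξ₁ ξ₂ g₁ g₂ := by
  obtain ⟨ξ, h₁, h₂⟩ : ∃ ξ : Spec (CommRingCat.of Ω) ⟶ EtDesc.X2 f,
      ξ ≫ pullback.fst f f = ξ₁ ∧ ξ ≫ pullback.snd f f = ξ₂ :=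
    ⟨pullback.lift ξ₁ ξ₂ h, pullback.lift_fst _ _ _, pullback.lift_snd _ _ _⟩
  obtain ⟨g₂, hg₂⟩ := (bijective_toPullSh (pullback.snd f f) (⟨ξ, h₂⟩ : FibrePts _ ξ₂) F').2
    ((stalkSh ξ).map φ.hom (toPullSh (pullback.fst f f) ξ₁ ⟨ξ, h₁⟩ F' g₁))
  exact ⟨g₂, ξ, h₁, h₂, hg₂.symm⟩

theorem DRel.unique_right {g₁ : (stalkSh ξ₁).obj F'} {g₂ g₂' : (stalkSh ξ₂).obj F'}
    (h : DRel φ ξ₁ ξ₂ g₁ g₂) (h' : DRel φ ξ₁ ξ₂ g₁ g₂') : g₂ = g₂' := by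
  obtain ⟨ξ, h₁, h₂, e⟩ := h
  rw [DRel.iff ξ h₁ h₂] at h'
  exact (bijective_toPullSh (pullback.snd f f) (⟨ξ, h₂⟩ : FibrePts _ ξ₂) F').1 (e.symm.trans h')

theorem DRel.unique_left {g₁ g₁' : (stalkSh ξ₁).obj F'} {g₂ : (stalkSh ξ₂).obj F'}
    (h : DRel φ ξ₁ ξ₂ g₁ g₂) (h' : DRel φ ξ₁ ξ₂ g₁' g₂) : g₁ = g₁' := by
  obtain ⟨ξ, h₁, h₂, e⟩ := h
  rw [DRel.iff ξ h₁ h₂] at h'
  have : IsIso ((stalkSh ξ).map φ.hom) := Functor.map_isIso _ _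
  exact (bijective_toPullSh (pullback.fst f f) (⟨ξ, h₁⟩ : FibrePts _ ξ₁) F').1
    (((isIso_iff_bijective _).1 this).1 (e.trans h'.symm))

theorem stalk_pullIsoVia (g : EtDesc.X3 f ⟶ EtDesc.X2 f) (b₁ b₂ : EtDesc.X3 f ⟶ T)
    (w₁ : g ≫ pullback.fst f f = b₁) (w₂ : g ≫ pullback.snd f f = b₂)
    (ζ : Spec (CommRingCat.of Ω) ⟶ EtDesc.X3 f) (hb₁ : ζ ≫ b₁ = ξ₁) (hb₂ : ζ ≫ b₂ = ξ₂)
    {g₁ : (stalkSh ξ₁).obj F'} {g₂ : (stalkSh ξ₂).obj F'} (h : DRel φ ξ₁ ξ₂ g₁ g₂) :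
    (stalkSh ζ).map (EtDesc.pullIsoVia g b₁ b₂ w₁ w₂ F' φ).hom (toPullSh b₁ ξ₁ ⟨ζ, hb₁⟩ F' g₁) =
      toPullSh b₂ ξ₂ ⟨ζ, hb₂⟩ F' g₂ := by
  obtain ⟨ξ, h₁, h₂⟩ : ∃ ξ : Spec (CommRingCat.of Ω) ⟶ EtDesc.X2 f,
      ξ ≫ pullback.fst f f = ξ₁ ∧ ξ ≫ pullback.snd f f = ξ₂ :=
    ⟨ζ ≫ g, by rw [Category.assoc, w₁, hb₁], by rw [Category.assoc, w₂, hb₂]⟩
  rw [DRel.iff ξ h₁ h₂] at h
  have hg : ζ ≫ g = ξ := pullback.hom_ext (by rw [Category.assoc, w₁, hb₁, h₁])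
    (by rw [Category.assoc, w₂, hb₂, h₂])
  have e₁ := stalk_pullVia g (pullback.fst f f) w₁ F' ζ hg h₁ hb₁ g₁
  have e₂ := stalk_pullVia g (pullback.snd f f) w₂ F' ζ hg h₂ hb₂ g₂
  rw [← e₁, ← e₂, ← ConcreteCategory.comp_apply, ← Functor.map_comp, EtDesc.pullIsoVia]
  simp only [Iso.trans_hom, Iso.symm_hom, Iso.hom_inv_id_assoc, Functor.mapIso_hom]
  rw [Functor.map_comp, ConcreteCategory.comp_apply, ← toPullSh_naturality g φ.hom ⟨ζ, hg⟩, h]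

theorem DRel.trans (hφ : EtDesc.IsCocycle F' φ) {ξ₃ : Spec (CommRingCat.of Ω) ⟶ T}
    {g₁ : (stalkSh ξ₁).obj F'} {g₂ : (stalkSh ξ₂).obj F'} {g₃ : (stalkSh ξ₃).obj F'}
    (h : DRel φ ξ₁ ξ₂ g₁ g₂) (h' : DRel φ ξ₂ ξ₃ g₂ g₃) : DRel φ ξ₁ ξ₃ g₁ g₃ := by
  obtain ⟨ξ, h₁, h₂, -⟩ := id h
  obtain ⟨ξ', h₁', h₂', -⟩ := id h'
  obtain ⟨ζ, hζ₁, hζ₂⟩ : ∃ ζ : Spec (CommRingCat.of Ω) ⟶ EtDesc.X3 f,
      ζ ≫ EtDesc.p12 f = ξ ∧ ζ ≫ EtDesc.p23 f = ξ' :=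
    ⟨pullback.lift ξ ξ' (h₂.trans h₁'.symm), pullback.lift_fst _ _ _, pullback.lift_snd _ _ _⟩
  have k₁ : ζ ≫ EtDesc.q1 (f := f) = ξ₁ := by rw [← Category.assoc, hζ₁, h₁]
  have k₂ : ζ ≫ EtDesc.q2 (f := f) = ξ₂ := by rw [← Category.assoc, hζ₁, h₂]
  have k₃ : ζ ≫ EtDesc.q3 (f := f) = ξ₃ := by rw [← Category.assoc, hζ₂, h₂']
  obtain ⟨g₃', h''⟩ := DRel.exists_right (φ := φ) (ξ₁ := ξ₁) (ξ₂ := ξ₃)
    (by rw [← h₁, ← h₂', Category.assoc, Category.assoc, ← hζ₁, ← hζ₂, Category.assoc, Category.assoc]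
        exact congrArg (ζ ≫ ·) (by simpa only [Category.assoc] using EtDesc.p13_comm f)) g₁
  have a := stalk_pullIsoVia (EtDesc.p12 f) EtDesc.q1 EtDesc.q2 rfl rfl ζ k₁ k₂ h
  have b := stalk_pullIsoVia (EtDesc.p23 f) EtDesc.q2 EtDesc.q3 EtDesc.p23_fst rfl ζ k₂ k₃ h'
  have c := stalk_pullIsoVia (EtDesc.p13 f) EtDesc.q1 EtDesc.q3 EtDesc.p13_fst EtDesc.p13_snd ζ k₁ k₃ h''
  have d := ConcreteCategory.congr_hom (congrArg (stalkSh ζ).map hφ)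
    (toPullSh (EtDesc.q1 (f := f)) ξ₁ ⟨ζ, k₁⟩ F' g₁)
  rw [Functor.map_comp, ConcreteCategory.comp_apply, a, b, c] at d
  rw [(bijective_toPullSh (EtDesc.q3 (f := f)) (⟨ζ, k₃⟩ : FibrePts _ ξ₃) F').1 d]
  exact h''

theorem DRel.refl (hφ : EtDesc.IsCocycle F' φ) (ξ : Spec (CommRingCat.of Ω) ⟶ T) (g : (stalkSh ξ).obj F') :
    DRel φ ξ ξ g g := by
  obtain ⟨g', h⟩ := DRel.exists_right (φ := φ) (ξ₁ := ξ) (ξ₂ := ξ) rfl g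
  obtain ⟨g'', h'⟩ := DRel.exists_right (φ := φ) (ξ₁ := ξ) (ξ₂ := ξ) rfl g'
  obtain rfl := DRel.unique_right (h.trans hφ h') h
  obtain rfl := DRel.unique_left h h'
  exact h

theorem DRel.symm (hφ : EtDesc.IsCocycle F' φ) {g₁ : (stalkSh ξ₁).obj F'} {g₂ : (stalkSh ξ₂).obj F'}
    (h : DRel φ ξ₁ ξ₂ g₁ g₂) : DRel φ ξ₂ ξ₁ g₂ g₁ := by
  obtain ⟨ξ, h₁, h₂, -⟩ := id h
  obtain ⟨k, hk⟩ := DRel.exists_right (φ := φ) (ξ₁ := ξ₂) (ξ₂ := ξ₁)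
    (by rw [← h₁, ← h₂, Category.assoc, Category.assoc, pullback.condition]) g₂
  obtain rfl := DRel.unique_right (h.trans hφ hk) (DRel.refl hφ ξ₁ g₁)
  exact hk

end Germs

/-- A section over `T ×_X V` compatible with the descent datum. -/
def CompatSec (V : X.Etale) (σ : EtDesc.sect F' ((EtCoh.bc f).obj V)) : Prop :=
  ∀ (Ω : Type u) [Field Ω] [IsSepClosed Ω] (η : Spec (CommRingCat.of Ω) ⟶ X)
    (v : (Scheme.pointSmallEtale η).fiber.obj V) (ξ₁ ξ₂ : FibrePts f η),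
    DRel φ ξ₁.1 ξ₂.1 (gmS F' ξ₁.1 _ (bcLift f η ξ₁ V v) σ) (gmS F' ξ₂.1 _ (bcLift f η ξ₂ V v) σ)

theorem bcLift_map {V W : X.Etale} (g : W ⟶ V) {Ω : Type u} [Field Ω] [IsSepClosed Ω]
    {η : Spec (CommRingCat.of Ω) ⟶ X} (ξ : FibrePts f η) (w : (Scheme.pointSmallEtale η).fiber.obj W) :
    (Scheme.pointSmallEtale ξ.1).fiber.map ((EtCoh.bc f).map g) (bcLift f η ξ W w) =
      bcLift f η ξ V ((Scheme.pointSmallEtale η).fiber.map g w) := by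
  refine Over.OverMorphism.ext (pullback.hom_ext ?_ ?_)
  · change ((bcLift f η ξ W w).left ≫ ((EtCoh.bc f).map g).left) ≫ EtShriek.prV f V =
      (bcLift f η ξ V _).left ≫ EtShriek.prV f V
    rw [Category.assoc, (EtCoh.isPullback_bc_map f g).w]
    refine (Category.assoc _ _ _).symm.trans ?_
    refine (congrArg (· ≫ g.left) (pullback.lift_fst _ _ _)).trans ?_
    exact (pullback.lift_fst _ _ _).symm
  · exact (Over.w ((Scheme.pointSmallEtale ξ.1).fiber.map ((EtCoh.bc f).map g) (bcLift f η ξ W w))).trans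
      (Over.w (bcLift f η ξ V _)).symm

variable (F') in
/-- Compatible sections form a subfunctor. -/
noncomputable def descSub : CategoryTheory.Subfunctor ((EtDesc.pushSh f).obj F').obj where
  obj U := {σ | CompatSec φ U.unop σ}
  map {U W} i σ hσ := by
    intro Ω _ _ η v ξ₁ ξ₂
    have h := hσ Ω η ((Scheme.pointSmallEtale η).fiber.map i.unop v) ξ₁ ξ₂
    rw [← bcLift_map, ← bcLift_map, ← gmS_map, ← gmS_map] at h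
    exact h

theorem isSheaf_descSub : Presieve.IsSheaf X.smallEtaleTopology (descSub F' φ).toFunctor := by
  rw [Subfunctor.isSheaf_iff _ ((isSheaf_iff_isSheaf_of_type _ _).1 ((EtDesc.pushSh f).obj F').property)]
  intro U σ hσ Ω _ _ η v ξ₁ ξ₂
  obtain ⟨Y, g, hg, w, hw⟩ := (Scheme.pointSmallEtale η).jointly_surjective _ hσ v
  have h := (hg : CompatSec φ Y _) Ω η w ξ₁ ξ₂
  rw [← hw, ← bcLift_map, ← bcLift_map, ← gmS_map, ← gmS_map]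
  exact h

variable (F') in
/-- The sheaf of compatible sections. -/
noncomputable def descSheaf : EtDesc.Sh X :=
  ⟨(descSub F' φ).toFunctor, (isSheaf_iff_isSheaf_of_type _ _).2 (isSheaf_descSub φ)⟩

variable (F') in
/-- The comparison of the inverse image of the sheaf of compatible sections. -/
noncomputable def descComparison : (EtDesc.pullSh f).obj (descSheaf F' φ) ⟶ F' :=
  ((EtDesc.adjSh f).homEquiv _ _).symm ⟨(descSub F' φ).ι⟩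

theorem descComparison_germ {Ω : Type u} [Field Ω] [IsSepClosed Ω] {η : Spec (CommRingCat.of Ω) ⟶ X}
    (ξ : FibrePts f η) (V : X.Etale) (v : (Scheme.pointSmallEtale η).fiber.obj V)
    (s : EtDesc.sect (descSheaf F' φ) V) :
    (stalkSh ξ.1).map (descComparison F' φ) (toPullSh f η ξ (descSheaf F' φ) (gmS _ η V v s)) =
      gmS F' ξ.1 _ (bcLift f η ξ V v) s.1 := by
  rw [← gmS_unit, gmS_hom]
  refine congrArg (gmS F' ξ.1 _ (bcLift f η ξ V v)) ?_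
  have h := ((EtDesc.adjSh f).homEquiv (descSheaf F' φ) F').apply_symm_apply ⟨(descSub F' φ).ι⟩
  rw [Adjunction.homEquiv_unit] at h
  have h2 := congrArg (fun k : descSheaf F' φ ⟶ (EtDesc.pushSh f).obj F' => k.hom.app (op V)) h
  exact ConcreteCategory.congr_hom h2 s

end Groth.Agent.Et18.H0Lift
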