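import Groth.Agent.Et18.H0Lift.PullSec
import Groth.Agent.H8Lim.BaseChange
import Groth.Agent.H8Lim.Topology

/-!
# Sections of an inverse image to a limit of étale objects come from a stage
-/

set_option autoImplicit false
set_option backward.isDefEq.respectTransparency.types false
set_option backward.isDefEq.respectTransparency false

universe u

open CategoryTheory CategoryTheory.Limits AlgebraicGeometry Opposite TopologicalSpace

namespace Groth.Agent.Et18.H0Lift

section Topology

variable {I : Type u} [SmallCategory I] [IsCofiltered I] {E : I ⥤ Scheme.{u}} {c : Cone E}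
  (hc : IsLimit c) [∀ {i j} (f : i ⟶ j), IsAffineHom (E.map f)]

include hc in
/-- A closed subset of a compact scheme over a stage that misses the limit misses a later stage. -/
theorem exists_stage_missing {i₀ : I} {A : Scheme.{u}} [CompactSpace A] (a : A ⟶ E.obj i₀) (S : Set A)
    (hS : IsClosed S) (h : ∀ z : ↥(pullback a (c.π.app i₀)), pullback.fst a (c.π.app i₀) z ∉ S) :
    ∃ (j : I) (φ : j ⟶ i₀), ∀ z : ↥(pullback a (E.map φ)), pullback.fst a (E.map φ) z ∉ S := by
  let sq : IsPullback (pullback.fst a (c.π.app i₀)) (pullback.snd a (c.π.app i₀)) a (c.π.app i₀) :=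
    IsPullback.of_hasPullback _ _
  have hl := H8Lim.isLimitStageCone a _ _ sq hc
  let i : Over i₀ := Over.mk (𝟙 i₀)
  let U : ((H8Lim.stage E a).obj i).Opens := H8Lim.stageFst E a i ⁻¹ᵁ ⟨Sᶜ, hS.isOpen_compl⟩
  obtain ⟨j, φ, hφ⟩ := exists_map_eq_top _ _ hl U (eq_top_iff.2 fun z _ => by
    change H8Lim.stageFst E a i (H8Lim.stageProj a c _ _ sq i z) ∈ Sᶜ
    rw [← Scheme.Hom.comp_apply, H8Lim.stageProj_fst]
    exact h z)
  refine ⟨j.left, j.hom, fun z hz => ?_⟩
  have hzU : z ∈ (H8Lim.stage E a).map φ ⁻¹ᵁ U := hφ ▸ trivial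
  change H8Lim.stageFst E a i ((H8Lim.stage E a).map φ z) ∈ Sᶜ at hzU
  rw [← Scheme.Hom.comp_apply, H8Lim.stageMap_fst] at hzU
  exact hzU hz

include hc in
/-- Open subsets of the base change to the limit contain preimages of opens of a stage. -/
theorem exists_stage_open {i₀ : I} {A B : Scheme.{u}} (a : A ⟶ E.obj i₀) (q : B ⟶ A) (f : B ⟶ c.pt)
    (sq : IsPullback q f a (c.π.app i₀)) {O : Set B} (hO : IsOpen O) {z : B} (hz : z ∈ O) :
    ∃ (j : I) (φ : j ⟶ i₀) (l : B ⟶ pullback a (E.map φ)) (Q : (pullback a (E.map φ)).Opens),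
      l ≫ pullback.fst _ _ = q ∧ l ≫ pullback.snd _ _ = f ≫ c.π.app j ∧ IsAffineOpen Q ∧
        l z ∈ Q ∧ l ⁻¹' Q ⊆ O := by
  obtain ⟨j, Q, hQ, hzQ, hQO⟩ :=
    H8Lim.exists_mem_preimage_subset (H8Lim.isLimitStageCone a q f sq hc) hO hz
  exact ⟨j.left, j.hom, H8Lim.stageProj a c q f sq j, Q, H8Lim.stageProj_fst a c q f sq j,
    H8Lim.stageProj_snd a c q f sq j, hQ, hzQ, hQO⟩

end Topology

variable {X T : Scheme.{u}} (g : T ⟶ X) (F : EtCoh.Ab X)
  (σ : EtCoh.sect ((EtCoh.pull g).obj F) (EtCoh.top T))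

/-- The germ of a global section at a point whose lift avoids the support of a difference. -/
theorem germ_eq_of_notMem (V : X.Etale) (t : EtCoh.sect F V) {Ω : Type u} [Field Ω] [IsSepClosed Ω]
    {η : Spec (CommRingCat.of Ω) ⟶ X} (ξ : FibrePts g η) (v : (Scheme.pointSmallEtale η).fiber.obj V)
    (h : fiberPt (bcLift g η ξ V v) ∉ EtShriek.sectSupp _ _ (diffAt g F σ V t)) :
    toPull g η ξ F (gm F η V v t) = gm ((EtCoh.pull g).obj F) ξ.1 _ (topPt ξ.1) σ := by
  have h0 := (gm_eq_zero_iff _ ξ.1 _ (bcLift g η ξ V v) _).2 h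
  refine (gm_unit g ξ F V v t).symm.trans ((sub_eq_zero.1 ((map_sub _ _ _).symm.trans h0)).trans ?_)
  refine (gm_map _ _ _ _ σ).trans ?_
  rw [fibre_eq (EtCoh.top T) ((Scheme.pointSmallEtale ξ.1).fiber.map ((EtCore.topIsTerminal T).from _)
    (bcLift g η ξ V v)) (topPt ξ.1)]

/-- Germs of `pullAt`. -/
theorem germ_pullAt (V : X.Etale) (l : T ⟶ V.left) (hl : l ≫ V.hom = g) (t : EtCoh.sect F V)
    {Ω : Type u} [Field Ω] [IsSepClosed Ω] {η : Spec (CommRingCat.of Ω) ⟶ X} (ξ : FibrePts g η)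
    (v : (Scheme.pointSmallEtale η).fiber.obj V) (hv : v.left = ξ.1 ≫ l) :
    gm ((EtCoh.pull g).obj F) ξ.1 _ (topPt ξ.1) (pullAt F V l hl t) = toPull g η ξ F (gm F η V v t) := by
  refine ((gm_map _ _ (sectionHom V l hl) _ _).trans (Eq.trans ?_ (gm_unit g ξ F V v t)))
  refine congrArg (fun w => gm _ ξ.1 _ w _) ((bcLiftEquiv g η ξ V).symm.injective
    (Over.OverMorphism.ext ?_))
  change (ξ.1 ≫ (sectionHom V l hl).left) ≫ EtShriek.prV g V =
    (bcLift g η ξ V v).left ≫ EtShriek.prV g V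
  rw [Category.assoc, sectionHom_fst]
  exact hv.symm.trans (pullback.lift_fst _ _ _).symm

variable {I : Type u} [SmallCategory I] [IsCofiltered I] (D : I ⥤ X.Etale)

/-- The underlying schemes of a diagram of étale objects. -/
noncomputable abbrev schemes : I ⥤ Scheme.{u} :=
  D ⋙ MorphismProperty.Over.forget _ _ X ⋙ Over.forget X

/-- The base change of an object over a stage to another stage, as an étale object. -/
noncomputable abbrev stageObj {i j : I} (φ : j ⟶ i) (P : X.Etale) (a : P.left ⟶ (D.obj i).left)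
    (ha : a ≫ (D.obj i).hom = P.hom) : X.Etale :=
  haveI := etale_left (D.map φ)
  haveI : Etale (pullback.fst a (D.map φ).left) := inferInstance
  haveI : Etale P.hom := P.prop
  Scheme.Etale.mk (pullback.fst a (D.map φ).left ≫ P.hom)

theorem stageObj_snd {i j : I} (φ : j ⟶ i) (P : X.Etale) (a : P.left ⟶ (D.obj i).left)
    (ha : a ≫ (D.obj i).hom = P.hom) :
    pullback.snd a (D.map φ).left ≫ (D.obj j).hom = pullback.fst a (D.map φ).left ≫ P.hom := by
  rw [← ha, pullback.condition_assoc]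
  exact congrArg (pullback.snd a (D.map φ).left ≫ ·) (Over.w (D.map φ).hom).symm

/-- The fibre product of two étale objects over a third. -/
noncomputable def pairObj {A B C : X.Etale} (α : A ⟶ C) (β : B ⟶ C) : X.Etale :=
  haveI := etale_left β
  haveI : Etale A.hom := A.prop
  Scheme.Etale.mk (pullback.fst α.left β.left ≫ A.hom)

/-- The first projection of `pairObj`. -/
noncomputable def pairFst {A B C : X.Etale} (α : A ⟶ C) (β : B ⟶ C) : pairObj α β ⟶ A :=
  MorphismProperty.Over.homMk (pullback.fst α.left β.left) rfl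

/-- The second projection of `pairObj`. -/
noncomputable def pairSnd {A B C : X.Etale} (α : A ⟶ C) (β : B ⟶ C) : pairObj α β ⟶ B :=
  MorphismProperty.Over.homMk (pullback.snd α.left β.left) (by
    change _ = pullback.fst α.left β.left ≫ A.hom
    have h1 : β.left ≫ C.hom = B.hom := Over.w β.hom
    have h2 : α.left ≫ C.hom = A.hom := Over.w α.hom
    rw [← h1, ← h2, pullback.condition_assoc])

omit [IsCofiltered I] in
theorem exists_pair_lift {R A B C : X.Etale} (α : A ⟶ C) (β : B ⟶ C) (p : R ⟶ A) (q : R ⟶ B)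
    (h : p ≫ α = q ≫ β) : ∃ m : R ⟶ pairObj α β, m ≫ pairFst α β = p ∧ m ≫ pairSnd α β = q := by
  let l : R.left ⟶ pullback α.left β.left :=
    pullback.lift p.left q.left (congrArg (fun k : R ⟶ C => k.left) h)
  refine ⟨MorphismProperty.Over.homMk l ?_, etaleHom_ext (pullback.lift_fst _ _ _),
    etaleHom_ext (pullback.lift_snd _ _ _)⟩
  change l ≫ pullback.fst α.left β.left ≫ A.hom = R.hom
  rw [pullback.lift_fst_assoc]
  exact Over.w p.hom

theorem compactSpace_pairObj {A B C : X.Etale} (α : A ⟶ C) (β : B ⟶ C) [CompactSpace A.left]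
    [CompactSpace B.left] [QuasiSeparatedSpace C.left] : CompactSpace (pairObj α β).left := by
  have : QuasiSeparated (terminal.from C.left) :=
    (quasiSeparatedSpace_iff_quasiSeparated _).mp inferInstance
  have : QuasiCompact β.left := QuasiCompact.of_comp β.left (terminal.from C.left)
  exact QuasiCompact.compactSpace_of_compactSpace (pullback.fst α.left β.left)

set_option maxHeartbeats 1600000 in
/-- Sections of the inverse image on the limit come from a stage. -/
theorem exists_pullAt_eq [∀ {i j} (f : i ⟶ j), IsAffineHom ((schemes D).map f)]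
    [∀ i, CompactSpace (D.obj i).left] [∀ i, QuasiSeparatedSpace (D.obj i).left]
    (c : Cone (schemes D)) (hc : IsLimit c) (w : c.pt ⟶ X) (hw : ∀ i, c.π.app i ≫ (D.obj i).hom = w)
    (τ : EtCoh.sect ((EtCoh.pull w).obj F) (EtCoh.top c.pt)) :
    ∃ (i : I) (s : EtCoh.sect F (D.obj i)), pullAt F (D.obj i) (c.π.app i) (hw i) s = τ := by
  classical
  have hcD : ∀ i, CompactSpace ((schemes D).obj i) := fun i => inferInstanceAs (CompactSpace (D.obj i).left)
  have hI : Nonempty I := IsCofiltered.nonempty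
  -- local pieces at stages
  have hloc : ∀ y : c.pt, ∃ (i : I) (P : X.Etale) (a : P.left ⟶ (D.obj i).left)
      (ha : a ≫ (D.obj i).hom = P.hom) (_ : CompactSpace P.left) (t : EtCoh.sect F P),
      (∃ z : ↥(pullback a (c.π.app i)), pullback.snd a (c.π.app i) z = y) ∧
      ∀ (Ω : Type u) [Field Ω] [IsSepClosed Ω] (η : Spec (CommRingCat.of Ω) ⟶ X) (ξ : FibrePts w η)
        (v : (Scheme.pointSmallEtale η).fiber.obj P), v.left ≫ a = ξ.1 ≫ c.π.app i →
          toPull w η ξ F (gm F η P v t) = gm ((EtCoh.pull w).obj F) ξ.1 _ (topPt ξ.1) τ := by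
    intro y
    obtain ⟨V, t, b, hby, hbd⟩ := exists_local_at w F τ y
    obtain ⟨i₀⟩ := hI
    let a₀ : pullback V.hom (D.obj i₀).hom ⟶ (schemes D).obj i₀ := pullback.snd _ _
    let q : pullback V.hom w ⟶ pullback V.hom (D.obj i₀).hom :=
      pullback.lift (pullback.fst _ _) (pullback.snd _ _ ≫ c.π.app i₀) (by
        rw [Category.assoc, hw, pullback.condition])
    have hsq : IsPullback q (pullback.snd V.hom w) a₀ (c.π.app i₀) := by
      refine IsPullback.of_right ?_ (pullback.lift_snd _ _ _) (IsPullback.of_hasPullback V.hom (D.obj i₀).hom)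
      rw [pullback.lift_fst, hw]
      exact IsPullback.of_hasPullback V.hom w
    obtain ⟨j, φ, l, Q, hl1, hl2, hQ, hzQ, hQO⟩ := exists_stage_open hc a₀ q (pullback.snd V.hom w) hsq
      (isClosed_sectSupp _ _ (diffAt w F τ V t)).isOpen_compl (z := b) hbd
    have : Etale V.hom := V.prop
    have : Etale (D.obj i₀).hom := (D.obj i₀).prop
    have := etale_left (D.map φ)
    have : Etale (pullback.fst a₀ ((schemes D).map φ)) :=
      inferInstanceAs (Etale (pullback.fst a₀ (D.map φ).left))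
    let M : X.Etale := Scheme.Etale.mk
      (pullback.fst a₀ ((schemes D).map φ) ≫ pullback.fst V.hom (D.obj i₀).hom ≫ V.hom)
    let P := etalePiece M Q
    let a : P.left ⟶ (D.obj j).left := Q.ι ≫ pullback.snd a₀ ((schemes D).map φ)
    have ha : a ≫ (D.obj j).hom = P.hom := by
      change (Q.ι ≫ pullback.snd a₀ ((schemes D).map φ)) ≫ (D.obj j).hom =
        Q.ι ≫ pullback.fst a₀ ((schemes D).map φ) ≫ pullback.fst V.hom (D.obj i₀).hom ≫ V.hom
      rw [pullback.condition, Category.assoc]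
      refine congrArg (Q.ι ≫ ·) ?_
      have h1 : (schemes D).map φ ≫ (D.obj i₀).hom = (D.obj j).hom := Over.w (D.map φ).hom
      rw [← h1, ← pullback.condition_assoc]
    let pr : P ⟶ V := MorphismProperty.Over.homMk
      (Q.ι ≫ pullback.fst a₀ ((schemes D).map φ) ≫ pullback.fst V.hom (D.obj i₀).hom) (by
        simp only [Category.assoc]
        rfl)
    refine ⟨j, P, a, ha, isCompact_iff_compactSpace.1 hQ.isCompact, F.obj.map pr.op t, ?_, ?_⟩
    · obtain ⟨z, -, hz2⟩ := Scheme.Pullback.exists_preimage_pullback (f := a) (g := c.π.app j)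
        ⟨l b, hzQ⟩ (pullback.snd V.hom w b)
        (congrArg (fun k : pullback V.hom w ⟶ (schemes D).obj j => k b) hl2)
      exact ⟨z, hz2.trans hby⟩
    · intro Ω _ _ η ξ v hv
      let e := (Scheme.pointSmallEtale η).fiber.map pr v
      refine (congrArg (toPull w η ξ F) (gm_map F η pr v t)).trans (germ_eq_of_notMem w F τ V t ξ e ?_)
      let lift : Spec (CommRingCat.of Ω) ⟶ pullback V.hom w :=
        (bcLift w η ξ V e).left
      have hlift : lift ≫ l = v.left ≫ Q.ι := by
        apply pullback.hom_ext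
        · rw [Category.assoc, hl1]
          apply pullback.hom_ext
          · simp only [q, Category.assoc, pullback.lift_fst]
            exact pullback.lift_fst _ _ _
          · simp only [q, Category.assoc, pullback.lift_snd]
            have h2 : (v.left ≫ a) ≫ (schemes D).map φ = (ξ.1 ≫ c.π.app j) ≫ (schemes D).map φ :=
              congrArg (· ≫ (schemes D).map φ) hv
            rw [Category.assoc, Category.assoc, Category.assoc, c.w] at h2
            refine ((Category.assoc _ _ _).symm.trans (congrArg (· ≫ c.π.app i₀) (pullback.lift_snd _ _ _))).trans ?_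
            refine h2.symm.trans ?_
            simp only [a, a₀, Category.assoc]
            rw [← pullback.condition]
        · rw [Category.assoc, hl2]
          refine ((Category.assoc _ _ _).symm.trans (congrArg (· ≫ c.π.app j) (pullback.lift_snd _ _ _))).trans ?_
          exact hv.symm.trans (Category.assoc _ _ _).symm
      refine hQO ?_
      change (lift ≫ l) default ∈ Q
      rw [hlift]
      exact (fiberPt v).2
  choose i P a ha hP t hcov hgerm using hloc
  -- finitely many suffice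
  have : CompactSpace c.pt := Scheme.compactSpace_of_isLimit _ _ hc
  have hopen : ∀ y, IsOpen (Set.range (pullback.snd (a y) (c.π.app (i y)))) := fun y => by
    have : Etale (D.obj (i y)).hom := (D.obj (i y)).prop
    have : Etale (a y ≫ (D.obj (i y)).hom) := (ha y).symm ▸ (P y).prop
    have : Etale (a y) := Etale.of_comp (a y) (D.obj (i y)).hom
    exact (pullback.snd (a y) (c.π.app (i y))).isOpenMap.isOpen_range
  obtain ⟨K, hK⟩ := isCompact_univ.elim_finite_subcover _ hopen
    fun y _ => Set.mem_iUnion.2 ⟨y, hcov y⟩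
  obtain ⟨j₀, hj₀⟩ := IsCofiltered.inf_objs_exists (K.image i)
  let f : ∀ k : K, j₀ ⟶ i k.1 := fun k => (hj₀ (Finset.mem_image_of_mem i k.2)).some
  let R : K → X.Etale := fun k => stageObj D (f k) (P k.1) (a k.1) (ha k.1)
  let b : ∀ k : K, (R k).left ⟶ (schemes D).obj j₀ := fun k => pullback.snd (a k.1) (D.map (f k)).left
  let r : ∀ k : K, R k ⟶ P k.1 := fun k => MorphismProperty.Over.homMk (pullback.fst _ _) rfl
  let s : ∀ k : K, EtCoh.sect F (R k) := fun k => F.obj.map (r k).op (t k.1)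
  have hb : ∀ k, b k ≫ (D.obj j₀).hom = (R k).hom := fun k => stageObj_snd D (f k) _ _ (ha k.1)
  have hRc : ∀ k, CompactSpace (R k).left := fun k => by
    have : CompactSpace (P k.1).left := hP k.1
    have : IsAffineHom (D.map (f k)).left := inferInstanceAs (IsAffineHom ((schemes D).map (f k)))
    exact QuasiCompact.compactSpace_of_compactSpace (pullback.fst (a k.1) (D.map (f k)).left)
  have hgs : ∀ (k : K) (Ω : Type u) [Field Ω] [IsSepClosed Ω] (η : Spec (CommRingCat.of Ω) ⟶ X)
      (ξ : FibrePts w η) (v : (Scheme.pointSmallEtale η).fiber.obj (R k)),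
      v.left ≫ b k = ξ.1 ≫ c.π.app j₀ →
        toPull w η ξ F (gm F η (R k) v (s k)) = gm ((EtCoh.pull w).obj F) ξ.1 _ (topPt ξ.1) τ := by
    intro k Ω _ _ η ξ v hv
    refine (congrArg (toPull w η ξ F) (gm_map F η (r k) v (t k.1))).trans (hgerm k.1 Ω η ξ _ ?_)
    change (v.left ≫ pullback.fst (a k.1) (D.map (f k)).left) ≫ a k.1 = _
    rw [Category.assoc, pullback.condition, ← Category.assoc]
    refine (congrArg (· ≫ (D.map (f k)).left) hv).trans ?_
    rw [Category.assoc]
    exact congrArg (ξ.1 ≫ ·) (c.w (f k))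
  -- covering after a further stage
  obtain ⟨j₁, φ₁, hφ₁⟩ := exists_stage_missing hc (𝟙 ((schemes D).obj j₀))
    (⋃ k : K, Set.range (b k))ᶜ (IsOpen.isClosed_compl (isOpen_iUnion fun k => by
      have := etale_left (D.map (f k))
      have : Etale (D.obj (i k.1)).hom := (D.obj (i k.1)).prop
      have : Etale (a k.1 ≫ (D.obj (i k.1)).hom) := (ha k.1).symm ▸ (P k.1).prop
      have : Etale (a k.1) := Etale.of_comp (a k.1) (D.obj (i k.1)).hom
      exact (b k).isOpenMap.isOpen_range)) (fun z hz => by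
      let y := pullback.snd (𝟙 ((schemes D).obj j₀)) (c.π.app j₀) z
      obtain ⟨k, hk, u, hu⟩ := Set.mem_iUnion₂.1 (hK (Set.mem_univ y))
      have hu' : a k (pullback.fst (a k) (c.π.app (i k)) u) = (D.map (f ⟨k, hk⟩)).left (c.π.app j₀ y) := by
        have h1 : a k (pullback.fst (a k) (c.π.app (i k)) u) =
            c.π.app (i k) (pullback.snd (a k) (c.π.app (i k)) u) :=
          congrArg (fun m : pullback (a k) (c.π.app (i k)) ⟶ (schemes D).obj (i k) => m u) pullback.condition
        rw [h1, hu]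
        exact (H8Lim.π_app_apply (c := c) (f ⟨k, hk⟩) y).symm
      obtain ⟨x, -, hx⟩ := Scheme.Pullback.exists_preimage_pullback (f := a k)
        (g := (D.map (f ⟨k, hk⟩)).left) _ _ hu'
      refine hz (Set.mem_iUnion.2 ⟨⟨k, hk⟩, x, hx.trans ?_⟩)
      exact (congrArg (fun m : pullback (𝟙 ((schemes D).obj j₀)) (c.π.app j₀) ⟶ (schemes D).obj j₀ => m z)
        pullback.condition).symm)
  -- overlaps agree after a further stage
  let bE : ∀ k, R k ⟶ D.obj j₀ := fun k => MorphismProperty.Over.homMk (b k) (hb k)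
  have hov : ∀ kl : K × K, ∃ (j : I) (φ : j ⟶ j₀), ∀ (x : (pairObj (bE kl.1) (bE kl.2)).left)
      (u : ↥((schemes D).obj j)),
      (pairFst (bE kl.1) (bE kl.2) ≫ bE kl.1).left x = (schemes D).map φ u →
      x ∉ EtShriek.sectSupp F (pairObj (bE kl.1) (bE kl.2))
        (F.obj.map (pairFst (bE kl.1) (bE kl.2)).op (s kl.1) -
          F.obj.map (pairSnd (bE kl.1) (bE kl.2)).op (s kl.2)) := by
    rintro ⟨k, l⟩
    let Rkl := pairObj (bE k) (bE l)
    let p₁ : Rkl ⟶ R k := pairFst (bE k) (bE l)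
    let p₂ : Rkl ⟶ R l := pairSnd (bE k) (bE l)
    let d := F.obj.map p₁.op (s k) - F.obj.map p₂.op (s l)
    have : CompactSpace Rkl.left := by
      have := hRc k
      have := hRc l
      exact compactSpace_pairObj _ _
    let aR : Rkl.left ⟶ (schemes D).obj j₀ := (p₁ ≫ bE k).left
    have haR : aR = (p₂ ≫ bE l).left := (pullback.condition : pullback.fst (b k) (b l) ≫ b k = _)
    obtain ⟨j, φ, hφ⟩ := exists_stage_missing hc (i₀ := j₀) aR
      (EtShriek.sectSupp F Rkl d) (isClosed_sectSupp _ _ _) (fun z hz => by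
        let Z := pullback aR (c.π.app j₀)
        let η' := algPoint Z z
        let ξ₁ : Spec (CommRingCat.of _) ⟶ c.pt := η' ≫ pullback.snd _ _
        let ξ : FibrePts w (ξ₁ ≫ w) := ⟨ξ₁, rfl⟩
        let v : (Scheme.pointSmallEtale (ξ₁ ≫ w)).fiber.obj Rkl := Over.homMk (η' ≫ pullback.fst _ _) (by
          have h1 : aR ≫ (D.obj j₀).hom = Rkl.hom := Over.w (p₁ ≫ bE k).hom
          change (η' ≫ pullback.fst _ _) ≫ Rkl.hom = (η' ≫ pullback.snd _ _) ≫ w
          rw [← h1, ← hw j₀, Category.assoc, Category.assoc, ← pullback.condition_assoc])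
        refine (gm_eq_zero_iff F _ Rkl v d).1 ?_ ?_
        · refine (map_sub _ _ _).trans (sub_eq_zero.2 ((bijective_toPull w ξ F).1 ?_))
          refine ((congrArg (toPull w _ ξ F) (gm_map F _ p₁ v (s k))).trans
            (?_ : _ = gm ((EtCoh.pull w).obj F) ξ.1 _ (topPt ξ.1) τ)).trans
            ((congrArg (toPull w _ ξ F) (gm_map F _ p₂ v (s l))).trans ?_).symm
          · refine hgs k _ _ ξ _ ?_
            change ((η' ≫ pullback.fst aR (c.π.app j₀)) ≫ p₁.left) ≫ b k = (η' ≫ _) ≫ _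
            simp only [Category.assoc]
            exact congrArg (η' ≫ ·) pullback.condition
          · refine hgs l _ _ ξ _ ?_
            change ((η' ≫ pullback.fst aR (c.π.app j₀)) ≫ p₂.left) ≫ b l = (η' ≫ _) ≫ _
            simp only [Category.assoc]
            refine congrArg (η' ≫ ·) ?_
            exact (congrArg (pullback.fst aR (c.π.app j₀) ≫ ·) haR.symm).trans pullback.condition
        · change (η' ≫ pullback.fst _ _) default ∈ _
          rw [Scheme.Hom.comp_apply, algPoint_default]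
          exact hz)
    refine ⟨j, φ, fun x u hxu => ?_⟩
    obtain ⟨z, hz, -⟩ := Scheme.Pullback.exists_preimage_pullback
      (f := aR) (g := (schemes D).map φ) x u hxu
    exact hz ▸ hφ z
  choose j φ hφ using hov
  -- a common stage
  obtain ⟨J, hJ⟩ := IsCofiltered.inf_objs_exists (insert j₁ (Finset.univ.image j))
  obtain ⟨J', ψ, hψ⟩ : ∃ (J' : I) (ψ : J' ⟶ j₀), (∃ g₁ : J' ⟶ j₁, g₁ ≫ φ₁ = ψ) ∧
      ∀ kl, ∃ g' : J' ⟶ j kl, g' ≫ φ kl = ψ := by
    suffices h : ∀ S : Finset (K × K), ∃ (J' : I) (ψ : J' ⟶ j₀), (∃ g₁ : J' ⟶ j₁, g₁ ≫ φ₁ = ψ) ∧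
        ∀ kl ∈ S, ∃ g' : J' ⟶ j kl, g' ≫ φ kl = ψ by
      obtain ⟨J', ψ, h1, h2⟩ := h Finset.univ
      exact ⟨J', ψ, h1, fun kl => h2 kl (Finset.mem_univ _)⟩
    intro S
    induction S using Finset.induction_on with
    | empty => exact ⟨j₁, φ₁, ⟨𝟙 _, Category.id_comp _⟩, by simp⟩
    | insert kl S _ ih =>
      obtain ⟨J', ψ, ⟨g₁, hg₁⟩, hS⟩ := ih
      obtain ⟨J'', u₁, u₂, hu⟩ := IsCofiltered.cospan ψ (φ kl)
      refine ⟨J'', u₁ ≫ ψ, ⟨u₁ ≫ g₁, by rw [Category.assoc, hg₁]⟩, fun kl' h => ?_⟩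
      rcases Finset.mem_insert.1 h with rfl | h
      · exact ⟨u₂, hu.symm⟩
      · obtain ⟨g', hg'⟩ := hS kl' h
        exact ⟨u₁ ≫ g', by rw [Category.assoc, hg']⟩
  let W' : K → X.Etale := fun k => stageObj D ψ (R k) (b k) (hb k)
  let pW : ∀ k, W' k ⟶ R k := fun k => MorphismProperty.Over.homMk (pullback.fst _ _) rfl
  let qW : ∀ k, W' k ⟶ D.obj J' := fun k =>
    MorphismProperty.Over.homMk (pullback.snd (b k) (D.map ψ).left) (stageObj_snd D ψ _ _ (hb k))
  have hcovJ : ∀ x : (D.obj J').left, ∃ k : ULift.{u + 1} K, x ∈ Set.range (qW k.down).left := by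
    intro x
    obtain ⟨g₁, hg₁⟩ := hψ.1
    have h1 : (schemes D).map φ₁ ((schemes D).map g₁ x) = (schemes D).map ψ x := by
      rw [← Scheme.Hom.comp_apply, ← Functor.map_comp, hg₁]
    obtain ⟨z, hz1, -⟩ := Scheme.Pullback.exists_preimage_pullback
      (f := 𝟙 ((schemes D).obj j₀)) (g := (schemes D).map φ₁) ((schemes D).map ψ x)
      ((schemes D).map g₁ x) h1.symm
    have h2 := hφ₁ z
    rw [hz1, Set.mem_compl_iff, not_not, Set.mem_iUnion] at h2
    obtain ⟨k, u, hu⟩ := h2
    obtain ⟨y, -, hy⟩ := Scheme.Pullback.exists_preimage_pullback (f := b k) (g := (D.map ψ).left) u x hu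
    exact ⟨⟨k⟩, y, hy⟩
  obtain ⟨S, hS⟩ := exists_glue_cover F (D.obj J') (fun k : ULift.{u + 1} K => W' k.down)
    (fun k => qW k.down) hcovJ (fun k => F.obj.map (pW k.down).op (s k.down)) (by
      rintro ⟨k⟩ ⟨l⟩ R' gk gl he r' hr'
      obtain ⟨g', hg'⟩ := hψ.2 (k, l)
      have hsq : ∀ k, pW k ≫ bE k = qW k ≫ D.map ψ := fun k => etaleHom_ext pullback.condition
      obtain ⟨m, hm₁, hm₂⟩ := exists_pair_lift (bE k) (bE l) (gk ≫ pW k) (gl ≫ pW l)
        (by rw [Category.assoc, Category.assoc, hsq, hsq, reassoc_of% he])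
      refine hφ (k, l) (m.left r') ((schemes D).map g' ((qW k).left (gk.left r'))) ?_ ?_
      · rw [← Scheme.Hom.comp_apply ((schemes D).map g'), ← Functor.map_comp, hg']
        have h1 : m ≫ pairFst (bE k) (bE l) ≫ bE k = gk ≫ qW k ≫ D.map ψ := by
          rw [reassoc_of% hm₁, hsq]
        exact congrArg (fun q : R' ⟶ D.obj j₀ => q.left r') h1
      · have hc' : ∀ {A B : X.Etale} (g₁ : R' ⟶ A) (g₂ : A ⟶ B) (x : EtCoh.sect F B),
            F.obj.map g₁.op (F.obj.map g₂.op x) = F.obj.map (g₁ ≫ g₂).op x :=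
          fun g₁ g₂ x => (Functor.map_comp_apply F.obj g₂.op g₁.op x).symm
        refine (mem_sectSupp_map F m _ r').1 (Eq.mpr (congrArg (fun z => r' ∈ EtShriek.sectSupp F R' z) ?_) hr')
        refine (map_sub _ _ _).trans ?_
        exact congrArg₂ (· - ·)
          ((hc' _ _ _).trans ((congrArg (fun g : R' ⟶ R k => F.obj.map g.op (s k)) hm₁).trans (hc' _ _ _).symm))
          ((hc' _ _ _).trans ((congrArg (fun g : R' ⟶ R l => F.obj.map g.op (s l)) hm₂).trans (hc' _ _ _).symm)))
  refine ⟨J', S, sub_eq_zero.1 (eq_zero_of_sectSupp_eq_empty ((EtCoh.pull w).obj F) (EtCoh.top c.pt)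
    ((pullAt F (D.obj J') (c.π.app J') (hw J') S : EtCoh.sect ((EtCoh.pull w).obj F) (EtCoh.top c.pt)) - τ) (Set.eq_empty_iff_forall_notMem.2 fun y hy => ?_))⟩
  let η' := algPoint c.pt y
  let ξ : FibrePts w (η' ≫ w) := ⟨η', rfl⟩
  obtain ⟨⟨k⟩, z, hz⟩ := hcovJ (c.π.app J' y)
  let e : (Scheme.pointSmallEtale (η' ≫ w)).fiber.obj (D.obj J') := Over.homMk (η' ≫ c.π.app J') (by
    change (η' ≫ c.π.app J') ≫ (D.obj J').hom = η' ≫ w
    rw [Category.assoc, hw])
  have he : fiberPt e = c.π.app J' y := congrArg (c.π.app J') (algPoint_default c.pt y)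
  have : Etale (qW k).left := etale_left _
  obtain ⟨v, hv⟩ : ∃ v : (Scheme.pointSmallEtale (η' ≫ w)).fiber.obj (W' k),
      v.left ≫ (qW k).left = η' ≫ c.π.app J' := by
    obtain ⟨v', hv'⟩ := exists_fiber_point (X := (D.obj J').left) (η' ≫ c.π.app J')
      (Scheme.Etale.mk (qW k).left) z (hz.trans he.symm)
    refine ⟨Over.homMk v'.left ?_, Over.w v'⟩
    have h1 : (W' k).hom = (qW k).left ≫ (D.obj J').hom := (Over.w (qW k).hom).symm
    change v'.left ≫ (W' k).hom = η' ≫ w
    rw [h1, ← Category.assoc]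
    exact (congrArg (· ≫ (D.obj J').hom) (Over.w v')).trans ((Category.assoc _ _ _).trans (congrArg (η' ≫ ·) (hw J')))
  refine not_mem_sectSupp_of_germ_eq_zero _ ξ.1 _ _ (topPt η')
    ((map_sub _ _ _).trans (sub_eq_zero.2 ?_)) (by
      rw [show fiberPt (topPt η') = y from algPoint_default c.pt y]
      exact hy)
  refine (germ_pullAt w F _ _ (hw J') S ξ e rfl).trans ?_
  have hev : (Scheme.pointSmallEtale (η' ≫ w)).fiber.map (qW k) v = e := Over.OverMorphism.ext hv
  rw [← hev, ← gm_map F _ (qW k) v S, hS ⟨k⟩]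
  refine (congrArg (toPull w _ ξ F) (gm_map F _ (pW k) v (s k))).trans (hgs k _ _ ξ _ ?_)
  change (v.left ≫ pullback.fst (b k) (D.map ψ).left) ≫ b k = _
  rw [Category.assoc, pullback.condition, ← Category.assoc]
  refine (congrArg (· ≫ (D.map ψ).left) hv).trans ?_
  rw [Category.assoc]
  exact congrArg (η' ≫ ·) (c.w ψ)

end Groth.Agent.Et18.H0Lift
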