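import Groth.Agent.Et18.H0Lift.EffectiveClosed
import Groth.Agent.Et18.H0Lift.Spread

/-!
# The locus where germs correspond under a descent datum
-/

set_option autoImplicit false
set_option backward.isDefEq.respectTransparency.types false
set_option backward.isDefEq.respectTransparency false

universe u

open CategoryTheory CategoryTheory.Limits AlgebraicGeometry Opposite

namespace Groth.Agent.Et18.H0Lift

variable {T X : Scheme.{u}} {f : T ⟶ X} {F' : EtDesc.Sh T}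
  (φ : (EtDesc.pullSh (pullback.fst f f)).obj F' ≅ (EtDesc.pullSh (pullback.snd f f)).obj F')

/-- Whether the germs of two sections correspond depends only on the point of `W₁ ×_X W₂`. -/
theorem exists_drel_locus (W₁ W₂ : T.Etale) (t₁ : EtDesc.sect F' W₁) (t₂ : EtDesc.sect F' W₂) :
    ∃ E : Set ↥(pullback (W₁.hom ≫ f) (W₂.hom ≫ f)), IsOpen E ∧
      ∀ (K : Type u) [Field K] [IsSepClosed K] (ξ₁ ξ₂ : Spec (CommRingCat.of K) ⟶ T)
        (w₁ : (Scheme.pointSmallEtale ξ₁).fiber.obj W₁) (w₂ : (Scheme.pointSmallEtale ξ₂).fiber.obj W₂)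
        (l : Spec (CommRingCat.of K) ⟶ pullback (W₁.hom ≫ f) (W₂.hom ≫ f)),
        l ≫ pullback.fst _ _ = (w₁.left : _ ⟶ W₁.left) → l ≫ pullback.snd _ _ = (w₂.left : _ ⟶ W₂.left) →
          (l default ∈ E ↔ DRel φ ξ₁ ξ₂ (gmS F' ξ₁ W₁ w₁ t₁) (gmS F' ξ₂ W₂ w₂ t₂)) := by
  let N₁ := (EtCoh.bc (pullback.fst f f)).obj W₁
  let N₂ := (EtCoh.bc (pullback.snd f f)).obj W₂
  let C := EtCoh.top (EtDesc.X2 f)
  let α := (EtCore.topIsTerminal (EtDesc.X2 f)).from N₁
  let β := (EtCore.topIsTerminal (EtDesc.X2 f)).from N₂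
  let P := pairObj α β
  let G := (EtDesc.pullSh (pullback.snd f f)).obj F'
  let s₁ : EtDesc.sect G P := G.obj.map (pairFst α β).op
    (φ.hom.hom.app (op N₁) (((EtDesc.adjSh (pullback.fst f f)).unit.app F').hom.app (op W₁) t₁))
  let s₂ : EtDesc.sect G P := G.obj.map (pairSnd α β).op
    (((EtDesc.adjSh (pullback.snd f f)).unit.app F').hom.app (op W₂) t₂)
  let Q := pullback (W₁.hom ≫ f) (W₂.hom ≫ f)
  let c : Q ⟶ EtDesc.X2 f := pullback.lift (pullback.fst _ _ ≫ W₁.hom) (pullback.snd _ _ ≫ W₂.hom) (by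
    rw [Category.assoc, Category.assoc]; exact pullback.condition)
  let e₁ : Q ⟶ N₁.left := pullback.lift (pullback.fst _ _) c (pullback.lift_fst _ _ _).symm
  let e₂ : Q ⟶ N₂.left := pullback.lift (pullback.snd _ _) c (pullback.lift_snd _ _ _).symm
  let q : Q ⟶ P.left := pullback.lift e₁ e₂ (by
    have hα : α.left ≫ C.hom = N₁.hom := Over.w α.hom
    have hβ : β.left ≫ C.hom = N₂.hom := Over.w β.hom
    have : IsIso C.hom := inferInstanceAs (IsIso (𝟙 _))
    rw [← cancel_mono C.hom, Category.assoc, Category.assoc, hα, hβ]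
    exact (pullback.lift_snd _ _ _).trans (pullback.lift_snd _ _ _).symm)
  refine ⟨q ⁻¹' agreeLocus G P s₁ s₂, (isOpen_agreeLocus _ _ _ _).preimage q.continuous,
    fun K _ _ ξ₁ ξ₂ w₁ w₂ l h₁ h₂ => ?_⟩
  let ξ : Spec (CommRingCat.of K) ⟶ EtDesc.X2 f := l ≫ c
  have k₁ : ξ ≫ pullback.fst f f = ξ₁ := by
    rw [Category.assoc, pullback.lift_fst, ← Category.assoc, h₁]; exact Over.w w₁
  have k₂ : ξ ≫ pullback.snd f f = ξ₂ := by
    rw [Category.assoc, pullback.lift_snd, ← Category.assoc, h₂]; exact Over.w w₂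
  let z : (Scheme.pointSmallEtale ξ).fiber.obj P := Over.homMk (l ≫ q) (by
    change (l ≫ q) ≫ pullback.fst α.left β.left ≫ N₁.hom = ξ
    rw [Category.assoc, pullback.lift_fst_assoc]
    exact congrArg (l ≫ ·) (pullback.lift_snd _ _ _))
  change fiberPt z ∈ agreeLocus G P s₁ s₂ ↔ _
  rw [mem_agreeLocus_iff, DRel.iff ξ k₁ k₂]
  refine Iff.of_eq (congrArg₂ (· = ·) ?_ ?_)
  · refine (gmS_map G ξ (pairFst α β) z _).trans ?_
    refine (gmS_hom φ.hom ξ N₁ _ _).symm.trans ?_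
    refine congrArg ((stalkSh ξ).map φ.hom) ?_
    rw [show (Scheme.pointSmallEtale ξ).fiber.map (pairFst α β) z =
      bcLift (pullback.fst f f) ξ₁ ⟨ξ, k₁⟩ W₁ w₁ from Over.OverMorphism.ext (pullback.hom_ext ?_ ?_)]
    · exact gmS_unit (pullback.fst f f) (⟨ξ, k₁⟩ : FibrePts _ ξ₁) F' W₁ w₁ t₁
    · change ((l ≫ q) ≫ pullback.fst α.left β.left) ≫ EtShriek.prV (pullback.fst f f) W₁ = _
      refine (Category.assoc _ _ _).trans ((Category.assoc _ _ _).trans ?_)
      refine (congrArg (l ≫ ·) ((Category.assoc _ _ _).symm.trans ((congrArg (· ≫ _) (pullback.lift_fst _ _ _)).trans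
        (pullback.lift_fst _ _ _)))).trans ?_
      exact h₁.trans (pullback.lift_fst _ _ _).symm
    · refine (Over.w ((Scheme.pointSmallEtale ξ).fiber.map (pairFst α β) z)).trans ?_
      exact (Over.w (bcLift (pullback.fst f f) ξ₁ ⟨ξ, k₁⟩ W₁ w₁)).symm
  · refine (gmS_map G ξ (pairSnd α β) z _).trans ?_
    rw [show (Scheme.pointSmallEtale ξ).fiber.map (pairSnd α β) z =
      bcLift (pullback.snd f f) ξ₂ ⟨ξ, k₂⟩ W₂ w₂ from Over.OverMorphism.ext (pullback.hom_ext ?_ ?_)]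
    · exact gmS_unit (pullback.snd f f) (⟨ξ, k₂⟩ : FibrePts _ ξ₂) F' W₂ w₂ t₂
    · change ((l ≫ q) ≫ pullback.snd α.left β.left) ≫ EtShriek.prV (pullback.snd f f) W₂ = _
      refine (Category.assoc _ _ _).trans ((Category.assoc _ _ _).trans ?_)
      refine (congrArg (l ≫ ·) ((Category.assoc _ _ _).symm.trans ((congrArg (· ≫ _) (pullback.lift_snd _ _ _)).trans
        (pullback.lift_fst _ _ _)))).trans ?_
      exact h₂.trans (pullback.lift_fst _ _ _).symm
    · refine (Over.w ((Scheme.pointSmallEtale ξ).fiber.map (pairSnd α β) z)).trans ?_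
      exact (Over.w (bcLift (pullback.snd f f) ξ₂ ⟨ξ, k₂⟩ W₂ w₂)).symm

/-- A germ over `ξ₀` has a neighbourhood on which it corresponds to itself along the fibres. -/
def Consistent : Prop :=
  ∀ (Ω : Type u) [Field Ω] [IsSepClosed Ω] (ξ₀ : Spec (CommRingCat.of Ω) ⟶ T) (g₀ : (stalkSh ξ₀).obj F'),
    ∃ (V : X.Etale) (W : T.Etale) (p : W ⟶ (EtCoh.bc f).obj V)
      (w₀ : (Scheme.pointSmallEtale ξ₀).fiber.obj W) (t : EtDesc.sect F' W),
      gmS F' ξ₀ W w₀ t = g₀ ∧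
      ∀ (K : Type u) [Field K] [IsSepClosed K] (ξ₁ ξ₂ : Spec (CommRingCat.of K) ⟶ T)
        (w₁ : (Scheme.pointSmallEtale ξ₁).fiber.obj W) (w₂ : (Scheme.pointSmallEtale ξ₂).fiber.obj W),
        (w₁.left : _ ⟶ W.left) ≫ p.left ≫ EtShriek.prV f V = (w₂.left : _ ⟶ W.left) ≫ p.left ≫ EtShriek.prV f V →
          DRel φ ξ₁ ξ₂ (gmS F' ξ₁ W w₁ t) (gmS F' ξ₂ W w₂ t)

end Groth.Agent.Et18.H0Lift
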