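import Groth.Agent.Et18.H0Lift.DescentGerms
import Mathlib.AlgebraicGeometry.Morphisms.UniversallyClosed

/-!
# Effective descent along universally closed morphisms
-/

set_option autoImplicit false
set_option backward.isDefEq.respectTransparency.types false
set_option backward.isDefEq.respectTransparency false

universe u

open CategoryTheory CategoryTheory.Limits AlgebraicGeometry Opposite

namespace Groth.Agent.Et18.H0Lift

section Agree

variable {X : Scheme.{u}} (F : EtDesc.Sh X) (U : X.Etale) (s t : EtDesc.sect F U)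

/-- The locus where two sections agree. -/
def agreeLocus : Set U.left :=
  {z | ∃ (W : X.Etale) (g : W ⟶ U), z ∈ Set.range g.left ∧ F.obj.map g.op s = F.obj.map g.op t}

theorem isOpen_agreeLocus : IsOpen (agreeLocus F U s t) := by
  have : agreeLocus F U s t = ⋃ (W : X.Etale) (g : W ⟶ U) (_ : F.obj.map g.op s = F.obj.map g.op t),
      Set.range g.left := by
    ext z; simp [agreeLocus]; tauto
  rw [this]
  refine isOpen_iUnion fun W => isOpen_iUnion fun g => isOpen_iUnion fun _ => ?_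
  have : Etale g.left := etale_map_left g
  exact g.left.isOpenMap.isOpen_range

variable {F U s t}

theorem mem_agreeLocus_iff {Ω : Type u} [Field Ω] [IsSepClosed Ω] (ξ : Spec (CommRingCat.of Ω) ⟶ X)
    (v : (Scheme.pointSmallEtale ξ).fiber.obj U) :
    fiberPt v ∈ agreeLocus F U s t ↔ gmS F ξ U v s = gmS F ξ U v t := by
  constructor
  · rintro ⟨W, g, ⟨z, hz⟩, e⟩
    have : Etale g.left := etale_map_left g
    let vl : Spec (CommRingCat.of Ω) ⟶ U.left := v.left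
    obtain ⟨l, hl, -⟩ := Scheme.exists_fac_of_etale_of_isSepClosed g.left vl z hz
    have hl' : l ≫ W.hom = ξ := by
      rw [show W.hom = g.left ≫ U.hom from (Over.w g.hom).symm, ← Category.assoc, hl]
      exact Over.w v
    let w : (Scheme.pointSmallEtale ξ).fiber.obj W := Over.homMk l hl'
    have hw : (Scheme.pointSmallEtale ξ).fiber.map g w = v := Over.OverMorphism.ext hl
    rw [← hw, ← gmS_map, ← gmS_map, e]
  · intro h
    obtain ⟨W, g, w, hw, e⟩ :=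
      ((Scheme.pointSmallEtale ξ).toPresheafFiber_eq_iff' (P := F.obj) U v s t).mp h
    exact ⟨W, g, ⟨fiberPt w, (fiberPt_map g w).trans (congrArg fiberPt hw)⟩, e⟩

end Agree

variable {T X : Scheme.{u}} {f : T ⟶ X} {F' : EtDesc.Sh T}
  (φ : (EtDesc.pullSh (pullback.fst f f)).obj F' ≅ (EtDesc.pullSh (pullback.snd f f)).obj F')

/-- Every germ spreads out to a section over some `T ×_X V` corresponding to it along the fibres. -/
def Spreads : Prop :=
  ∀ (Ω : Type u) [Field Ω] [IsSepClosed Ω] (ξ₀ : Spec (CommRingCat.of Ω) ⟶ T) (g₀ : (stalkSh ξ₀).obj F'),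
    ∃ (V : X.Etale) (σ : EtDesc.sect F' ((EtCoh.bc f).obj V)) (W : T.Etale) (p : W ⟶ (EtCoh.bc f).obj V)
      (w₀ : (Scheme.pointSmallEtale ξ₀).fiber.obj W) (t : EtDesc.sect F' W),
      gmS F' ξ₀ W w₀ t = g₀ ∧
      ∀ (K : Type u) [Field K] [IsSepClosed K] (η : Spec (CommRingCat.of K) ⟶ X)
        (v : (Scheme.pointSmallEtale η).fiber.obj V) (ξ ξ₁ : FibrePts f η)
        (w : (Scheme.pointSmallEtale ξ.1).fiber.obj W),
        (Scheme.pointSmallEtale ξ.1).fiber.map p w = bcLift f η ξ V v →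
          DRel φ ξ₁.1 ξ.1 (gmS F' ξ₁.1 _ (bcLift f η ξ₁ V v) σ) (gmS F' ξ.1 W w t)

theorem bcLift_transfer (V : X.Etale)
    (θ : (EtCoh.bc (pullback.fst f f)).obj ((EtCoh.bc f).obj V) ⟶
      (EtCoh.bc (pullback.snd f f)).obj ((EtCoh.bc f).obj V))
    (k : ((EtCoh.bc (pullback.fst f f)).obj ((EtCoh.bc f).obj V)).left ⟶ ((EtCoh.bc f).obj V).left)
    (hθ : θ.left ≫ EtShriek.prV (pullback.snd f f) ((EtCoh.bc f).obj V) = k)
    (hk₁ : k ≫ EtShriek.prV f V = EtShriek.prV (pullback.fst f f) ((EtCoh.bc f).obj V) ≫ EtShriek.prV f V)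
    (hk₂ : k ≫ ((EtCoh.bc f).obj V).hom =
      ((EtCoh.bc (pullback.fst f f)).obj ((EtCoh.bc f).obj V)).hom ≫ pullback.snd f f)
    {K : Type u} [Field K] [IsSepClosed K] {η : Spec (CommRingCat.of K) ⟶ X}
    (v : (Scheme.pointSmallEtale η).fiber.obj V) (ξ₁ ξ₂ : FibrePts f η)
    (ξ : Spec (CommRingCat.of K) ⟶ EtDesc.X2 f) (h₁ : ξ ≫ pullback.fst f f = ξ₁.1)
    (h₂ : ξ ≫ pullback.snd f f = ξ₂.1) :
    (Scheme.pointSmallEtale ξ).fiber.map θ
        (bcLift (pullback.fst f f) ξ₁.1 ⟨ξ, h₁⟩ ((EtCoh.bc f).obj V) (bcLift f η ξ₁ V v)) =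
      bcLift (pullback.snd f f) ξ₂.1 ⟨ξ, h₂⟩ ((EtCoh.bc f).obj V) (bcLift f η ξ₂ V v) := by
  refine Over.OverMorphism.ext (pullback.hom_ext ?_ ?_)
  · change ((bcLift (pullback.fst f f) ξ₁.1 ⟨ξ, h₁⟩ _ _).left ≫ θ.left) ≫ EtShriek.prV _ _ =
      (bcLift (pullback.snd f f) ξ₂.1 ⟨ξ, h₂⟩ _ _).left ≫ EtShriek.prV _ _
    rw [Category.assoc, hθ]
    refine Eq.trans (pullback.hom_ext ?_ ?_) (pullback.lift_fst _ _ _).symm
    · refine (Category.assoc _ _ _).trans ((congrArg (_ ≫ ·) hk₁).trans ?_)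
      refine (Category.assoc _ _ _).symm.trans ?_
      refine (congrArg (· ≫ EtShriek.prV f V) (pullback.lift_fst _ _ _)).trans ?_
      exact (pullback.lift_fst _ _ _).trans (pullback.lift_fst _ _ _).symm
    · refine (Category.assoc _ _ _).trans ((congrArg (_ ≫ ·) hk₂).trans ?_)
      refine (Category.assoc _ _ _).symm.trans ?_
      refine (congrArg (· ≫ pullback.snd f f) (pullback.lift_snd _ _ _)).trans ?_
      exact h₂.trans (pullback.lift_snd _ _ _).symm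
  · exact (Over.w ((Scheme.pointSmallEtale ξ).fiber.map θ
      (bcLift (pullback.fst f f) ξ₁.1 ⟨ξ, h₁⟩ _ (bcLift f η ξ₁ V v)))).trans
      (Over.w (bcLift (pullback.snd f f) ξ₂.1 ⟨ξ, h₂⟩ _ (bcLift f η ξ₂ V v))).symm

theorem mem_agreeLocus_iff_drel (V : X.Etale) (σ : EtDesc.sect F' ((EtCoh.bc f).obj V))
    (θ : (EtCoh.bc (pullback.fst f f)).obj ((EtCoh.bc f).obj V) ⟶
      (EtCoh.bc (pullback.snd f f)).obj ((EtCoh.bc f).obj V))
    (k : ((EtCoh.bc (pullback.fst f f)).obj ((EtCoh.bc f).obj V)).left ⟶ ((EtCoh.bc f).obj V).left)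
    (hθ : θ.left ≫ EtShriek.prV (pullback.snd f f) ((EtCoh.bc f).obj V) = k)
    (hk₁ : k ≫ EtShriek.prV f V = EtShriek.prV (pullback.fst f f) ((EtCoh.bc f).obj V) ≫ EtShriek.prV f V)
    (hk₂ : k ≫ ((EtCoh.bc f).obj V).hom =
      ((EtCoh.bc (pullback.fst f f)).obj ((EtCoh.bc f).obj V)).hom ≫ pullback.snd f f)
    {K : Type u} [Field K] [IsSepClosed K] {η : Spec (CommRingCat.of K) ⟶ X}
    (v : (Scheme.pointSmallEtale η).fiber.obj V) (ξ₁ ξ₂ : FibrePts f η)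
    (ξ : Spec (CommRingCat.of K) ⟶ EtDesc.X2 f) (h₁ : ξ ≫ pullback.fst f f = ξ₁.1)
    (h₂ : ξ ≫ pullback.snd f f = ξ₂.1) :
    fiberPt (bcLift (pullback.fst f f) ξ₁.1 ⟨ξ, h₁⟩ ((EtCoh.bc f).obj V) (bcLift f η ξ₁ V v)) ∈
        agreeLocus ((EtDesc.pullSh (pullback.snd f f)).obj F') _
          (φ.hom.hom.app (op _) (((EtDesc.adjSh (pullback.fst f f)).unit.app F').hom.app (op _) σ))
          (((EtDesc.pullSh (pullback.snd f f)).obj F').obj.map θ.op
            (((EtDesc.adjSh (pullback.snd f f)).unit.app F').hom.app (op _) σ)) ↔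
      DRel φ ξ₁.1 ξ₂.1 (gmS F' ξ₁.1 _ (bcLift f η ξ₁ V v) σ) (gmS F' ξ₂.1 _ (bcLift f η ξ₂ V v) σ) := by
  rw [mem_agreeLocus_iff, DRel.iff ξ h₁ h₂]
  refine Iff.of_eq (congrArg₂ (· = ·) ?_ ?_)
  · exact (gmS_hom φ.hom ξ ((EtCoh.bc (pullback.fst f f)).obj ((EtCoh.bc f).obj V))
      (bcLift (pullback.fst f f) ξ₁.1 ⟨ξ, h₁⟩ _ (bcLift f η ξ₁ V v))
      (((EtDesc.adjSh (pullback.fst f f)).unit.app F').hom.app (op _) σ)).symm.trans
      (congrArg ((stalkSh ξ).map φ.hom)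
        (gmS_unit (pullback.fst f f) (⟨ξ, h₁⟩ : FibrePts _ ξ₁.1) F' _ (bcLift f η ξ₁ V v) σ))
  · refine (gmS_map ((EtDesc.pullSh (pullback.snd f f)).obj F') ξ θ
      (bcLift (pullback.fst f f) ξ₁.1 ⟨ξ, h₁⟩ _ (bcLift f η ξ₁ V v))
      (((EtDesc.adjSh (pullback.snd f f)).unit.app F').hom.app (op _) σ)).trans ?_
    rw [bcLift_transfer V θ k hθ hk₁ hk₂ v ξ₁ ξ₂ ξ h₁ h₂]
    exact gmS_unit (pullback.snd f f) (⟨ξ, h₂⟩ : FibrePts _ ξ₂.1) F' _ (bcLift f η ξ₂ V v) σ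

theorem bijective_of_spreads (hφ : EtDesc.IsCocycle F' φ) [UniversallyClosed f]
    (hq : ∀ V : X.Etale, Function.Surjective (EtShriek.prV f V) ∧ Topology.IsQuotientMap (EtShriek.prV f V))
    (hS : Spreads φ) {Ω : Type u} [Field Ω] [IsSepClosed Ω] (ξ₀ : Spec (CommRingCat.of Ω) ⟶ T) :
    Function.Bijective ((stalkSh ξ₀).map (descComparison F' φ)) := by
  let G := descSheaf F' φ
  let ξ₀' : FibrePts f (ξ₀ ≫ f) := ⟨ξ₀, rfl⟩
  constructor
  · intro a b hab
    obtain ⟨a, rfl⟩ := (bijective_toPullSh f ξ₀' G).2 a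
    obtain ⟨b, rfl⟩ := (bijective_toPullSh f ξ₀' G).2 b
    obtain ⟨V, v, s, t, rfl, rfl⟩ :=
      (Scheme.pointSmallEtale (ξ₀ ≫ f)).toPresheafFiber_jointly_surjective₂ (P := G.obj) a b
    rw [descComparison_germ φ ξ₀' V v s, descComparison_germ φ ξ₀' V v t] at hab
    let B := (EtCoh.bc f).obj V
    let E : Set B.left := agreeLocus F' B s.1 t.1
    have sat : ∀ z₁ z₂ : B.left, EtShriek.prV f V z₁ = EtShriek.prV f V z₂ → z₁ ∈ E → z₂ ∈ E := by
      intro z₁ z₂ hz hz₁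
      obtain ⟨c, hc₁, hc₂⟩ := Scheme.Pullback.exists_preimage_pullback (f := EtShriek.prV f V)
        (g := EtShriek.prV f V) z₁ z₂ hz
      obtain ⟨l₁, l₂, hl, hl₁, hl₂⟩ : ∃ (l₁ l₂ : Spec (CommRingCat.of
          (AlgebraicClosure ((pullback (EtShriek.prV f V) (EtShriek.prV f V)).residueField c))) ⟶ B.left),
          l₁ ≫ EtShriek.prV f V = l₂ ≫ EtShriek.prV f V ∧ l₁ default = z₁ ∧ l₂ default = z₂ := by
        refine ⟨algPoint _ c ≫ pullback.fst _ _, algPoint _ c ≫ pullback.snd _ _, ?_, ?_, ?_⟩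
        · simp only [Category.assoc, pullback.condition]
        · rw [Scheme.Hom.comp_apply, algPoint_default]; exact hc₁
        · rw [Scheme.Hom.comp_apply, algPoint_default]; exact hc₂
      obtain ⟨η, hη⟩ : ∃ η, (l₁ ≫ EtShriek.prV f V) ≫ V.hom = η := ⟨_, rfl⟩
      have hcond : B.hom ≫ f = EtShriek.prV f V ≫ V.hom := (pullback.condition (f := V.hom) (g := f)).symm
      have k₁ : (l₁ ≫ B.hom) ≫ f = η := by rw [← hη, Category.assoc, hcond, Category.assoc]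
      have k₂ : (l₂ ≫ B.hom) ≫ f = η := by rw [← hη, Category.assoc, hcond, ← Category.assoc, ← hl]
      let ξ₁ : FibrePts f η := ⟨l₁ ≫ B.hom, k₁⟩
      let ξ₂ : FibrePts f η := ⟨l₂ ≫ B.hom, k₂⟩
      let v' : (Scheme.pointSmallEtale η).fiber.obj V := Over.homMk (l₁ ≫ EtShriek.prV f V) hη
      have p₁ : fiberPt (bcLift f η ξ₁ V v') = z₁ := by
        refine (congrArg (fun k : _ ⟶ pullback V.hom f => k default) (pullback.hom_ext ?_ ?_)).trans hl₁
        · exact pullback.lift_fst _ _ _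
        · exact pullback.lift_snd _ _ _
      have p₂ : fiberPt (bcLift f η ξ₂ V v') = z₂ := by
        refine (congrArg (fun k : _ ⟶ pullback V.hom f => k default) (pullback.hom_ext ?_ ?_)).trans hl₂
        · exact (pullback.lift_fst _ _ _).trans hl
        · exact pullback.lift_snd _ _ _
      rw [← p₁, mem_agreeLocus_iff] at hz₁
      rw [← p₂, mem_agreeLocus_iff]
      exact DRel.unique_right (hz₁ ▸ s.2 _ η v' ξ₁ ξ₂) (t.2 _ η v' ξ₁ ξ₂)
    have hpre : EtShriek.prV f V ⁻¹' (EtShriek.prV f V '' E) = E :=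
      Set.Subset.antisymm (fun z₂ ⟨z₁, h₁, hz⟩ => sat z₁ z₂ hz h₁) (Set.subset_preimage_image _ _)
    have hO : IsOpen (EtShriek.prV f V '' E) := by
      refine (hq V).2.isOpen_preimage.1 ?_
      rw [hpre]; exact isOpen_agreeLocus _ _ _ _
    let V₀ : V.left.Opens := ⟨_, hO⟩
    have : Etale V.hom := V.prop
    let W : X.Etale := Scheme.Etale.mk (V₀.ι ≫ V.hom)
    let g : W ⟶ V := MorphismProperty.Over.homMk V₀.ι rfl
    obtain ⟨l, hl⟩ : ∃ l : Spec (CommRingCat.of Ω) ⟶ (V₀ : Scheme.{u}), l ≫ V₀.ι = v.left := by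
      refine ⟨IsOpenImmersion.lift V₀.ι v.left ?_, IsOpenImmersion.lift_fac _ _ _⟩
      rintro _ ⟨p, rfl⟩
      rw [Subsingleton.elim p default, Scheme.Opens.range_ι]
      exact ⟨_, (mem_agreeLocus_iff ξ₀ _).2 hab,
        congrArg (fun k : Spec _ ⟶ V.left => k default) (pullback.lift_fst _ _ _)⟩
    let w : (Scheme.pointSmallEtale (ξ₀ ≫ f)).fiber.obj W :=
      Over.homMk l ((Category.assoc _ _ _).symm.trans ((congrArg (· ≫ V.hom) hl).trans (Over.w v)))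
    have hw : (Scheme.pointSmallEtale _).fiber.map g w = v := Over.OverMorphism.ext hl
    refine congrArg _ ?_
    change gmS G _ V v s = gmS G _ V v t
    rw [← hw, ← gmS_map, ← gmS_map]
    refine congrArg (gmS G _ W w) (Subtype.ext (eq_of_gmS F' _ _ _ fun z => ?_))
    obtain ⟨ζ, hζ⟩ : ∃ ζ, algPoint T (((EtCoh.bc f).obj W).hom z) = ζ := ⟨_, rfl⟩
    obtain ⟨q, hq'⟩ := exists_fiber_point ζ ((EtCoh.bc f).obj W) z
      (by rw [← hζ]; exact (algPoint_default T _).symm)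
    refine ⟨_, inferInstance, inferInstance, ζ, q, hq', ?_⟩
    refine (gmS_map F' ζ ((EtCoh.bc f).map g) q s.1).trans (Eq.trans ?_ (gmS_map F' ζ _ q t.1).symm)
    refine (mem_agreeLocus_iff ζ _).1 ?_
    rw [← fiberPt_map, hq']
    change ((EtCoh.bc f).map g).left z ∈ E
    rw [← hpre]
    change EtShriek.prV f V (((EtCoh.bc f).map g).left z) ∈ V₀
    rw [← Scheme.Hom.comp_apply, (EtCoh.isPullback_bc_map f g).w]
    exact (EtShriek.prV f W z).2
  · intro g₀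
    obtain ⟨V, σ, W, p, w₀, t, hg₀, hS'⟩ := hS Ω ξ₀ g₀
    let B := (EtCoh.bc f).obj V
    let N₁ := (EtCoh.bc (pullback.fst f f)).obj B
    let N₂ := (EtCoh.bc (pullback.snd f f)).obj B
    let q : N₁.left ⟶ V.left := EtShriek.prV (pullback.fst f f) B ≫ EtShriek.prV f V
    have hq₁ : (N₁.hom ≫ pullback.snd f f) ≫ f = q ≫ V.hom := by
      rw [Category.assoc, ← pullback.condition, ← Category.assoc]
      refine (congrArg (· ≫ f) (pullback.condition (f := B.hom) (g := pullback.fst f f)).symm).trans ?_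
      rw [Category.assoc, Category.assoc]
      exact congrArg (_ ≫ ·) (pullback.condition (f := V.hom) (g := f)).symm
    obtain ⟨k, hk₁, hk₂⟩ : ∃ k : N₁.left ⟶ B.left,
        k ≫ EtShriek.prV f V = q ∧ k ≫ B.hom = N₁.hom ≫ pullback.snd f f :=
      ⟨pullback.lift q (N₁.hom ≫ pullback.snd f f) hq₁.symm, pullback.lift_fst _ _ _, pullback.lift_snd _ _ _⟩
    obtain ⟨θ, hθ⟩ : ∃ θ : N₁ ⟶ N₂, θ.left ≫ EtShriek.prV (pullback.snd f f) B = k :=
      ⟨MorphismProperty.Over.homMk (pullback.lift k N₁.hom hk₂) (pullback.lift_snd _ _ _),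
        pullback.lift_fst _ _ _⟩
    let s₁ := φ.hom.hom.app (op N₁) (((EtDesc.adjSh (pullback.fst f f)).unit.app F').hom.app (op B) σ)
    let s₂ := ((EtDesc.pullSh (pullback.snd f f)).obj F').obj.map θ.op
      (((EtDesc.adjSh (pullback.snd f f)).unit.app F').hom.app (op B) σ)
    let E : Set N₁.left := agreeLocus _ N₁ s₁ s₂
    have hgerm : ∀ {K : Type u} [Field K] [IsSepClosed K] {η : Spec (CommRingCat.of K) ⟶ X}
        (v : (Scheme.pointSmallEtale η).fiber.obj V) (ξ₁ ξ₂ : FibrePts f η)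
        (ξ : Spec (CommRingCat.of K) ⟶ EtDesc.X2 f) (h₁ : ξ ≫ pullback.fst f f = ξ₁.1)
        (_ : ξ ≫ pullback.snd f f = ξ₂.1),
        fiberPt (bcLift (pullback.fst f f) ξ₁.1 ⟨ξ, h₁⟩ B (bcLift f η ξ₁ V v)) ∈ E ↔
          DRel φ ξ₁.1 ξ₂.1 (gmS F' ξ₁.1 _ (bcLift f η ξ₁ V v) σ) (gmS F' ξ₂.1 _ (bcLift f η ξ₂ V v) σ) :=
      fun v ξ₁ ξ₂ ξ h₁ h₂ => mem_agreeLocus_iff_drel φ V σ θ k hθ hk₁ hk₂ v ξ₁ ξ₂ ξ h₁ h₂
    obtain ⟨v₀, hv₀⟩ : ∃ v₀ : (Scheme.pointSmallEtale (ξ₀ ≫ f)).fiber.obj V,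
        (Scheme.pointSmallEtale ξ₀).fiber.map p w₀ = bcLift f _ ξ₀' V v₀ :=
      ⟨(bcLiftEquiv f _ ξ₀' V).symm ((Scheme.pointSmallEtale ξ₀).fiber.map p w₀),
        ((bcLiftEquiv f _ ξ₀' V).apply_symm_apply _).symm⟩
    have hfib : ∀ z : N₁.left, q z = fiberPt v₀ → z ∈ E := by
      intro z hz
      let wl : Spec (CommRingCat.of Ω) ⟶ W.left := w₀.left
      have hy : (p.left ≫ EtShriek.prV f V) (fiberPt w₀) = fiberPt v₀ := by
        have e := congrArg (fun r => EtShriek.prV f V (fiberPt r)) hv₀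
        refine ((Scheme.Hom.comp_apply _ _ _).trans ?_).trans (e.trans ?_)
        · exact congrArg _ (fiberPt_map p w₀)
        · exact congrArg (fun k : Spec _ ⟶ V.left => k default) (pullback.lift_fst _ _ _)
      obtain ⟨c, hc₁, hc₂⟩ := Scheme.Pullback.exists_preimage_pullback (f := q)
        (g := p.left ≫ EtShriek.prV f V) z (fiberPt w₀) (hz.trans hy.symm)
      obtain ⟨l, lw, hl, hlz⟩ : ∃ (l : Spec (CommRingCat.of
          (AlgebraicClosure ((pullback q (p.left ≫ EtShriek.prV f V)).residueField c))) ⟶ N₁.left)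
          (lw : Spec (CommRingCat.of _) ⟶ W.left),
          l ≫ q = lw ≫ p.left ≫ EtShriek.prV f V ∧ l default = z := by
        refine ⟨algPoint _ c ≫ pullback.fst _ _, algPoint _ c ≫ pullback.snd _ _, ?_, ?_⟩
        · simp only [Category.assoc, pullback.condition]
        · rw [Scheme.Hom.comp_apply, algPoint_default]; exact hc₁
      obtain ⟨η, hη⟩ : ∃ η, (l ≫ q) ≫ V.hom = η := ⟨_, rfl⟩
      let v : (Scheme.pointSmallEtale η).fiber.obj V := Over.homMk (l ≫ q) hη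
      have k₁ : (l ≫ N₁.hom ≫ pullback.fst f f) ≫ f = η := by
        rw [← hη, Category.assoc l q, ← hq₁]
        simp only [Category.assoc, pullback.condition]
      have k₂ : (l ≫ N₁.hom ≫ pullback.snd f f) ≫ f = η := by
        rw [← hη, Category.assoc l q, ← hq₁]
        simp only [Category.assoc]
      have hpW : p.left ≫ B.hom = W.hom := Over.w p.hom
      have kw : (lw ≫ W.hom) ≫ f = η := by
        rw [← hη, hl, ← hpW]
        simp only [Category.assoc]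
        exact congrArg (lw ≫ p.left ≫ ·) (pullback.condition (f := V.hom) (g := f)).symm
      let ξ₁ : FibrePts f η := ⟨l ≫ N₁.hom ≫ pullback.fst f f, k₁⟩
      let ξ₂ : FibrePts f η := ⟨l ≫ N₁.hom ≫ pullback.snd f f, k₂⟩
      let ξw : FibrePts f η := ⟨lw ≫ W.hom, kw⟩
      let w : (Scheme.pointSmallEtale ξw.1).fiber.obj W := Over.homMk lw rfl
      have hw : (Scheme.pointSmallEtale ξw.1).fiber.map p w = bcLift f η ξw V v := by
        refine Over.OverMorphism.ext (pullback.hom_ext ?_ ?_)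
        · exact (Category.assoc _ _ _).trans (hl.symm.trans (pullback.lift_fst _ _ _).symm)
        · exact (Over.w ((Scheme.pointSmallEtale ξw.1).fiber.map p w)).trans (Over.w (bcLift f η ξw V v)).symm
      have h := (hS' _ η v ξw ξ₁ w hw).trans hφ ((hS' _ η v ξw ξ₂ w hw).symm hφ)
      refine Set.mem_of_eq_of_mem ?_ ((hgerm v ξ₁ ξ₂ (l ≫ N₁.hom) (Category.assoc _ _ _) (Category.assoc _ _ _)).2 h)
      refine hlz.symm.trans (congrArg (fun k : _ ⟶ N₁.left => k default) (pullback.hom_ext ?_ ?_))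
      · refine Eq.trans (pullback.hom_ext ?_ ?_) (pullback.lift_fst _ _ _).symm
        · exact (Category.assoc _ _ _).trans (pullback.lift_fst _ _ _).symm
        · refine (Category.assoc _ _ _).trans ((congrArg (l ≫ ·)
            (pullback.condition (f := B.hom) (g := pullback.fst f f))).trans ?_)
          exact (pullback.lift_snd _ _ _).symm
      · exact (pullback.lift_snd _ _ _).symm
    have hqc : IsClosed (q '' Eᶜ) := q.isClosedMap _ (isOpen_agreeLocus _ _ _ _).isClosed_compl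
    let V₀ : V.left.Opens := ⟨(q '' Eᶜ)ᶜ, hqc.isOpen_compl⟩
    have : Etale V.hom := V.prop
    let U : X.Etale := Scheme.Etale.mk (V₀.ι ≫ V.hom)
    let g : U ⟶ V := MorphismProperty.Over.homMk V₀.ι rfl
    obtain ⟨l, hl⟩ : ∃ l : Spec (CommRingCat.of Ω) ⟶ (V₀ : Scheme.{u}), l ≫ V₀.ι = v₀.left := by
      refine ⟨IsOpenImmersion.lift V₀.ι v₀.left ?_, IsOpenImmersion.lift_fac _ _ _⟩
      rintro _ ⟨a, rfl⟩
      rw [Subsingleton.elim a default, Scheme.Opens.range_ι]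
      rintro ⟨z, hz, hzq⟩
      exact hz (hfib z hzq)
    let u₀ : (Scheme.pointSmallEtale (ξ₀ ≫ f)).fiber.obj U :=
      Over.homMk l ((Category.assoc _ _ _).symm.trans ((congrArg (· ≫ V.hom) hl).trans (Over.w v₀)))
    have hu₀ : (Scheme.pointSmallEtale _).fiber.map g u₀ = v₀ := Over.OverMorphism.ext hl
    have hσ : CompatSec φ U (F'.obj.map ((EtCoh.bc f).map g).op σ) := by
      intro K _ _ η v ξ₁ ξ₂
      rw [gmS_map, gmS_map, bcLift_map, bcLift_map]
      obtain ⟨ξ, h₁, h₂⟩ : ∃ ξ : Spec (CommRingCat.of K) ⟶ EtDesc.X2 f,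
          ξ ≫ pullback.fst f f = ξ₁.1 ∧ ξ ≫ pullback.snd f f = ξ₂.1 :=
        ⟨pullback.lift ξ₁.1 ξ₂.1 (ξ₁.2.trans ξ₂.2.symm), pullback.lift_fst _ _ _, pullback.lift_snd _ _ _⟩
      refine (hgerm _ ξ₁ ξ₂ ξ h₁ h₂).1 (not_not.1 fun hn => ?_)
      let vl : Spec (CommRingCat.of K) ⟶ (V₀ : Scheme.{u}) := v.left
      have hmem : V₀.ι (vl default) ∈ V₀ := (vl default).2
      refine hmem ⟨_, hn, ?_⟩
      have hcomp : (bcLift (pullback.fst f f) ξ₁.1 ⟨ξ, h₁⟩ B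
          (bcLift f η ξ₁ V ((Scheme.pointSmallEtale η).fiber.map g v))).left ≫ q = vl ≫ V₀.ι := by
        refine (Category.assoc _ _ _).symm.trans ?_
        exact (congrArg (· ≫ EtShriek.prV f V) (pullback.lift_fst _ _ _)).trans (pullback.lift_fst _ _ _)
      exact congrArg (fun k : Spec _ ⟶ V.left => k default) hcomp
    refine ⟨toPullSh f _ ξ₀' G (gmS G _ U u₀ ⟨_, hσ⟩), ?_⟩
    rw [descComparison_germ φ ξ₀' U u₀ ⟨_, hσ⟩]
    change gmS F' ξ₀ _ (bcLift f _ ξ₀' U u₀) (F'.obj.map ((EtCoh.bc f).map g).op σ) = g₀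
    rw [gmS_map, bcLift_map g ξ₀' u₀, hu₀]
    exact DRel.unique_right (DRel.refl hφ ξ₀ _) (hg₀ ▸ hS' Ω _ v₀ ξ₀' ξ₀' w₀ hv₀)

/-- Effectivity from bijectivity on stalks. -/
theorem isEffective_of_bijective
    (h : ∀ y : T, Function.Bijective ((stalkSh (sepPoint T y)).map (descComparison F' φ))) :
    EtDesc.IsEffective f F' φ := by
  let k := descComparison F' φ
  have : IsIso k := isIso_of_stalksSh_family _ (exists_sepPoint T) k fun y => (isIso_iff_bijective _).2 (h y.down)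
  refine ⟨descSheaf F' φ, asIso k, Iso.ext ?_⟩
  simp only [Iso.trans_hom, Iso.symm_hom, Functor.mapIso_inv, Functor.mapIso_hom, asIso_inv, asIso_hom]
  rw [Functor.map_inv, IsIso.inv_comp_eq]
  refine eq_of_stalksSh_family _ (exists_sepPoint (EtDesc.X2 f)) _ _ fun c => ?_
  obtain ⟨ξ, hξ⟩ : ∃ ξ, sepPoint (EtDesc.X2 f) c.down = ξ := ⟨_, rfl⟩
  rw [hξ]
  refine ConcreteCategory.hom_ext _ _ fun e => ?_
  obtain ⟨η₁, h₁⟩ : ∃ η₁, ξ ≫ pullback.fst f f = η₁ := ⟨_, rfl⟩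
  obtain ⟨η₂, h₂⟩ : ∃ η₂, ξ ≫ pullback.snd f f = η₂ := ⟨_, rfl⟩
  obtain ⟨η, hη⟩ : ∃ η, η₁ ≫ f = η := ⟨_, rfl⟩
  have hη' : η₂ ≫ f = η := by rw [← hη, ← h₁, ← h₂, Category.assoc, Category.assoc, pullback.condition]
  let ξ₁ : FibrePts f η := ⟨η₁, hη⟩
  let ξ₂ : FibrePts f η := ⟨η₂, hη'⟩
  obtain ⟨e₁, rfl⟩ := (bijective_toPullSh (pullback.fst f f) (⟨ξ, h₁⟩ : FibrePts _ η₁) _).2 e
  obtain ⟨e₀, rfl⟩ := (bijective_toPullSh f ξ₁ _).2 e₁
  obtain ⟨V, v, s, rfl⟩ :=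
    (Scheme.pointSmallEtale η).toPresheafFiber_jointly_surjective (P := (descSheaf F' φ).obj) e₀
  rw [Functor.map_comp, Functor.map_comp, ConcreteCategory.comp_apply, ConcreteCategory.comp_apply,
    stalk_canIso f _ ξ ξ₁ ξ₂ h₁ h₂, ← toPullSh_naturality (pullback.snd f f) k ⟨ξ, h₂⟩,
    ← toPullSh_naturality (pullback.fst f f) k ⟨ξ, h₁⟩, descComparison_germ φ ξ₁ V v s,
    descComparison_germ φ ξ₂ V v s]
  exact ((DRel.iff ξ h₁ h₂ _ _).1 (s.2 _ η v ξ₁ ξ₂)).symm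

end Groth.Agent.Et18.H0Lift
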