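import Groth.Agent.Et18.H0Lift.Supports

/-!
# Excision for sections supported in a closed subset
-/

set_option autoImplicit false
set_option backward.isDefEq.respectTransparency.types false
set_option backward.isDefEq.respectTransparency false

universe u

open CategoryTheory CategoryTheory.Limits AlgebraicGeometry Opposite

namespace Groth.Agent.Et18.H0Lift

/-- Field valued points over the same point with trivial residue extension are equal. -/
theorem point_ext {A B : Scheme.{u}} (φ : A ⟶ B) {Ω : Type u} [Field Ω] (x : A)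
    (hres : Function.Bijective (φ.residueFieldMap x)) (l₁ l₂ : Spec (CommRingCat.of Ω) ⟶ A)
    (h₁ : l₁ default = x) (h₂ : l₂ default = x) (h : l₁ ≫ φ = l₂ ≫ φ) : l₁ = l₂ := by
  have : IsIso (φ.residueFieldMap x) := (ConcreteCategory.isIso_iff_bijective _).2 hres
  have : Mono (A.fromSpecResidueField x ≫ φ) := by
    rw [← φ.SpecMap_residueFieldMap_fromSpecResidueField x]; infer_instance
  have key : ∀ l : Spec (CommRingCat.of Ω) ⟶ A, l default = x → ∃ g, g ≫ A.fromSpecResidueField x = l := by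
    intro l hl
    obtain ⟨⟨y, g⟩, rfl⟩ := (Scheme.SpecToEquivOfField Ω A).symm.surjective l
    have : y = x := by
      rw [← hl]
      exact ((congrArg (fun k => k default) (rfl : Spec.map g ≫ A.fromSpecResidueField y = _)).symm.trans
        (A.fromSpecResidueField_apply y _)).symm
    subst this
    exact ⟨Spec.map g, rfl⟩
  obtain ⟨g₁, rfl⟩ := key l₁ h₁
  obtain ⟨g₂, rfl⟩ := key l₂ h₂
  simp only [Category.assoc] at h
  rw [(cancel_mono (A.fromSpecResidueField x ≫ φ)).1 h]

variable {X : Scheme.{u}} (F : EtCoh.Ab X) {U U' : X.Etale} (φ : U' ⟶ U) (Z : Set U.left)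

theorem exists_supported_extension (hZ : IsClosed Z) (hbij : Set.BijOn φ.left (φ.left ⁻¹' Z) Z)
    (hres : ∀ x ∈ φ.left ⁻¹' Z, Function.Bijective (φ.left.residueFieldMap x))
    (s' : EtCoh.sect F U') (hs' : EtShriek.sectSupp F U' s' ⊆ φ.left ⁻¹' Z) :
    ∃ s : EtCoh.sect F U, EtShriek.sectSupp F U s ⊆ Z ∧ F.obj.map φ.op s = s' := by
  have : Etale U.hom := U.prop
  let O : U.left.Opens := ⟨Zᶜ, hZ.isOpen_compl⟩
  let V : X.Etale := Scheme.Etale.mk (O.ι ≫ U.hom)
  let j : V ⟶ U := MorphismProperty.Over.homMk O.ι rfl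
  let W : ULift.{u + 1} Bool → X.Etale := fun b => bif b.down then U' else V
  let a : ∀ b, W b ⟶ U := fun b => match b with | ⟨true⟩ => φ | ⟨false⟩ => j
  let t : ∀ b, EtCoh.sect F (W b) := fun b => match b with | ⟨true⟩ => s' | ⟨false⟩ => 0
  obtain ⟨s, hs⟩ := exists_glue_cover (F := F) U W a (fun x => by
      by_cases hx : x ∈ Z
      · obtain ⟨w, -, hw⟩ := hbij.surjOn hx
        exact ⟨⟨true⟩, w, hw⟩
      · exact ⟨⟨false⟩, ⟨x, hx⟩, rfl⟩) t (fun k l R gk gl he r => by
      obtain ⟨w, hw⟩ := exists_fiber_point (algPoint X (R.hom r)) R r (algPoint_default X _).symm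
      rw [← hw]
      refine (gm_eq_zero_iff F _ R w _).1 ((map_sub _ _ _).trans (sub_eq_zero.2 ?_))
      refine (gm_map F _ gk w (t k)).trans (Eq.trans ?_ (gm_map F _ gl w (t l)).symm)
      let Φ := Scheme.pointSmallEtale (algPoint X (R.hom r))
      have hf : Φ.fiber.map (a k) (Φ.fiber.map gk w) = Φ.fiber.map (a l) (Φ.fiber.map gl w) := by
        rw [← ConcreteCategory.comp_apply, ← ConcreteCategory.comp_apply, ← Functor.map_comp,
          ← Functor.map_comp, he]
      revert hf
      generalize Φ.fiber.map gk w = v₁, Φ.fiber.map gl w = v₂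
      intro hf
      have hp : (a k).left (fiberPt v₁) = (a l).left (fiberPt v₂) :=
        (fiberPt_map (a k) v₁).trans ((congrArg fiberPt hf).trans (fiberPt_map (a l) v₂).symm)
      have hV : ∀ v : Φ.fiber.obj V, j.left (fiberPt v) ∉ Z := fun v => (fiberPt v).2
      have hzero : ∀ v : Φ.fiber.obj U', φ.left (fiberPt v) ∉ Z → gm F _ U' v s' = 0 := fun v hv =>
        (gm_eq_zero_iff F _ U' v s').2 fun hc => hv (hs' hc)
      obtain ⟨k⟩ := k
      obtain ⟨l⟩ := l
      cases k <;> cases l
      · exact (map_zero _).trans (map_zero _).symm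
      · exact (map_zero _).trans (hzero v₂ fun hc => hV v₁ (hp.symm ▸ hc)).symm
      · exact (hzero v₁ fun hc => hV v₂ (hp ▸ hc)).trans (map_zero _).symm
      · by_cases hc : φ.left (fiberPt v₁) ∈ Z
        · have hv : v₁ = v₂ := Over.OverMorphism.ext (point_ext φ.left (fiberPt v₁) (hres _ hc) v₁.left v₂.left
            rfl (hbij.injOn (show φ.left (fiberPt v₂) ∈ Z from hp ▸ hc) hc hp.symm)
            (congrArg (fun q => q.left) hf))
          exact congrArg (fun v => gm F _ U' v s') hv
        · exact (hzero v₁ hc).trans (hzero v₂ (hp ▸ hc)).symm)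
  refine ⟨s, fun x hx => ?_, hs ⟨true⟩⟩
  by_contra hxZ
  exact hx V j ⟨⟨x, hxZ⟩, rfl⟩ (hs ⟨false⟩)

end Groth.Agent.Et18.H0Lift
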