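import Groth.Agent.Et18.H0Lift.SliceSec
import Groth.Agent.FlatMorWeight.EtaleSplit
import Groth.Agent.FlatMorSlice.Cover
import Groth.Agent.FlatMorWeight.Comp
import Mathlib.AlgebraicGeometry.Morphisms.FlatMono
import Mathlib.AlgebraicGeometry.AlgClosed.Basic
import Mathlib.AlgebraicGeometry.Morphisms.FlatDescent

/-!
# Effective descent along fppf morphisms through finite slices
-/

set_option autoImplicit false
set_option backward.isDefEq.respectTransparency.types false
set_option backward.isDefEq.respectTransparency false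

universe u

open CategoryTheory CategoryTheory.Limits AlgebraicGeometry Opposite
open scoped TensorProduct

namespace Groth.Agent.Et18.H0Lift

/-- Points with values in an algebraically closed field lift along locally quasi-finite morphisms through any
point above. -/
theorem exists_lift_algClosed {P Q : Scheme.{u}} (q : P ⟶ Q) [LocallyOfFiniteType q] [LocallyQuasiFinite q]
    {K : Type u} [Field K] [IsAlgClosed K] (v : Spec (CommRingCat.of K) ⟶ Q) (c : P) (hc : q c = v default) :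
    ∃ l : Spec (CommRingCat.of K) ⟶ P, l ≫ q = v ∧ l default = c := by
  obtain ⟨c', hc', -⟩ := Scheme.Pullback.exists_preimage_pullback (f := q) (g := v) c default hc
  let p := pullback.snd q v
  have : LocallyQuasiFinite p := MorphismProperty.pullback_snd (P := @LocallyQuasiFinite) q v inferInstance
  have : LocallyOfFiniteType p := MorphismProperty.pullback_snd (P := @LocallyOfFiniteType) q v inferInstance
  have hcl : IsClosed ({c'} : Set ↥(pullback q v)) := by
    have hd := p.isDiscrete_preimage_singleton default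
    rw [show p ⁻¹' {default} = Set.univ from Set.eq_univ_of_forall fun y => Subsingleton.elim (p y) default] at hd
    have : DiscreteTopology ↥(pullback q v) := isDiscrete_univ_iff.1 hd
    exact isClosed_discrete _
  refine ⟨pointOfClosedPoint p c' hcl ≫ pullback.fst q v, ?_, ?_⟩
  · rw [Category.assoc, pullback.condition]
    exact ((Category.assoc _ _ _).symm.trans (congrArg (· ≫ v) (pointOfClosedPoint_comp p c' hcl))).trans
      (Category.id_comp _)
  · rw [Scheme.Hom.comp_apply, pointOfClosedPoint_apply]; exact hc'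

/-- A finite flat piece of a quasi-finite algebra with one geometric point, over an étale algebra. -/
theorem exists_ring_piece {A C : Type u} [CommRing A] [CommRing C] [Algebra A C] [Algebra.FinitePresentation A C]
    [Module.Flat A C] [Algebra.QuasiFinite A C] {K : Type u} [Field K] [Algebra A K] (χ : C →ₐ[A] K) :
    ∃ (R' B : Type u) (_ : CommRing R') (_ : CommRing B) (_ : Algebra A R') (π : R' →+* B) (cR : C →+* B)
      (Φ : B →+* K), Algebra.Etale A R' ∧ π.Finite ∧ π.Flat ∧ π.FinitePresentation ∧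
      π.comp (algebraMap A R') = cR.comp (algebraMap A C) ∧ Φ.comp cR = χ.toRingHom ∧
      ∀ ψ : B →+* K, ψ.comp π = Φ.comp π → ψ.comp cR = χ.toRingHom := by
  have : (RingHom.ker χ).IsPrime := RingHom.ker_isPrime _
  obtain ⟨R', _, _, hEt, ρ, i, hi, hfin, hi0, huniq⟩ := FlatMorWeight.exists_etale_split χ
  let B := Localization.Away i
  let Φ := Algebra.TensorProduct.lift ρ χ (fun _ _ => .all _ _)
  let Φ' : B →+* K := IsLocalization.Away.lift i (g := Φ.toRingHom) (isUnit_iff_ne_zero.2 hi0)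
  have hΦ' : ∀ x, Φ' (algebraMap _ B x) = Φ x := IsLocalization.Away.lift_eq i _
  let cR : C →+* B := (algebraMap (R' ⊗[A] C) B).comp Algebra.TensorProduct.includeRight.toRingHom
  have : Module.Flat R' B := Module.Flat.trans R' (R' ⊗[A] C) B
  have : Algebra.FinitePresentation R' B := by
    have := IsLocalization.Away.finitePresentation i (S := B)
    exact .trans R' (R' ⊗[A] C) _
  refine ⟨R', B, inferInstance, inferInstance, inferInstance, algebraMap R' B, cR, Φ', hEt,
    RingHom.finite_algebraMap.2 hfin, RingHom.flat_algebraMap_iff.2 ‹_›, RingHom.finitePresentation_algebraMap.2 ‹_›,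
    RingHom.ext fun a => ?_, RingHom.ext fun c => ?_, fun ψ hψ => RingHom.ext fun c => ?_⟩
  · show algebraMap R' B (algebraMap A R' a) = algebraMap (R' ⊗[A] C) B ((1 : R') ⊗ₜ[A] algebraMap A C a)
    rw [IsScalarTower.algebraMap_apply R' (R' ⊗[A] C) B, Algebra.TensorProduct.algebraMap_apply,
      Algebra.algebraMap_eq_smul_one (R := A) a, Algebra.algebraMap_eq_smul_one (R := A) a,
      ← TensorProduct.smul_tmul]
    rfl
  · refine (hΦ' (Algebra.TensorProduct.includeRight.toRingHom c)).trans ?_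
    simp [Φ]
  · have hl' : ∀ r, ψ (algebraMap R' B r) = ρ r := fun r => by
      refine (RingHom.congr_fun hψ r).trans ?_
      show Φ' (algebraMap R' B r) = ρ r
      rw [IsScalarTower.algebraMap_apply R' (R' ⊗[A] C) B, hΦ']
      simp [Φ]
    let φ' : R' ⊗[A] C →ₐ[A] K :=
      { ψ.comp (algebraMap (R' ⊗[A] C) B) with
        commutes' := fun a => by
          show ψ (algebraMap _ B (algebraMap A (R' ⊗[A] C) a)) = _
          rw [IsScalarTower.algebraMap_apply A R' (R' ⊗[A] C), ← IsScalarTower.algebraMap_apply R' _ B, hl']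
          exact ρ.commutes a }
    have hφ := huniq φ' (AlgHom.ext fun r => by
      show ψ (algebraMap _ B (r ⊗ₜ[A] (1 : C))) = ρ r
      rw [← hl' r, IsScalarTower.algebraMap_apply R' (R' ⊗[A] C) B]
      rfl)
      ((IsLocalization.Away.algebraMap_isUnit (S := B) i).map ψ).ne_zero
    exact AlgHom.congr_fun hφ c

set_option maxHeartbeats 1000000 in
/-- Near a geometric point a quasi-finite morphism has, étale locally on the base, a finite piece with no other
geometric point over the base point. -/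
theorem exists_piece_geomPoint {Z X : Scheme.{u}} (h : Z ⟶ X) [Flat h] [LocallyOfFinitePresentation h]
    [LocallyQuasiFinite h] {K : Type u} [Field K] (ζ : Spec (CommRingCat.of K) ⟶ Z) :
    ∃ (V : X.Etale) (S : Scheme.{u}) (s' : S ⟶ Z) (q₀ : S ⟶ V.left), IsFinite q₀ ∧ Flat q₀ ∧
      LocallyOfFinitePresentation q₀ ∧ q₀ ≫ V.hom = s' ≫ h ∧
      ∃ l₀ : Spec (CommRingCat.of K) ⟶ S, l₀ ≫ s' = ζ ∧
        ∀ l : Spec (CommRingCat.of K) ⟶ S, l ≫ q₀ = l₀ ≫ q₀ → l ≫ s' = ζ := by
  obtain ⟨U, hU, hxU, -⟩ := exists_isAffineOpen_mem_and_subset (X := X) (x := h (ζ default)) (U := ⊤) trivial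
  obtain ⟨W, hW, hzW, hWU⟩ := exists_isAffineOpen_mem_and_subset (X := Z) (x := ζ default) (U := h ⁻¹ᵁ U) hxU
  let e : W ≤ h ⁻¹ᵁ U := hWU
  let φ := h.appLE U W e
  algebraize [φ.hom]
  let A := Γ(X, U)
  let C := Γ(Z, W)
  have : Algebra.FinitePresentation A C := LocallyOfFinitePresentation.finitePresentation_appLE h hU hW e
  have : Module.Flat A C := Flat.flat_appLE h hU hW e
  have : Algebra.QuasiFinite A C := LocallyQuasiFinite.quasiFinite_appLE hU hW e
  let ζW : Spec (CommRingCat.of K) ⟶ Spec C := IsOpenImmersion.lift hW.fromSpec ζ (by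
    rintro _ ⟨b, rfl⟩
    rw [hW.range_fromSpec, Subsingleton.elim b default]
    exact hzW)
  have hζW : ζW ≫ hW.fromSpec = ζ := IsOpenImmersion.lift_fac _ _ _
  obtain ⟨χ', hχ'⟩ := Spec.map_surjective ζW
  let : Algebra A K := (χ'.hom.comp (algebraMap A C)).toAlgebra
  let χ : C →ₐ[A] K := { χ'.hom with commutes' := fun _ => rfl }
  obtain ⟨R', B, _, _, _, π₀, cR, Φ, hEt, hfin, hflat, hfp, hπc, hΦ, huniq⟩ := exists_ring_piece χ
  let π : Spec (.of B) ⟶ Spec (.of R') := Spec.map (CommRingCat.ofHom π₀)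
  have hπfin : IsFinite π := (IsFinite.SpecMap_iff _).2 hfin
  have hπflat : Flat π := (HasRingHomProperty.Spec_iff (P := @Flat)).2 hflat
  have hπfp : LocallyOfFinitePresentation π :=
    (HasRingHomProperty.Spec_iff (P := @LocallyOfFinitePresentation)).2 hfp
  let eS : Spec (.of R') ⟶ X := Spec.map (CommRingCat.ofHom (algebraMap A R')) ≫ hU.fromSpec
  have hEt' : Etale (Spec.map (CommRingCat.ofHom (algebraMap A R'))) :=
    (HasRingHomProperty.Spec_iff (P := @Etale)).2 (RingHom.etale_algebraMap.2 hEt)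
  have : Etale eS := MorphismProperty.comp_mem @Etale _ _ hEt' inferInstance
  let s' : Spec (.of B) ⟶ Z := Spec.map (CommRingCat.ofHom cR) ≫ hW.fromSpec
  have hs : π ≫ eS = s' ≫ h := by
    simp only [s', Category.assoc]
    rw [← hU.SpecMap_appLE_fromSpec h hW e, ← Category.assoc, ← Category.assoc, ← Spec.map_comp, ← Spec.map_comp]
    exact congrArg (fun g => Spec.map g ≫ hU.fromSpec) (CommRingCat.hom_ext hπc)
  let l₀ : Spec (CommRingCat.of K) ⟶ Spec (.of B) := Spec.map (CommRingCat.ofHom Φ)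
  have hl : ∀ ψ : CommRingCat.of B ⟶ CommRingCat.of K, ψ.hom.comp cR = χ.toRingHom → Spec.map ψ ≫ s' = ζ := by
    intro ψ hψ
    rw [← hζW, ← hχ', ← Category.assoc, ← Spec.map_comp]
    exact congrArg (fun g => Spec.map g ≫ hW.fromSpec) (CommRingCat.hom_ext hψ)
  refine ⟨Scheme.Etale.mk eS, Spec (.of B), s', π, hπfin, hπflat, hπfp, hs, l₀, hl _ hΦ, fun l hl' => ?_⟩
  obtain ⟨ψ, rfl⟩ := Spec.map_surjective l
  simp only [π, l₀, ← Spec.map_comp] at hl'
  exact hl ψ (huniq ψ.hom (congrArg CommRingCat.Hom.hom (Spec.map_injective hl')))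

variable {T X : Scheme.{u}} {f : T ⟶ X} {F' : EtDesc.Sh T}
  (φ : (EtDesc.pullSh (pullback.fst f f)).obj F' ≅ (EtDesc.pullSh (pullback.snd f f)).obj F')

set_option maxHeartbeats 1000000 in
/-- Fppf morphisms: every germ extends to a compatible section, over an algebraically closed point. -/
theorem exists_compatSec_fppf [Flat f] [LocallyOfFinitePresentation f] (hφ : EtDesc.IsCocycle F' φ)
    {K : Type u} [Field K] [IsAlgClosed K] (ξ₀ : Spec (CommRingCat.of K) ⟶ T) (g₀ : (stalkSh ξ₀).obj F') :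
    ∃ (U : X.Etale) (σ : EtDesc.sect F' ((EtCoh.bc f).obj U))
      (u₀ : (Scheme.pointSmallEtale (ξ₀ ≫ f)).fiber.obj U),
      CompatSec φ U σ ∧ gmS F' ξ₀ _ (bcLift f _ ⟨ξ₀, rfl⟩ U u₀) σ = g₀ := by
  obtain ⟨Z, r, _, _, _, _, z, hz⟩ := FlatMorSlice.exists_slice_scheme f (ξ₀ default)
  let h := r ≫ f
  obtain ⟨ζ, hζ, -⟩ := exists_lift_algClosed h (ξ₀ ≫ f) z (by rw [Scheme.Hom.comp_apply]; exact hz)
  obtain ⟨g₁, hg₁⟩ := DRel.exists_right (φ := φ) (ξ₁ := ξ₀) (ξ₂ := ζ ≫ r) (by rw [Category.assoc]; exact hζ.symm) g₀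
  obtain ⟨W, w, t, rfl⟩ := (Scheme.pointSmallEtale (ζ ≫ r)).toPresheafFiber_jointly_surjective (P := F'.obj) g₁
  let wl : Spec (CommRingCat.of K) ⟶ W.left := w.left
  have hwl : wl ≫ W.hom = ζ ≫ r := Over.w w
  let ζ' : Spec (CommRingCat.of K) ⟶ pullback r W.hom := pullback.lift ζ wl hwl.symm
  let h' := pullback.fst r W.hom ≫ h
  have : Etale W.hom := W.prop
  have : Etale (pullback.fst r W.hom) := MorphismProperty.pullback_fst (P := @Etale) _ _ inferInstance
  have : Flat h' := inferInstanceAs (Flat (_ ≫ h))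
  have : LocallyOfFinitePresentation h' := inferInstanceAs (LocallyOfFinitePresentation (_ ≫ h))
  have : LocallyQuasiFinite (pullback.fst r W.hom) := FlatMorWeight.locallyQuasiFinite_of_etale _
  have : LocallyQuasiFinite h' := inferInstanceAs (LocallyQuasiFinite (_ ≫ h))
  obtain ⟨V, S, s', q₀, _, _, _, hq, l₀, hl₀, huniq⟩ := exists_piece_geomPoint h' ζ'
  let sW : S ⟶ W.left := s' ≫ pullback.snd r W.hom
  have hq₀ : q₀ ≫ V.hom = (sW ≫ W.hom) ≫ f := by
    rw [hq]
    simp only [h', h, sW, Category.assoc]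
    exact congrArg (s' ≫ ·) ((Category.assoc _ _ _).symm.trans ((congrArg (· ≫ f) pullback.condition).trans
      (Category.assoc _ _ _)))
  have hlW : l₀ ≫ sW = wl := by rw [← Category.assoc, hl₀, pullback.lift_snd]
  obtain ⟨E, hE, hEiff⟩ := exists_drel_locus φ W W t t
  let rr : pullback q₀ q₀ ⟶ pullback (W.hom ≫ f) (W.hom ≫ f) :=
    pullback.lift (pullback.fst _ _ ≫ sW) (pullback.snd _ _ ≫ sW) (by
      have hh : sW ≫ W.hom ≫ f = q₀ ≫ V.hom := (Category.assoc _ _ _).symm.trans hq₀.symm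
      exact (Category.assoc _ _ _).trans ((congrArg (pullback.fst q₀ q₀ ≫ ·) hh).trans
        (((Category.assoc _ _ _).symm.trans ((congrArg (· ≫ V.hom) pullback.condition).trans
          (Category.assoc _ _ _))).trans ((congrArg (pullback.snd q₀ q₀ ≫ ·) hh.symm).trans
            (Category.assoc _ _ _).symm))))
  let q₂ := pullback.fst q₀ q₀ ≫ q₀
  have : IsFinite (pullback.fst q₀ q₀) := MorphismProperty.pullback_fst (P := @IsFinite) q₀ q₀ inferInstance
  have : IsFinite q₂ := inferInstanceAs (IsFinite (_ ≫ _))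
  let Bad : Set V.left := q₂ '' (rr ⁻¹' E)ᶜ
  have hBad : IsClosed Bad := q₂.isClosedMap _ (hE.preimage rr.continuous).isClosed_compl
  let v : Spec (CommRingCat.of K) ⟶ V.left := l₀ ≫ q₀
  let Vo : V.left.Opens := ⟨Badᶜ, hBad.isOpen_compl⟩
  have hv : v default ∈ Vo := by
    rintro ⟨c, hcE, hcv⟩
    obtain ⟨L, hL, hLc⟩ := exists_lift_algClosed q₂ v c hcv
    refine hcE ?_
    have e₁ : L ≫ pullback.fst q₀ q₀ ≫ s' = ζ' :=
      (Category.assoc _ _ _).symm.trans (huniq _ ((Category.assoc _ _ _).trans hL))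
    have e₂ : L ≫ pullback.snd q₀ q₀ ≫ s' = ζ' :=
      (Category.assoc _ _ _).symm.trans (huniq _ ((Category.assoc _ _ _).trans
        ((congrArg (L ≫ ·) pullback.condition.symm).trans hL)))
    have := (hEiff K _ _ w w (L ≫ rr) ?_ ?_).2 (DRel.refl hφ _ _)
    · rw [Scheme.Hom.comp_apply, hLc] at this
      exact this
    · rw [Category.assoc, pullback.lift_fst]
      simp only [sW, ← Category.assoc]
      rw [Category.assoc L, e₁, pullback.lift_snd]
    · rw [Category.assoc, pullback.lift_snd]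
      simp only [sW, ← Category.assoc]
      rw [Category.assoc L, e₂, pullback.lift_snd]
  let V' := etalePiece V Vo
  let S' : Scheme.{u} := (q₀ ⁻¹ᵁ Vo).toScheme
  let ιS : S' ⟶ S := (q₀ ⁻¹ᵁ Vo).ι
  let q' : S' ⟶ V'.left := q₀ ∣_ Vo
  have : Flat q' := IsZariskiLocalAtTarget.restrict (P := @Flat) inferInstance Vo
  have : LocallyOfFinitePresentation q' :=
    IsZariskiLocalAtTarget.restrict (P := @LocallyOfFinitePresentation) inferInstance Vo
  have hq' : q' ≫ V'.hom = ((ιS ≫ sW) ≫ W.hom) ≫ f := by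
    change q' ≫ Vo.ι ≫ V.hom = _
    rw [← Category.assoc, morphismRestrict_ι, Category.assoc, hq₀]
    simp only [ιS, Category.assoc]
  obtain ⟨lS, hlS⟩ : ∃ lS : Spec (CommRingCat.of K) ⟶ S', lS ≫ ιS = l₀ := by
    refine ⟨IsOpenImmersion.lift ιS l₀ ?_, IsOpenImmersion.lift_fac _ _ _⟩
    rintro _ ⟨b, rfl⟩
    rw [Scheme.Opens.range_ι, Subsingleton.elim b default]
    exact hv
  have hcons : ∀ (L : Type u) [Field L] [IsSepClosed L] (ξ₁ ξ₂ : Spec (CommRingCat.of L) ⟶ T)
      (w₁ : (Scheme.pointSmallEtale ξ₁).fiber.obj W) (w₂ : (Scheme.pointSmallEtale ξ₂).fiber.obj W)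
      (l₁ l₂ : Spec (CommRingCat.of L) ⟶ S'), l₁ ≫ ιS ≫ sW = w₁.left → l₂ ≫ ιS ≫ sW = w₂.left →
      l₁ ≫ q' = l₂ ≫ q' → DRel φ ξ₁ ξ₂ (gmS F' ξ₁ W w₁ t) (gmS F' ξ₂ W w₂ t) := by
    intro L _ _ ξ₁ ξ₂ w₁ w₂ l₁ l₂ h₁ h₂ h₁₂
    have h12 : (l₁ ≫ ιS) ≫ q₀ = (l₂ ≫ ιS) ≫ q₀ := by
      rw [Category.assoc, Category.assoc, ← morphismRestrict_ι, ← Category.assoc, h₁₂, Category.assoc]
    let M := pullback.lift (f := q₀) (g := q₀) (l₁ ≫ ιS) (l₂ ≫ ιS) h12
    refine (hEiff L ξ₁ ξ₂ w₁ w₂ (M ≫ rr) ?_ ?_).1 ?_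
    · rw [Category.assoc, pullback.lift_fst, pullback.lift_fst_assoc, Category.assoc]; exact h₁
    · rw [Category.assoc, pullback.lift_snd, pullback.lift_snd_assoc, Category.assoc]; exact h₂
    · by_contra hn
      have hb : q₂ (M default) ∈ Bad := ⟨M default, by rwa [Scheme.Hom.comp_apply] at hn, rfl⟩
      have e : M ≫ q₂ = (l₁ ≫ q') ≫ Vo.ι := by
        simp only [q₂, M, pullback.lift_fst_assoc, Category.assoc, q', ιS, morphismRestrict_ι]
      rw [← Scheme.Hom.comp_apply, e, Scheme.Hom.comp_apply] at hb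
      exact ((l₁ ≫ q') default).2 hb
  obtain ⟨U, σ, u₀, hσ, hrel⟩ := exists_compatSec_of_slice φ hφ W (ιS ≫ sW) q' hq' t hcons lS (η₀ := ξ₀ ≫ f) (by
    have e : lS ≫ ιS ≫ sW = wl := by rw [← Category.assoc, hlS, hlW]
    refine (Category.assoc _ _ _).trans ((congrArg (lS ≫ ·) hq').trans ?_)
    refine (Category.assoc _ _ _).symm.trans ((congrArg (· ≫ f) ((Category.assoc _ _ _).symm.trans
      ((congrArg (· ≫ W.hom) e).trans hwl))).trans ?_)
    exact (Category.assoc _ _ _).trans hζ)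
  refine ⟨U, σ, u₀, hσ, DRel.unique_left (hrel ⟨ξ₀, rfl⟩ _ w ?_) hg₁⟩
  rw [← Category.assoc, hlS]
  exact hlW

/-- Effective descent along fppf morphisms. -/
theorem isEffective_of_fppf [Surjective f] [Flat f] [LocallyOfFinitePresentation f]
    (hφ : EtDesc.IsCocycle F' φ) : EtDesc.IsEffective f F' φ := by
  have hq : ∀ V : X.Etale, Function.Surjective (EtShriek.prV f V) ∧
      Topology.IsQuotientMap (EtShriek.prV f V) := fun V => by
    have : Surjective (EtShriek.prV f V) :=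
      MorphismProperty.pullback_fst (P := @Surjective) V.hom f inferInstance
    have : UniversallyOpen (EtShriek.prV f V) :=
      MorphismProperty.pullback_fst (P := @UniversallyOpen) V.hom f inferInstance
    exact ⟨(EtShriek.prV f V).surjective, (EtShriek.prV f V).isOpenMap.isQuotientMap
      (EtShriek.prV f V).continuous (EtShriek.prV f V).surjective⟩
  refine isEffective_of_bijective φ fun y => ⟨injective_stalk_descComparison φ hq _, fun g₀ => ?_⟩
  obtain ⟨ξ, hξ⟩ : ∃ ξ, sepPoint T y = ξ := ⟨_, rfl⟩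
  revert g₀
  rw [hξ]
  intro g₀
  obtain ⟨W₀, w₀, t₀, rfl⟩ := (Scheme.pointSmallEtale ξ).toPresheafFiber_jointly_surjective (P := F'.obj) g₀
  let ι₀ := algebraMap (SeparableClosure (T.residueField y)) (AlgebraicClosure (SeparableClosure (T.residueField y)))
  let i := Spec.map (CommRingCat.ofHom ι₀)
  let w₁ : (Scheme.pointSmallEtale (i ≫ ξ)).fiber.obj W₀ := Over.homMk (i ≫ w₀.left)
    ((Category.assoc _ _ _).trans (congrArg (i ≫ ·) (Over.w w₀)))
  obtain ⟨U, σ, u₁, hσ, he⟩ := exists_compatSec_fppf φ hφ (i ≫ ξ) (gmS F' _ W₀ w₁ t₀)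
  have : Etale U.hom := U.prop
  let u₁l : Spec _ ⟶ U.left := u₁.left
  have hu₁ : u₁l ≫ U.hom = i ≫ ξ ≫ f := (Over.w u₁).trans (Category.assoc _ _ _)
  let P := pullback U.hom (ξ ≫ f)
  let pK : Spec _ ⟶ P := pullback.lift u₁l i hu₁
  have : Etale (pullback.snd U.hom (ξ ≫ f)) := MorphismProperty.pullback_snd (P := @Etale) _ _ inferInstance
  obtain ⟨sec, hsec, hsd⟩ := Scheme.exists_fac_of_etale_of_isSepClosed (pullback.snd U.hom (ξ ≫ f)) (𝟙 _) (pK default)
    (Subsingleton.elim _ _)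
  have : IsSplitMono sec := ⟨⟨pullback.snd U.hom (ξ ≫ f), hsec⟩⟩
  have : Etale (sec ≫ pullback.snd U.hom (ξ ≫ f)) := by rw [hsec]; infer_instance
  have : Etale sec := MorphismProperty.of_postcomp (W := @Etale) (W' := @Etale) sec
    (pullback.snd U.hom (ξ ≫ f)) inferInstance inferInstance
  have : IsOpenImmersion sec := IsOpenImmersion.of_flat_of_mono _
  obtain ⟨k, hk⟩ : ∃ k, k ≫ sec = pK := by
    refine ⟨IsOpenImmersion.lift sec pK ?_, IsOpenImmersion.lift_fac _ _ _⟩
    rintro _ ⟨b, rfl⟩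
    exact ⟨default, hsd.trans (congrArg _ (Subsingleton.elim _ _))⟩
  have hki : i ≫ sec = pK := by
    rw [← hk]
    refine congrArg (· ≫ sec) ?_
    refine ((Category.comp_id k).symm.trans ((congrArg (k ≫ ·) hsec.symm).trans ?_)).symm
    rw [← Category.assoc, hk, pullback.lift_snd]
  let l := sec ≫ pullback.fst U.hom (ξ ≫ f)
  have hl : l ≫ U.hom = ξ ≫ f := by rw [Category.assoc, pullback.condition, ← Category.assoc, hsec, Category.id_comp]
  have hil : i ≫ l = u₁l := by rw [← Category.assoc, hki, pullback.lift_fst]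
  let ξ' : FibrePts f (ξ ≫ f) := ⟨ξ, rfl⟩
  let u₀ : (Scheme.pointSmallEtale (ξ ≫ f)).fiber.obj U := Over.homMk l hl
  refine ⟨toPullSh f _ ξ' (descSheaf F' φ) (gmS _ _ U u₀ ⟨σ, hσ⟩), ?_⟩
  refine (descComparison_germ φ ξ' U u₀ ⟨σ, hσ⟩).trans ?_
  let b₀ := bcLift f _ ξ' U u₀
  obtain ⟨E, -, hE⟩ := exists_drel_locus φ ((EtCoh.bc f).obj U) W₀ σ t₀
  let L : Spec _ ⟶ pullback (((EtCoh.bc f).obj U).hom ≫ f) (W₀.hom ≫ f) :=
    pullback.lift b₀.left w₀.left (by
      rw [← Category.assoc, ← Category.assoc]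
      exact congrArg (· ≫ f) ((Over.w b₀).trans (Over.w w₀).symm))
  have hb : (bcLift f _ ⟨i ≫ ξ, rfl⟩ U u₁).left = i ≫ b₀.left := by
    refine pullback.hom_ext ?_ ?_
    · refine (pullback.lift_fst _ _ _).trans ?_
      refine Eq.trans ?_ ((congrArg (i ≫ ·) (pullback.lift_fst _ _ _)).symm.trans (Category.assoc _ _ _).symm)
      exact hil.symm
    · refine (Over.w (bcLift f _ ⟨i ≫ ξ, rfl⟩ U u₁)).trans ?_
      exact ((Category.assoc _ _ _).trans (congrArg (i ≫ ·) (Over.w b₀))).symm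
  have h1 := (hE _ (i ≫ ξ) (i ≫ ξ) (bcLift f _ ⟨i ≫ ξ, rfl⟩ U u₁) w₁ (i ≫ L)
    ((Category.assoc _ _ _).trans ((congrArg (i ≫ ·) (pullback.lift_fst _ _ _)).trans hb.symm))
    ((Category.assoc _ _ _).trans (congrArg (i ≫ ·) (pullback.lift_snd _ _ _)))).2
      (he ▸ DRel.refl hφ _ _)
  rw [Scheme.Hom.comp_apply, Subsingleton.elim (i default) default] at h1
  exact DRel.unique_left ((hE _ ξ ξ b₀ w₀ L (pullback.lift_fst _ _ _) (pullback.lift_snd _ _ _)).1 h1)
    (DRel.refl hφ _ _)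

end Groth.Agent.Et18.H0Lift
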