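import Mathlib.Topology.Sheaves.Functors
import Mathlib.Topology.Sheaves.LocalPredicate
import Mathlib.Topology.Sheaves.SheafCondition.UniqueGluing
import Mathlib.Topology.Sheaves.SheafCondition.Sites
import Mathlib.Topology.Connected.Clopen
import Groth.Agent.Et18.H0Lift.Main

/-!
# Subspaces whose sheaf sections agree with those of the ambient space
-/

set_option autoImplicit false

universe u

open CategoryTheory CategoryTheory.Limits AlgebraicGeometry Opposite TopologicalSpace

namespace Groth.Agent.Et18.H0Lift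

variable {X : TopCat.{u}} (S : Set X)

/-- The inclusion of a subset. -/
abbrev incl : TopCat.of S ⟶ X := TopCat.ofHom ⟨Subtype.val, continuous_subtype_val⟩

/-- The condition that global sections of sheaves of sets restrict bijectively. -/
def SectionsBijective : Prop :=
  ∀ F : TopCat.Sheaf (Type u) X, Function.Bijective
    (((TopCat.Sheaf.pullbackPushforwardAdjunction (Type u) (incl S)).unit.app F).hom.app (op ⊤))

theorem subsingleton_bot {Y : TopCat.{u}} (F : TopCat.Sheaf (Type u) Y) {U : Opens Y} (h : U = ⊥) :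
    Subsingleton (F.obj.obj (op U)) := by
  refine ⟨fun a b => ?_⟩
  exact ConcreteCategory.congr_hom
    ((F.isTerminalOfEqEmpty h).hom_ext (TypeCat.ofHom fun _ : PUnit.{u + 1} => a)
      (TypeCat.ofHom fun _ => b)) PUnit.unit

/-- The two point discrete space. -/
abbrev twoPt : TopCat.{u} := TopCat.of (ULift.{u} Bool)

/-- Restricting continuous functions to a subset. -/
def restrictTwo : TopCat.sheafToTop twoPt (X := X) ⟶
    (TopCat.Sheaf.pushforward (Type u) (incl S)).obj (TopCat.sheafToTop twoPt) :=
  ⟨{ app := fun V => TypeCat.ofHom fun s =>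
      TopCat.ofHom ⟨fun x => s.hom ⟨x.1.1, x.2⟩,
        s.hom.continuous.comp ((continuous_subtype_val.comp continuous_subtype_val).subtype_mk _)⟩
     naturality := fun _ _ _ => rfl }⟩

theorem SectionsBijective.meets {S : Set X} (h : SectionsBijective S) (C : Set X) (hC : IsClosed C)
    (hne : C.Nonempty) : (C ∩ S).Nonempty := by
  classical
  by_contra hd
  obtain ⟨c, hc⟩ := hne
  let F := (TopCat.Sheaf.pushforward (Type u) (incl C)).obj (TopCat.sheafToTop twoPt)
  let unit := (TopCat.Sheaf.pullbackPushforwardAdjunction (Type u) (incl S)).unit.app F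
  let k : ULift.{u} Bool → F.obj.obj (op ⊤) := fun b => TopCat.ofHom ⟨fun _ => b, continuous_const⟩
  let W : Opens X := ⟨Cᶜ, hC.isOpen_compl⟩
  have : Subsingleton (F.obj.obj (op W)) :=
    subsingleton_bot (TopCat.sheafToTop twoPt) (eq_bot_iff.2 fun x (hx : x.1 ∈ W) => (hx x.2).elim)
  have hk : unit.hom.app (op ⊤) (k ⟨true⟩) = unit.hom.app (op ⊤) (k ⟨false⟩) := by
    let G := (TopCat.Sheaf.pullback (Type u) (incl S)).obj F
    refine TopCat.Sheaf.eq_of_locally_eq' G (fun _ : PUnit.{u + 1} => (Opens.map (incl S)).obj W) _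
      (fun _ => homOfLE le_top) (fun x _ => ?_) _ _ (fun _ => ?_)
    · simp only [ciSup_unique]
      exact fun hx => hd ⟨x.1, hx, x.2⟩
    · have hn : ∀ s : F.obj.obj (op ⊤),
          G.obj.map (homOfLE le_top : (Opens.map (incl S)).obj W ⟶ (Opens.map (incl S)).obj ⊤).op
            (unit.hom.app (op ⊤) s) = unit.hom.app (op W) (F.obj.map (homOfLE le_top).op s) :=
        fun s => (ConcreteCategory.congr_hom (unit.hom.naturality (homOfLE le_top : W ⟶ ⊤).op) s).symm
      exact (hn _).trans ((congrArg _ (Subsingleton.elim _ _)).trans (hn _).symm)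
  have := congrArg (fun s : F.obj.obj (op ⊤) => (s.hom ⟨⟨c, hc⟩, trivial⟩).down) ((h F).1 hk)
  exact Bool.noConfusion this

theorem SectionsBijective.isPreconnected {S : Set X} (h : SectionsBijective S) [PreconnectedSpace X] :
    _root_.IsPreconnected S := by
  classical
  rw [isPreconnected_iff_preconnectedSpace]
  change PreconnectedSpace (TopCat.of S)
  refine preconnectedSpace_iff_clopen.2 fun U hU => ?_
  by_contra! hne
  obtain ⟨p, hp⟩ := hne.1
  obtain ⟨q, hq⟩ := (Set.ne_univ_iff_exists_notMem U).1 hne.2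
  let F := TopCat.sheafToTop twoPt (X := X)
  let adj := TopCat.Sheaf.pullbackPushforwardAdjunction (Type u) (incl S)
  let G := (TopCat.Sheaf.pullback (Type u) (incl S)).obj F
  let ψ : G ⟶ TopCat.sheafToTop twoPt := (adj.homEquiv _ _).symm (restrictTwo S)
  have hψ : ∀ s : F.obj.obj (op ⊤),
      ψ.hom.app (op ⊤) ((adj.unit.app F).hom.app (op ⊤) s) = (restrictTwo S).hom.app (op ⊤) s := by
    intro s
    have he : adj.unit.app F ≫ (TopCat.Sheaf.pushforward (Type u) (incl S)).map ψ = restrictTwo S :=
      (adj.homEquiv_unit ..).symm.trans ((adj.homEquiv _ _).apply_symm_apply _)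
    exact ConcreteCategory.congr_hom
      (congrArg (fun m : F ⟶ (TopCat.Sheaf.pushforward (Type u) (incl S)).obj (TopCat.sheafToTop twoPt) => m.hom.app (op ⊤)) he) s
  let k : ULift.{u} Bool → F.obj.obj (op ⊤) := fun b => TopCat.ofHom ⟨fun _ => b, continuous_const⟩
  let P : Bool → Opens (TopCat.of S) := fun b => bif b then ⟨U, hU.2⟩ else ⟨Uᶜ, hU.1.isOpen_compl⟩
  let c : Bool → G.obj.obj (op ⊤) := fun b => (adj.unit.app F).hom.app (op ⊤) (k ⟨b⟩)
  let sf : ∀ b, G.obj.obj (op (P b)) := fun b => G.obj.map (homOfLE le_top).op (c b)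
  have hd : ∀ a b : Bool, a ≠ b → P a ⊓ P b = ⊥ := by
    intro a b hab
    refine eq_bot_iff.2 fun x hx => ?_
    cases a <;> cases b <;> first | exact (hab rfl).elim | exact (hx.1 hx.2).elim | exact (hx.2 hx.1).elim
  have hcompat : TopCat.Presheaf.IsCompatible G.obj P sf := by
    intro a b
    by_cases hab : a = b
    · subst hab; rfl
    · exact (subsingleton_bot G (hd a b hab)).elim _ _
  have hcov : (⊤ : Opens (TopCat.of S)) ≤ iSup P := fun x _ => by
    by_cases hx : x ∈ U
    · exact Opens.mem_iSup.2 ⟨true, hx⟩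
    · exact Opens.mem_iSup.2 ⟨false, hx⟩
  obtain ⟨σ, hσ, -⟩ := G.existsUnique_gluing' P ⊤ (fun _ => homOfLE le_top) hcov sf hcompat
  obtain ⟨s, rfl⟩ := (h F).2 σ
  have hval : ∀ (b : Bool) (x : TopCat.of S) (hx : x ∈ P b), (s.hom ⟨x.1, trivial⟩).down = b := by
    intro b x hx
    have hr : ∀ t : F.obj.obj (op ⊤),
        ψ.hom.app (op (P b)) (G.obj.map (homOfLE le_top).op ((adj.unit.app F).hom.app (op ⊤) t)) =
          (TopCat.sheafToTop twoPt).obj.map (homOfLE le_top).op ((restrictTwo S).hom.app (op ⊤) t) :=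
      fun t => (ConcreteCategory.congr_hom
        (ψ.hom.naturality (homOfLE le_top : P b ⟶ ⊤).op) _).trans
          (congrArg ((TopCat.sheafToTop twoPt).obj.map (homOfLE le_top).op) (hψ t))
    have e := (hr s).symm.trans ((congrArg _ (hσ b)).trans (hr (k ⟨b⟩)))
    exact congrArg (fun t : (TopCat.sheafToTop twoPt).obj.obj (op (P b)) => (t.hom ⟨x, hx⟩).down) e
  have hs : Continuous fun x : X => s.hom ⟨x, trivial⟩ :=
    s.hom.continuous.comp (continuous_id.subtype_mk _)
  have hc := congrArg ULift.down (PreconnectedSpace.constant (by infer_instance) hs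
    (x := p.1) (y := q.1))
  exact Bool.noConfusion ((hval true p hp).symm.trans (hc.trans (hval false q hq)))

/-- Gabber's topological conditions give a connected couple. -/
theorem isConnectedCouple_of_sectionsBijective {Z X : Scheme.{u}} (i : Z ⟶ X) [IsClosedImmersion i]
    (h1 : SectionsBijective (X := X.carrier) (Set.range i))
    (h2 : ∀ (X' : Scheme.{u}) (π : X' ⟶ X), IsFinite π →
      SectionsBijective (X := X'.carrier) (Set.range (pullback.snd i π))) :
    IsConnectedCouple X (Set.range i) where
  isClosed := i.isClosedEmbedding.isClosed_range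
  meets := h1.meets
  preconnected Y g hg _ := by
    have : PreconnectedSpace Y.carrier := inferInstanceAs (PreconnectedSpace Y)
    have h := (h2 Y g hg).isPreconnected
    rwa [Scheme.Pullback.range_snd] at h

end Groth.Agent.Et18.H0Lift
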