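import Groth.Agent.Et18.H0Lift.SubsheafDescent
import Mathlib.CategoryTheory.Limits.Preserves.Shapes.BinaryProducts

/-!
# Descent of morphisms of sheaves of sets
-/

set_option autoImplicit false
set_option backward.isDefEq.respectTransparency.types false
set_option backward.isDefEq.respectTransparency false

universe u

open CategoryTheory CategoryTheory.Limits AlgebraicGeometry Opposite

namespace Groth.Agent.Et18.H0Lift

variable {T X : Scheme.{u}} (f : T ⟶ X)

theorem natIso_conj {C D : Type*} [Category C] [Category D] {L₁ L₂ M : C ⥤ D} (α : L₁ ≅ M) (β : L₂ ≅ M)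
    {F G : C} (u : F ⟶ G) :
    L₁.map u ≫ (α.app G ≪≫ (β.app G).symm).hom = (α.app F ≪≫ (β.app F).symm).hom ≫ L₂.map u := by
  simp

theorem canIso_naturality {F G : EtDesc.Sh X} (u : F ⟶ G) :
    (EtDesc.pullSh (pullback.fst f f)).map ((EtDesc.pullSh f).map u) ≫ (EtDesc.canIso f G).hom =
      (EtDesc.canIso f F).hom ≫ (EtDesc.pullSh (pullback.snd f f)).map ((EtDesc.pullSh f).map u) :=
  natIso_conj
    ((EtDesc.pullCompSh (pullback.fst f f) f).symm ≪≫
      EtDesc.pullCongrSh (rfl : pullback.fst f f ≫ f = pullback.fst f f ≫ f))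
    ((EtDesc.pullCompSh (pullback.snd f f) f).symm ≪≫
      EtDesc.pullCongrSh (pullback.condition.symm : pullback.snd f f ≫ f = pullback.fst f f ≫ f)) u

/-- Morphisms compatible with the canonical descent data descend uniquely. -/
theorem hom_descent (hf : EtDesc.IsUnivSubmersive f) {F G : EtDesc.Sh X}
    (a : (EtDesc.pullSh f).obj F ⟶ (EtDesc.pullSh f).obj G)
    (ha : (EtDesc.canIso f F).hom ≫ (EtDesc.pullSh (pullback.snd f f)).map a =
      (EtDesc.pullSh (pullback.fst f f)).map a ≫ (EtDesc.canIso f G).hom) :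
    ∃! b : F ⟶ G, (EtDesc.pullSh f).map b = a := by
  have hs : Function.Surjective f := fun x => by
    obtain ⟨b, hb⟩ := (bcQuotient_of_univSubmersive f hf (EtCoh.top X)).1 x
    exact ⟨((EtCoh.bc f).obj (EtCoh.top X)).hom b,
      (congrArg (fun k => k b) (pullback.condition (f := (EtCoh.top X).hom) (g := f))).symm.trans hb⟩
  have : Surjective f := ⟨hs⟩
  obtain ⟨hfaith, hrefl⟩ := pullSh_faithful_reflectsIsos f
  let L := EtDesc.pullSh f
  let h := isLimitOfHasBinaryProductOfPreservesLimit L F G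
  obtain ⟨a', ha'₁, ha'₂⟩ := BinaryFan.IsLimit.lift' h (𝟙 _) a
  have ha'₁' : a' ≫ L.map prod.fst = 𝟙 _ := ha'₁
  have ha'₂' : a' ≫ L.map prod.snd = a := ha'₂
  have : Mono a' := mono_of_mono_fac ha'₁'
  have hφ : (EtDesc.canIso f F).hom ≫ (EtDesc.pullSh (pullback.snd f f)).map a' =
      (EtDesc.pullSh (pullback.fst f f)).map a' ≫ (EtDesc.canIso f (F ⨯ G)).hom := by
    refine BinaryFan.IsLimit.hom_ext (isLimitOfHasBinaryProductOfPreservesLimit
      (L ⋙ EtDesc.pullSh (pullback.snd f f)) F G) ?_ ?_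
    · refine (Category.assoc _ _ _).trans (Eq.trans ?_ (Category.assoc _ _ _).symm)
      refine Eq.trans ?_ (congrArg (_ ≫ ·) (canIso_naturality f prod.fst))
      change _ ≫ (EtDesc.pullSh _).map a' ≫ (EtDesc.pullSh _).map (L.map prod.fst) = _
      rw [← Functor.map_comp, ← Category.assoc, ← Functor.map_comp, ha'₁']
      simp [L]
    · refine (Category.assoc _ _ _).trans (Eq.trans ?_ (Category.assoc _ _ _).symm)
      refine Eq.trans ?_ (congrArg (_ ≫ ·) (canIso_naturality f prod.snd))
      change _ ≫ (EtDesc.pullSh _).map a' ≫ (EtDesc.pullSh _).map (L.map prod.snd) = _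
      rw [← Functor.map_comp, ← Category.assoc, ← Functor.map_comp, ha'₂']
      exact ha
  obtain ⟨H, m, _, ψ, hψ⟩ := subsheaf_descent f hf (F ⨯ G) a' (EtDesc.canIso f F) hφ
  have h₁ : L.map (m ≫ prod.fst) = ψ.hom := by
    rw [Functor.map_comp, ← hψ, Category.assoc, ha'₁', Category.comp_id]
  have : IsIso (L.map (m ≫ prod.fst)) := h₁ ▸ inferInstance
  have := hrefl.reflects (m ≫ prod.fst)
  refine ⟨inv (m ≫ prod.fst) ≫ m ≫ prod.snd, ?_, fun b hb => L.map_injective ?_⟩
  · change L.map _ = a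
    rw [Functor.map_comp, Functor.map_inv, IsIso.inv_comp_eq, h₁, Functor.map_comp, ← hψ, Category.assoc,
      ha'₂']
  · refine hb.trans ?_
    symm
    rw [Functor.map_comp, Functor.map_inv, IsIso.inv_comp_eq, h₁, Functor.map_comp, ← hψ, Category.assoc,
      ha'₂']

end Groth.Agent.Et18.H0Lift
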