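import Groth.Agent.Et18.H0Lift.SetGerms
import Groth.Agent.Et18.H0Lift.SubmDescent

/-!
# Sections of sheaves of sets descend along universally submersive morphisms
-/

set_option autoImplicit false
set_option backward.isDefEq.respectTransparency.types false
set_option backward.isDefEq.respectTransparency false

universe u

open CategoryTheory CategoryTheory.Limits AlgebraicGeometry Opposite

namespace Groth.Agent.Et18.H0Lift

variable {T X : Scheme.{u}} (f : T ⟶ X)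

theorem secPull_injective_of_surjective (hs : Function.Surjective f) (F : EtDesc.Sh X) :
    Function.Injective (EtDesc.secPull f F) := by
  intro s t h
  refine eq_of_gmS F _ s t fun x => ?_
  obtain ⟨y, hy⟩ := hs x
  let ξ : FibrePts f (algPoint T y ≫ f) := ⟨algPoint T y, rfl⟩
  refine ⟨_, inferInstance, inferInstance, algPoint T y ≫ f, topPt _, ?_, ?_⟩
  · change f (algPoint T y default) = x
    rw [algPoint_default]; exact hy
  · apply (bijective_toPullSh f ξ F).1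
    rw [← gmS_secPull, ← gmS_secPull, h]

/-- The image of a pulled back section under the comparison with abelian sheaves. -/
theorem uAt_eq_iff (A : EtCoh.Ab X) (s : EtCoh.sect A (EtCoh.top X))
    (σ : EtCoh.sect ((EtCoh.pull f).obj A) (EtCoh.top T))
    (h : uAt f A (EtCoh.top X) s = ((EtCoh.pull f).obj A).obj.map ((EtCore.topIsTerminal T).from _).op σ) :
    (pullSetsHom f A).hom.app (op (EtCoh.top T)) (EtDesc.secPull f ((setsOf X).obj A) s) = σ := by
  unfold EtDesc.secPull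
  refine (ConcreteCategory.congr_hom ((pullSetsHom f A).hom.naturality (EtCore.bcTopIso f).inv.op)
    _).trans ?_
  refine (congrArg _ ((ConcreteCategory.congr_hom (unit_pullSetsHom f A (EtCoh.top X)) s).trans h)).trans ?_
  change ((EtCoh.pull f).obj A).obj.map _ (((EtCoh.pull f).obj A).obj.map _ σ) = σ
  rw [← ConcreteCategory.comp_apply, ← Functor.map_comp, ← op_comp,
    (EtCore.topIsTerminal T).hom_ext ((EtCore.bcTopIso f).inv ≫ _) (𝟙 _), op_id,
    CategoryTheory.Functor.map_id]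
  rfl

/-- The descent condition, on germs. -/
theorem germs_eq_of_cond (F : EtDesc.Sh X) (σ : EtDesc.sect ((EtDesc.pullSh f).obj F) (EtCoh.top T))
    (h : (EtDesc.canIso f F).hom.hom.app (op (EtCoh.top (EtDesc.X2 f)))
        (EtDesc.secPull (pullback.fst f f) ((EtDesc.pullSh f).obj F) σ) =
      EtDesc.secPull (pullback.snd f f) ((EtDesc.pullSh f).obj F) σ)
    {Ω : Type u} [Field Ω] [IsSepClosed Ω] {η : Spec (CommRingCat.of Ω) ⟶ X} (ξ₁ ξ₂ : FibrePts f η)
    (e₁ e₂ : (stalkSh η).obj F)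
    (h₁ : toPullSh f η ξ₁ F e₁ = gmS _ ξ₁.1 _ (topPt ξ₁.1) σ)
    (h₂ : toPullSh f η ξ₂ F e₂ = gmS _ ξ₂.1 _ (topPt ξ₂.1) σ) : e₁ = e₂ := by
  obtain ⟨ξ, ha₁, ha₂⟩ : ∃ ξ : Spec (CommRingCat.of Ω) ⟶ EtDesc.X2 f,
      ξ ≫ pullback.fst f f = ξ₁.1 ∧ ξ ≫ pullback.snd f f = ξ₂.1 :=
    ⟨pullback.lift ξ₁.1 ξ₂.1 (ξ₁.2.trans ξ₂.2.symm), pullback.lift_fst _ _ _, pullback.lift_snd _ _ _⟩
  have g₁ : gmS _ ξ _ (topPt ξ) (EtDesc.secPull (pullback.fst f f) ((EtDesc.pullSh f).obj F) σ) =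
      toPullSh (pullback.fst f f) ξ₁.1 ⟨ξ, ha₁⟩ _ (toPullSh f η ξ₁ F e₁) :=
    (gmS_secPull (pullback.fst f f) ⟨ξ, ha₁⟩ _ σ).trans (congrArg _ h₁.symm)
  have g₂ : gmS _ ξ _ (topPt ξ) (EtDesc.secPull (pullback.snd f f) ((EtDesc.pullSh f).obj F) σ) =
      toPullSh (pullback.snd f f) ξ₂.1 ⟨ξ, ha₂⟩ _ (toPullSh f η ξ₂ F e₂) :=
    (gmS_secPull (pullback.snd f f) ⟨ξ, ha₂⟩ _ σ).trans (congrArg _ h₂.symm)
  have g₃ := (congrArg ((stalkSh ξ).map (EtDesc.canIso f F).hom) g₁.symm).trans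
    ((gmS_hom (EtDesc.canIso f F).hom ξ _ (topPt ξ) _).trans ((congrArg (gmS _ ξ _ (topPt ξ)) h).trans g₂))
  exact (bijective_toPullSh f ξ₂ F).1 ((bijective_toPullSh (pullback.snd f f)
    (⟨ξ, ha₂⟩ : FibrePts _ ξ₂.1) _).1 ((stalk_canIso f F ξ ξ₁ ξ₂ ha₁ ha₂ e₁).symm.trans g₃))

theorem secPull_cond (F : EtDesc.Sh X) (s : EtDesc.sect F (EtCoh.top X)) :
    (EtDesc.canIso f F).hom.hom.app (op (EtCoh.top (EtDesc.X2 f)))
        (EtDesc.secPull (pullback.fst f f) ((EtDesc.pullSh f).obj F) (EtDesc.secPull f F s)) =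
      EtDesc.secPull (pullback.snd f f) ((EtDesc.pullSh f).obj F) (EtDesc.secPull f F s) := by
  refine eq_of_gmS _ _ _ _ fun x => ?_
  let ξ := algPoint (EtDesc.X2 f) x
  have hw : (ξ ≫ pullback.snd f f) ≫ f = ξ ≫ pullback.fst f f ≫ f := by
    rw [Category.assoc, pullback.condition]
  let ξ₁ : FibrePts f (ξ ≫ pullback.fst f f ≫ f) := ⟨ξ ≫ pullback.fst f f, Category.assoc _ _ _⟩
  let ξ₂ : FibrePts f (ξ ≫ pullback.fst f f ≫ f) := ⟨ξ ≫ pullback.snd f f, hw⟩
  refine ⟨_, inferInstance, inferInstance, ξ, topPt ξ, algPoint_default _ x, ?_⟩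
  rw [← gmS_hom, gmS_secPull (pullback.fst f f) (⟨ξ, rfl⟩ : FibrePts _ ξ₁.1),
    gmS_secPull (pullback.snd f f) (⟨ξ, rfl⟩ : FibrePts _ ξ₂.1), gmS_secPull f ξ₁, gmS_secPull f ξ₂]
  exact stalk_canIso f F ξ ξ₁ ξ₂ rfl rfl _

theorem bcQuotient_of_univSubmersive (hf : EtDesc.IsUnivSubmersive f) (V : X.Etale) :
    Function.Surjective (EtShriek.prV f V) ∧ Topology.IsQuotientMap (EtShriek.prV f V) := by
  obtain ⟨hs, hq⟩ := hf _ V.hom
  have e : (EtShriek.prV f V : _ → _) = pullback.snd f V.hom ∘ (pullbackSymmetry V.hom f).hom := by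
    funext z
    exact congrArg (fun k => k z) (pullbackSymmetry_hom_comp_snd V.hom f).symm
  rw [e]
  exact ⟨hs.comp (pullbackSymmetry V.hom f).hom.homeomorph.surjective,
    hq.comp (pullbackSymmetry V.hom f).hom.homeomorph.isQuotientMap⟩

theorem toPullSh_naturality {F G : EtDesc.Sh X} (m : F ⟶ G) {Ω : Type u} [Field Ω] [IsSepClosed Ω]
    {η : Spec (CommRingCat.of Ω) ⟶ X} (ξ : FibrePts f η) (e : (stalkSh η).obj F) :
    toPullSh f η ξ G ((stalkSh η).map m e) =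
      (stalkSh ξ.1).map ((EtDesc.pullSh f).map m) (toPullSh f η ξ F e) := by
  obtain ⟨V, v, t, rfl⟩ :=
    (Scheme.pointSmallEtale η).toPresheafFiber_jointly_surjective (P := F.obj) e
  refine (congrArg (toPullSh f η ξ G) (gmS_hom m η V v t)).trans ((gmS_unit f ξ G V v _).symm.trans ?_)
  refine Eq.trans ?_ (congrArg ((stalkSh ξ.1).map ((EtDesc.pullSh f).map m)) (gmS_unit f ξ F V v t))
  refine Eq.trans ?_ (gmS_hom ((EtDesc.pullSh f).map m) ξ.1 _ _ _).symm
  exact congrArg (gmS _ ξ.1 _ _) (ConcreteCategory.congr_hom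
    (congrArg (fun k => k.hom.app (op V)) ((EtDesc.adjSh f).unit.naturality m)) t)

theorem toPull_of_mono {F : EtDesc.Sh X} {A : EtCoh.Ab X} (m : F ⟶ (setsOf X).obj A)
    {Ω : Type u} [Field Ω] [IsSepClosed Ω] {η : Spec (CommRingCat.of Ω) ⟶ X} (ξ : FibrePts f η)
    (e : (stalkSh η).obj F) (σ : EtDesc.sect ((EtDesc.pullSh f).obj F) (EtCoh.top T))
    (he : toPullSh f η ξ F e = gmS _ ξ.1 _ (topPt ξ.1) σ) :
    toPull f η ξ A ((stalkSetsIso η A).hom ((stalkSh η).map m e)) =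
      gm ((EtCoh.pull f).obj A) ξ.1 (EtCoh.top T) (topPt ξ.1)
        ((pullSetsHom f A).hom.app (op (EtCoh.top T))
          (((EtDesc.pullSh f).map m).hom.app (op (EtCoh.top T)) σ) :
            EtDesc.sect ((setsOf T).obj ((EtCoh.pull f).obj A)) (EtCoh.top T)) := by
  have h0 := ConcreteCategory.congr_hom (stalk_pullSetsHom f η ξ A) ((stalkSh η).map m e)
  rw [ConcreteCategory.comp_apply, ConcreteCategory.comp_apply, ConcreteCategory.comp_apply] at h0
  refine Eq.trans h0.symm ?_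
  refine (congrArg (fun z => (stalkSetsIso ξ.1 ((EtCoh.pull f).obj A)).hom
    ((stalkSh ξ.1).map (pullSetsHom f A) z)) ((toPullSh_naturality f m ξ e).trans
      ((congrArg ((stalkSh ξ.1).map ((EtDesc.pullSh f).map m)) he).trans
        (gmS_hom ((EtDesc.pullSh f).map m) ξ.1 _ _ σ)))).trans ?_
  refine (congrArg (stalkSetsIso ξ.1 ((EtCoh.pull f).obj A)).hom
    (gmS_hom (pullSetsHom f A) ξ.1 _ _ _)).trans ?_
  exact ConcreteCategory.congr_hom (stalkSetsIso_germ ξ.1 ((EtCoh.pull f).obj A) _ (topPt ξ.1)) _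

/-- Sections of sheaves of sets descend along universally submersive morphisms. -/
theorem mem_range_secPull (hf : EtDesc.IsUnivSubmersive f) (F : EtDesc.Sh X)
    (σ : EtDesc.sect ((EtDesc.pullSh f).obj F) (EtCoh.top T))
    (h : (EtDesc.canIso f F).hom.hom.app (op (EtCoh.top (EtDesc.X2 f)))
        (EtDesc.secPull (pullback.fst f f) ((EtDesc.pullSh f).obj F) σ) =
      EtDesc.secPull (pullback.snd f f) ((EtDesc.pullSh f).obj F) σ) :
    σ ∈ Set.range (EtDesc.secPull f F) := by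
  have hq := bcQuotient_of_univSubmersive f hf
  have hsurj : Function.Surjective f := fun x => by
    obtain ⟨b, hb⟩ := (hq (EtCoh.top X)).1 x
    exact ⟨((EtCoh.bc f).obj (EtCoh.top X)).hom b,
      (congrArg (fun k => k b) (pullback.condition (f := (EtCoh.top X).hom) (g := f))).symm.trans hb⟩
  obtain ⟨A, m, hm⟩ := exists_mono_setsOf F
  refine mem_range_secPull_of_mono f (secPull_injective_of_surjective f hsurj) m σ ?_
  have hP := isIso_pullSetsHom f A
  let σA : EtCoh.sect ((EtCoh.pull f).obj A) (EtCoh.top T) :=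
    ((pullSetsHom f A).hom.app (op (EtCoh.top T)) (((EtDesc.pullSh f).map m).hom.app (op (EtCoh.top T)) σ) :
      EtDesc.sect ((setsOf T).obj ((EtCoh.pull f).obj A)) (EtCoh.top T))
  have hc : Compat f A σA := by
    intro Ω _ _ η ξ₁ ξ₂ a₁ a₂ ha₁ ha₂
    have key : ∀ (ξ : FibrePts f η) (e : (stalkSh η).obj F),
        toPullSh f η ξ F e = gmS _ ξ.1 _ (topPt ξ.1) σ →
        toPull f η ξ A ((stalkSetsIso η A).hom ((stalkSh η).map m e)) =
          gm ((EtCoh.pull f).obj A) ξ.1 _ (topPt ξ.1) σA :=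
      fun ξ e he => toPull_of_mono f m ξ e σ he
    obtain ⟨e₁, he₁⟩ := (bijective_toPullSh f ξ₁ F).2 (gmS _ ξ₁.1 _ (topPt ξ₁.1) σ)
    obtain ⟨e₂, he₂⟩ := (bijective_toPullSh f ξ₂ F).2 (gmS _ ξ₂.1 _ (topPt ξ₂.1) σ)
    have b₁ := (bijective_toPull f ξ₁ A).1 (ha₁.trans (key ξ₁ e₁ he₁).symm)
    have b₂ := (bijective_toPull f ξ₂ A).1 (ha₂.trans (key ξ₂ e₂ he₂).symm)
    rw [b₁, b₂, germs_eq_of_cond f F σ h ξ₁ ξ₂ e₁ e₂ he₁ he₂]
  obtain ⟨s, hs⟩ := exists_descend hq hc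
  refine ⟨s, ?_⟩
  have : IsIso ((pullSetsHom f A).hom.app (op (EtCoh.top T))) :=
    inferInstanceAs (IsIso (((sheafToPresheaf _ _).map (pullSetsHom f A)).app _))
  exact ((isIso_iff_bijective _).1 this).1 (uAt_eq_iff f A s σA hs)

end Groth.Agent.Et18.H0Lift
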