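import Groth.Agent.Et18.H0Lift.SpreadCompact

/-!
# Descent of the spreading property along proper surjective covers
-/

set_option autoImplicit false
set_option backward.isDefEq.respectTransparency.types false
set_option backward.isDefEq.respectTransparency false

universe u

open CategoryTheory CategoryTheory.Limits AlgebraicGeometry Opposite

namespace Groth.Agent.Et18.H0Lift

theorem hasGerm_sub {X T : Scheme.{u}} {F : EtCoh.Ab X} {c : T ⟶ X} {σ σ' : gSec c F} {Ω : Type u} [Field Ω]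
    [IsSepClosed Ω] {η : Spec (CommRingCat.of Ω) ⟶ X} {ξ : FibrePts c η} {e e' : (EtCoh.stalk η).obj F}
    (h : HasGerm σ ξ e) (h' : HasGerm σ' ξ e') : HasGerm (σ - σ') ξ (e - e') :=
  (map_sub _ _ _).trans ((congrArg₂ (· - ·) h h').trans (map_sub _ _ _).symm)

/-- Spreading for morphisms into an open subscheme of the base. -/
theorem spreadsSupp_comp_openImmersion {X Y₁ Y : Scheme.{u}} (f₀ : X ⟶ Y₁) (k : Y₁ ⟶ Y) [IsOpenImmersion k]
    (h : SpreadsSupp f₀) : SpreadsSupp (f₀ ≫ k) := by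
  intro F Ω _ _ η T q p sq σ hσ
  by_cases hr : η default ∈ Set.range k
  · obtain ⟨η₀, hη₀⟩ : ∃ η₀, η₀ ≫ k = η := by
      refine ⟨IsOpenImmersion.lift k η ?_, IsOpenImmersion.lift_fac _ _ _⟩
      rintro _ ⟨x, rfl⟩
      rw [Subsingleton.elim x default]; exact hr
    have w₀ : q ≫ f₀ = p ≫ η₀ := by rw [← cancel_mono k, Category.assoc, Category.assoc, hη₀, sq.w]
    have sq₀ : IsPullback q p f₀ η₀ := by
      refine ⟨⟨w₀⟩, ⟨PullbackCone.IsLimit.mk w₀ (fun s => sq.lift s.fst s.snd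
        (by rw [← hη₀, ← Category.assoc s.fst, s.condition, Category.assoc]))
        (fun s => sq.lift_fst _ _ _) (fun s => sq.lift_snd _ _ _)
        (fun s m h₁ h₂ => sq.hom_ext (by rw [sq.lift_fst, h₁]) (by rw [sq.lift_snd, h₂]))⟩⟩
    obtain ⟨V₀, v₀, τ₀, hτ₀, he⟩ := h F Ω η₀ T q p sq₀ σ hσ
    have : Etale V₀.hom := V₀.prop
    let V : Y.Etale := Scheme.Etale.mk (V₀.hom ≫ k)
    let v : (Scheme.pointSmallEtale η).fiber.obj V :=
      Over.homMk v₀.left ((Category.assoc _ _ _).symm.trans ((congrArg (· ≫ k) (Over.w v₀)).trans hη₀))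
    let U := (EtCoh.bc (f₀ ≫ k)).obj V
    let U₀ := (EtCoh.bc f₀).obj V₀
    have hc : EtShriek.prV (f₀ ≫ k) V ≫ V₀.hom = U.hom ≫ f₀ := by
      rw [← cancel_mono k, Category.assoc, Category.assoc]
      exact pullback.condition
    obtain ⟨e, he₁, he₂⟩ : ∃ e : U.left ⟶ U₀.left,
        e ≫ EtShriek.prV f₀ V₀ = EtShriek.prV (f₀ ≫ k) V ∧ e ≫ U₀.hom = U.hom :=
      ⟨pullback.lift (EtShriek.prV (f₀ ≫ k) V) U.hom hc, pullback.lift_fst _ _ _, pullback.lift_snd _ _ _⟩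
    obtain ⟨e', he'₁, he'₂⟩ : ∃ e' : U₀.left ⟶ U.left,
        e' ≫ EtShriek.prV (f₀ ≫ k) V = EtShriek.prV f₀ V₀ ∧ e' ≫ U.hom = U₀.hom :=
      ⟨pullback.lift (EtShriek.prV f₀ V₀) U₀.hom
        (show EtShriek.prV f₀ V₀ ≫ (V₀.hom ≫ k) = U₀.hom ≫ (f₀ ≫ k) by
          rw [← Category.assoc, ← Category.assoc]
          exact congrArg (· ≫ k) (pullback.condition (f := V₀.hom) (g := f₀))),
        pullback.lift_fst _ _ _, pullback.lift_snd _ _ _⟩
    have : IsIso e := by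
      refine ⟨e', pullback.hom_ext ?_ ?_, pullback.hom_ext ?_ ?_⟩
      · change (e ≫ e') ≫ EtShriek.prV (f₀ ≫ k) V = 𝟙 _ ≫ EtShriek.prV (f₀ ≫ k) V
        rw [Category.assoc, he'₁, he₁, Category.id_comp]
      · change (e ≫ e') ≫ U.hom = 𝟙 _ ≫ U.hom
        rw [Category.assoc, he'₂, he₂, Category.id_comp]
      · change (e' ≫ e) ≫ EtShriek.prV f₀ V₀ = 𝟙 _ ≫ EtShriek.prV f₀ V₀
        rw [Category.assoc, he₁, he'₁, Category.id_comp]
      · change (e' ≫ e) ≫ U₀.hom = 𝟙 _ ≫ U₀.hom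
        rw [Category.assoc, he₂, he'₂, Category.id_comp]
    have : IsIso (𝟙 (V₀.left : Scheme.{u})) := IsIso.id _
    have sqe : IsPullback e (EtShriek.prV (f₀ ≫ k) V) (EtShriek.prV f₀ V₀) (𝟙 V₀.left) :=
      IsPullback.of_horiz_isIso ⟨he₁.trans (Category.comp_id _).symm⟩
    refine ⟨V, v, pullSec e _ F he₂ τ₀, ?_, ?_⟩
    · have : gSupp (pullSec e _ F he₂ τ₀) = e ⁻¹' gSupp τ₀ := Set.ext fun z => mem_gSupp_pullSec e he₂ τ₀ z
      exact this ▸ IsProperOver.preimage hτ₀ sqe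
    · refine eq_of_hasGerm _ _ fun y => ?_
      obtain ⟨ξ, a, hξy, ha⟩ := exists_germ_at σ y
      let ξU : FibrePts U.hom (algPoint T y ≫ q) :=
        ⟨algPoint T y ≫ fibLift sq V v, by rw [Category.assoc, fibLift_hom]⟩
      let ξU₀ : FibrePts U₀.hom (algPoint T y ≫ q) :=
        ⟨algPoint T y ≫ fibLift sq₀ V₀ v₀, by rw [Category.assoc, fibLift_hom]⟩
      refine ⟨_, inferInstance, inferInstance, _, ξ, a, by rw [hξy]; exact algPoint_default T y,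
        hasGerm_pullSec _ (fibLift_hom sq V v) ξ ξU (by rw [hξy]) (hasGerm_pullSec e he₂ ξU ξU₀ ?_ ?_), ha⟩
      · change (algPoint T y ≫ fibLift sq V v) ≫ e = algPoint T y ≫ fibLift sq₀ V₀ v₀
        rw [Category.assoc]
        refine congrArg (algPoint T y ≫ ·) (pullback.hom_ext ?_ ?_)
        · change (fibLift sq V v ≫ e) ≫ EtShriek.prV f₀ V₀ = fibLift sq₀ V₀ v₀ ≫ EtShriek.prV f₀ V₀
          rw [Category.assoc, he₁, fibLift_fst, fibLift_fst]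
          rfl
        · change (fibLift sq V v ≫ e) ≫ U₀.hom = fibLift sq₀ V₀ v₀ ≫ U₀.hom
          rw [Category.assoc, he₂, fibLift_hom, fibLift_hom]
      · exact HasGerm.of_pullSec (ξ' := ξ) (fibLift_hom sq₀ V₀ v₀) (by rw [hξy]) (he ▸ ha)
  · have hT : IsEmpty T := ⟨fun y => hr ⟨f₀ (q y), by
      rw [← Scheme.Hom.comp_apply, ← Scheme.Hom.comp_apply, sq.w, Scheme.Hom.comp_apply]
      exact congrArg η (Subsingleton.elim _ _)⟩⟩
    refine ⟨EtCoh.top Y, topPt η, 0, ?_, eq_of_hasGerm _ _ fun y => hT.elim y⟩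
    exact Eq.mpr (congrArg (ClSub.IsProperOver (EtShriek.prV (f₀ ≫ k) (EtCoh.top Y))) (sectSupp_zero _ _))
      (isProperOver_empty _)

variable {X X' Y : Scheme.{u}} (f : X ⟶ Y) [IsSeparated f] [LocallyOfFiniteType f]

/-- Descent of the spreading property along a proper surjection onto an open subscheme. -/
theorem spread_of_cover (U : X.Opens) (π₀ : X' ⟶ U.toScheme) [IsProper π₀] [Surjective π₀]
    (h : SpreadsSupp (π₀ ≫ U.ι ≫ f)) (F : EtCoh.Ab X) {Ω : Type u} [Field Ω] [IsSepClosed Ω]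
    (η : Spec (CommRingCat.of Ω) ⟶ Y) {T : Scheme.{u}} {q : T ⟶ X} {p : T ⟶ Spec (CommRingCat.of Ω)}
    (sq : IsPullback q p f η) (σ : gSec q F) (hσ : ClSub.IsProperOver p (gSupp σ))
    (hU : ∀ y ∈ gSupp σ, q y ∈ U) :
    ∃ (V : Y.Etale) (v : (Scheme.pointSmallEtale η).fiber.obj V) (τ : gSec ((EtCoh.bc f).obj V).hom F),
      ClSub.IsProperOver (EtShriek.prV f V) (gSupp τ) ∧
        pullSec (fibLift sq V v) _ F (fibLift_hom sq V v) τ = σ := by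
  let π : X' ⟶ X := π₀ ≫ U.ι
  let T' := pullback q π
  let a : T' ⟶ T := pullback.fst q π
  let q' : T' ⟶ X' := pullback.snd q π
  have sq' : IsPullback q' (a ≫ p) (π₀ ≫ U.ι ≫ f) η := by
    rw [← Category.assoc]
    exact (IsPullback.of_hasPullback q π).flip.paste_vert sq
  have : IsSeparated p := MorphismProperty.of_isPullback (P := @IsSeparated) sq inferInstance
  have : LocallyOfFiniteType p := MorphismProperty.of_isPullback (P := @LocallyOfFiniteType) sq inferInstance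
  let Z : Set T := gSupp σ
  let U_T : T.Opens := q ⁻¹ᵁ U
  obtain ⟨a₀, ha₀⟩ : ∃ a₀ : T' ⟶ U_T.toScheme, a₀ ≫ U_T.ι = a := by
    refine ⟨IsOpenImmersion.lift U_T.ι a ?_, IsOpenImmersion.lift_fac _ _ _⟩
    rintro _ ⟨y, rfl⟩
    rw [Scheme.Opens.range_ι]
    change q (a y) ∈ U
    rw [← Scheme.Hom.comp_apply, show a ≫ q = q' ≫ π from pullback.condition, Scheme.Hom.comp_apply,
      Scheme.Hom.comp_apply]
    exact (π₀ (q' y)).2
  have sqa : IsPullback q' a₀ π₀ (q ∣_ U) := by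
    refine IsPullback.of_bot ?_ ?_ (isPullback_morphismRestrict q U)
    · rw [ha₀]
      exact (IsPullback.of_hasPullback q π).flip
    · rw [← cancel_mono U.ι, Category.assoc, Category.assoc, morphismRestrict_ι, reassoc_of% ha₀]
      exact (pullback.condition).symm
  have : IsProper a₀ := MorphismProperty.of_isPullback (P := @IsProper) sqa inferInstance
  let τ₁ : gSec (q' ≫ π) F := pullSec a q F pullback.condition σ
  let σ' : gSec q' ((EtCoh.pull π).obj F) := splitSec q' π rfl τ₁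
  have hσ' : ClSub.IsProperOver (a ≫ p) (gSupp σ') := by
    have h1 : gSupp σ' = a₀ ⁻¹' (U_T.ι ⁻¹' Z) := by
      ext z
      rw [gSupp_splitSec, mem_gSupp_pullSec, Set.mem_preimage, Set.mem_preimage, ← Scheme.Hom.comp_apply, ha₀]
    rw [h1, show a ≫ p = a₀ ≫ U_T.ι ≫ p by rw [reassoc_of% ha₀]]
    refine isProperOver_properPreimage a₀ _ (isProperOver_openPreimage U_T.ι p hσ fun y hy => ?_)
    rw [Scheme.Opens.range_ι]
    exact hU y hy
  obtain ⟨V, v, τ', hτ', hτe⟩ := h ((EtCoh.pull π).obj F) Ω η T' q' (a ≫ p) sq' σ' hσ'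
  let B' := (EtCoh.bc (π₀ ≫ U.ι ≫ f)).obj V
  let B := (EtCoh.bc f).obj V
  obtain ⟨τ'', hτ''⟩ := (bijective_splitSec (F := F) (a := B'.hom) (b := π) (h := rfl)).2 τ'
  obtain ⟨m, hm₁, hm₂⟩ : ∃ m : B'.left ⟶ B.left,
      m ≫ EtShriek.prV f V = EtShriek.prV (π₀ ≫ U.ι ≫ f) V ∧ m ≫ B.hom = B'.hom ≫ π :=
    ⟨pullback.lift (EtShriek.prV (π₀ ≫ U.ι ≫ f) V) (B'.hom ≫ π) (by
        rw [Category.assoc, Category.assoc]; exact pullback.condition),
      pullback.lift_fst _ _ _, pullback.lift_snd _ _ _⟩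
  have sqm : IsPullback B'.hom m π B.hom := by
    refine IsPullback.of_bot ?_ hm₂.symm (IsPullback.of_hasPullback V.hom f).flip
    rw [show m ≫ pullback.fst V.hom f = EtShriek.prV (π₀ ≫ U.ι ≫ f) V from hm₁, Category.assoc]
    exact (IsPullback.of_hasPullback V.hom (π₀ ≫ U.ι ≫ f)).flip
  let U_B : B.left.Opens := B.hom ⁻¹ᵁ U
  obtain ⟨m₀, hm₀⟩ : ∃ m₀ : B'.left ⟶ U_B.toScheme, m₀ ≫ U_B.ι = m := by
    refine ⟨IsOpenImmersion.lift U_B.ι m ?_, IsOpenImmersion.lift_fac _ _ _⟩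
    rintro _ ⟨y, rfl⟩
    rw [Scheme.Opens.range_ι]
    change B.hom (m y) ∈ U
    exact (congrArg (fun k : B'.left ⟶ X => k y) hm₂).symm ▸ (π₀ (B'.hom y)).2
  have sqm₀ : IsPullback B'.hom m₀ π₀ (B.hom ∣_ U) := by
    refine IsPullback.of_bot ?_ ?_ (isPullback_morphismRestrict B.hom U)
    · rw [hm₀]; exact sqm
    · rw [← cancel_mono U.ι, Category.assoc, Category.assoc, morphismRestrict_ι, reassoc_of% hm₀]
      exact hm₂.symm
  have : IsProper m₀ := MorphismProperty.of_isPullback (P := @IsProper) sqm₀ inferInstance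
  have : Surjective m₀ := MorphismProperty.of_isPullback (P := @Surjective) sqm₀ inferInstance
  -- compatibility over a neighbourhood
  let P₂ := pullback m₀ m₀
  let r₁ : P₂ ⟶ B'.left := pullback.fst m₀ m₀
  let r₂ : P₂ ⟶ B'.left := pullback.snd m₀ m₀
  have hr : r₁ ≫ B'.hom ≫ π = r₂ ≫ B'.hom ≫ π := by
    rw [← hm₂, ← hm₀, Category.assoc, pullback.condition_assoc]
  let d : gSec (r₁ ≫ B'.hom ≫ π) F := pullSec r₁ _ F rfl τ'' - pullSec r₂ _ F hr.symm τ''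
  let pV : P₂ ⟶ V.left := r₁ ≫ EtShriek.prV (π₀ ≫ U.ι ≫ f) V
  let S : Set B'.left := gSupp τ''
  have hSp : ClSub.IsProperOver (EtShriek.prV (π₀ ≫ U.ι ≫ f) V) S := by
    have : S = gSupp τ' := (gSupp_splitSec τ'').symm.trans (congrArg gSupp hτ'')
    rw [this]; exact hτ'
  have hpV₂ : r₂ ≫ EtShriek.prV (π₀ ≫ U.ι ≫ f) V = pV := by
    change _ = r₁ ≫ _
    rw [← hm₁, ← hm₀, Category.assoc, ← pullback.condition_assoc]
  have : IsSeparated (EtShriek.prV (π₀ ≫ U.ι ≫ f) V) :=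
    MorphismProperty.pullback_fst (P := @IsSeparated) V.hom (π₀ ≫ U.ι ≫ f) inferInstance
  have : LocallyOfFiniteType (EtShriek.prV (π₀ ≫ U.ι ≫ f) V) :=
    MorphismProperty.pullback_fst (P := @LocallyOfFiniteType) V.hom (π₀ ≫ U.ι ≫ f) inferInstance
  have hd : ClSub.IsProperOver pV (gSupp d) := by
    have hu : ClSub.IsProperOver pV (r₁ ⁻¹' S ∪ r₂ ⁻¹' S) := by
      refine IsProperOver.union (isProperOver_properPreimage r₁ _ hSp) ?_
      rw [← hpV₂]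
      exact isProperOver_properPreimage r₂ _ hSp
    refine IsProperOver.of_subset hu (isClosed_gSupp d) fun y hy => ?_
    by_contra hn
    obtain ⟨ξ, e₁, hξ, he₁⟩ := exists_germ_at (pullSec r₁ _ F rfl τ'') y
    obtain ⟨e₂, he₂⟩ := exists_hasGerm (pullSec r₂ _ F hr.symm τ'') ξ
    have hy' : ξ.1 default = y := by rw [hξ]; exact algPoint_default P₂ y
    rw [← hy', mem_gSupp_iff (hasGerm_sub he₁ he₂)] at hy
    rw [Set.mem_union, Set.mem_preimage, Set.mem_preimage, ← mem_gSupp_pullSec r₁ rfl τ'' y,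
      ← mem_gSupp_pullSec r₂ hr.symm τ'' y, ← hy', mem_gSupp_iff he₁, mem_gSupp_iff he₂, not_or, not_not,
      not_not] at hn
    exact hy (by rw [hn.1, hn.2, sub_zero])
  have hv : fiberPt v ∉ pV '' gSupp d := by
    rintro ⟨b, hb, hbv⟩
    let vl : Spec (CommRingCat.of Ω) ⟶ V.left := v.left
    obtain ⟨c, hc₁, -⟩ := Scheme.Pullback.exists_preimage_pullback (f := pV)
      (g := vl) b default hbv
    obtain ⟨l, lΩ, hl, hlb⟩ : ∃ (l : Spec (CommRingCat.of (AlgebraicClosure ((pullback pV vl).residueField c))) ⟶ P₂)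
        (lΩ : Spec (CommRingCat.of _) ⟶ Spec (CommRingCat.of Ω)), l ≫ pV = lΩ ≫ vl ∧ l default = b := by
      refine ⟨algPoint _ c ≫ pullback.fst _ _, algPoint _ c ≫ pullback.snd _ _, ?_, ?_⟩
      · simp only [Category.assoc, pullback.condition]
      · rw [Scheme.Hom.comp_apply, algPoint_default]; exact hc₁
    have hcond : B'.hom ≫ π₀ ≫ U.ι ≫ f = EtShriek.prV (π₀ ≫ U.ι ≫ f) V ≫ V.hom :=
      (pullback.condition (f := V.hom) (g := π₀ ≫ U.ι ≫ f)).symm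
    have hfib : ∀ r : P₂ ⟶ B'.left, r ≫ EtShriek.prV (π₀ ≫ U.ι ≫ f) V = pV →
        ∃ t : _ ⟶ T', t ≫ fibLift sq' V v = l ≫ r ∧ t ≫ a ≫ p = lΩ ∧ t ≫ q' = l ≫ r ≫ B'.hom := by
      intro r hr'
      have hw : (l ≫ r ≫ B'.hom) ≫ π₀ ≫ U.ι ≫ f = lΩ ≫ η := by
        rw [Category.assoc, Category.assoc, hcond, reassoc_of% hr', reassoc_of% hl]
        exact congrArg (lΩ ≫ ·) (Over.w v)
      obtain ⟨t, ht₁, ht₂⟩ : ∃ t : _ ⟶ T', t ≫ q' = l ≫ r ≫ B'.hom ∧ t ≫ a ≫ p = lΩ :=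
        ⟨sq'.lift _ lΩ hw, sq'.lift_fst _ _ _, sq'.lift_snd _ _ _⟩
      refine ⟨t, pullback.hom_ext ?_ ?_, ht₂, ht₁⟩
      · change (t ≫ fibLift sq' V v) ≫ EtShriek.prV (π₀ ≫ U.ι ≫ f) V =
          (l ≫ r) ≫ EtShriek.prV (π₀ ≫ U.ι ≫ f) V
        refine ((Category.assoc _ _ _).trans (congrArg (t ≫ ·) (fibLift_fst sq' V v))).trans ?_
        exact ((Category.assoc _ _ _).symm.trans (congrArg (· ≫ vl) ht₂)).trans
          (hl.symm.trans ((congrArg (l ≫ ·) hr'.symm).trans (Category.assoc _ _ _).symm))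
      · change (t ≫ fibLift sq' V v) ≫ B'.hom = (l ≫ r) ≫ B'.hom
        rw [Category.assoc, fibLift_hom, ht₁, Category.assoc]
    obtain ⟨t₁, ht₁, htΩ₁, htq₁⟩ := hfib r₁ rfl
    obtain ⟨t₂, ht₂, htΩ₂, htq₂⟩ := hfib r₂ hpV₂
    have hta : t₁ ≫ a = t₂ ≫ a := by
      refine sq.hom_ext ?_ (by rw [Category.assoc, htΩ₁, Category.assoc, htΩ₂])
      rw [Category.assoc, Category.assoc, show a ≫ q = q' ≫ π from pullback.condition, reassoc_of% htq₁,
        reassoc_of% htq₂]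
      exact congrArg (l ≫ ·) hr
    obtain ⟨x, hx⟩ : ∃ x, (t₁ ≫ a) ≫ q = x := ⟨_, rfl⟩
    let ξT : FibrePts q x := ⟨t₁ ≫ a, hx⟩
    obtain ⟨eσ, heσ⟩ := exists_hasGerm σ ξT
    have key : ∀ (t : _ ⟶ T') (r : P₂ ⟶ B'.left) (hr' : r ≫ B'.hom ≫ π = r₁ ≫ B'.hom ≫ π)
        (ξ : FibrePts (r₁ ≫ B'.hom ≫ π) x), ξ.1 = l → t ≫ a = t₁ ≫ a → t ≫ fibLift sq' V v = l ≫ r →
          HasGerm (pullSec r _ F hr' τ'') ξ eσ := by
      intro t r hr' ξ hξl hta ht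
      let ξ' : FibrePts (q' ≫ π) x := ⟨t, by
        rw [← hx, ← hta, Category.assoc, show a ≫ q = q' ≫ π from pullback.condition]⟩
      have g₁ : HasGerm τ₁ ξ' eσ := hasGerm_pullSec a pullback.condition ξ' ξT hta heσ
      obtain ⟨η₁, hη₁⟩ : ∃ η₁, t ≫ q' = η₁ := ⟨_, rfl⟩
      have hηx : η₁ ≫ π = x := by rw [← hη₁, Category.assoc]; exact ξ'.2
      let ξq : FibrePts q' η₁ := ⟨t, hη₁⟩
      have g₂ : HasGerm σ' ξq (toPull π x ⟨η₁, hηx⟩ F eσ) := (hasGerm_splitSec_iff ξq ξ' rfl hηx).2 g₁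
      let ξB : FibrePts B'.hom η₁ := ⟨t ≫ fibLift sq' V v, by rw [Category.assoc, fibLift_hom, hη₁]⟩
      have g₃ : HasGerm τ' ξB (toPull π x ⟨η₁, hηx⟩ F eσ) :=
        HasGerm.of_pullSec (ξ' := ξq) (fibLift_hom sq' V v) rfl (hτe ▸ g₂)
      let ξc : FibrePts (B'.hom ≫ π) x := ⟨ξB.1, by rw [← Category.assoc, ξB.2, hηx]⟩
      have g₄ : HasGerm τ'' ξc eσ := (hasGerm_splitSec_iff (h := rfl) ξB ξc rfl hηx).1 (hτ'' ▸ g₃)
      exact hasGerm_pullSec r hr' ξ ξc (by rw [hξl]; exact ht.symm) g₄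
    let ξl : FibrePts (r₁ ≫ B'.hom ≫ π) x := ⟨l, by
      rw [← hx, Category.assoc, show a ≫ q = q' ≫ π from pullback.condition, reassoc_of% htq₁]⟩
    have g := hasGerm_sub (key t₁ r₁ rfl ξl rfl rfl ht₁) (key t₂ r₂ hr.symm ξl rfl hta.symm ht₂)
    rw [sub_self] at g
    rw [← hlb] at hb
    exact (mem_gSupp_iff g).1 hb rfl
  obtain ⟨V₀, i, v₀, -, hv₀, hC⟩ := exists_shrink V v _ (IsProperOver.isClosed_image hd) hv
  let B₀ := (EtCoh.bc f).obj V₀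
  let B'₀ := (EtCoh.bc (π₀ ≫ U.ι ≫ f)).obj V₀
  let U₀ : B₀.left.Opens := B₀.hom ⁻¹ᵁ U
  let n' := ((EtCoh.bc (π₀ ≫ U.ι ≫ f)).map i).left
  let τ₀ : gSec (B'₀.hom ≫ π) F := pullSec n' (B'.hom ≫ π) F
    ((Category.assoc _ _ _).symm.trans (congrArg (· ≫ π) (Over.w ((EtCoh.bc (π₀ ≫ U.ι ≫ f)).map i).hom))) τ''
  obtain ⟨k, hk₁, hk₂⟩ : ∃ k : B'₀.left ⟶ B₀.left,
      k ≫ EtShriek.prV f V₀ = EtShriek.prV (π₀ ≫ U.ι ≫ f) V₀ ∧ k ≫ B₀.hom = B'₀.hom ≫ π :=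
    ⟨pullback.lift (EtShriek.prV (π₀ ≫ U.ι ≫ f) V₀) (B'₀.hom ≫ π) (by
        rw [Category.assoc, Category.assoc]; exact pullback.condition),
      pullback.lift_fst _ _ _, pullback.lift_snd _ _ _⟩
  have sqk : IsPullback B'₀.hom k π B₀.hom := by
    refine IsPullback.of_bot ?_ hk₂.symm (IsPullback.of_hasPullback V₀.hom f).flip
    rw [show k ≫ pullback.fst V₀.hom f = EtShriek.prV (π₀ ≫ U.ι ≫ f) V₀ from hk₁, Category.assoc]
    exact (IsPullback.of_hasPullback V₀.hom (π₀ ≫ U.ι ≫ f)).flip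
  obtain ⟨k₀, hk₀⟩ : ∃ k₀ : B'₀.left ⟶ U₀.toScheme, k₀ ≫ U₀.ι = k := by
    refine ⟨IsOpenImmersion.lift U₀.ι k ?_, IsOpenImmersion.lift_fac _ _ _⟩
    rintro _ ⟨y, rfl⟩
    rw [Scheme.Opens.range_ι]
    change B₀.hom (k y) ∈ U
    exact (congrArg (fun g : B'₀.left ⟶ X => g y) hk₂).symm ▸ (π₀ (B'₀.hom y)).2
  have sqk₀ : IsPullback B'₀.hom k₀ π₀ (B₀.hom ∣_ U) := by
    refine IsPullback.of_bot ?_ ?_ (isPullback_morphismRestrict B₀.hom U)
    · rw [hk₀]; exact sqk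
    · rw [← cancel_mono U.ι, Category.assoc, Category.assoc, morphismRestrict_ι, reassoc_of% hk₀]
      exact hk₂.symm
  have : IsProper k₀ := MorphismProperty.of_isPullback (P := @IsProper) sqk₀ inferInstance
  have : Surjective k₀ := MorphismProperty.of_isPullback (P := @Surjective) sqk₀ inferInstance
  have hkc : k₀ ≫ U₀.ι ≫ B₀.hom = B'₀.hom ≫ π := by rw [reassoc_of% hk₀]; exact hk₂
  have hn : n' ≫ m = k ≫ ((EtCoh.bc f).map i).left := by
    refine pullback.hom_ext ?_ ?_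
    · change (n' ≫ m) ≫ EtShriek.prV f V = (k ≫ ((EtCoh.bc f).map i).left) ≫ EtShriek.prV f V
      rw [Category.assoc, hm₁, (EtCoh.isPullback_bc_map (π₀ ≫ U.ι ≫ f) i).w, Category.assoc,
        (EtCoh.isPullback_bc_map f i).w]
      exact (congrArg (· ≫ i.left) hk₁).symm.trans (Category.assoc _ _ _)
    · change (n' ≫ m) ≫ B.hom = (k ≫ ((EtCoh.bc f).map i).left) ≫ B.hom
      rw [Category.assoc, hm₂]
      refine ((Category.assoc _ _ _).symm.trans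
        (congrArg (· ≫ π) (Over.w ((EtCoh.bc (π₀ ≫ U.ι ≫ f)).map i).hom))).trans (hk₂.symm.trans ?_)
      rw [Category.assoc]
      exact congrArg (k ≫ ·) (Over.w ((EtCoh.bc f).map i).hom).symm
  obtain ⟨τU, hτU⟩ := exists_descend_closed (F := F) k₀ hkc τ₀ fun K _ _ x ξ₁ ξ₂ e₁ e₂ hξ h₁ h₂ => by
    have hξ' : (ξ₁.1 ≫ n') ≫ m₀ = (ξ₂.1 ≫ n') ≫ m₀ := by
      rw [← cancel_mono U_B.ι, Category.assoc, Category.assoc, Category.assoc, Category.assoc,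
        hm₀, hn, ← hk₀]
      simp only [← Category.assoc]
      rw [hξ]
    obtain ⟨l, hl₁, hl₂⟩ : ∃ l : _ ⟶ P₂, l ≫ r₁ = ξ₁.1 ≫ n' ∧ l ≫ r₂ = ξ₂.1 ≫ n' :=
      ⟨pullback.lift _ _ hξ', pullback.lift_fst _ _ _, pullback.lift_snd _ _ _⟩
    have hw : ∀ ξ : FibrePts (B'₀.hom ≫ π) x, (ξ.1 ≫ n') ≫ B'.hom ≫ π = x := fun ξ => by
      rw [Category.assoc, ← Category.assoc n', show n' ≫ B'.hom = B'₀.hom from
        Over.w ((EtCoh.bc (π₀ ≫ U.ι ≫ f)).map i).hom, ξ.2]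
    let ζ₁ : FibrePts (B'.hom ≫ π) x := ⟨ξ₁.1 ≫ n', hw ξ₁⟩
    let ζ₂ : FibrePts (B'.hom ≫ π) x := ⟨ξ₂.1 ≫ n', hw ξ₂⟩
    have g₁ : HasGerm τ'' ζ₁ e₁ := HasGerm.of_pullSec (ξ' := ξ₁) _ rfl h₁
    have g₂ : HasGerm τ'' ζ₂ e₂ := HasGerm.of_pullSec (ξ' := ξ₂) _ rfl h₂
    let ξP : FibrePts (r₁ ≫ B'.hom ≫ π) x := ⟨l, by rw [← Category.assoc, hl₁]; exact hw ξ₁⟩
    have g := hasGerm_sub (hasGerm_pullSec r₁ rfl ξP ζ₁ hl₁ g₁) (hasGerm_pullSec r₂ hr.symm ξP ζ₂ hl₂ g₂)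
    by_contra hne
    refine hC (EtShriek.prV (π₀ ≫ U.ι ≫ f) V₀ (ξ₁.1 default))
      ⟨l default, (mem_gSupp_iff g).2 (sub_ne_zero.2 hne), ?_⟩
    change pV (l default) = _
    rw [← Scheme.Hom.comp_apply, show l ≫ pV = ξ₁.1 ≫ n' ≫ EtShriek.prV (π₀ ≫ U.ι ≫ f) V by
      rw [← Category.assoc l r₁, hl₁, Category.assoc], (EtCoh.isPullback_bc_map (π₀ ≫ U.ι ≫ f) i).w]
    rfl
  have hS₀ : ClSub.IsProperOver (EtShriek.prV (π₀ ≫ U.ι ≫ f) V₀) (gSupp τ₀) := by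
    have e : gSupp τ₀ = n' ⁻¹' S := Set.ext fun z => mem_gSupp_pullSec n' _ τ'' z
    exact Eq.mpr (congrArg (ClSub.IsProperOver _) e)
      (IsProperOver.preimage hSp (EtCoh.isPullback_bc_map (π₀ ≫ U.ι ≫ f) i))
  have : IsSeparated (EtShriek.prV f V₀) :=
    MorphismProperty.pullback_fst (P := @IsSeparated) V₀.hom f inferInstance
  have : LocallyOfFiniteType (EtShriek.prV f V₀) :=
    MorphismProperty.pullback_fst (P := @LocallyOfFiniteType) V₀.hom f inferInstance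
  have hk₀S : k '' gSupp τ₀ = U₀.ι '' gSupp τU := by
    rw [← hk₀, show ⇑(k₀ ≫ U₀.ι) = U₀.ι ∘ k₀ from funext (Scheme.Hom.comp_apply _ _), Set.image_comp]
    refine congrArg _ (Set.Subset.antisymm ?_ ?_)
    · rintro _ ⟨z, hz, rfl⟩
      exact (mem_gSupp_pullSec k₀ hkc τU z).1 (hτU.symm ▸ hz)
    · intro z hz
      obtain ⟨z', rfl⟩ := k₀.surjective z
      exact ⟨z', hτU ▸ (mem_gSupp_pullSec k₀ hkc τU z').2 hz, rfl⟩
  have hp : ClSub.IsProperOver (EtShriek.prV f V₀) (U₀.ι '' gSupp τU) := by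
    rw [← hk₀S]
    rw [← hk₁, isProperOver_comp_iff] at hS₀
    exact hS₀.2
  obtain ⟨τ, hτ, hτS⟩ := exists_extend_zero (F := F) U₀.ι (c := B₀.hom) rfl _ hp.1 (Set.image_subset_range _ _) τU
    (Set.subset_preimage_image _ _)
  refine ⟨V₀, v₀, τ, IsProperOver.of_subset hp (isClosed_gSupp τ) hτS, eq_of_hasGerm _ _ fun y => ?_⟩
  by_cases hyU : q y ∈ U
  · obtain ⟨z, -, hz⟩ : ∃ z, True ∧ a z = y := by
      obtain ⟨c, hc, -⟩ := Scheme.Pullback.exists_preimage_pullback (f := q) (g := π) y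
        ((π₀.surjective ⟨q y, hyU⟩).choose) (by
          rw [Scheme.Hom.comp_apply, (π₀.surjective ⟨q y, hyU⟩).choose_spec]
          rfl)
      exact ⟨c, trivial, hc⟩
    let t := algPoint T' z
    obtain ⟨x, hx⟩ : ∃ x, (t ≫ a) ≫ q = x := ⟨_, rfl⟩
    let ξ : FibrePts q x := ⟨t ≫ a, hx⟩
    obtain ⟨e, he⟩ := exists_hasGerm σ ξ
    refine ⟨_, inferInstance, inferInstance, x, ξ, e, ?_, ?_, he⟩
    · change (t ≫ a) default = y
      rw [Scheme.Hom.comp_apply, algPoint_default, hz]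
    let ξF : FibrePts B₀.hom x :=
      ⟨(t ≫ a) ≫ fibLift sq V₀ v₀, by rw [Category.assoc, fibLift_hom, hx]⟩
    refine hasGerm_pullSec _ (fibLift_hom sq V₀ v₀) ξ ξF rfl ?_
    have hqa : t ≫ q' ≫ π = x := by rw [← hx, Category.assoc, show a ≫ q = q' ≫ π from pullback.condition]
    let ξ' : FibrePts (q' ≫ π) x := ⟨t, hqa⟩
    have g₁ : HasGerm τ₁ ξ' e := hasGerm_pullSec a pullback.condition ξ' ξ rfl he
    obtain ⟨η₁, hη₁⟩ : ∃ η₁, t ≫ q' = η₁ := ⟨_, rfl⟩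
    have hηx : η₁ ≫ π = x := by rw [← hη₁, Category.assoc]; exact hqa
    let ξq : FibrePts q' η₁ := ⟨t, hη₁⟩
    have g₂ : HasGerm σ' ξq (toPull π x ⟨η₁, hηx⟩ F e) := (hasGerm_splitSec_iff ξq ξ' rfl hηx).2 g₁
    let ξB : FibrePts B'.hom η₁ := ⟨t ≫ fibLift sq' V v, by rw [Category.assoc, fibLift_hom, hη₁]⟩
    have g₃ : HasGerm τ' ξB (toPull π x ⟨η₁, hηx⟩ F e) :=
      HasGerm.of_pullSec (ξ' := ξq) (fibLift_hom sq' V v) rfl (hτe ▸ g₂)
    let ξc : FibrePts (B'.hom ≫ π) x := ⟨ξB.1, by rw [← Category.assoc, ξB.2, hηx]⟩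
    have g₄ : HasGerm τ'' ξc e := (hasGerm_splitSec_iff (h := rfl) ξB ξc rfl hηx).1 (hτ'' ▸ g₃)
    let ξ₀ : FibrePts (B'₀.hom ≫ π) x := ⟨t ≫ fibLift sq' V₀ v₀, by
      rw [Category.assoc, ← Category.assoc (fibLift sq' V₀ v₀), fibLift_hom]; exact hqa⟩
    have g₅ : HasGerm τ₀ ξ₀ e := hasGerm_pullSec n' _ ξ₀ ξc (by
      change (t ≫ fibLift sq' V₀ v₀) ≫ n' = t ≫ fibLift sq' V v
      rw [Category.assoc, fibLift_map sq' i v₀, hv₀]) g₄
    let ξU : FibrePts (U₀.ι ≫ B₀.hom) x := ⟨ξ₀.1 ≫ k₀, by rw [Category.assoc, hkc, ξ₀.2]⟩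
    have g₆ : HasGerm τU ξU e := HasGerm.of_pullSec (ξ' := ξ₀) hkc rfl (hτU ▸ g₅)
    refine HasGerm.of_pullSec (ξ' := ξU) rfl ?_ (hτ ▸ g₆)
    change ((t ≫ fibLift sq' V₀ v₀) ≫ k₀) ≫ U₀.ι = (t ≫ a) ≫ fibLift sq V₀ v₀
    rw [Category.assoc, hk₀]
    refine pullback.hom_ext ?_ ?_
    · change ((t ≫ fibLift sq' V₀ v₀) ≫ k) ≫ EtShriek.prV f V₀ = ((t ≫ a) ≫ fibLift sq V₀ v₀) ≫ EtShriek.prV f V₀
      rw [Category.assoc, hk₁]
      refine ((Category.assoc _ _ _).trans (congrArg (t ≫ ·) (fibLift_fst sq' V₀ v₀))).trans ?_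
      refine Eq.trans ?_ ((Category.assoc _ _ _).trans (congrArg ((t ≫ a) ≫ ·) (fibLift_fst sq V₀ v₀))).symm
      simp only [Category.assoc]
    · change ((t ≫ fibLift sq' V₀ v₀) ≫ k) ≫ B₀.hom = ((t ≫ a) ≫ fibLift sq V₀ v₀) ≫ B₀.hom
      rw [Category.assoc, hk₂, Category.assoc, ← Category.assoc (fibLift sq' V₀ v₀), fibLift_hom,
        Category.assoc, fibLift_hom]
      exact congrArg (t ≫ ·) (pullback.condition).symm
  · obtain ⟨ξ, e, hξy, he⟩ := exists_germ_at σ y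
    have hy : ξ.1 default = y := by rw [hξy]; exact algPoint_default T y
    let ξF : FibrePts B₀.hom (algPoint T y ≫ q) :=
      ⟨algPoint T y ≫ fibLift sq V₀ v₀, by rw [Category.assoc, fibLift_hom]⟩
    refine ⟨_, inferInstance, inferInstance, _, ξ, e, hy, hasGerm_pullSec _ (fibLift_hom sq V₀ v₀) ξ ξF
      (by rw [hξy]) ?_, he⟩
    obtain ⟨e', he'⟩ := exists_hasGerm τ ξF
    suffices e' = e by rwa [← this]
    have he0 : e = 0 := by
      by_contra hne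
      exact hyU (hU y (hy ▸ (mem_gSupp_iff he).2 hne))
    rw [he0]
    by_contra hne
    obtain ⟨z, -, hz⟩ := hτS ((mem_gSupp_iff he').2 hne)
    refine hyU ?_
    have hz' : U₀.ι z = fibLift sq V₀ v₀ (algPoint T y default) := hz
    have hzU : B₀.hom (U₀.ι z) ∈ U := z.2
    have h2 : B₀.hom (U₀.ι z) = q y :=
      ((congrArg B₀.hom hz').trans (congrArg (fun k : T ⟶ X => k (algPoint T y default))
        (fibLift_hom sq V₀ v₀))).trans (congrArg q (algPoint_default T y))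
    exact h2 ▸ hzU

end Groth.Agent.Et18.H0Lift
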