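import Groth.Agent.Et18.H0Lift.SpreadChow
import Groth.Agent.Et18.H0Lift.SpreadCover

/-!
# The stalks of the direct image with proper support
-/

set_option autoImplicit false
set_option backward.isDefEq.respectTransparency.types false
set_option backward.isDefEq.respectTransparency false

universe u

open CategoryTheory CategoryTheory.Limits AlgebraicGeometry Opposite TopologicalSpace

namespace Groth.Agent.Et18.H0Lift

variable {X Y : Scheme.{u}} (f : X ⟶ Y) [IsSeparated f] [LocallyOfFiniteType f]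

/-- Sections with proper support over geometric fibres spread out, for separated morphisms locally of finite
type. -/
theorem spreadsSupp_of_isSeparated : SpreadsSupp f := by
  intro F Ω _ _ η T q p sq σ hσ
  let Z : Set T := gSupp σ
  obtain ⟨_, ⟨Y₀, (hY₀ : IsAffineOpen Y₀), rfl⟩, hy, -⟩ := Y.isBasis_affineOpens.exists_subset_of_mem_open
    (Set.mem_univ (η default)) isOpen_univ
  have hqZ : IsCompact (q '' Z) := by
    obtain ⟨hc, hp⟩ := id hσ
    let ι := (redSub Z hc).subschemeι
    have : IsProper (ι ≫ p) := hp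
    have : CompactSpace (redSub Z hc).subscheme := QuasiCompact.compactSpace_of_compactSpace (ι ≫ p)
    rw [show q '' Z = Set.range (ι ≫ q) by
      rw [show ⇑(ι ≫ q) = q ∘ ι from funext (Scheme.Hom.comp_apply ι q), Set.range_comp, range_redSub]]
    exact isCompact_range (ι ≫ q).continuous
  have hsub : q '' Z ⊆ f ⁻¹' (Y₀ : Set Y) := by
    rintro _ ⟨z, -, rfl⟩
    change f (q z) ∈ Y₀
    rw [← Scheme.Hom.comp_apply, sq.w, Scheme.Hom.comp_apply, Subsingleton.elim (p z) default]
    exact hy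
  have hnb : ∀ x : (f ⁻¹' (Y₀ : Set Y) : Set X), ∃ W : X.Opens, IsAffineOpen W ∧ x.1 ∈ W ∧ W ≤ f ⁻¹ᵁ Y₀ := by
    intro x
    obtain ⟨_, ⟨W, hW, rfl⟩, hx, hle⟩ := X.isBasis_affineOpens.exists_subset_of_mem_open x.2
      (Y₀.2.preimage f.continuous)
    exact ⟨W, hW, hx, hle⟩
  choose W hW hxW hWle using hnb
  obtain ⟨t, ht⟩ := hqZ.elim_finite_subcover (fun x => (W x : Set X)) (fun x => (W x).2)
    (fun z hz => Set.mem_iUnion.2 ⟨⟨z, hsub hz⟩, hxW _⟩)
  let U : X.Opens := ⟨⋃ x ∈ t, (W x : Set X), isOpen_biUnion fun x _ => (W x).2⟩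
  have hUc : IsCompact (U : Set X) := t.finite_toSet.isCompact_biUnion fun x _ => (hW x).isCompact
  obtain ⟨g, hg⟩ : ∃ g : U.toScheme ⟶ Spec Γ(Y, Y₀), g ≫ hY₀.fromSpec = U.ι ≫ f := by
    refine ⟨IsOpenImmersion.lift hY₀.fromSpec (U.ι ≫ f) ?_, IsOpenImmersion.lift_fac _ _ _⟩
    rintro _ ⟨z, rfl⟩
    rw [hY₀.range_fromSpec]
    obtain ⟨x, -, hx⟩ := Set.mem_iUnion₂.1 z.2
    exact hWle x hx
  have : CompactSpace U.toScheme := isCompact_iff_compactSpace.1 hUc
  have : IsSeparated (g ≫ hY₀.fromSpec) := by rw [hg]; infer_instance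
  have : LocallyOfFiniteType (g ≫ hY₀.fromSpec) := by rw [hg]; infer_instance
  have : IsSeparated g := IsSeparated.of_comp g hY₀.fromSpec
  have : LocallyOfFiniteType g := locallyOfFiniteType_of_comp g hY₀.fromSpec
  have : QuasiCompact g := by
    have : QuasiCompact (g ≫ terminal.from _) := by
      rw [show g ≫ terminal.from _ = terminal.from U.toScheme from terminal.hom_ext _ _]
      exact (quasiCompact_iff_compactSpace _).mpr ‹_›
    exact QuasiCompact.of_comp g (terminal.from _)
  obtain ⟨X', P, π₀, j, pb, hπ, hπs, hj, hpbs, hpbc, hjp⟩ := exists_compactified_cover (A := Γ(Y, Y₀)) g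
  have hs : SpreadsSupp ((π₀ ≫ g) ≫ hY₀.fromSpec) :=
    spreadsSupp_comp_openImmersion _ _ (spreadsSupp_of_compactification (π₀ ≫ g) j pb hjp)
  rw [Category.assoc, hg] at hs
  exact spread_of_cover f U π₀ hs F η sq σ hσ fun y hy' => ht ⟨y, hy', rfl⟩

variable (F : EtCoh.Ab X) {Ω : Type u} [Field Ω] [IsSepClosed Ω] {η : Spec (CommRingCat.of Ω) ⟶ Y}
  {T : Scheme.{u}} {q : T ⟶ X} {p : T ⟶ Spec (CommRingCat.of Ω)} (sq : IsPullback q p f η)

/-- From the stalk of `f_!` to the sections over the geometric fibre. -/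
noncomputable def shriekToFibreSec :
    (EtCoh.stalk η).obj ((EtShriek.lowerShriek f).obj F) ⟶
      ((EtCoh.pull q).obj F).obj.obj (op (EtCoh.top T)) :=
  (EtCoh.stalk η).map ((shriekToPush f).app F) ≫ toFibreSec F sq

variable {f F}

theorem shriekToFibreSec_gm (V : Y.Etale) (v : (Scheme.pointSmallEtale η).fiber.obj V)
    (s : EtShriek.shriekSubgroup f F V) :
    shriekToFibreSec f F sq (gm _ η V v (toShriek f F V s)) =
      pullAt F ((EtCoh.bc f).obj V) (fibLift sq V v) (fibLift_hom sq V v) s.1 := by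
  refine (congrArg (toFibreSec F sq) ((gm_hom ((shriekToPush f).app F) η V v _).trans
    (congrArg (gm _ η V v) (shriekToPush_toShriek f F V s)))).trans ?_
  exact toFibreSec_gm F sq V v s.1

theorem isProperOver_gSupp_pullAt (V : Y.Etale) (v : (Scheme.pointSmallEtale η).fiber.obj V)
    (s : EtCoh.sect F ((EtCoh.bc f).obj V)) (hs : PropSupp f F s) :
    ClSub.IsProperOver p
      (gSupp (pullAt F ((EtCoh.bc f).obj V) (fibLift sq V v) (fibLift_hom sq V v) s)) := by
  let vl : Spec (CommRingCat.of Ω) ⟶ V.left := v.left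
  have hpb : IsPullback (fibLift sq V v) p (EtShriek.prV f V) vl := by
    refine IsPullback.of_right ?_ (fibLift_fst sq V v) (IsPullback.of_hasPullback V.hom f).flip
    rw [show vl ≫ V.hom = η from Over.w v]
    rw [show fibLift sq V v ≫ pullback.snd V.hom f = q from fibLift_hom sq V v]
    exact sq
  rw [show gSupp (pullAt F ((EtCoh.bc f).obj V) (fibLift sq V v) (fibLift_hom sq V v) s) =
    fibLift sq V v ⁻¹' EtShriek.sectSupp F _ s from
      Set.ext fun y => mem_sectSupp_pullAt F _ _ (fibLift_hom sq V v) s y]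
  exact IsProperOver.preimage hs hpb

theorem injective_shriekToFibreSec : Function.Injective (shriekToFibreSec f F sq) := by
  refine (injective_iff_map_eq_zero (shriekToFibreSec f F sq).hom).2 fun e he => ?_
  obtain ⟨V, v, z, rfl⟩ := (Scheme.pointSmallEtale η).toPresheafFiber_jointly_surjective
    (P := ((EtShriek.lowerShriek f).obj F).obj) e
  obtain ⟨s, rfl⟩ := (toShriek_bijective f F V).2 z
  have h0 : pullAt F ((EtCoh.bc f).obj V) (fibLift sq V v) (fibLift_hom sq V v) s.1 = 0 :=
    (shriekToFibreSec_gm sq V v s).symm.trans he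
  have hs := (mem_shriekSubgroup_iff f F s.1).mp s.2
  have hv : fiberPt v ∉ EtShriek.prV f V '' EtShriek.sectSupp F _ s.1 := by
    rintro ⟨b, hb, hbv⟩
    obtain ⟨y, rfl⟩ := mem_range_fibLift sq V v b hbv
    have := (mem_sectSupp_pullAt F _ (fibLift sq V v) (fibLift_hom sq V v) s.1 y).2 hb
    rw [h0] at this
    exact notMem_sectSupp_zero _ _ _ this
  obtain ⟨V₀, i, v₀, -, hv₀, hC⟩ := exists_shrink V v _ (IsProperOver.isClosed_image hs) hv
  rw [← hv₀]
  refine (gm_map _ η i v₀ _).symm.trans ?_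
  rw [toShriek_map]
  have hz : (EtShriek.lowerShriekPre f F).map i.op s = 0 := by
    refine Subtype.ext ?_
    change F.obj.map ((EtCoh.bc f).map i).op s.1 = 0
    refine eq_zero_of_sectSupp_eq_empty F _ _ (Set.eq_empty_iff_forall_notMem.2 fun z hz => ?_)
    have h1 := (mem_sectSupp_map F ((EtCoh.bc f).map i) s.1 z).1 hz
    exact hC (EtShriek.prV f V₀ z) ⟨_, h1, congrArg (fun k => k z) (EtCoh.isPullback_bc_map f i).w⟩
  exact (congrArg (gm _ η V₀ v₀) ((congrArg (toShriek f F V₀) hz).trans (map_zero _))).trans (map_zero _)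

/-- The image of the stalk of `f_!` consists of the sections with proper support. -/
theorem range_shriekToFibreSec :
    Set.range (shriekToFibreSec f F sq) = {σ : gSec q F | ClSub.IsProperOver p (gSupp σ)} := by
  ext σ
  constructor
  · rintro ⟨e, rfl⟩
    obtain ⟨V, v, z, rfl⟩ := (Scheme.pointSmallEtale η).toPresheafFiber_jointly_surjective
      (P := ((EtShriek.lowerShriek f).obj F).obj) e
    obtain ⟨s, rfl⟩ := (toShriek_bijective f F V).2 z
    exact (shriekToFibreSec_gm sq V v s).symm ▸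
      isProperOver_gSupp_pullAt sq V v s.1 ((mem_shriekSubgroup_iff f F s.1).mp s.2)
  · intro hσ
    obtain ⟨V, v, τ, hτ, he⟩ := spreadsSupp_of_isSeparated f F Ω η T q p sq σ hσ
    obtain ⟨t, ht⟩ := exists_pullAt_id ((EtCoh.bc f).obj V) τ
    have hsupp : gSupp τ = EtShriek.sectSupp F _ t := by
      rw [← ht]
      exact Set.ext fun y => mem_sectSupp_pullAt F _ _ (Category.id_comp _) t y
    have hts : t ∈ EtShriek.shriekSubgroup f F V :=
      (mem_shriekSubgroup_iff f F t).mpr (show ClSub.IsProperOver _ _ from hsupp ▸ hτ)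
    refine ⟨gm _ η V v (toShriek f F V ⟨t, hts⟩), (shriekToFibreSec_gm sq V v ⟨t, hts⟩).trans ?_⟩
    rw [← he, ← ht]
    exact ((pullSec_pullAt (fibLift sq V v) _ F (fibLift_hom sq V v) _ (𝟙 _) (Category.id_comp _) t).trans
      (pullAt_congr F (Category.comp_id _) t)).symm

end Groth.Agent.Et18.H0Lift
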