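import Groth.Agent.Et18.H0Lift.EffectiveLocal

/-!
# Compatible sections from consistent slices
-/

set_option autoImplicit false
set_option backward.isDefEq.respectTransparency.types false
set_option backward.isDefEq.respectTransparency false

universe u

open CategoryTheory CategoryTheory.Limits AlgebraicGeometry Opposite

namespace Groth.Agent.Et18.H0Lift

variable {T X : Scheme.{u}} {f : T ⟶ X} {F' : EtDesc.Sh T}
  (φ : (EtDesc.pullSh (pullback.fst f f)).obj F' ≅ (EtDesc.pullSh (pullback.snd f f)).obj F')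

set_option maxHeartbeats 1000000 in
/-- A section over a consistent slice extends to a compatible section near any geometric point below it. -/
theorem exists_compatSec_of_slice (hφ : EtDesc.IsCocycle F' φ) {V : X.Etale} {S : Scheme.{u}} (W : T.Etale)
    (sW : S ⟶ W.left) (q₀ : S ⟶ V.left) [UniversallyOpen q₀] (hq₀ : q₀ ≫ V.hom = (sW ≫ W.hom) ≫ f)
    (t : EtDesc.sect F' W)
    (hcons : ∀ (K : Type u) [Field K] [IsSepClosed K] (ξ₁ ξ₂ : Spec (CommRingCat.of K) ⟶ T)
      (w₁ : (Scheme.pointSmallEtale ξ₁).fiber.obj W) (w₂ : (Scheme.pointSmallEtale ξ₂).fiber.obj W)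
      (l₁ l₂ : Spec (CommRingCat.of K) ⟶ S), l₁ ≫ sW = w₁.left → l₂ ≫ sW = w₂.left →
      l₁ ≫ q₀ = l₂ ≫ q₀ → DRel φ ξ₁ ξ₂ (gmS F' ξ₁ W w₁ t) (gmS F' ξ₂ W w₂ t))
    {Ω : Type u} [Field Ω] [IsSepClosed Ω] {η₀ : Spec (CommRingCat.of Ω) ⟶ X}
    (l₀ : Spec (CommRingCat.of Ω) ⟶ S) (hl₀ : (l₀ ≫ q₀) ≫ V.hom = η₀) :
    ∃ (U : X.Etale) (σ : EtDesc.sect F' ((EtCoh.bc f).obj U))
      (u₀ : (Scheme.pointSmallEtale η₀).fiber.obj U),
      CompatSec φ U σ ∧ ∀ (ξ₀ : FibrePts f η₀) (ξ' : Spec (CommRingCat.of Ω) ⟶ T)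
        (w₀ : (Scheme.pointSmallEtale ξ').fiber.obj W), l₀ ≫ sW = w₀.left →
        DRel φ ξ₀.1 ξ' (gmS F' ξ₀.1 _ (bcLift f _ ξ₀ U u₀) σ) (gmS F' ξ' W w₀ t) := by
  let B := (EtCoh.bc f).obj V
  have hBf : EtShriek.prV f V ≫ V.hom = B.hom ≫ f := pullback.condition
  let V₀ : V.left.Opens := ⟨Set.range q₀, q₀.isOpenMap.isOpen_range⟩
  let U := etalePiece V V₀
  let a : U ⟶ V := etalePieceHom V V₀
  let B₁ := (EtCoh.bc f).obj U
  let m : B₁.left ⟶ V.left := ((EtCoh.bc f).map a).left ≫ EtShriek.prV f V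
  have hm : m ≫ V.hom = B₁.hom ≫ f := by
    rw [Category.assoc, hBf, ← Category.assoc,
      show ((EtCoh.bc f).map a).left ≫ B.hom = B₁.hom from Over.w ((EtCoh.bc f).map a).hom]
  have hmr : ∀ z, m z ∈ Set.range q₀ := fun z => by
    change (((EtCoh.bc f).map a).left ≫ EtShriek.prV f V) z ∈ _
    rw [(EtCoh.isPullback_bc_map f a).w]
    exact (EtShriek.prV f U z).2
  -- local pieces
  have hloc : ∀ z : B₁.left, ∃ (Wz : T.Etale) (i : Wz ⟶ B₁) (tz : EtDesc.sect F' Wz),
      z ∈ Set.range i.left ∧ ∀ (K : Type u) [Field K] [IsSepClosed K] (ξ ξ' : Spec (CommRingCat.of K) ⟶ T)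
        (y : (Scheme.pointSmallEtale ξ).fiber.obj Wz) (w : (Scheme.pointSmallEtale ξ').fiber.obj W)
        (k : Spec (CommRingCat.of K) ⟶ S), k ≫ sW = w.left →
        (y.left : _ ⟶ Wz.left) ≫ i.left ≫ m = k ≫ q₀ →
          DRel φ ξ ξ' (gmS F' ξ Wz y tz) (gmS F' ξ' W w t) := by
    intro z
    obtain ⟨w₁, hw₁⟩ := hmr z
    obtain ⟨c, hc₁, hc₂⟩ := Scheme.Pullback.exists_preimage_pullback (f := m) (g := q₀) z w₁ hw₁.symm
    let l := algPoint _ c
    let lz := l ≫ pullback.fst m q₀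
    let lS := l ≫ pullback.snd m q₀
    let lw := lS ≫ sW
    have hlq : lz ≫ m = lS ≫ q₀ := by simp only [lz, lS, Category.assoc, pullback.condition]
    let ξz := lz ≫ B₁.hom
    let ξw := lw ≫ W.hom
    have hξ : ξw ≫ f = ξz ≫ f := by
      simp only [ξz, ξw, lw, Category.assoc, ← hm]
      rw [show sW ≫ W.hom ≫ f = q₀ ≫ V.hom from (Category.assoc _ _ _).symm.trans hq₀.symm]
      exact ((Category.assoc _ _ _).symm.trans (congrArg (· ≫ V.hom) hlq.symm)).trans (Category.assoc _ _ _)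
    obtain ⟨gz, hgz⟩ := DRel.exists_right (φ := φ) hξ
      (gmS F' ξw W (Over.homMk lw rfl) t)
    obtain ⟨W', w', t', ht'⟩ := (Scheme.pointSmallEtale ξz).toPresheafFiber_jointly_surjective (P := F'.obj) gz
    let α := (EtCore.topIsTerminal T).from B₁
    let β := (EtCore.topIsTerminal T).from W'
    let W'' := pairObj α β
    let pf : W'' ⟶ B₁ := pairFst α β
    let t'' := F'.obj.map (pairSnd α β).op t'
    have hαβ : lz ≫ α.left = (w'.left : _ ⟶ W'.left) ≫ β.left := by
      have : IsIso (EtCoh.top T).hom := inferInstanceAs (IsIso (𝟙 _))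
      refine (cancel_mono (EtCoh.top T).hom).1 ((Category.assoc _ _ _).trans ((congrArg (lz ≫ ·)
        (Over.w α.hom)).trans ((Over.w w').symm.trans ((congrArg (_ ≫ ·) (Over.w β.hom)).symm.trans
          (Category.assoc _ _ _).symm))))
    let w'' : (Scheme.pointSmallEtale ξz).fiber.obj W'' := Over.homMk (pullback.lift lz w'.left hαβ) (by
      change pullback.lift lz _ _ ≫ pullback.fst α.left β.left ≫ B₁.hom = ξz
      rw [pullback.lift_fst_assoc])
    have ht'' : gmS F' ξz W'' w'' t'' = gz := by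
      refine (gmS_map F' ξz (pairSnd α β) w'' t').trans (Eq.trans ?_ ht')
      exact congrArg (fun k => gmS F' ξz W' k t') (Over.OverMorphism.ext (pullback.lift_snd _ _ _))
    obtain ⟨E, hE, hEiff⟩ := exists_drel_locus φ W'' W t'' t
    let R := pullback (pf.left ≫ m) q₀
    have hpf : pf.left ≫ B₁.hom = W''.hom := Over.w pf.hom
    let r : R ⟶ pullback (W''.hom ≫ f) (W.hom ≫ f) := pullback.lift (pullback.fst _ _) (pullback.snd _ _ ≫ sW) (by
      rw [Category.assoc, ← Category.assoc sW, ← hq₀, ← pullback.condition_assoc, ← hpf, Category.assoc, ← hm]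
      simp only [m, Category.assoc])
    have : UniversallyOpen (pullback.fst (pf.left ≫ m) q₀) :=
      MorphismProperty.pullback_fst (P := @UniversallyOpen) _ _ inferInstance
    let O : W''.left.Opens :=
      ⟨pullback.fst (pf.left ≫ m) q₀ '' (r ⁻¹' E), (pullback.fst (pf.left ≫ m) q₀).isOpenMap _
        (hE.preimage r.continuous)⟩
    let ι := etalePieceHom W'' O
    refine ⟨etalePiece W'' O, ι ≫ pf, F'.obj.map ι.op t'', ?_, fun K _ _ ξ ξ' y w wS hwS hy => ?_⟩
    · let wl'' : Spec (CommRingCat.of _) ⟶ W''.left := pullback.lift lz w'.left hαβ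
      let l₀ := pullback.lift (f := pf.left ≫ m) (g := q₀) wl'' lS (by
        change pullback.lift lz _ _ ≫ pullback.fst α.left β.left ≫ m = _
        rw [pullback.lift_fst_assoc, hlq])
      have h0 : (l₀ ≫ r) default ∈ E := by
        refine (hEiff _ ξz ξw w'' (Over.homMk lw rfl) (l₀ ≫ r) ?_ ?_).2 ?_
        · rw [Category.assoc, pullback.lift_fst, pullback.lift_fst]; rfl
        · rw [Category.assoc, pullback.lift_snd, ← Category.assoc, pullback.lift_snd]; rfl
        · rw [ht'']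
          exact hgz.symm hφ
      have hm0 : fiberPt w'' ∈ O :=
        ⟨l₀ default, h0, congrArg (fun k : Spec (CommRingCat.of _) ⟶ W''.left => k default)
          (pullback.lift_fst _ _ _)⟩
      refine ⟨⟨fiberPt w'', hm0⟩, ?_⟩
      change pf.left (fiberPt w'') = z
      refine (congrArg (fun k : _ ⟶ B₁.left => k default) (pullback.lift_fst _ _ _)).trans ?_
      change (l ≫ pullback.fst m q₀) default = z
      rw [Scheme.Hom.comp_apply, algPoint_default]; exact hc₁
    · let yl : Spec (CommRingCat.of K) ⟶ W''.left := (y.left : _ ⟶ (etalePiece W'' O).left) ≫ O.ι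
      let wl : Spec (CommRingCat.of K) ⟶ W.left := w.left
      let yO : Spec (CommRingCat.of K) ⟶ (etalePiece W'' O).left := y.left
      have hy' : yl ≫ pf.left ≫ m = wS ≫ q₀ := by
        refine Eq.trans ?_ hy
        refine (Category.assoc _ _ _).trans (congrArg (yO ≫ ·) ?_)
        exact (Category.assoc _ _ _).symm
      let l₁ : Spec (CommRingCat.of K) ⟶ R := pullback.lift yl wS hy'
      obtain ⟨rr, hrr, hrr'⟩ := (yO default).2
      obtain ⟨c', hc', -⟩ := Scheme.Pullback.exists_preimage_pullback (f := pullback.fst (pf.left ≫ m) q₀)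
        (g := yl) rr default hrr'
      let l₂ := algPoint _ c' ≫ pullback.fst (pullback.fst (pf.left ≫ m) q₀) yl
      obtain ⟨i, hi⟩ := Spec.map_surjective (algPoint _ c' ≫ pullback.snd (pullback.fst (pf.left ≫ m) q₀) yl)
      have h₂ : l₂ ≫ pullback.fst (pf.left ≫ m) q₀ = Spec.map i ≫ yl := by
        rw [hi, Category.assoc, Category.assoc, pullback.condition]
      let y₂ : (Scheme.pointSmallEtale (Spec.map i ≫ ξ)).fiber.obj W'' := Over.homMk (Spec.map i ≫ yl)
        ((Category.assoc _ _ _).trans (congrArg (_ ≫ ·) ((Category.assoc _ _ _).trans (Over.w y))))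
      let wsS := l₂ ≫ pullback.snd (pf.left ≫ m) q₀
      let ws := wsS ≫ sW
      let wK : (Scheme.pointSmallEtale (Spec.map i ≫ ξ')).fiber.obj W := Over.homMk (Spec.map i ≫ wl)
        ((Category.assoc _ _ _).trans (congrArg (_ ≫ ·) (Over.w w)))
      have hws : wsS ≫ q₀ = (Spec.map i ≫ wS) ≫ q₀ := by
        simp only [wsS, Category.assoc, ← pullback.condition]
        rw [reassoc_of% h₂, hy']
      have h0 : (l₂ ≫ r) default ∈ E := by
        rw [Scheme.Hom.comp_apply, Scheme.Hom.comp_apply, algPoint_default, hc']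
        exact hrr
      have d₁ := (hEiff _ (Spec.map i ≫ ξ) (ws ≫ W.hom) y₂ (Over.homMk ws rfl) (l₂ ≫ r)
        (by rw [Category.assoc, pullback.lift_fst, h₂]; rfl)
        (by rw [Category.assoc, pullback.lift_snd]; rfl)).1 h0
      have d₂ := d₁.trans hφ (hcons _ (ws ≫ W.hom) (Spec.map i ≫ ξ') (Over.homMk ws rfl) wK wsS (Spec.map i ≫ wS)
        rfl ((Category.assoc _ _ _).trans (congrArg (Spec.map i ≫ ·) hwS)) hws)
      have h1 := (hEiff _ _ _ y₂ wK ((Spec.map i ≫ l₁) ≫ r)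
        (by simp only [Category.assoc, r, l₁, pullback.lift_fst]; rfl)
        (by
          simp only [Category.assoc, r, l₁, pullback.lift_snd, pullback.lift_snd_assoc]
          exact congrArg (Spec.map i ≫ ·) hwS)).2 d₂
      have h1' : (l₁ ≫ r) default ∈ E := by
        rw [Category.assoc, Scheme.Hom.comp_apply] at h1
        exact Subsingleton.elim (Spec.map i default) default ▸ h1
      have d := (hEiff _ ξ ξ' ((Scheme.pointSmallEtale ξ).fiber.map ι y) w (l₁ ≫ r)
        (by simp only [Category.assoc, r, l₁, pullback.lift_fst]; rfl)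
        (by
          simp only [Category.assoc, r, l₁, pullback.lift_snd, pullback.lift_snd_assoc]
          exact hwS)).1 h1'
      rw [gmS_map]
      exact d
  choose Wz iz tz hcov hrel using hloc
  -- gluing
  obtain ⟨σ, hσ⟩ := exists_glue_coverSh F' B₁ (fun z : ULift.{u + 1} B₁.left => Wz z.down)
    (fun z => iz z.down) (fun z => ⟨⟨z⟩, hcov z⟩) (fun z => tz z.down) (fun k j R gk gj he => by
      refine eq_of_gmS F' R _ _ fun x => ?_
      let n : R.left ⟶ V.left := gk.left ≫ (iz k.down).left ≫ m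
      obtain ⟨w₁, hw₁⟩ := hmr ((iz k.down).left (gk.left x))
      obtain ⟨c, hc, -⟩ := Scheme.Pullback.exists_preimage_pullback (f := n) (g := q₀) x w₁
        (by rw [hw₁]; rfl)
      let lx := algPoint _ c ≫ pullback.fst n q₀
      let lS := algPoint _ c ≫ pullback.snd n q₀
      let lw := lS ≫ sW
      let y : (Scheme.pointSmallEtale (lx ≫ R.hom)).fiber.obj R := Over.homMk lx rfl
      refine ⟨_, inferInstance, inferInstance, lx ≫ R.hom, y, ?_, ?_⟩
      · change (algPoint _ c ≫ pullback.fst n q₀) default = x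
        rw [Scheme.Hom.comp_apply, algPoint_default]; exact hc
      · rw [gmS_map, gmS_map]
        have e : lx ≫ n = lS ≫ q₀ := by simp only [lx, lS, Category.assoc, pullback.condition]
        have he' : gk.left ≫ (iz k.down).left = gj.left ≫ (iz j.down).left :=
          congrArg (fun h : R ⟶ B₁ => h.left) he
        refine DRel.unique_left (hrel k.down _ _ (lw ≫ W.hom) _ (Over.homMk lw rfl) lS rfl ?_)
          (hrel j.down _ _ (lw ≫ W.hom) _ (Over.homMk lw rfl) lS rfl ?_)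
        · change (lx ≫ gk.left) ≫ (iz k.down).left ≫ m = lS ≫ q₀
          rw [Category.assoc]; exact e
        · change (lx ≫ gj.left) ≫ (iz j.down).left ≫ m = lS ≫ q₀
          rw [Category.assoc, ← reassoc_of% he']; exact e)
  have hpiece : ∀ (K : Type u) [Field K] [IsSepClosed K] (ξ ξ' : Spec (CommRingCat.of K) ⟶ T)
      (b : (Scheme.pointSmallEtale ξ).fiber.obj B₁) (w : (Scheme.pointSmallEtale ξ').fiber.obj W)
      (wS : Spec (CommRingCat.of K) ⟶ S), wS ≫ sW = w.left →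
      (b.left : _ ⟶ B₁.left) ≫ m = wS ≫ q₀ →
        DRel φ ξ ξ' (gmS F' ξ B₁ b σ) (gmS F' ξ' W w t) := by
    intro K _ _ ξ ξ' b w wS hwS hb
    let z := fiberPt b
    have : Etale (iz z).left := etale_map_left (iz z)
    obtain ⟨x, hx⟩ := hcov z
    obtain ⟨l, hl, -⟩ := Scheme.exists_fac_of_etale_of_isSepClosed (iz z).left (b.left : _ ⟶ B₁.left) x hx
    have hlW : l ≫ (Wz z).hom = ξ := by
      rw [show (Wz z).hom = (iz z).left ≫ B₁.hom from (Over.w (iz z).hom).symm, ← Category.assoc, hl]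
      exact Over.w b
    let y : (Scheme.pointSmallEtale ξ).fiber.obj (Wz z) := Over.homMk l hlW
    have e : (Scheme.pointSmallEtale ξ).fiber.map (iz z) y = b := Over.OverMorphism.ext hl
    rw [← e, ← gmS_map, hσ ⟨z⟩]
    refine hrel z K ξ ξ' y w wS hwS ?_
    change l ≫ (iz z).left ≫ m = _
    rw [reassoc_of% hl]; exact hb
  let v₀ : (Scheme.pointSmallEtale η₀).fiber.obj V := Over.homMk (l₀ ≫ q₀) hl₀
  have hvq : l₀ ≫ q₀ = (v₀.left : _ ⟶ V.left) := rfl
  obtain ⟨l, hl⟩ : ∃ l : Spec (CommRingCat.of Ω) ⟶ (V₀ : Scheme.{u}), l ≫ V₀.ι = v₀.left := by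
    refine ⟨IsOpenImmersion.lift V₀.ι v₀.left ?_, IsOpenImmersion.lift_fac _ _ _⟩
    rintro _ ⟨b, rfl⟩
    rw [Scheme.Opens.range_ι, ← hvq]
    exact ⟨_, (Scheme.Hom.comp_apply _ _ _).symm⟩
  let u₀ : (Scheme.pointSmallEtale η₀).fiber.obj U :=
    Over.homMk l ((Category.assoc _ _ _).symm.trans ((congrArg (· ≫ V.hom) hl).trans (Over.w v₀)))
  have hmv : ∀ {K : Type u} [Field K] [IsSepClosed K] {η : Spec (CommRingCat.of K) ⟶ X}
      (ξ : FibrePts f η) (v : (Scheme.pointSmallEtale η).fiber.obj U),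
      (bcLift f η ξ U v).left ≫ m = (v.left : _ ⟶ U.left) ≫ V₀.ι := by
    intro K _ _ η ξ v
    refine (congrArg ((bcLift f η ξ U v).left ≫ ·) (EtCoh.isPullback_bc_map f a).w).trans ?_
    exact (Category.assoc _ _ _).symm.trans (congrArg (· ≫ V₀.ι) (pullback.lift_fst _ _ _))
  refine ⟨U, σ, u₀, fun K _ _ η v ξ₁ ξ₂ => ?_, ?_⟩
  · let b₁ := bcLift f η ξ₁ U v
    let b₂ := bcLift f η ξ₂ U v
    let vl : Spec (CommRingCat.of K) ⟶ (V₀ : Scheme.{u}) := v.left
    obtain ⟨w₁, hw₁⟩ := (vl default).2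
    obtain ⟨c, -, -⟩ := Scheme.Pullback.exists_preimage_pullback (f := vl ≫ V₀.ι) (g := q₀) default w₁ hw₁.symm
    obtain ⟨i, hi⟩ := Spec.map_surjective (algPoint _ c ≫ pullback.fst (vl ≫ V₀.ι) q₀)
    let lS := algPoint _ c ≫ pullback.snd (vl ≫ V₀.ι) q₀
    let lw := lS ≫ sW
    have hlw : Spec.map i ≫ vl ≫ V₀.ι = lS ≫ q₀ := by
      rw [hi]; simp only [lS, Category.assoc, pullback.condition]
    let e₁ : (Scheme.pointSmallEtale (Spec.map i ≫ ξ₁.1)).fiber.obj B₁ := Over.homMk (Spec.map i ≫ b₁.left)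
      ((Category.assoc _ _ _).trans (congrArg (_ ≫ ·) (Over.w b₁)))
    let e₂ : (Scheme.pointSmallEtale (Spec.map i ≫ ξ₂.1)).fiber.obj B₁ := Over.homMk (Spec.map i ≫ b₂.left)
      ((Category.assoc _ _ _).trans (congrArg (_ ≫ ·) (Over.w b₂)))
    have d₁ := hpiece _ _ (lw ≫ W.hom) e₁ (Over.homMk lw rfl) lS rfl
      ((Category.assoc _ _ _).trans ((congrArg (_ ≫ ·) (hmv ξ₁ v)).trans hlw))
    have d₂ := hpiece _ _ (lw ≫ W.hom) e₂ (Over.homMk lw rfl) lS rfl
      ((Category.assoc _ _ _).trans ((congrArg (_ ≫ ·) (hmv ξ₂ v)).trans hlw))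
    obtain ⟨E, -, hE⟩ := exists_drel_locus φ B₁ B₁ σ σ
    let L : Spec (CommRingCat.of K) ⟶ pullback (B₁.hom ≫ f) (B₁.hom ≫ f) :=
      pullback.lift b₁.left b₂.left (by
        rw [← Category.assoc, ← Category.assoc, show b₁.left ≫ B₁.hom = ξ₁.1 from Over.w b₁,
          show b₂.left ≫ B₁.hom = ξ₂.1 from Over.w b₂]
        exact ξ₁.2.trans ξ₂.2.symm)
    have h1 := (hE _ _ _ e₁ e₂ (Spec.map i ≫ L) (by rw [Category.assoc, pullback.lift_fst]; rfl)
      (by rw [Category.assoc, pullback.lift_snd]; rfl)).2 (d₁.trans hφ (d₂.symm hφ))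
    refine (hE _ _ _ b₁ b₂ L (pullback.lift_fst _ _ _) (pullback.lift_snd _ _ _)).1 ?_
    rw [Scheme.Hom.comp_apply] at h1
    exact Subsingleton.elim (Spec.map i default) default ▸ h1
  · exact fun ξ₀' ξ' w₀ hw₀ => hpiece Ω ξ₀'.1 ξ' _ w₀ l₀ hw₀ ((hmv ξ₀' u₀).trans (hl.trans hvq.symm))

end Groth.Agent.Et18.H0Lift
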