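import Groth.Agent.Et18.H0Lift.BaseChangeRed
import Groth.Agent.Et18.H0Lift.BaseChangeSets
import Groth.Agent.AlgSpLib.EtaleAscend

/-!
# Smooth base change in degree zero
-/

set_option autoImplicit false
set_option backward.isDefEq.respectTransparency.types false
set_option backward.isDefEq.respectTransparency false

universe u

open CategoryTheory CategoryTheory.Limits AlgebraicGeometry Opposite

namespace Groth.Agent.Et18.H0Lift

theorem geomRedFibres_of_smooth {X S : Scheme.{u}} (f : X ⟶ S) [Smooth f] : GeomRedFibres f := by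
  intro K _ k
  exact AlgSpLib.isReduced_of_smooth' (pullback.snd f k)

/-- Smooth base change in degree zero. -/
theorem isIso_baseChange0_of_smooth {X S Y T : Scheme.{u}} (f : X ⟶ S) [Smooth f]
    (g : T ⟶ S) (h : Y ⟶ X) (e : Y ⟶ T) (hc : IsPullback e h g f) (F : EtCoh.Ab T) :
    IsIso (EtCoh.baseChange0 g f h e hc.w F) :=
  isIso_baseChange0_of_geomRed f g h e hc F (geomRedFibres_of_smooth f)

end Groth.Agent.Et18.H0Lift
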