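import Groth.Agent.Et18.H0Lift.SpreadCompact
import Groth.Agent.Et18.ProperClopen.Compactify
import Mathlib.AlgebraicGeometry.ZariskisMainTheorem

/-!
# Compactifications after a proper surjective modification
-/

set_option autoImplicit false
set_option backward.isDefEq.respectTransparency.types false
set_option backward.isDefEq.respectTransparency false

universe u

open CategoryTheory CategoryTheory.Limits AlgebraicGeometry Opposite

namespace Groth.Agent.Et18.H0Lift

/-- An integral morphism followed by a proper one satisfies the couple condition. -/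
theorem isCoupleHom_comp {X P Y : Scheme.{u}} (a : X ⟶ P) (b : P ⟶ Y) [IsIntegralHom a] [IsProper b] :
    IsCoupleHom (a ≫ b) where
  toUniversallyClosed := inferInstance
  quasiCompact := inferInstance
  quasiSeparated := inferInstance
  couple A _ I _ s := by
    obtain ⟨h, hint, hh⟩ : ∃ h : pullback (a ≫ b) s ⟶ pullback b s, IsIntegralHom h ∧
        h ≫ pullback.snd b s = pullback.snd (a ≫ b) s := by
      refine ⟨pullback.lift (pullback.fst (a ≫ b) s ≫ a) (pullback.snd (a ≫ b) s)
        (by rw [Category.assoc, pullback.condition]), ?_, pullback.lift_snd _ _ _⟩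
      have sqh : IsPullback (pullback.fst (a ≫ b) s) (pullback.lift (pullback.fst (a ≫ b) s ≫ a)
          (pullback.snd (a ≫ b) s) (by rw [Category.assoc, pullback.condition])) a (pullback.fst b s) := by
        refine IsPullback.of_bot ?_ (pullback.lift_fst _ _ _).symm (IsPullback.of_hasPullback b s)
        rw [pullback.lift_snd]
        exact IsPullback.of_hasPullback _ _
      exact MorphismProperty.of_isPullback (P := @IsIntegralHom) sqh inferInstance
    have : IsProper (pullback.snd b s) := MorphismProperty.pullback_snd (P := @IsProper) b s inferInstance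
    have : CompactSpace ↥(pullback b s) := QuasiCompact.compactSpace_of_compactSpace (pullback.snd b s)
    have : QuasiSeparatedSpace ↥(pullback b s) := quasiSeparatedSpace_of_quasiSeparated (pullback.snd b s)
    have h0 := isConnectedCouple_of_proper I (pullback.snd b s)
    rw [show (⇑(pullback.snd (a ≫ b) s) : _ → _) = pullback.snd b s ∘ h by
      rw [← hh]; exact funext (Scheme.Hom.comp_apply _ _)]
    exact
      { isClosed := h0.isClosed.preimage h.continuous
        meets := fun C hC hne => by
          obtain ⟨p, ⟨x, hx, rfl⟩, hp⟩ := h0.meets (h '' C) (h.isClosedMap _ hC) (hne.image h)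
          exact ⟨x, hx, hp⟩
        preconnected := fun W g _ _ => h0.preconnected_of_integral (g ≫ h) }

/-- A finite disjoint union of proper morphisms is proper. -/
theorem isProper_sigmaDesc {ι : Type u} [Finite ι] {Y : ι → Scheme.{u}} {S : Scheme.{u}} (s : ∀ i, Y i ⟶ S)
    [∀ i, IsProper (s i)] : IsProper (Sigma.desc s) := by
  classical
  have : LocallyOfFiniteType (Sigma.desc s) :=
    IsZariskiLocalAtSource.sigmaDesc (P := @LocallyOfFiniteType) fun i => inferInstance
  let R : ι → Set (∐ Y : Scheme.{u}) := fun i => Set.range (Sigma.ι Y i)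
  have hcov : ∀ z, ∃ i, z ∈ R i := fun z => ⟨_, ((sigmaMk Y).symm z).2,
    (sigmaMk_mk Y _ _).symm.trans ((sigmaMk Y).apply_symm_apply z)⟩
  have hR : ∀ i, IsClosed (R i) := by
    intro i
    have : (R i)ᶜ = ⋃ (j : ι) (_ : j ≠ i), R j := by
      ext z
      simp only [Set.mem_compl_iff, Set.mem_iUnion]
      constructor
      · intro hz
        obtain ⟨j, hj⟩ := hcov z
        exact ⟨j, fun h => hz (h ▸ hj), hj⟩
      · rintro ⟨j, hji, x, rfl⟩ ⟨y, hy⟩
        exact hji (congrArg Sigma.fst ((sigmaι_eq_iff Y i j y x).1 hy)).symm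
    exact isOpen_compl_iff.1 (this ▸ isOpen_biUnion fun j _ => (Sigma.ι Y j).isOpenEmbedding.isOpen_range)
  have hpc : ∀ i, ClSub.IsProperOver (Sigma.desc s) (R i) := fun i => by
    have : IsClosedImmersion (Sigma.ι Y i) := IsClosedImmersion.of_isPreimmersion _ (hR i)
    have : IsProper (Sigma.ι Y i ≫ Sigma.desc s) := by rw [Sigma.ι_desc]; infer_instance
    exact isProperOver_of_isClosedImmersion (Sigma.desc s) (Sigma.ι Y i)
  have key : ∀ t : Finset ι, ClSub.IsProperOver (Sigma.desc s) (⋃ i ∈ t, R i) := by
    intro t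
    induction t using Finset.induction_on with
    | empty => simpa using isProperOver_empty (Sigma.desc s)
    | insert i t hi ih =>
      rw [Finset.set_biUnion_insert]
      exact IsProperOver.union (hpc i) ih
  cases nonempty_fintype ι
  obtain ⟨hc, hp⟩ : ClSub.IsProperOver (Sigma.desc s) (Set.univ : Set (∐ Y : Scheme.{u})) := by
    have : (⋃ i ∈ (Finset.univ : Finset ι), R i) = Set.univ :=
      Set.eq_univ_iff_forall.2 fun z => by simpa using hcov z
    exact this ▸ key Finset.univ
  let e := (redSub (Set.univ : Set (∐ Y : Scheme.{u})) hc).subschemeι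
  have hr : Set.range e ∪ Set.range e = Set.univ := by rw [Set.union_self, range_redSub]
  have : IsProper (e ≫ Sigma.desc s) := hp
  have : UniversallyClosed (Sigma.desc s) := universallyClosed_of_covers e e _ hr
  have : IsSeparated (Sigma.desc s) := isSeparated_of_covers e e _ hr
  exact {}

/-- Over an affine base, a separated scheme of finite type is properly dominated by an open subscheme of a
scheme satisfying the couple condition over the base. -/
theorem exists_compactified_cover {A : Type u} [CommRing A] {U : Scheme.{u}} (g : U ⟶ Spec (CommRingCat.of A))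
    [IsSeparated g] [LocallyOfFiniteType g] [QuasiCompact g] :
    ∃ (X' P : Scheme.{u}) (π : X' ⟶ U) (j : X' ⟶ P) (pb : P ⟶ Spec (CommRingCat.of A)),
      IsProper π ∧ Surjective π ∧ IsOpenImmersion j ∧ IsSeparated pb ∧ IsCoupleHom pb ∧ j ≫ pb = π ≫ g := by
  classical
  obtain ⟨κ, _, M, hM, E, hE, hinj, hcov⟩ := ProperClopen.exists_chow_cover g
  let κ' := ULift.{u} κ
  let Q : κ' → Scheme.{u} := fun s => pullback g (ProperClopen.gA A (M s.down))
  let E' : ∀ s : κ', Scheme.{u} := fun s => (redSub (E s.down) (hE _)).subscheme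
  let ιE : ∀ s : κ', E' s ⟶ Q s := fun s => (redSub (E s.down) (hE _)).subschemeι
  let P₀ : κ' → Scheme.{u} := fun s => ProperClopen.MA A (M s.down)
  have : ∀ s : κ', IsProper (ProperClopen.gA A (M s.down)) := fun s => by
    have := hM s.down
    exact MorphismProperty.pullback_snd (P := @IsProper) _ _ inferInstance
  let pP : (∐ P₀) ⟶ Spec (CommRingCat.of A) := Sigma.desc fun s => ProperClopen.gA A (M s.down)
  have : IsProper pP := isProper_sigmaDesc _
  let π : (∐ E') ⟶ U := Sigma.desc fun s => ιE s ≫ pullback.fst g (ProperClopen.gA A (M s.down))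
  let r : (∐ E') ⟶ ∐ P₀ := Sigma.desc fun s => (ιE s ≫ pullback.snd g (ProperClopen.gA A (M s.down))) ≫ Sigma.ι P₀ s
  have : ∀ s : κ', IsProper (ιE s ≫ pullback.fst g (ProperClopen.gA A (M s.down))) := fun s => by
    have : IsProper (pullback.fst g (ProperClopen.gA A (M s.down))) :=
      MorphismProperty.pullback_fst (P := @IsProper) _ _ inferInstance
    infer_instance
  have hπ : IsProper π := isProper_sigmaDesc _
  have hπr : π ≫ g = r ≫ pP := by
    refine Sigma.hom_ext _ _ fun s => ?_
    simp only [π, r, pP, Sigma.ι_desc_assoc, Category.assoc, Sigma.ι_desc, pullback.condition]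
  have hπs : Surjective π := ⟨fun x => by
    obtain ⟨s, z, hz, rfl⟩ := hcov x
    obtain ⟨w, hw⟩ := (range_redSub (E s) (hE s)).symm ▸ hz
    refine ⟨Sigma.ι E' ⟨s⟩ w, ?_⟩
    rw [← Scheme.Hom.comp_apply, Sigma.ι_desc, Scheme.Hom.comp_apply]
    exact congrArg _ hw⟩
  have : IsSeparated (r ≫ pP) := by rw [← hπr]; infer_instance
  have : LocallyOfFiniteType (r ≫ pP) := by rw [← hπr]; infer_instance
  have : QuasiCompact (r ≫ pP) := by rw [← hπr]; infer_instance
  have : IsSeparated r := IsSeparated.of_comp r pP
  have : LocallyOfFiniteType r := locallyOfFiniteType_of_comp r pP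
  have : QuasiCompact r := QuasiCompact.of_comp r pP
  have hrinj : Function.Injective r := by
    intro a b hab
    obtain ⟨⟨i, x⟩, rfl⟩ := (sigmaMk E').surjective a
    obtain ⟨⟨k, y⟩, rfl⟩ := (sigmaMk E').surjective b
    rw [sigmaMk_mk, sigmaMk_mk, ← Scheme.Hom.comp_apply, ← Scheme.Hom.comp_apply, Sigma.ι_desc, Sigma.ι_desc,
      Scheme.Hom.comp_apply _ (Sigma.ι P₀ i), Scheme.Hom.comp_apply _ (Sigma.ι P₀ k)] at hab
    obtain ⟨rfl, hxy⟩ := Sigma.mk.inj_iff.1 ((sigmaι_eq_iff P₀ i k _ _).1 hab)
    have h1 := eq_of_heq hxy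
    rw [Scheme.Hom.comp_apply, Scheme.Hom.comp_apply] at h1
    have hE' : ∀ w, ιE i w ∈ E i.down := fun w => by
      have h : ιE i w ∈ Set.range (redSub (E i.down) (hE _)).subschemeι := ⟨w, rfl⟩
      rwa [range_redSub] at h
    exact congrArg _ (congrArg (Sigma.mk i)
      ((ιE i).isClosedEmbedding.injective (hinj i.down (hE' x) (hE' y) h1)))
  have : LocallyQuasiFinite r := by
    refine locallyQuasiFinite_iff_isDiscrete_preimage_singleton.mpr fun x => ?_
    have hs : (r ⁻¹' {x}).Subsingleton := fun a ha b hb => hrinj (ha.trans hb.symm)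
    rw [isDiscrete_iff_discreteTopology]
    have := hs.coe_sort
    infer_instance
  refine ⟨∐ E', r.normalization, π, r.toNormalization, r.fromNormalization ≫ pP, hπ, hπs, ?_,
    inferInstance, isCoupleHom_comp _ _, ?_⟩
  · rw [show r.toNormalization = (Scheme.topIso _).inv ≫ (⊤ : (∐ E' : Scheme.{u}).Opens).ι ≫ r.toNormalization by
      simp]
    have h : IsOpenImmersion (r.quasiFiniteLocus.ι ≫ r.toNormalization) := inferInstance
    rw [Scheme.Hom.quasiFiniteLocus_eq_top] at h
    infer_instance
  · rw [← Category.assoc, Scheme.Hom.toNormalization_fromNormalization, hπr]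

end Groth.Agent.Et18.H0Lift
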