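import Groth.Agent.Et18.H0Lift.SuppTransfer
import Groth.Agent.Et18.StalkPush

/-!
# Spreading out sections with proper support, in the presence of a compactification
-/

set_option autoImplicit false
set_option backward.isDefEq.respectTransparency.types false
set_option backward.isDefEq.respectTransparency false

universe u

open CategoryTheory CategoryTheory.Limits AlgebraicGeometry Opposite

namespace Groth.Agent.Et18.H0Lift

/-- Sections with proper support over geometric fibres spread out to étale neighbourhoods. -/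
def SpreadsSupp {X Y : Scheme.{u}} (f : X ⟶ Y) : Prop :=
  ∀ (F : EtCoh.Ab X) (Ω : Type u) [Field Ω] [IsSepClosed Ω] (η : Spec (CommRingCat.of Ω) ⟶ Y)
    (T : Scheme.{u}) (q : T ⟶ X) (p : T ⟶ Spec (CommRingCat.of Ω)) (sq : IsPullback q p f η) (σ : gSec q F),
    ClSub.IsProperOver p (gSupp σ) →
      ∃ (V : Y.Etale) (v : (Scheme.pointSmallEtale η).fiber.obj V) (τ : gSec ((EtCoh.bc f).obj V).hom F),
        ClSub.IsProperOver (EtShriek.prV f V) (gSupp τ) ∧
          pullSec (fibLift sq V v) _ F (fibLift_hom sq V v) τ = σ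

variable {X P Y : Scheme.{u}}

theorem spreadsSupp_of_compactification (f : X ⟶ Y) [IsSeparated f] [LocallyOfFiniteType f] (j : X ⟶ P)
    [IsOpenImmersion j] (pb : P ⟶ Y) [IsSeparated pb] [IsCoupleHom pb] (hf : j ≫ pb = f) : SpreadsSupp f := by
  intro F Ω _ _ η T q p sq σ hσ
  have : UniversallyClosed pb := IsCoupleHom.toUniversallyClosed
  let TP := pullback pb η
  let qP : TP ⟶ P := pullback.fst pb η
  let pP : TP ⟶ Spec (CommRingCat.of Ω) := pullback.snd pb η
  have sqP : IsPullback qP pP pb η := IsPullback.of_hasPullback pb η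
  obtain ⟨jT, hjT₁, hjT₂⟩ : ∃ jT : T ⟶ TP, jT ≫ qP = q ≫ j ∧ jT ≫ pP = p :=
    ⟨pullback.lift (q ≫ j) p (by rw [Category.assoc, hf, sq.w]), pullback.lift_fst _ _ _,
      pullback.lift_snd _ _ _⟩
  have sqj : IsPullback q jT j qP := by
    refine IsPullback.of_bot ?_ hjT₁.symm sqP
    rw [hjT₂, hf]; exact sq
  have : IsOpenImmersion jT := MorphismProperty.of_isPullback (P := @IsOpenImmersion) sqj inferInstance
  -- extension by zero
  let Z : Set T := gSupp σ
  have hS : IsClosed (jT '' Z) := by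
    obtain ⟨hc, hp⟩ := hσ
    let ι := (redSub Z hc).subschemeι
    have : IsProper ((ι ≫ jT) ≫ pP) := by rw [Category.assoc, hjT₂]; exact hp
    have : IsProper (ι ≫ jT) := IsProper.of_comp (ι ≫ jT) pP
    have e : jT '' Z = Set.range (ι ≫ jT) := by
      rw [show ⇑(ι ≫ jT) = jT ∘ ι from funext (Scheme.Hom.comp_apply ι jT), Set.range_comp, range_redSub]
    rw [e]
    exact (ι ≫ jT).isClosedMap.isClosed_range
  let G := (EtCoh.push j).obj F
  let φ : (EtCoh.pull j).obj G ⟶ F := (EtCoh.pullPushAdj j).counit.app F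
  have : IsIso φ := inferInstanceAs (IsIso ((EtCoh.pullPushAdj j).counit.app F))
  obtain ⟨σ₁, hσ₁⟩ := (bijective_splitSec (F := G) (a := q) (b := j) (h := rfl)).2 (mapSec (inv φ) σ)
  have hs₁ : gSupp σ₁ = Z := by rw [← gSupp_splitSec (h := rfl) σ₁, hσ₁, gSupp_mapSec]
  obtain ⟨σb, hσb, hσbS⟩ := exists_extend_zero (F := G) jT (c := qP) hjT₁ (jT '' Z) hS
    (Set.image_subset_range _ _) σ₁ (by rw [hs₁, Set.preimage_image_eq _ jT.isOpenEmbedding.injective])
  -- spreading out over the compactification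
  obtain ⟨e, he⟩ : ∃ e, toFibreSec G sqP e = σb :=
    (bijective_toFibreSec G sqP).2 σb
  obtain ⟨V, v, s, rfl⟩ :=
    (Scheme.pointSmallEtale η).toPresheafFiber_jointly_surjective (P := ((EtCoh.push pb).obj G).obj) e
  let B := (EtCoh.bc pb).obj V
  let τb : gSec B.hom G := pullAt G B (𝟙 _) (Category.id_comp _) s
  have hτb : pullSec (fibLift sqP V v) _ G (fibLift_hom sqP V v) τb = σb := by
    refine (pullSec_pullAt (fibLift sqP V v) B.hom G (fibLift_hom sqP V v) B (𝟙 _) (Category.id_comp _) s).trans ?_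
    refine Eq.trans ?_ ((toFibreSec_gm G sqP V v s).symm.trans he)
    exact pullAt_congr G (Category.comp_id _) s
  -- shrinking
  obtain ⟨m, hm₁, hm₂⟩ : ∃ m : ((EtCoh.bc f).obj V).left ⟶ B.left,
      m ≫ EtShriek.prV pb V = EtShriek.prV f V ∧ m ≫ B.hom = ((EtCoh.bc f).obj V).hom ≫ j :=
    ⟨pullback.lift (EtShriek.prV f V) (((EtCoh.bc f).obj V).hom ≫ j) (by
        rw [Category.assoc, hf]; exact pullback.condition),
      pullback.lift_fst _ _ _, pullback.lift_snd _ _ _⟩
  have sqm : IsPullback ((EtCoh.bc f).obj V).hom m j B.hom := by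
    refine IsPullback.of_bot ?_ hm₂.symm (IsPullback.of_hasPullback V.hom pb).flip
    rw [hf, show m ≫ pullback.fst V.hom pb = EtShriek.prV f V from hm₁]
    exact (IsPullback.of_hasPullback V.hom f).flip
  have : IsOpenImmersion m := MorphismProperty.of_isPullback (P := @IsOpenImmersion) sqm inferInstance
  have hfib : fibLift sq V v ≫ m = jT ≫ fibLift sqP V v := by
    refine pullback.hom_ext ?_ ?_
    · change (fibLift sq V v ≫ m) ≫ EtShriek.prV pb V = (jT ≫ fibLift sqP V v) ≫ EtShriek.prV pb V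
      rw [Category.assoc, hm₁, fibLift_fst, Category.assoc, fibLift_fst, ← Category.assoc, hjT₂]
    · change (fibLift sq V v ≫ m) ≫ B.hom = (jT ≫ fibLift sqP V v) ≫ B.hom
      rw [Category.assoc, hm₂, ← Category.assoc, fibLift_hom, Category.assoc, fibLift_hom, hjT₁]
  let S : Set B.left := gSupp τb
  let D : Set B.left := S ∩ (Set.range m)ᶜ
  have hD : IsClosed D := (isClosed_gSupp τb).inter m.isOpenEmbedding.isOpen_range.isClosed_compl
  have : UniversallyClosed (EtShriek.prV pb V) :=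
    MorphismProperty.pullback_fst (P := @UniversallyClosed) V.hom pb inferInstance
  have hv : fiberPt v ∉ EtShriek.prV pb V '' D := by
    rintro ⟨b, ⟨hbS, hbm⟩, hb⟩
    obtain ⟨y, rfl⟩ := mem_range_fibLift sqP V v b hb
    have h1 : y ∈ gSupp σb := by
      rw [← hτb]
      exact (mem_gSupp_pullSec _ (fibLift_hom sqP V v) τb y).2 hbS
    obtain ⟨z, -, rfl⟩ := hσbS h1
    exact hbm ⟨fibLift sq V v z, by rw [← Scheme.Hom.comp_apply, hfib, Scheme.Hom.comp_apply]⟩
  obtain ⟨V₀, i, v₀, -, hv₀, hC⟩ :=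
    exists_shrink V v _ ((EtShriek.prV pb V).isClosedMap _ hD) hv
  let U₀ := (EtCoh.bc f).obj V₀
  let m₀ : U₀.left ⟶ B.left := ((EtCoh.bc f).map i).left ≫ m
  have hm₀ : m₀ ≫ B.hom = U₀.hom ≫ j := by
    rw [Category.assoc, hm₂, ← Category.assoc]
    exact congrArg (· ≫ j) (Over.w ((EtCoh.bc f).map i).hom)
  let τ₁ : gSec (U₀.hom ≫ j) G := pullSec m₀ B.hom G hm₀ τb
  let τ : gSec U₀.hom F := mapSec φ (splitSec U₀.hom j rfl τ₁)
  refine ⟨V₀, v₀, τ, ?_, ?_⟩
  · have hsupp : gSupp τ = m₀ ⁻¹' S := by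
      ext z
      rw [gSupp_mapSec, gSupp_splitSec]
      exact mem_gSupp_pullSec m₀ hm₀ τb z
    refine Eq.mpr (congrArg (ClSub.IsProperOver (EtShriek.prV f V₀)) hsupp) ?_
    let B₀ := (EtCoh.bc pb).obj V₀
    let n := ((EtCoh.bc pb).map i).left
    obtain ⟨m', hm'₁, hm'₂⟩ : ∃ m' : U₀.left ⟶ B₀.left,
        m' ≫ EtShriek.prV pb V₀ = EtShriek.prV f V₀ ∧ m' ≫ B₀.hom = U₀.hom ≫ j :=
      ⟨pullback.lift (EtShriek.prV f V₀) (U₀.hom ≫ j) (by
          rw [Category.assoc, hf]; exact pullback.condition),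
        pullback.lift_fst _ _ _, pullback.lift_snd _ _ _⟩
    have sqm' : IsPullback U₀.hom m' j B₀.hom := by
      refine IsPullback.of_bot ?_ hm'₂.symm (IsPullback.of_hasPullback V₀.hom pb).flip
      rw [hf, show m' ≫ pullback.fst V₀.hom pb = EtShriek.prV f V₀ from hm'₁]
      exact (IsPullback.of_hasPullback V₀.hom f).flip
    have : IsOpenImmersion m' := MorphismProperty.of_isPullback (P := @IsOpenImmersion) sqm' inferInstance
    have hnm : m' ≫ n = m₀ := by
      refine pullback.hom_ext ?_ ?_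
      · change (m' ≫ n) ≫ EtShriek.prV pb V = (((EtCoh.bc f).map i).left ≫ m) ≫ EtShriek.prV pb V
        rw [Category.assoc, (EtCoh.isPullback_bc_map pb i).w, ← Category.assoc, hm'₁, Category.assoc, hm₁,
          (EtCoh.isPullback_bc_map f i).w]
      · change (m' ≫ n) ≫ B.hom = m₀ ≫ B.hom
        rw [Category.assoc, hm₀, ← hm'₂]
        exact congrArg (m' ≫ ·) (Over.w ((EtCoh.bc pb).map i).hom)
    let S₀ : Set B₀.left := n ⁻¹' S
    have hsub : S₀ ⊆ Set.range m' := by
      intro z hz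
      have hzD : n z ∉ D := fun hD' => hC (EtShriek.prV pb V₀ z) ⟨n z, hD', by
        rw [← Scheme.Hom.comp_apply, (EtCoh.isPullback_bc_map pb i).w]
        rfl⟩
      obtain ⟨x, hx⟩ : n z ∈ Set.range m := not_not.1 fun h => hzD ⟨hz, h⟩
      obtain ⟨w, hw, -⟩ := Scheme.Pullback.exists_preimage_pullback (f := B₀.hom) (g := j) z
        (((EtCoh.bc f).obj V).hom x)
        ((congrArg (fun k : B₀.left ⟶ P => k z) (Over.w ((EtCoh.bc pb).map i).hom).symm).trans
          ((congrArg B.hom hx.symm).trans (congrArg (fun k : ((EtCoh.bc f).obj V).left ⟶ P => k x) hm₂)))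
      refine ⟨sqm'.flip.isoPullback.inv w, ?_⟩
      exact (congrArg (fun k : _ ⟶ B₀.left => k w) sqm'.flip.isoPullback_inv_fst).trans hw
    have hproper : ClSub.IsProperOver (EtShriek.prV pb V₀) S₀ := by
      have hc : IsClosed S₀ := (isClosed_gSupp τb).preimage n.continuous
      refine ⟨hc, ?_⟩
      let ι₀ := (redSub S₀ hc).subschemeι
      change IsProper (ι₀ ≫ EtShriek.prV pb V₀)
      have : UniversallyClosed (EtShriek.prV pb V₀) :=
        MorphismProperty.pullback_fst (P := @UniversallyClosed) V₀.hom pb inferInstance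
      have : IsSeparated (EtShriek.prV pb V₀) :=
        MorphismProperty.pullback_fst (P := @IsSeparated) V₀.hom pb inferInstance
      have : LocallyOfFiniteType (ι₀ ≫ EtShriek.prV pb V₀) := by
        obtain ⟨r, hr⟩ : ∃ r : (redSub S₀ hc).subscheme ⟶ U₀.left, r ≫ m' = ι₀ := by
          refine ⟨IsOpenImmersion.lift m' ι₀ ?_, IsOpenImmersion.lift_fac _ _ _⟩
          rw [range_redSub]; exact hsub
        have : IsClosedImmersion (r ≫ m') := by rw [hr]; infer_instance
        have : IsClosedImmersion r := IsClosedImmersion.of_comp r m'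
        rw [← hr, Category.assoc, hm'₁]
        have : LocallyOfFiniteType (EtShriek.prV f V₀) :=
          MorphismProperty.pullback_fst (P := @LocallyOfFiniteType) V₀.hom f inferInstance
        infer_instance
      exact {}
    have hsepP : IsSeparated (EtShriek.prV pb V₀) :=
      MorphismProperty.pullback_fst (P := @IsSeparated) V₀.hom pb inferInstance
    have e : m₀ ⁻¹' S = m' ⁻¹' S₀ := by
      ext z
      change m₀ z ∈ S ↔ n (m' z) ∈ S
      rw [← Scheme.Hom.comp_apply, hnm]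
    rw [e, ← hm'₁]
    obtain ⟨hc, hp⟩ := hproper
    refine ⟨hc.preimage m'.continuous, ?_⟩
    let ι := (redSub (m' ⁻¹' S₀) (hc.preimage m'.continuous)).subschemeι
    have hr : IsClosed (Set.range (ι ≫ m')) := by
      rw [show ⇑(ι ≫ m') = m' ∘ ι from funext (Scheme.Hom.comp_apply ι m'), Set.range_comp, range_redSub,
        Set.image_preimage_eq_of_subset hsub]
      exact hc
    have : IsClosedImmersion (ι ≫ m') := IsClosedImmersion.of_isPreimmersion _ hr
    change IsProper (ι ≫ m' ≫ EtShriek.prV pb V₀)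
    have : UniversallyClosed (EtShriek.prV pb V₀) :=
      MorphismProperty.pullback_fst (P := @UniversallyClosed) V₀.hom pb inferInstance
    have : LocallyOfFiniteType (ι ≫ m' ≫ EtShriek.prV pb V₀) := by
      rw [hm'₁]
      have : LocallyOfFiniteType (EtShriek.prV f V₀) :=
        MorphismProperty.pullback_fst (P := @LocallyOfFiniteType) V₀.hom f inferInstance
      infer_instance
    have : UniversallyClosed ((ι ≫ m') ≫ EtShriek.prV pb V₀) := inferInstance
    have : IsSeparated ((ι ≫ m') ≫ EtShriek.prV pb V₀) := inferInstance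
    rw [Category.assoc] at *
    exact {}
  · refine eq_of_hasGerm _ _ fun y => ?_
    obtain ⟨ζ, hζ⟩ : ∃ ζ, algPoint T y = ζ := ⟨_, rfl⟩
    obtain ⟨x, hx⟩ : ∃ x, ζ ≫ q = x := ⟨_, rfl⟩
    let ξ : FibrePts q x := ⟨ζ, hx⟩
    obtain ⟨a, ha⟩ := exists_hasGerm σ ξ
    refine ⟨_, inferInstance, inferInstance, x, ξ, a, by change ζ default = y; rw [← hζ]; exact algPoint_default T y, ?_, ha⟩
    let ξU : FibrePts U₀.hom x := ⟨ζ ≫ fibLift sq V₀ v₀, by rw [Category.assoc, fibLift_hom, hx]⟩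
    refine hasGerm_pullSec (fibLift sq V₀ v₀) (fibLift_hom sq V₀ v₀) ξ ξU rfl ?_
    -- the germ of `σb`
    let b₀ := (EtCoh.stalk x).map (inv φ) a
    obtain ⟨d, hd⟩ := (bijective_toPull j (⟨x, rfl⟩ : FibrePts j (x ≫ j)) G).2 b₀
    let ξq : FibrePts (q ≫ j) (x ≫ j) := ⟨ζ, by rw [← Category.assoc, hx]⟩
    have g₁ : HasGerm σ₁ ξq d := by
      refine (hasGerm_splitSec_iff (h := rfl) ξ ξq rfl rfl).1 ?_
      rw [hσ₁, hd]
      exact hasGerm_mapSec (inv φ) ha
    let ξP : FibrePts qP (x ≫ j) := ⟨ζ ≫ jT, by rw [Category.assoc, hjT₁, ← Category.assoc, hx]⟩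
    have g₂ : HasGerm σb ξP d := HasGerm.of_pullSec (ξ' := ξq) hjT₁ rfl (hσb ▸ g₁)
    let ξB : FibrePts B.hom (x ≫ j) := ⟨ζ ≫ jT ≫ fibLift sqP V v, by
      rw [Category.assoc, Category.assoc, fibLift_hom, hjT₁, ← Category.assoc, hx]⟩
    have g₃ : HasGerm τb ξB d :=
      HasGerm.of_pullSec (ξ' := ξP) (fibLift_hom sqP V v) (Category.assoc _ _ _) (hτb ▸ g₂)
    let ξm : FibrePts (U₀.hom ≫ j) (x ≫ j) := ⟨ζ ≫ fibLift sq V₀ v₀, by
      rw [Category.assoc, ← Category.assoc (fibLift sq V₀ v₀), fibLift_hom, ← Category.assoc, hx]⟩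
    have g₄ : HasGerm τ₁ ξm d := by
      refine hasGerm_pullSec m₀ hm₀ ξm ξB ?_ g₃
      change (ζ ≫ fibLift sq V₀ v₀) ≫ ((EtCoh.bc f).map i).left ≫ m = ζ ≫ jT ≫ fibLift sqP V v
      rw [Category.assoc, reassoc_of% fibLift_map sq i v₀, hv₀, hfib]
    have g₅ := hasGerm_mapSec φ ((hasGerm_splitSec_iff (h := rfl) ξU ξm rfl rfl).2 g₄)
    have e : (EtCoh.stalk x).map φ b₀ = a :=
      (ConcreteCategory.congr_hom (((EtCoh.stalk x).map_comp (inv φ) φ).symm.trans
        ((congrArg (EtCoh.stalk x).map (IsIso.inv_hom_id φ)).trans ((EtCoh.stalk x).map_id _))) a)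
    exact Eq.mp (congrArg (HasGerm _ ξU) ((congrArg ((EtCoh.stalk x).map φ) hd).trans e)) g₅

end Groth.Agent.Et18.H0Lift
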