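import Groth.Agent.Et18.Specialization
import Groth.Agent.HenselLib.LocalHens

/-!
# Lifting morphisms to strict localizations
-/

set_option autoImplicit false
set_option backward.isDefEq.respectTransparency.types false
set_option backward.isDefEq.respectTransparency false

universe u

open CategoryTheory CategoryTheory.Limits AlgebraicGeometry IsLocalRing

namespace Groth.Agent.Et18.H0Lift

open HenselLib

variable {X : Scheme.{u}} {x : X} (R : Type u) [CommRing R] [IsLocalRing R]
  [Algebra (X.presheaf.stalk x) R] [IsLocalHom (algebraMap (X.presheaf.stalk x) R)]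
  [Hensel.IsStrictHenselization (X.presheaf.stalk x) R]

/-- A morphism from the spectrum of a local ring factors through the local ring of the image. -/
theorem exists_local_factor {C : Type u} [CommRing C] [IsLocalRing C] (s : Spec (CommRingCat.of C) ⟶ X) :
    ∃ (_ : Algebra (X.presheaf.stalk (s (closedPoint C))) C)
      (_ : IsLocalHom (algebraMap (X.presheaf.stalk (s (closedPoint C))) C)),
      Hens2.specOf X (s (closedPoint C)) C = s := by
  let φ := Scheme.stalkClosedPointTo s
  let := φ.hom.toAlgebra
  exact ⟨φ.hom.toAlgebra, inferInstanceAs (IsLocalHom φ.hom), Scheme.Spec_stalkClosedPointTo_fromSpecStalk s⟩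

/-- Lifts to a strict localization are determined at the closed point. -/
theorem lift_ext {C : Type u} [CommRing C] [HenselianLocalRing C]
    (g₁ g₂ : Spec (CommRingCat.of C) ⟶ Spec (CommRingCat.of R))
    (h : g₁ ≫ Hens2.specOf X x R = g₂ ≫ Hens2.specOf X x R)
    (hres : Spec.map (CommRingCat.ofHom (residue C)) ≫ g₁ = Spec.map (CommRingCat.ofHom (residue C)) ≫ g₂) :
    g₁ = g₂ := by
  obtain ⟨_, _, hs⟩ := exists_local_factor (g₂ ≫ Hens2.specOf X x R)
  exact (Specialization.bijective_restrict R C).1 g₁ g₂ (h.trans hs.symm) hs.symm hres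

/-- Lifts to a strict localization exist once they exist at the closed point. -/
theorem exists_lift {C : Type u} [CommRing C] [HenselianLocalRing C] (s : Spec (CommRingCat.of C) ⟶ X)
    (h : Spec (CommRingCat.of (ResidueField C)) ⟶ Spec (CommRingCat.of R))
    (hh : h ≫ Hens2.specOf X x R = Spec.map (CommRingCat.ofHom (residue C)) ≫ s) :
    ∃ g : Spec (CommRingCat.of C) ⟶ Spec (CommRingCat.of R),
      g ≫ Hens2.specOf X x R = s ∧ Spec.map (CommRingCat.ofHom (residue C)) ≫ g = h := by
  obtain ⟨_, _, hs⟩ := exists_local_factor s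
  obtain ⟨g, hg, hg'⟩ := (Specialization.bijective_restrict R C).2 h
    (hh.trans (congrArg (_ ≫ ·) hs.symm))
  exact ⟨g, hg.trans hs, hg'⟩

/-- Spectra of field maps are epimorphisms towards affine schemes. -/
theorem eq_of_fieldExt_comp {K L : Type u} [Field K] [Field L] (i : K →+* L) {Z : Scheme.{u}} [IsAffine Z]
    (a b : Spec (CommRingCat.of K) ⟶ Z)
    (h : Spec.map (CommRingCat.ofHom i) ≫ a = Spec.map (CommRingCat.ofHom i) ≫ b) : a = b := by
  rw [← cancel_mono Z.isoSpec.hom] at h ⊢
  obtain ⟨α, hα⟩ := Spec.map_surjective (a ≫ Z.isoSpec.hom)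
  obtain ⟨β, hβ⟩ := Spec.map_surjective (b ≫ Z.isoSpec.hom)
  rw [Category.assoc, Category.assoc, ← hα, ← hβ, ← Spec.map_comp, ← Spec.map_comp, Spec.map_inj] at h
  rw [← hα, ← hβ]
  exact congrArg Spec.map (CommRingCat.hom_ext (RingHom.ext fun r => i.injective congr(($h).hom r)))

/-- Points of strict localizations over a separably closed field are rational. -/
theorem exists_point_descend {K L : Type u} [Field K] [IsSepClosed K] [Field L] (i : K →+* L)
    (k : Spec (CommRingCat.of K) ⟶ X) (ω : Spec (CommRingCat.of L) ⟶ Spec (CommRingCat.of R))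
    (h : ω ≫ Hens2.specOf X x R = Spec.map (CommRingCat.ofHom i) ≫ k) :
    ∃ b : Spec (CommRingCat.of K) ⟶ Spec (CommRingCat.of R),
      Spec.map (CommRingCat.ofHom i) ≫ b = ω ∧ b ≫ Hens2.specOf X x R = k := by
  obtain ⟨U, hU, hxU, -⟩ := exists_isAffineOpen_mem_and_subset (X := X) (x := x) (U := ⊤) trivial
  let A : Type u := Γ(X, U)
  let : Algebra A (X.presheaf.stalk x) := TopCat.Presheaf.algebra_section_stalk X.presheaf ⟨x, hxU⟩
  have : IsLocalization.AtPrime (X.presheaf.stalk x) (hU.primeIdealOf ⟨x, hxU⟩).asIdeal :=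
    hU.isLocalization_stalk ⟨x, hxU⟩
  let : Algebra A R := ((algebraMap (X.presheaf.stalk x) R).comp (algebraMap A _)).toAlgebra
  have : IsScalarTower A (X.presheaf.stalk x) R := IsScalarTower.of_algebraMap_eq fun _ => rfl
  obtain ⟨e, -⟩ := SHull.exists_equiv (A := A) (R := R) (X.presheaf.stalk x)
    (hU.primeIdealOf ⟨x, hxU⟩).asIdeal.primeCompl
  let aA : Spec (CommRingCat.of R) ⟶ Spec Γ(X, U) := Spec.map (CommRingCat.ofHom (algebraMap A R))
  have haA : aA ≫ hU.fromSpec = Hens2.specOf X x R := by
    rw [Hens2.specOf, ← hU.fromSpecStalk_eq_fromSpecStalk hxU, IsAffineOpen.fromSpecStalk, ← Category.assoc,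
      ← Spec.map_comp]
    rfl
  have hr : Set.range k ⊆ Set.range hU.fromSpec := by
    rintro _ ⟨z, rfl⟩
    refine ⟨aA (ω default), ?_⟩
    rw [← Scheme.Hom.comp_apply, haA, ← Scheme.Hom.comp_apply, h, Scheme.Hom.comp_apply]
    exact congrArg k (Subsingleton.elim _ _)
  obtain ⟨c, hc⟩ := Spec.map_surjective (IsOpenImmersion.lift hU.fromSpec k hr)
  obtain ⟨j, rfl⟩ := Spec.map_surjective ω
  have hcj : ∀ a, j.hom (algebraMap A R a) = i (c.hom a) := by
    have h1 : Spec.map j ≫ aA = Spec.map (CommRingCat.ofHom i) ≫ Spec.map c := by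
      rw [← cancel_mono hU.fromSpec, Category.assoc, Category.assoc, haA, hc, IsOpenImmersion.lift_fac, h]
    rw [← Spec.map_comp, ← Spec.map_comp, Spec.map_inj] at h1
    exact fun a => congr(($h1).hom a)
  have hmem := Specialization.mem_range_point e i c.hom j.hom hcj
  choose b hb using hmem
  let β : R →+* K :=
    { toFun := b
      map_one' := i.injective (by rw [hb, map_one, map_one])
      map_mul' := fun r s => i.injective (by rw [map_mul, hb, hb, hb, map_mul])
      map_zero' := i.injective (by rw [hb, map_zero, map_zero])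
      map_add' := fun r s => i.injective (by rw [map_add, hb, hb, hb, map_add]) }
  refine ⟨Spec.map (CommRingCat.ofHom β), ?_, ?_⟩
  · rw [← Spec.map_comp]
    exact congrArg Spec.map (CommRingCat.hom_ext (RingHom.ext hb))
  · rw [← haA, ← IsOpenImmersion.lift_fac hU.fromSpec k hr, ← hc, ← Category.assoc, ← Spec.map_comp]
    exact congrArg (fun f => Spec.map f ≫ hU.fromSpec)
      (CommRingCat.hom_ext (RingHom.ext fun a => i.injective ((hb _).trans (hcj a))))

/-- A ring isomorphic to a strictly henselian ring is strictly henselised by it. -/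
theorem isStrictHenselization_of_bijective {O S : Type u} [CommRing O] [IsLocalRing O] [CommRing S]
    [HenselianLocalRing S] [IsSepClosed (ResidueField S)] [Algebra O S] [IsLocalHom (algebraMap O S)]
    (hb : Function.Bijective (algebraMap O S)) : Hensel.IsStrictHenselization O S where
  henselian := inferInstance
  isSepClosure := by
    have hs : Function.Surjective (algebraMap (ResidueField O) (ResidueField S)) := fun z => by
      obtain ⟨w, rfl⟩ := residue_surjective z
      obtain ⟨o, rfl⟩ := hb.2 w
      exact ⟨residue O o, rfl⟩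
    exact ⟨inferInstance, ⟨fun z => by
      obtain ⟨o, rfl⟩ := hs z
      exact isSeparable_algebraMap o⟩⟩
  universal T _ _ f _ τ hτ := by
    let ε := RingEquiv.ofBijective (algebraMap O S) hb
    refine ⟨f.comp ε.symm.toRingHom, ⟨RingHom.ext fun o => congrArg f (ε.symm_apply_apply o), fun z => ?_⟩,
      fun g hg => RingHom.ext fun z => ?_⟩
    · obtain ⟨o, rfl⟩ := hb.2 z
      exact ((congrArg (fun w => residue T (f w)) (ε.symm_apply_apply o)).trans
        (RingHom.congr_fun hτ (residue O o)).symm)
    · obtain ⟨o, rfl⟩ := hb.2 z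
      exact (RingHom.congr_fun hg.1 o).trans (congrArg f (ε.symm_apply_apply o)).symm

end Groth.Agent.Et18.H0Lift
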