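import Groth.Agent.Et18.H0Lift.StrictLift
import Groth.Agent.Et18.H0Lift.ConnUnit
import Groth.Prelude.Def_EtAcyc

/-!
# Strict localizations of base changes of universally locally 0-acyclic morphisms
-/

set_option autoImplicit false
set_option backward.isDefEq.respectTransparency.types false
set_option backward.isDefEq.respectTransparency false

universe u

open CategoryTheory CategoryTheory.Limits AlgebraicGeometry IsLocalRing

namespace Groth.Agent.Et18.H0Lift

open HenselLib

theorem exists_closedPoint_strict {C : Type u} [CommRing C] [HenselianLocalRing C]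
    [IsSepClosed (ResidueField C)] (z : Spec (CommRingCat.of C)) (hz : z = closedPoint C) :
    ∃ (_ : Algebra ((Spec (CommRingCat.of C)).presheaf.stalk z) C)
      (_ : IsLocalHom (algebraMap ((Spec (CommRingCat.of C)).presheaf.stalk z) C)),
      Hensel.IsStrictHenselization ((Spec (CommRingCat.of C)).presheaf.stalk z) C ∧
        Function.Bijective (algebraMap ((Spec (CommRingCat.of C)).presheaf.stalk z) C) ∧
        Hens2.specOf (Spec (CommRingCat.of C)) z C = 𝟙 _ := by
  subst hz
  let φ := (stalkClosedPointIso (CommRingCat.of C)).hom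
  let : Algebra ((Spec (CommRingCat.of C)).presheaf.stalk (closedPoint C)) C := φ.hom.toAlgebra
  have hb : Function.Bijective φ.hom := ConcreteCategory.bijective_of_isIso φ
  have : IsLocalHom (algebraMap ((Spec (CommRingCat.of C)).presheaf.stalk (closedPoint C)) C) :=
    ⟨fun a ha => by
      obtain ⟨v, hv⟩ := hb.2 (ha.unit⁻¹ : Cˣ).1
      exact IsUnit.of_mul_eq_one v (hb.1 (by
        rw [map_mul, map_one, hv]
        exact ha.mul_val_inv))⟩
  refine ⟨inferInstance, inferInstance, isStrictHenselization_of_bijective hb, hb, ?_⟩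
  change Spec.map φ ≫ (Spec (CommRingCat.of C)).fromSpecStalk (closedPoint C) = 𝟙 _
  rw [← Spec_stalkClosedPointIso, ← Spec.map_comp, Iso.inv_hom_id, Spec.map_id]

variable {X Y : Scheme.{u}} (g : X ⟶ Y)
  {x : X} (RX : Type u) [CommRing RX] [IsLocalRing RX]
  [Algebra (X.presheaf.stalk x) RX] [IsLocalHom (algebraMap (X.presheaf.stalk x) RX)]
  [Hensel.IsStrictHenselization (X.presheaf.stalk x) RX]
  {y : Y} (RY : Type u) [CommRing RY] [IsLocalRing RY]
  [Algebra (Y.presheaf.stalk y) RY] [IsLocalHom (algebraMap (Y.presheaf.stalk y) RY)]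
  [Hensel.IsStrictHenselization (Y.presheaf.stalk y) RY]
  (p : Spec (CommRingCat.of RX) ⟶ Spec (CommRingCat.of RY))

set_option maxHeartbeats 1000000 in
/-- A point over the closed point of a strictly local scheme over `Spec RY` lies on the strict localization of
a base change of `g`, which maps universally to it. -/
theorem exists_strict_point (hg : EtAcyc.IsULocZeroAcyclic g)
    (hp : p ≫ Hens2.specOf Y y RY = Hens2.specOf X x RX ≫ g) {C₀ : Type u} [CommRing C₀]
    [HenselianLocalRing C₀] [IsSepClosed (ResidueField C₀)] (r : Spec (CommRingCat.of C₀) ⟶ Spec (CommRingCat.of RY))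
    (t : ↥(pullback p r)) (ht : pullback.snd p r t = closedPoint C₀) :
    ∃ (S : Type u) (_ : CommRing S) (_ : HenselianLocalRing S)
      (q : Spec (CommRingCat.of S) ⟶ Spec (CommRingCat.of C₀)) (s : Spec (CommRingCat.of S) ⟶ pullback p r),
      EtAcyc.IsZeroAcyclic q ∧ s ≫ pullback.snd p r = q ∧ s (closedPoint S) = t ∧
        ∀ (C : Type u) [CommRing C] [HenselianLocalRing C] [IsSepClosed (ResidueField C)]
          (e : Spec (CommRingCat.of C) ⟶ pullback p r), e (closedPoint C) = t →
          ∃ ψ : Spec (CommRingCat.of C) ⟶ Spec (CommRingCat.of S), ψ ≫ s = e := by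
  let b := r ≫ Hens2.specOf Y y RY
  let X₁ := pullback g b
  let g₁ : X₁ ⟶ Spec (CommRingCat.of C₀) := pullback.snd g b
  let j : pullback p r ⟶ X₁ := pullback.lift (pullback.fst p r ≫ Hens2.specOf X x RX) (pullback.snd p r) (by
    rw [Category.assoc, ← hp, pullback.condition_assoc])
  let x₁ : X₁ := j t
  have hx₁ : g₁ x₁ = closedPoint C₀ := by
    rw [← Scheme.Hom.comp_apply, pullback.lift_snd, ht]
  obtain ⟨_, _, hC₀, hbij, hspec⟩ := exists_closedPoint_strict (C := C₀) (g₁ x₁) hx₁
  let S := LocalSH (X₁.presheaf.stalk x₁)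
  have hS := isStrictHenselization_localSH (R := X₁.presheaf.stalk x₁)
  have := hS.henselian
  have := hS.isSepClosure.sep_closed
  let sS : Spec (CommRingCat.of S) ⟶ X₁ := Hens2.specOf X₁ x₁ S
  obtain ⟨α, hα⟩ := Spec.map_surjective (sS ≫ g₁)
  let : Algebra C₀ S := α.hom.toAlgebra
  have hcomm : (algebraMap C₀ S).comp (algebraMap ((Spec (CommRingCat.of C₀)).presheaf.stalk (g₁ x₁)) C₀) =
      (algebraMap (X₁.presheaf.stalk x₁) S).comp (g₁.stalkMap x₁).hom := by
    have h1 : Spec.map α ≫ Hens2.specOf (Spec (CommRingCat.of C₀)) (g₁ x₁) C₀ =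
        Spec.map (g₁.stalkMap x₁ ≫ CommRingCat.ofHom (algebraMap (X₁.presheaf.stalk x₁) S)) ≫
          (Spec (CommRingCat.of C₀)).fromSpecStalk (g₁ x₁) := by
      rw [hspec, Category.comp_id, hα, Spec.map_comp]
      exact (Category.assoc _ _ _).trans (Eq.trans
        (congrArg (_ ≫ ·) (Scheme.SpecMap_stalkMap_fromSpecStalk g₁).symm) (Category.assoc _ _ _).symm)
    rw [Hens2.specOf, ← Category.assoc, cancel_mono, ← Spec.map_comp, Spec.map_inj] at h1
    exact congrArg CommRingCat.Hom.hom h1
  have : IsLocalHom (algebraMap C₀ S) := ⟨fun c hc => by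
    obtain ⟨o, rfl⟩ := hbij.2 c
    have h1 : IsUnit (algebraMap (X₁.presheaf.stalk x₁) S (g₁.stalkMap x₁ o)) :=
      (RingHom.congr_fun hcomm o) ▸ hc
    exact ((IsUnit.of_map (g₁.stalkMap x₁).hom o (IsUnit.of_map _ _ h1))).map _⟩
  let q := Spec.map (CommRingCat.ofHom (algebraMap C₀ S))
  have hq : q = sS ≫ g₁ := hα
  have hq0 : EtAcyc.IsZeroAcyclic q :=
    hg g₁ (pullback.fst g b) b (IsPullback.of_hasPullback g b) x₁ C₀ S hcomm
  -- a common geometric point
  let gp : Spec (CommRingCat.of (ResidueField S)) ⟶ X₁ := Hens2.geomPt X₁ x₁ S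
  have hgp : gp default = x₁ := by
    change (Spec.map (CommRingCat.ofHom (residue S)) ≫ sS) default = x₁
    rw [Scheme.Hom.comp_apply]
    have : IsLocalHom (CommRingCat.ofHom (residue S)).hom := inferInstanceAs (IsLocalHom (residue S))
    refine (congrArg (fun z => sS (Spec.map (CommRingCat.ofHom (residue S)) z))
      (Subsingleton.elim (α := PrimeSpectrum (ResidueField S)) _ (closedPoint (ResidueField S)))).trans ?_
    exact (congrArg sS (Spec_closedPoint (f := CommRingCat.ofHom (residue S)))).trans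
      (Specialization.specOf_closedPoint S)
  obtain ⟨c, hc₁, -⟩ := Scheme.Pullback.exists_preimage_pullback (f := j) (g := gp) t default hgp.symm
  let ω := algPoint _ c ≫ pullback.fst j gp
  obtain ⟨i, hi⟩ := Spec.map_surjective (algPoint _ c ≫ pullback.snd j gp)
  have hωj : ω ≫ j = Spec.map i ≫ gp := by
    rw [hi, Category.assoc, Category.assoc, pullback.condition]
  have hω : ω default = t := by rw [Scheme.Hom.comp_apply, algPoint_default, hc₁]
  obtain ⟨h, hh₁, hh₂⟩ := exists_point_descend RX i.hom (gp ≫ pullback.fst g b) (ω ≫ pullback.fst p r) (by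
    rw [CommRingCat.ofHom_hom, ← reassoc_of% hωj, pullback.lift_fst, Category.assoc])
  rw [CommRingCat.ofHom_hom] at hh₁
  obtain ⟨s₁, hs₁, hs₁'⟩ := exists_lift RX (sS ≫ pullback.fst g b) h (hh₂.trans (Category.assoc _ _ _))
  have hωsnd : ω ≫ pullback.snd p r = Spec.map i ≫ gp ≫ g₁ := by
    rw [← reassoc_of% hωj, pullback.lift_snd]
  have hsr : s₁ ≫ p = q ≫ r := by
    refine lift_ext (X := Y) (x := y) RY _ _ ?_ (eq_of_fieldExt_comp i.hom _ _ ?_)
    · rw [Category.assoc, hp, ← Category.assoc, hs₁, hq, Category.assoc, Category.assoc, Category.assoc]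
      exact congrArg (sS ≫ ·) pullback.condition
    · rw [CommRingCat.ofHom_hom, reassoc_of% hs₁', reassoc_of% hh₁, pullback.condition, reassoc_of% hωsnd, hq]
      simp only [Category.assoc]
      rfl
  let s := pullback.lift s₁ q hsr
  have hs : Spec.map i ≫ Spec.map (CommRingCat.ofHom (residue S)) ≫ s = ω := by
    refine pullback.hom_ext ?_ ?_
    · rw [Category.assoc, Category.assoc, pullback.lift_fst, hs₁', hh₁]
    · rw [Category.assoc, Category.assoc, pullback.lift_snd, hωsnd, hq]
      simp only [gp, Hens2.geomPt, Category.assoc]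
      rfl
  have hsj : s ≫ j = sS := by
    refine pullback.hom_ext ?_ ?_
    · rw [Category.assoc, pullback.lift_fst, pullback.lift_fst_assoc, hs₁]
    · rw [Category.assoc, pullback.lift_snd, pullback.lift_snd, hq]
  have hst : s (closedPoint S) = t := by
    refine Eq.trans ?_ hω
    rw [← hs, Scheme.Hom.comp_apply, Scheme.Hom.comp_apply]
    have : IsLocalHom (CommRingCat.ofHom (residue S)).hom := inferInstanceAs (IsLocalHom (residue S))
    refine congrArg s ?_
    rw [Subsingleton.elim (Spec.map i default) (closedPoint (ResidueField S))]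
    exact (Spec_closedPoint (f := CommRingCat.ofHom (residue S))).symm
  refine ⟨S, inferInstance, inferInstance, q, s, hq0, pullback.lift_snd _ _ _, hst, fun C _ _ _ e he => ?_⟩
  let eC := Spec.map (CommRingCat.ofHom (residue C)) ≫ e
  let eS := Spec.map (CommRingCat.ofHom (residue S)) ≫ s
  have hpts : eC (closedPoint (ResidueField C)) = eS (closedPoint (ResidueField S)) := by
    have : IsLocalHom (CommRingCat.ofHom (residue S)).hom := inferInstanceAs (IsLocalHom (residue S))
    have : IsLocalHom (CommRingCat.ofHom (residue C)).hom := inferInstanceAs (IsLocalHom (residue C))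
    refine (congrArg e (Spec_closedPoint (f := CommRingCat.ofHom (residue C)))).trans (he.trans ?_)
    exact hst.symm.trans (congrArg s (Spec_closedPoint (f := CommRingCat.ofHom (residue S))).symm)
  obtain ⟨c', -, -⟩ := Scheme.Pullback.exists_preimage_pullback (f := eC) (g := eS) _ _ hpts
  obtain ⟨iC, hiC⟩ := Spec.map_surjective (algPoint _ c' ≫ pullback.fst eC eS)
  obtain ⟨iS, hiS⟩ := Spec.map_surjective (algPoint _ c' ≫ pullback.snd eC eS)
  have hCS : Spec.map iC ≫ eC = Spec.map iS ≫ eS := by
    rw [hiC, hiS, Category.assoc, Category.assoc, pullback.condition]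
  obtain ⟨h', hh'₁, hh'₂⟩ := exists_point_descend S iC.hom (eC ≫ j)
    (Spec.map iS ≫ Spec.map (CommRingCat.ofHom (residue S))) (by
      rw [CommRingCat.ofHom_hom, reassoc_of% hCS]
      simp only [eS, Category.assoc, hsj]
      rfl)
  rw [CommRingCat.ofHom_hom] at hh'₁
  obtain ⟨ψ, hψ, hψ'⟩ := exists_lift S (e ≫ j) h' (hh'₂.trans (Category.assoc _ _ _))
  refine ⟨ψ, pullback.hom_ext ?_ ?_⟩
  · refine lift_ext (X := X) (x := x) RX _ _ ?_ (eq_of_fieldExt_comp iC.hom _ _ ?_)
    · have hsf : s ≫ pullback.fst p r = s₁ := pullback.lift_fst _ _ _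
      rw [Category.assoc, Category.assoc, ← Category.assoc s, hsf, hs₁, ← Category.assoc ψ, hψ, Category.assoc,
        pullback.lift_fst, Category.assoc]
    · have h1 := congrArg (· ≫ pullback.fst p r) hCS
      simp only [eC, eS, Category.assoc] at h1
      simp only [Category.assoc]
      rw [CommRingCat.ofHom_hom, reassoc_of% hψ', reassoc_of% hh'₁]
      exact h1.symm
  · rw [Category.assoc, pullback.lift_snd, hq]
    exact (Category.assoc _ _ _).symm.trans ((congrArg (· ≫ g₁) hψ).trans
      ((Category.assoc _ _ _).trans (congrArg (e ≫ ·) (pullback.lift_snd _ _ _))))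

end Groth.Agent.Et18.H0Lift
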