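import Groth.Agent.Et18.H0Lift.SetsDescent
import Mathlib.CategoryTheory.Limits.Shapes.Pullback.Mono

/-!
# Descent of subsheaves along universally submersive morphisms
-/

set_option autoImplicit false
set_option backward.isDefEq.respectTransparency.types false
set_option backward.isDefEq.respectTransparency false

universe u

open CategoryTheory CategoryTheory.Limits AlgebraicGeometry Opposite

namespace Groth.Agent.Et18.H0Lift

variable {T X : Scheme.{u}}

/-- A section with all germs in the image of a monomorphism is in the image. -/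
theorem exists_lift_of_germs {F G : EtDesc.Sh X} (a : G ⟶ F) [Mono a] (U : X.Etale) (s : EtDesc.sect F U)
    (h : ∀ x : U.left, ∃ (K : Type u) (_ : Field K) (_ : IsSepClosed K) (ξ : Spec (CommRingCat.of K) ⟶ X)
      (v : (Scheme.pointSmallEtale ξ).fiber.obj U),
      fiberPt v = x ∧ gmS F ξ U v s ∈ Set.range ((stalkSh ξ).map a)) :
    ∃ t : EtDesc.sect G U, a.hom.app (op U) t = s := by
  obtain ⟨P, p, q, w, ⟨hl⟩⟩ : ∃ (P : EtDesc.Sh X) (p q : F ⟶ P) (w : a ≫ p = a ≫ q),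
      Nonempty (IsLimit (Fork.ofι a w)) :=
    ⟨_, _, _, (regularMonoOfMono a).w, ⟨(regularMonoOfMono a).isLimit⟩⟩
  let ev : EtDesc.Sh X ⥤ Type (u + 1) := sheafToPresheaf _ _ ⋙ (evaluation _ _).obj (op U)
  have hpq : p.hom.app (op U) s = q.hom.app (op U) s := by
    refine eq_of_gmS P U _ _ fun x => ?_
    obtain ⟨K, i₁, i₂, ξ, v, hv, e, he⟩ := h x
    refine ⟨K, i₁, i₂, ξ, v, hv, ?_⟩
    rw [← gmS_hom, ← gmS_hom, ← he]
    exact ((ConcreteCategory.congr_hom ((stalkSh ξ).map_comp a p) e).symm.trans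
      (ConcreteCategory.congr_hom (congrArg (stalkSh ξ).map w) e)).trans
      (ConcreteCategory.congr_hom ((stalkSh ξ).map_comp a q) e)
  obtain ⟨k, hk, -⟩ := Fork.IsLimit.existsUnique
    (isLimitForkMapOfIsLimit ev w hl) (↾fun _ : PUnit.{u + 2} => s) (by ext; exact hpq)
  exact ⟨k PUnit.unit, ConcreteCategory.congr_hom hk PUnit.unit⟩

/-- Refining a section near a point where its germ lies in the image. -/
theorem exists_refine {F G : EtDesc.Sh X} (a : G ⟶ F) (U : X.Etale) (s : EtDesc.sect F U)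
    {Ω : Type u} [Field Ω] [IsSepClosed Ω] (ξ : Spec (CommRingCat.of Ω) ⟶ X)
    (v : (Scheme.pointSmallEtale ξ).fiber.obj U)
    (h : gmS F ξ U v s ∈ Set.range ((stalkSh ξ).map a)) :
    ∃ (W : X.Etale) (g : W ⟶ U) (t : EtDesc.sect G W),
      fiberPt v ∈ Set.range g.left ∧ a.hom.app (op W) t = F.obj.map g.op s := by
  obtain ⟨e, he⟩ := h
  obtain ⟨W, w, t, rfl⟩ := (Scheme.pointSmallEtale ξ).toPresheafFiber_jointly_surjective (P := G.obj) e
  obtain ⟨P, p₁, p₂, z, hz₁, hz₂⟩ : ∃ (P : X.Etale) (p₁ : P ⟶ W) (p₂ : P ⟶ U)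
      (z : (Scheme.pointSmallEtale ξ).fiber.obj P),
      (Scheme.pointSmallEtale ξ).fiber.map p₁ z = w ∧ (Scheme.pointSmallEtale ξ).fiber.map p₂ z = v := by
    have hW : Etale W.hom := W.prop
    have hU : Etale U.hom := U.prop
    let wl : Spec (CommRingCat.of Ω) ⟶ W.left := w.left
    let vl : Spec (CommRingCat.of Ω) ⟶ U.left := v.left
    have hw : wl ≫ W.hom = ξ := Over.w w
    have hv : vl ≫ U.hom = ξ := Over.w v
    obtain ⟨l, hl₁, hl₂⟩ : ∃ l : _ ⟶ pullback W.hom U.hom,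
        l ≫ pullback.fst W.hom U.hom = wl ∧ l ≫ pullback.snd W.hom U.hom = vl :=
      ⟨pullback.lift wl vl (hw.trans hv.symm), pullback.lift_fst _ _ _, pullback.lift_snd _ _ _⟩
    exact ⟨Scheme.Etale.mk (pullback.fst W.hom U.hom ≫ W.hom),
      MorphismProperty.Over.homMk (pullback.fst W.hom U.hom) rfl,
      MorphismProperty.Over.homMk (pullback.snd W.hom U.hom) pullback.condition.symm,
      Over.homMk l ((Category.assoc _ _ _).symm.trans ((congrArg (· ≫ W.hom) hl₁).trans hw)),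
      Over.OverMorphism.ext hl₁, Over.OverMorphism.ext hl₂⟩
  have e₁ : gmS F ξ W w (a.hom.app (op W) t) = gmS F ξ U v s := (gmS_hom a ξ W w t).symm.trans he
  have e₁' : gmS F ξ P z (F.obj.map p₁.op (a.hom.app (op W) t)) = gmS F ξ P z (F.obj.map p₂.op s) :=
    ((gmS_map F ξ p₁ z _).trans (congrArg (fun k => gmS F ξ W k _) hz₁)).trans
      (e₁.trans ((gmS_map F ξ p₂ z s).trans (congrArg (fun k => gmS F ξ U k s) hz₂)).symm)
  obtain ⟨Q, q, z', hz', e₂⟩ := ((Scheme.pointSmallEtale ξ).toPresheafFiber_eq_iff' (P := F.obj) P z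
    (F.obj.map p₁.op (a.hom.app (op W) t)) (F.obj.map p₂.op s)).mp e₁'
  refine ⟨Q, q ≫ p₂, G.obj.map (q ≫ p₁).op t, ⟨fiberPt z', ?_⟩, ?_⟩
  · change p₂.left (q.left (fiberPt z')) = fiberPt v
    rw [fiberPt_map q z', hz', fiberPt_map p₂ z, hz₂]
  · refine (ConcreteCategory.congr_hom (a.hom.naturality (q ≫ p₁).op) t).trans ?_
    refine (ConcreteCategory.congr_hom (F.obj.map_comp p₁.op q.op) _).trans ?_
    exact e₂.trans (ConcreteCategory.congr_hom (F.obj.map_comp p₂.op q.op) s).symm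

/-- The germ at a chosen point lies in the image as soon as it does at some point over the same point. -/
theorem mem_range_of_refine {F G : EtDesc.Sh X} (a : G ⟶ F) {U W : X.Etale} (s : EtDesc.sect F U) (g : W ⟶ U)
    (t : EtDesc.sect G W) (h : a.hom.app (op W) t = F.obj.map g.op s)
    {Ω : Type u} [Field Ω] [IsSepClosed Ω] (ξ : Spec (CommRingCat.of Ω) ⟶ X)
    (v : (Scheme.pointSmallEtale ξ).fiber.obj U) (hv : fiberPt v ∈ Set.range g.left) :
    gmS F ξ U v s ∈ Set.range ((stalkSh ξ).map a) := by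
  obtain ⟨z, hz⟩ := hv
  have : Etale g.left := etale_map_left g
  let vl : Spec (CommRingCat.of Ω) ⟶ U.left := v.left
  obtain ⟨l, hl, -⟩ := Scheme.exists_fac_of_etale_of_isSepClosed g.left vl z hz
  have hl' : l ≫ W.hom = ξ := by
    rw [show W.hom = g.left ≫ U.hom from (Over.w g.hom).symm, ← Category.assoc, hl]
    exact Over.w v
  let w : (Scheme.pointSmallEtale ξ).fiber.obj W := Over.homMk l hl'
  refine ⟨gmS G ξ W w t, (gmS_hom a ξ W w t).trans ?_⟩
  rw [h, gmS_map]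
  exact congrArg (fun k => gmS F ξ U k s) (Over.OverMorphism.ext hl)

variable (f : T ⟶ X)

theorem subsheaf_unique (hs : Function.Surjective f) {F G₁ G₂ : EtDesc.Sh X} (a₁ : G₁ ⟶ F) (a₂ : G₂ ⟶ F)
    [Mono a₁] [Mono a₂] (φ : (EtDesc.pullSh f).obj G₁ ≅ (EtDesc.pullSh f).obj G₂)
    (hφ : φ.hom ≫ (EtDesc.pullSh f).map a₂ = (EtDesc.pullSh f).map a₁) :
    ∃ ψ : G₁ ≅ G₂, ψ.hom ≫ a₂ = a₁ := by
  have : Surjective f := ⟨hs⟩
  have hr := (pullSh_faithful_reflectsIsos f).2
  let L := EtDesc.pullSh f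
  have key : ∀ (H₁ H₂ : EtDesc.Sh X) (b₁ : H₁ ⟶ F) (b₂ : H₂ ⟶ F) [Mono b₁] [Mono b₂]
      (χ : L.obj H₁ ⟶ L.obj H₂), χ ≫ L.map b₂ = L.map b₁ → IsIso (pullback.fst b₁ b₂) := by
    intro H₁ H₂ b₁ b₂ _ _ χ hχ
    have : IsIso (L.map (pullback.fst b₁ b₂)) := by
      have h := isLimitOfHasPullbackOfPreservesLimit L b₁ b₂
      have hm : Mono (L.map (pullback.fst b₁ b₂)) := Functor.map_mono _ _
      obtain ⟨l, hl₁, -⟩ := PullbackCone.IsLimit.lift' h (𝟙 _) χ ((Category.id_comp _).trans hχ.symm)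
      have : IsSplitEpi (L.map (pullback.fst b₁ b₂)) := ⟨⟨l, hl₁⟩⟩
      exact isIso_of_mono_of_isSplitEpi _
    exact hr.reflects _
  have h₁ : IsIso (pullback.fst a₁ a₂) := key _ _ a₁ a₂ φ.hom hφ
  have h₂ : IsIso (pullback.fst a₂ a₁) := key _ _ a₂ a₁ φ.inv (by rw [← hφ]; simp [L])
  have h₂' : IsIso (pullback.snd a₁ a₂) := by
    rw [← pullbackSymmetry_hom_comp_fst a₁ a₂]; infer_instance
  exact ⟨(asIso (pullback.fst a₁ a₂)).symm ≪≫ asIso (pullback.snd a₁ a₂), by
    simp [← pullback.condition]⟩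

/-- Membership of germs in a subsheaf of an inverse image, transported along descent data. -/
theorem mem_range_transport (F : EtDesc.Sh X) {G' : EtDesc.Sh T} (a' : G' ⟶ (EtDesc.pullSh f).obj F) [Mono a']
    (φ : (EtDesc.pullSh (pullback.fst f f)).obj G' ≅ (EtDesc.pullSh (pullback.snd f f)).obj G')
    (hφ : φ.hom ≫ (EtDesc.pullSh (pullback.snd f f)).map a' =
      (EtDesc.pullSh (pullback.fst f f)).map a' ≫ (EtDesc.canIso f F).hom)
    {Ω : Type u} [Field Ω] [IsSepClosed Ω] {η : Spec (CommRingCat.of Ω) ⟶ X} (ξ₁ ξ₂ : FibrePts f η)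
    (e : (stalkSh η).obj F) (h : toPullSh f η ξ₁ F e ∈ Set.range ((stalkSh ξ₁.1).map a')) :
    toPullSh f η ξ₂ F e ∈ Set.range ((stalkSh ξ₂.1).map a') := by
  obtain ⟨g₁, hg₁⟩ := h
  obtain ⟨ξ, ha₁, ha₂⟩ : ∃ ξ : Spec (CommRingCat.of Ω) ⟶ EtDesc.X2 f,
      ξ ≫ pullback.fst f f = ξ₁.1 ∧ ξ ≫ pullback.snd f f = ξ₂.1 :=
    ⟨pullback.lift ξ₁.1 ξ₂.1 (ξ₁.2.trans ξ₂.2.symm), pullback.lift_fst _ _ _, pullback.lift_snd _ _ _⟩
  let p₁ := toPullSh (pullback.fst f f) ξ₁.1 ⟨ξ, ha₁⟩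
  let p₂ := toPullSh (pullback.snd f f) ξ₂.1 ⟨ξ, ha₂⟩
  obtain ⟨g₂, hg₂⟩ := (bijective_toPullSh (pullback.snd f f) (⟨ξ, ha₂⟩ : FibrePts _ ξ₂.1) G').2
    ((stalkSh ξ).map φ.hom (p₁ G' g₁))
  refine ⟨g₂, (bijective_toPullSh (pullback.snd f f) (⟨ξ, ha₂⟩ : FibrePts _ ξ₂.1) _).1 ?_⟩
  refine Eq.trans ?_ (stalk_canIso f F ξ ξ₁ ξ₂ ha₁ ha₂ e)
  refine (toPullSh_naturality (pullback.snd f f) a' ⟨ξ, ha₂⟩ g₂).trans ?_
  refine (congrArg ((stalkSh ξ).map ((EtDesc.pullSh (pullback.snd f f)).map a')) hg₂).trans ?_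
  refine (ConcreteCategory.congr_hom ((stalkSh ξ).map_comp φ.hom _) _).symm.trans ?_
  refine (ConcreteCategory.congr_hom (congrArg (stalkSh ξ).map hφ) _).trans ?_
  refine (ConcreteCategory.congr_hom ((stalkSh ξ).map_comp _ _) _).trans ?_
  exact congrArg ((stalkSh ξ).map (EtDesc.canIso f F).hom)
    ((toPullSh_naturality (pullback.fst f f) a' ⟨ξ, ha₁⟩ g₁).symm.trans (congrArg _ hg₁))

theorem hom_prV (V : X.Etale) (z : ((EtCoh.bc f).obj V).left) :
    V.hom (EtShriek.prV f V z) = f (((EtCoh.bc f).obj V).hom z) :=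
  congrArg (fun k => k z) (pullback.condition (f := V.hom) (g := f))

/-- Subsheaves of an inverse image stable under the canonical descent datum descend. -/
theorem subsheaf_descent (hf : EtDesc.IsUnivSubmersive f) (F : EtDesc.Sh X) {G' : EtDesc.Sh T}
    (a' : G' ⟶ (EtDesc.pullSh f).obj F) [Mono a']
    (φ : (EtDesc.pullSh (pullback.fst f f)).obj G' ≅ (EtDesc.pullSh (pullback.snd f f)).obj G')
    (hφ : φ.hom ≫ (EtDesc.pullSh (pullback.snd f f)).map a' =
      (EtDesc.pullSh (pullback.fst f f)).map a' ≫ (EtDesc.canIso f F).hom) :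
    ∃ (G : EtDesc.Sh X) (a : G ⟶ F) (_ : Mono a) (ψ : (EtDesc.pullSh f).obj G ≅ G'),
      ψ.hom ≫ a' = (EtDesc.pullSh f).map a := by
  let adj := EtDesc.adjSh f
  let u := adj.unit.app F
  let b := (EtDesc.pushSh f).map a'
  have : PreservesLimits (EtDesc.pushSh f) := adj.rightAdjoint_preservesLimits
  have : Mono b := Functor.map_mono _ _
  let H := pullback u b
  let a : H ⟶ F := pullback.fst u b
  let k : (EtDesc.pullSh f).obj H ⟶ G' := (adj.homEquiv H G').symm (pullback.snd u b)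
  have hk : k ≫ a' = (EtDesc.pullSh f).map a := by
    refine (adj.homEquiv_naturality_right_symm _ _).symm.trans ?_
    rw [← pullback.condition]
    rw [adj.homEquiv_naturality_left_symm]
    refine (congrArg (_ ≫ ·) ?_).trans (Category.comp_id _)
    rw [Adjunction.homEquiv_counit]
    exact adj.left_triangle_components F
  have hq := bcQuotient_of_univSubmersive f hf
  have : Mono ((EtDesc.pullSh f).map a) := Functor.map_mono _ _
  have hkm : Mono k := mono_of_mono_fac hk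
  have hki : IsIso k := by
    refine isIso_of_stalksSh_family _ (exists_sepPoint T) k fun y => (isIso_iff_bijective _).2
      ⟨stalkSh_injective _ k, fun e' => ?_⟩
    let ξ : FibrePts f (sepPoint T y.down ≫ f) := ⟨sepPoint T y.down, rfl⟩
    obtain ⟨e, he⟩ := (bijective_toPullSh f ξ F).2 ((stalkSh ξ.1).map a' e')
    obtain ⟨V, v, s, rfl⟩ :=
      (Scheme.pointSmallEtale (sepPoint T y.down ≫ f)).toPresheafFiber_jointly_surjective (P := F.obj) e
    let B := (EtCoh.bc f).obj V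
    let s₁ : EtDesc.sect ((EtDesc.pullSh f).obj F) B := u.hom.app (op V) s
    let L : Set B.left := {z | ∃ (W : T.Etale) (g : W ⟶ B) (t : EtDesc.sect G' W),
      z ∈ Set.range g.left ∧ a'.hom.app (op W) t = ((EtDesc.pullSh f).obj F).obj.map g.op s₁}
    have hL : IsOpen L := by
      have : L = ⋃ (W : T.Etale) (g : W ⟶ B) (_ : ∃ t : EtDesc.sect G' W,
          a'.hom.app (op W) t = ((EtDesc.pullSh f).obj F).obj.map g.op s₁), Set.range g.left := by
        ext z; simp [L]; tauto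
      rw [this]
      refine isOpen_iUnion fun W => isOpen_iUnion fun g => isOpen_iUnion fun _ => ?_
      have : Etale g.left := etale_map_left g
      exact g.left.isOpenMap.isOpen_range
    have sat : ∀ z₁ z₂ : B.left, EtShriek.prV f V z₁ = EtShriek.prV f V z₂ → z₁ ∈ L → z₂ ∈ L := by
      rintro z₁ z₂ hz ⟨W, g, t, hr, ht⟩
      obtain ⟨c, hc₁, hc₂⟩ := Scheme.Pullback.exists_preimage_pullback (f := EtShriek.prV f V)
        (g := EtShriek.prV f V) z₁ z₂ hz
      obtain ⟨l₁, l₂, hl, hl₁, hl₂⟩ : ∃ (l₁ l₂ : Spec (CommRingCat.of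
          (AlgebraicClosure ((pullback (EtShriek.prV f V) (EtShriek.prV f V)).residueField c))) ⟶ B.left),
          l₁ ≫ EtShriek.prV f V = l₂ ≫ EtShriek.prV f V ∧ l₁ default = z₁ ∧ l₂ default = z₂ := by
        refine ⟨algPoint _ c ≫ pullback.fst _ _, algPoint _ c ≫ pullback.snd _ _, ?_, ?_, ?_⟩
        · simp only [Category.assoc, pullback.condition]
        · rw [Scheme.Hom.comp_apply, algPoint_default]; exact hc₁
        · rw [Scheme.Hom.comp_apply, algPoint_default]; exact hc₂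
      obtain ⟨η, hη⟩ : ∃ η, (l₁ ≫ EtShriek.prV f V) ≫ V.hom = η := ⟨_, rfl⟩
      have hcond : B.hom ≫ f = EtShriek.prV f V ≫ V.hom := (pullback.condition (f := V.hom) (g := f)).symm
      have k₁ : (l₁ ≫ B.hom) ≫ f = η := by rw [← hη, Category.assoc, hcond, Category.assoc]
      have k₂ : (l₂ ≫ B.hom) ≫ f = η := by
        rw [← hη, Category.assoc, hcond, ← Category.assoc, ← hl]
      let ξ₁ : FibrePts f η := ⟨l₁ ≫ B.hom, k₁⟩
      let ξ₂ : FibrePts f η := ⟨l₂ ≫ B.hom, k₂⟩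
      let v' : (Scheme.pointSmallEtale η).fiber.obj V := Over.homMk (l₁ ≫ EtShriek.prV f V) hη
      have p₁ : fiberPt (bcLift f η ξ₁ V v') = z₁ := by
        refine (congrArg (fun k : _ ⟶ pullback V.hom f => k default) (pullback.hom_ext ?_ ?_)).trans hl₁
        · exact pullback.lift_fst _ _ _
        · exact pullback.lift_snd _ _ _
      have p₂ : fiberPt (bcLift f η ξ₂ V v') = z₂ := by
        refine (congrArg (fun k : _ ⟶ pullback V.hom f => k default) (pullback.hom_ext ?_ ?_)).trans hl₂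
        · exact (pullback.lift_fst _ _ _).trans hl
        · exact pullback.lift_snd _ _ _
      have m₁ := mem_range_of_refine a' s₁ g t ht ξ₁.1 (bcLift f η ξ₁ V v') (p₁.symm ▸ hr)
      rw [gmS_unit f ξ₁ F V v' s] at m₁
      have m₂ := mem_range_transport f F a' φ hφ ξ₁ ξ₂ _ m₁
      rw [← gmS_unit f ξ₂ F V v' s] at m₂
      obtain ⟨W', g', t', hr', ht'⟩ := exists_refine a' B s₁ ξ₂.1 _ m₂
      exact ⟨W', g', t', p₂ ▸ hr', ht'⟩
    have hz₀ : fiberPt (bcLift f _ ξ V v) ∈ L := by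
      obtain ⟨W, g, t, hr, ht⟩ := exists_refine a' B s₁ ξ.1 (bcLift f _ ξ V v)
        (by rw [gmS_unit f ξ F V v s]; exact ⟨e', he.symm⟩)
      exact ⟨W, g, t, hr, ht⟩
    have hpre : EtShriek.prV f V ⁻¹' (EtShriek.prV f V '' L) = L :=
      Set.Subset.antisymm (fun z₂ ⟨z₁, h₁, hz⟩ => sat z₁ z₂ hz h₁) (Set.subset_preimage_image _ _)
    have hO : IsOpen (EtShriek.prV f V '' L) := by
      refine (hq V).2.isOpen_preimage.1 ?_
      rw [hpre]; exact hL
    let V₀ : V.left.Opens := ⟨_, hO⟩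
    have : Etale V.hom := V.prop
    let W : X.Etale := Scheme.Etale.mk (V₀.ι ≫ V.hom)
    let g : W ⟶ V := MorphismProperty.Over.homMk V₀.ι rfl
    obtain ⟨l, hl⟩ : ∃ l : Spec (CommRingCat.of _) ⟶ (V₀ : Scheme.{u}), l ≫ V₀.ι = v.left := by
      refine ⟨IsOpenImmersion.lift V₀.ι v.left ?_, IsOpenImmersion.lift_fac _ _ _⟩
      rintro _ ⟨p, rfl⟩
      rw [Subsingleton.elim p default, Scheme.Opens.range_ι]
      refine ⟨_, hz₀, ?_⟩
      exact congrArg (fun k : Spec _ ⟶ V.left => k default) (pullback.lift_fst _ _ _)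
    let w : (Scheme.pointSmallEtale (sepPoint T y.down ≫ f)).fiber.obj W :=
      Over.homMk l ((Category.assoc _ _ _).symm.trans ((congrArg (· ≫ V.hom) hl).trans (Over.w v)))
    have hw : (Scheme.pointSmallEtale _).fiber.map g w = v := Over.OverMorphism.ext hl
    let s₀ : EtDesc.sect F W := F.obj.map g.op s
    have hgerm : ∀ z : ((EtCoh.bc f).obj W).left, ∃ (K : Type u) (_ : Field K) (_ : IsSepClosed K)
        (ζ : Spec (CommRingCat.of K) ⟶ T)
        (q : (Scheme.pointSmallEtale ζ).fiber.obj ((EtCoh.bc f).obj W)),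
        fiberPt q = z ∧ gmS _ ζ _ q (u.hom.app (op W) s₀) ∈ Set.range ((stalkSh ζ).map a') := by
      intro z
      obtain ⟨ζ, hζ⟩ : ∃ ζ, algPoint T (((EtCoh.bc f).obj W).hom z) = ζ := ⟨_, rfl⟩
      obtain ⟨q, hq'⟩ := exists_fiber_point ζ ((EtCoh.bc f).obj W) z (by rw [← hζ]; exact (algPoint_default T _).symm)
      have hnat : ((EtDesc.pullSh f).obj F).obj.map ((EtCoh.bc f).map g).op s₁ = u.hom.app (op W) s₀ :=
        (ConcreteCategory.congr_hom (u.hom.naturality g.op) s).symm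
      refine ⟨_, inferInstance, inferInstance, ζ, q, hq', ?_⟩
      rw [← hnat, gmS_map]
      have hin : ((EtCoh.bc f).map g).left z ∈ L := by
        rw [← hpre]
        change EtShriek.prV f V (((EtCoh.bc f).map g).left z) ∈ V₀
        rw [← Scheme.Hom.comp_apply, (EtCoh.isPullback_bc_map f g).w]
        exact (EtShriek.prV f W z).2
      obtain ⟨W', g', t', hr', ht'⟩ := hin
      refine mem_range_of_refine a' s₁ g' t' ht' ζ _ ?_
      rw [← fiberPt_map, hq']
      exact hr'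
    obtain ⟨t₀, ht₀⟩ := exists_lift_of_germs a' ((EtCoh.bc f).obj W) (u.hom.app (op W) s₀) hgerm
    let ev : EtDesc.Sh X ⥤ Type (u + 1) := sheafToPresheaf _ _ ⋙ (evaluation _ _).obj (op W)
    obtain ⟨r, hr₁, -⟩ := PullbackCone.IsLimit.lift' (isLimitOfHasPullbackOfPreservesLimit ev u b)
      (↾fun _ : PUnit.{u + 2} => s₀) (↾fun _ => t₀) (by ext; exact ht₀.symm)
    let h₀ : EtDesc.sect H W := r PUnit.unit
    have hfst : a.hom.app (op W) h₀ = s₀ := ConcreteCategory.congr_hom hr₁ PUnit.unit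
    refine ⟨toPullSh f _ ξ H (gmS H _ W w h₀), stalkSh_injective ξ.1 a' ?_⟩
    refine ((ConcreteCategory.congr_hom ((stalkSh ξ.1).map_comp k a') _).symm.trans ?_).trans he
    refine (ConcreteCategory.congr_hom (congrArg (stalkSh ξ.1).map hk) _).trans ?_
    refine (toPullSh_naturality f a ξ _).symm.trans (congrArg _ ?_)
    rw [gmS_hom, hfst, gmS_map, hw]
  exact ⟨H, a, inferInstance, @asIso _ _ _ _ k hki, hk⟩

end Groth.Agent.Et18.H0Lift
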