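import Groth.Agent.Et18.H0Lift.ConnectedDescent
import Groth.Agent.Et18.H0Lift.FamilyDescent
import Groth.Agent.Et18.H0Lift.SubmDescent
import Groth.Agent.Et18.H0Lift.SetsDescent
import Mathlib.AlgebraicGeometry.Morphisms.UniversallyClosed

/-!
# Supports and gluing of sections of inverse images
-/

set_option autoImplicit false
set_option backward.isDefEq.respectTransparency.types false
set_option backward.isDefEq.respectTransparency false

universe u

open CategoryTheory CategoryTheory.Limits AlgebraicGeometry Opposite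

namespace Groth.Agent.Et18.H0Lift

variable {X T T' : Scheme.{u}} {F : EtCoh.Ab X}

/-- Global sections of an inverse image. -/
noncomputable abbrev gSec (c : T ⟶ X) (F : EtCoh.Ab X) :=
  EtCoh.sect ((EtCoh.pull c).obj F) (EtCoh.top T)

/-- The support of a global section. -/
noncomputable abbrev gSupp {c : T ⟶ X} (σ : gSec c F) : Set T :=
  EtShriek.sectSupp ((EtCoh.pull c).obj F) (EtCoh.top T) σ

variable {c : T ⟶ X}

theorem isClosed_gSupp (σ : gSec c F) : IsClosed (gSupp σ) := isClosed_sectSupp _ _ _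

theorem mem_gSupp_iff {σ : gSec c F} {Ω : Type u} [Field Ω] [IsSepClosed Ω]
    {η : Spec (CommRingCat.of Ω) ⟶ X} {ξ : FibrePts c η} {e : (EtCoh.stalk η).obj F} (he : HasGerm σ ξ e) :
    ξ.1 default ∈ gSupp σ ↔ e ≠ 0 := by
  have h := gm_eq_zero_iff ((EtCoh.pull c).obj F) ξ.1 (EtCoh.top T) (topPt ξ.1) σ
  rw [← he] at h
  refine not_iff_not.1 (h.symm.trans ⟨fun h0 => ?_, fun h0 => ?_⟩)
  · exact not_not.2 ((bijective_toPull c ξ F).1 (h0.trans (map_zero _).symm))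
  · rw [not_not.1 h0, map_zero]

theorem exists_germ_at (σ : gSec c F) (y : T) :
    ∃ (ξ : FibrePts c (algPoint T y ≫ c)) (e : (EtCoh.stalk (algPoint T y ≫ c)).obj F),
      ξ.1 = algPoint T y ∧ HasGerm σ ξ e := by
  obtain ⟨e, he⟩ := exists_hasGerm σ (⟨algPoint T y, rfl⟩ : FibrePts c (algPoint T y ≫ c))
  exact ⟨_, e, rfl, he⟩

theorem mem_gSupp_pullSec (a : T' ⟶ T) {c' : T' ⟶ X} (h : a ≫ c = c') (σ : gSec c F) (y : T') :
    y ∈ gSupp (pullSec a c F h σ) ↔ a y ∈ gSupp σ := by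
  let ζ := algPoint T' y
  let ξ' : FibrePts c' (ζ ≫ c') := ⟨ζ, rfl⟩
  let ξ : FibrePts c (ζ ≫ c') := ⟨ζ ≫ a, by rw [Category.assoc, h]⟩
  obtain ⟨e, he⟩ := exists_hasGerm σ ξ
  have h1 := mem_gSupp_iff he
  have h2 := mem_gSupp_iff (hasGerm_pullSec a h ξ' ξ rfl he)
  change (ζ ≫ a) default ∈ gSupp σ ↔ _ at h1
  change ζ default ∈ gSupp (pullSec a c F h σ) ↔ _ at h2
  rw [Scheme.Hom.comp_apply, algPoint_default] at h1
  rw [algPoint_default] at h2
  exact h2.trans h1.symm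

/-- A section supported in a closed subset of an open extends by zero. -/
theorem exists_extend_zero {U : Scheme.{u}} (j : U ⟶ T) [IsOpenImmersion j] {cU : U ⟶ X} (h : j ≫ c = cU)
    (S : Set T) (hS : IsClosed S) (hSU : S ⊆ Set.range j) (τ : gSec cU F) (hτ : gSupp τ ⊆ j ⁻¹' S) :
    ∃ σ : gSec c F, pullSec j c F h σ = τ ∧ gSupp σ ⊆ S := by
  let O : T.Opens := ⟨Sᶜ, hS.isOpen_compl⟩
  let W : ULift.{u + 1} Bool → Scheme.{u} := fun b => bif b.down then U else O
  let g : ∀ b, W b ⟶ T := fun b => match b with | ⟨true⟩ => j | ⟨false⟩ => O.ι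
  let fi : ∀ b, W b ⟶ X := fun b => match b with | ⟨true⟩ => cU | ⟨false⟩ => O.ι ≫ c
  have hfi : ∀ b, g b ≫ c = fi b := fun b => match b with | ⟨true⟩ => h | ⟨false⟩ => rfl
  let s : ∀ b, gSec (fi b) F := fun b => match b with | ⟨true⟩ => τ | ⟨false⟩ => 0
  have hopen : ∀ b, UniversallyOpen (g b) := fun b => match b with
    | ⟨true⟩ => inferInstanceAs (UniversallyOpen j)
    | ⟨false⟩ => inferInstanceAs (UniversallyOpen O.ι)
  obtain ⟨σ, hσ⟩ := exists_descend_family c g hopen (fun y => by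
    by_cases hy : y ∈ S
    · exact ⟨⟨true⟩, hSU hy⟩
    · exact ⟨⟨false⟩, ⟨y, hy⟩, rfl⟩) hfi s (fun k l Ω _ _ η ξ₁ ξ₂ e hg he => by
    have zero_of : ∀ (ξU : FibrePts cU η) (ξO : FibrePts (O.ι ≫ c) η) (e : (EtCoh.stalk η).obj F),
        ξU.1 ≫ j = ξO.1 ≫ O.ι → HasGerm τ ξU e → e = 0 := by
      intro ξU ξO e hUO he
      by_contra hne
      have h1 := hτ ((mem_gSupp_iff he).2 hne)
      have h2 : (ξU.1 ≫ j) default ∈ S := h1
      rw [hUO, Scheme.Hom.comp_apply] at h2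
      exact (ξO.1 default).2 h2
    obtain ⟨_ | _⟩ := k <;> obtain ⟨_ | _⟩ := l
    · obtain rfl := he.unique (HasGerm.zero ξ₁); exact HasGerm.zero ξ₂
    · obtain rfl := he.unique (HasGerm.zero ξ₁)
      obtain ⟨e', he'⟩ := exists_hasGerm (τ : gSec cU F) ξ₂
      obtain rfl := zero_of ξ₂ ξ₁ e' hg.symm he'
      exact he'
    · obtain rfl := zero_of ξ₁ ξ₂ e hg he; exact HasGerm.zero ξ₂
    · obtain rfl : ξ₁ = ξ₂ := Subtype.ext ((cancel_mono j).1 hg)
      exact he)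
  refine ⟨σ, hσ ⟨true⟩, fun y hy => ?_⟩
  by_contra hn
  have h1 := (mem_gSupp_pullSec (g ⟨false⟩) (hfi ⟨false⟩) σ ⟨y, hn⟩).2 hy
  rw [hσ ⟨false⟩] at h1
  exact notMem_sectSupp_zero _ _ _ h1

/-- Descent of sections along universally closed surjective morphisms. -/
theorem exists_descend_closed (π : T' ⟶ T) [UniversallyClosed π] [Surjective π] {c' : T' ⟶ X}
    (h : π ≫ c = c') (τ : gSec c' F)
    (hτ : ∀ (Ω : Type u) [Field Ω] [IsSepClosed Ω] (η : Spec (CommRingCat.of Ω) ⟶ X) (ξ₁ ξ₂ : FibrePts c' η)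
      (e₁ e₂ : (EtCoh.stalk η).obj F), ξ₁.1 ≫ π = ξ₂.1 ≫ π → HasGerm τ ξ₁ e₁ → HasGerm τ ξ₂ e₂ → e₁ = e₂) :
    ∃ σ : gSec c F, pullSec π c F h σ = τ := by
  subst h
  let κ := compHom π c F
  let σ₁ := κ.hom.app (op (EtCoh.top T')) τ
  have hq : ∀ V : T.Etale, Function.Surjective (EtShriek.prV π V) ∧
      Topology.IsQuotientMap (EtShriek.prV π V) := fun V => by
    have : Surjective (EtShriek.prV π V) := MorphismProperty.pullback_fst (P := @Surjective) V.hom π inferInstance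
    have : UniversallyClosed (EtShriek.prV π V) :=
      MorphismProperty.pullback_fst (P := @UniversallyClosed) V.hom π inferInstance
    exact ⟨(EtShriek.prV π V).surjective, (EtShriek.prV π V).isClosedMap.isQuotientMap
      (EtShriek.prV π V).continuous (EtShriek.prV π V).surjective⟩
  have hc : Compat π ((EtCoh.pull c).obj F) σ₁ := by
    intro Ω _ _ η₁ ξ₁ ξ₂ e₁ e₂ h₁ h₂
    let ζ₁ : FibrePts (π ≫ c) (η₁ ≫ c) := ⟨ξ₁.1, by rw [← Category.assoc, ξ₁.2]⟩
    let ζ₂ : FibrePts (π ≫ c) (η₁ ≫ c) := ⟨ξ₂.1, by rw [← Category.assoc, ξ₂.2]⟩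
    obtain ⟨a₁, ha₁⟩ := exists_hasGerm τ ζ₁
    obtain ⟨a₂, ha₂⟩ := exists_hasGerm τ ζ₂
    obtain rfl := hτ Ω (η₁ ≫ c) ζ₁ ζ₂ a₁ a₂ (ξ₁.2.trans ξ₂.2.symm) ha₁ ha₂
    have key : ∀ (ξ : FibrePts π η₁) (ζ : FibrePts (π ≫ c) (η₁ ≫ c)), ζ.1 = ξ.1 → HasGerm τ ζ a₁ →
        toPull π η₁ ξ ((EtCoh.pull c).obj F) (toPull c (η₁ ≫ c) ⟨η₁, rfl⟩ F a₁) =
          gm ((EtCoh.pull π).obj ((EtCoh.pull c).obj F)) ξ.1 _ (topPt ξ.1) σ₁ := by
      rintro ⟨_, hξ⟩ ⟨ζ, hζ⟩ rfl hg
      rw [← stalk_compHom π c ζ hξ rfl hζ a₁]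
      exact (congrArg ((EtCoh.stalk ζ).map κ) hg).trans (gm_hom κ ζ _ (topPt ζ) τ)
    exact ((bijective_toPull π ξ₁ _).1 (h₁.trans (key ξ₁ ζ₁ rfl ha₁).symm)).trans
      ((bijective_toPull π ξ₂ _).1 (h₂.trans (key ξ₂ ζ₂ rfl ha₂).symm)).symm
  obtain ⟨s, hs⟩ := exists_descend hq hc
  refine ⟨s, ?_⟩
  have := isIso_compHom π c F
  refine app_injective_of_mono κ (op (EtCoh.top T')) ?_
  change κ.hom.app _ ((inv κ).hom.app _
    (((EtCoh.pull π).obj ((EtCoh.pull c).obj F)).obj.map (downHom π).op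
      (uAt π ((EtCoh.pull c).obj F) (EtCoh.top T) s))) = σ₁
  refine (ConcreteCategory.congr_hom
    (congrArg (fun k => k.hom.app (op (EtCoh.top T'))) (IsIso.inv_hom_id κ)) _).trans ?_
  refine (congrArg _ hs).trans ?_
  refine (ConcreteCategory.congr_hom
    (((EtCoh.pull π).obj ((EtCoh.pull c).obj F)).obj.map_comp _ _) σ₁).symm.trans ?_
  rw [← op_comp, (EtCore.topIsTerminal T').hom_ext (downHom π ≫ _) (𝟙 _), op_id,
    CategoryTheory.Functor.map_id]
  rfl

/-- A global section of the restriction to an étale object comes from a section over it. -/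
theorem exists_pullAt_id (U : X.Etale) (σ : gSec U.hom F) :
    ∃ t : EtCoh.sect F U, pullAt F U (𝟙 _) (Category.id_comp _) t = σ := by
  let G := (EtCoh.pull U.hom).obj F
  have hloc : ∀ y : U.left, ∃ (W : X.Etale) (a : W ⟶ U) (t : EtCoh.sect F W), y ∈ Set.range a.left ∧
      ∀ {Ω : Type u} [Field Ω] [IsSepClosed Ω] (η : Spec (CommRingCat.of Ω) ⟶ X)
        (w : (Scheme.pointSmallEtale η).fiber.obj W) (ξ : FibrePts U.hom η), ξ.1 = w.left ≫ a.left →
          HasGerm σ ξ (gm F η W w t) := by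
    intro y
    obtain ⟨V, t, b, hb, hbD⟩ := exists_local_at U.hom F σ y
    let B := (EtCoh.bc U.hom).obj V
    let O : B.left.Opens := ⟨(EtShriek.sectSupp G B (diffAt U.hom F σ V t))ᶜ,
      (isClosed_sectSupp _ _ _).isOpen_compl⟩
    have : Etale B.hom := B.prop
    have : Etale U.hom := U.prop
    let W : X.Etale := Scheme.Etale.mk (O.ι ≫ B.hom ≫ U.hom)
    let a : W ⟶ U := MorphismProperty.Over.homMk (O.ι ≫ B.hom) (Category.assoc _ _ _)
    let p : W ⟶ V := MorphismProperty.Over.homMk (O.ι ≫ EtShriek.prV U.hom V)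
      ((Category.assoc _ _ _).trans (congrArg (O.ι ≫ ·) (pullback.condition (f := V.hom) (g := U.hom))))
    refine ⟨W, a, F.obj.map p.op t, ⟨⟨b, hbD⟩, hb⟩, fun {Ω} _ _ η w ξ hξ => ?_⟩
    rw [gm_map]
    refine hasGerm_of_not_mem σ V t ξ _ ?_
    let wl : Spec (CommRingCat.of Ω) ⟶ (O : Scheme.{u}) := w.left
    have e : (bcLift U.hom η ξ V ((Scheme.pointSmallEtale η).fiber.map p w)).left = wl ≫ O.ι := by
      refine pullback.hom_ext ?_ ?_
      · exact (pullback.lift_fst _ _ _).trans (Category.assoc _ _ _).symm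
      · exact (pullback.lift_snd _ _ _).trans (hξ.trans (Category.assoc _ _ _).symm)
    rw [show fiberPt (bcLift U.hom η ξ V ((Scheme.pointSmallEtale η).fiber.map p w)) = O.ι (wl default) from
      congrArg (fun k : Spec _ ⟶ B.left => k default) e]
    exact (wl default).2
  choose W a t hy hg using hloc
  obtain ⟨s, hs⟩ := exists_glue_cover (F := F) U (fun y : ULift.{u + 1} U.left => W y.down)
    (fun y => a y.down) (fun y => ⟨⟨y⟩, hy y⟩) (fun y => t y.down) (fun k l R gk gl he r => by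
      obtain ⟨w, hw⟩ := exists_fiber_point (algPoint X (R.hom r)) R r (algPoint_default X _).symm
      rw [← hw]
      refine (gm_eq_zero_iff F _ R w _).1 ((map_sub _ _ _).trans (sub_eq_zero.2 ?_))
      refine (gm_map F _ gk w (t k.down)).trans (Eq.trans ?_ (gm_map F _ gl w (t l.down)).symm)
      let Φ := Scheme.pointSmallEtale (algPoint X (R.hom r))
      let ξ : FibrePts U.hom (algPoint X (R.hom r)) := ⟨(Φ.fiber.map (gk ≫ a k.down) w).left, Over.w _⟩
      refine (hg k.down _ (Φ.fiber.map gk w) ξ (Category.assoc _ _ _).symm).unique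
        (hg l.down _ (Φ.fiber.map gl w) ξ ?_)
      change (Φ.fiber.map (gk ≫ a k.down) w).left = _
      rw [he]
      exact (Category.assoc _ _ _).symm)
  refine ⟨s, eq_of_hasGerm _ _ fun y => ?_⟩
  obtain ⟨z, hz⟩ := hy y
  let ζ := algPoint U.left y
  have : Etale (a y).left := etale_map_left _
  obtain ⟨w₀, hw₀, -⟩ := Scheme.exists_fac_of_etale_of_isSepClosed (a y).left ζ z
    (hz.trans (algPoint_default _ y).symm)
  let ξ : FibrePts U.hom (ζ ≫ U.hom) := ⟨ζ, rfl⟩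
  let w : (Scheme.pointSmallEtale (ζ ≫ U.hom)).fiber.obj (W y) := Over.homMk w₀ (by
    refine (congrArg (w₀ ≫ ·) (Over.w (a y).hom).symm).trans ?_
    exact (Category.assoc _ _ _).symm.trans (congrArg (· ≫ U.hom) hw₀))
  refine ⟨_, inferInstance, inferInstance, _, ξ, gm F _ (W y) w (t y), algPoint_default _ y, ?_,
    hg y _ w ξ hw₀.symm⟩
  have h1 := hasGerm_pullAt U (𝟙 _) (Category.id_comp _) s ξ
  rw [← hs ⟨y⟩, gm_map]
  have h2 : (Scheme.pointSmallEtale (ζ ≫ U.hom)).fiber.map (a y) w = fibOf ξ U (𝟙 _) (Category.id_comp _) :=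
    Over.OverMorphism.ext (hw₀.trans (Category.comp_id _).symm)
  rw [h2]
  exact h1

end Groth.Agent.Et18.H0Lift
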