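import Groth.Agent.Et18.H0Lift.SetsDescent
import Groth.Agent.Et18.SecPullBaseChange

/-!
# Descent of sections of sheaves of sets along surjective morphisms
-/

set_option autoImplicit false
set_option backward.isDefEq.respectTransparency.types false
set_option backward.isDefEq.respectTransparency false

universe u

open CategoryTheory CategoryTheory.Limits AlgebraicGeometry Opposite

namespace Groth.Agent.Et18.H0Lift

variable {X Y Xb Yb : Scheme.{u}} {h : Y ⟶ X} {p : Xb ⟶ X} {hb : Yb ⟶ Xb} {pY : Yb ⟶ Y}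
  (w : hb ≫ p = pY ≫ h) (F : EtDesc.Sh X)

/-- Transport of sections along a square. -/
noncomputable def squareTransport (ξ : EtDesc.sect ((EtDesc.pullSh h).obj F) (EtCoh.top Y)) :
    EtDesc.sect ((EtDesc.pullSh hb).obj ((EtDesc.pullSh p).obj F)) (EtCoh.top Yb) :=
  ((EtDesc.pullVia pY h (pY ≫ h) rfl F) ≪≫ (EtDesc.pullVia hb p (pY ≫ h) w F).symm).hom.hom.app
    (op (EtCoh.top Yb)) (EtDesc.secPull pY ((EtDesc.pullSh h).obj F) ξ)

variable {Ω : Type u} [Field Ω] [IsSepClosed Ω]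

theorem gmS_squareTransport (ξ : EtDesc.sect ((EtDesc.pullSh h).obj F) (EtCoh.top Y))
    (ζ : Spec (CommRingCat.of Ω) ⟶ Yb) {η : Spec (CommRingCat.of Ω) ⟶ X}
    {ηY : Spec (CommRingCat.of Ω) ⟶ Y} {ηXb : Spec (CommRingCat.of Ω) ⟶ Xb}
    (hY : ζ ≫ pY = ηY) (hYX : ηY ≫ h = η) (hXb : ζ ≫ hb = ηXb) (hbX : ηXb ≫ p = η)
    (e : (stalkSh η).obj F) (he : toPullSh h η ⟨ηY, hYX⟩ F e = gmS _ ηY _ (topPt ηY) ξ) :
    gmS _ ζ _ (topPt ζ) (squareTransport w F ξ) =
      toPullSh hb ηXb ⟨ζ, hXb⟩ ((EtDesc.pullSh p).obj F) (toPullSh p η ⟨ηXb, hbX⟩ F e) := by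
  have hc : ζ ≫ pY ≫ h = η := by rw [← Category.assoc, hY, hYX]
  let P := EtDesc.pullVia hb p (pY ≫ h) w F
  let Q := EtDesc.pullVia pY h (pY ≫ h) rfl F
  have hi : IsIso ((stalkSh ζ).map P.hom) := Functor.map_isIso _ _
  apply ((isIso_iff_bijective _).1 hi).1
  refine Eq.trans ?_ (stalk_pullVia _ _ w F ζ hXb hbX hc e).symm
  refine (congrArg ((stalkSh ζ).map P.hom) (gmS_hom (Q ≪≫ P.symm).hom ζ _ (topPt ζ) _).symm).trans ?_
  refine (ConcreteCategory.congr_hom ((stalkSh ζ).map_comp (Q ≪≫ P.symm).hom P.hom) _).symm.trans ?_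
  have hQ : (Q ≪≫ P.symm).hom ≫ P.hom = Q.hom := by simp
  refine (ConcreteCategory.congr_hom (congrArg (stalkSh ζ).map hQ) _).trans ?_
  refine (congrArg ((stalkSh ζ).map Q.hom) ((gmS_secPull pY ⟨ζ, hY⟩ _ ξ).trans (congrArg _ he.symm))).trans ?_
  exact stalk_pullVia _ _ rfl F ζ hY hYX hc e

theorem squareTransport_secPull (s : EtDesc.sect F (EtCoh.top X)) :
    squareTransport w F (EtDesc.secPull h F s) = EtDesc.secPull hb _ (EtDesc.secPull p F s) := by
  refine eq_of_gmS _ _ _ _ fun y => ⟨_, inferInstance, inferInstance, algPoint Yb y, topPt _,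
    algPoint_default _ y, ?_⟩
  let ζ := algPoint Yb y
  have hbX : (ζ ≫ hb) ≫ p = (ζ ≫ pY) ≫ h := by rw [Category.assoc, w, Category.assoc]
  refine (gmS_squareTransport w F _ ζ rfl rfl rfl hbX _ (gmS_secPull h ⟨ζ ≫ pY, rfl⟩ F s).symm).trans ?_
  refine Eq.trans ?_ (gmS_secPull hb ⟨ζ, rfl⟩ _ _).symm
  exact congrArg _ (gmS_secPull p ⟨ζ ≫ hb, hbX⟩ F s).symm

set_option maxHeartbeats 800000 in
theorem baseChange0Sh_unit_app (ξ : EtDesc.sect ((EtDesc.pullSh h).obj F) (EtCoh.top Y)) :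
    ((EtDesc.pullSh hb).obj ((EtDesc.pullSh p).obj F)).obj.map (EtCore.bcTopIso pY).inv.op
      ((EtBC.baseChange0Sh p h pY hb w ((EtDesc.pullSh p).obj F)).hom.app (op (EtCoh.top Y))
        (((EtDesc.pullSh h).map ((EtDesc.adjSh p).unit.app F)).hom.app (op (EtCoh.top Y)) ξ)) =
      squareTransport w F ξ := by
  refine eq_of_gmS _ _ _ _ fun y => ⟨_, inferInstance, inferInstance, algPoint Yb y, topPt _,
    algPoint_default _ y, ?_⟩
  let ζ := algPoint Yb y
  obtain ⟨ηY, hY⟩ : ∃ ηY, ζ ≫ pY = ηY := ⟨_, rfl⟩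
  obtain ⟨η, hYX⟩ : ∃ η, ηY ≫ h = η := ⟨_, rfl⟩
  obtain ⟨ηXb, hXb⟩ : ∃ ηXb, ζ ≫ hb = ηXb := ⟨_, rfl⟩
  have hbX : ηXb ≫ p = η := by rw [← hXb, ← hYX, ← hY, Category.assoc, Category.assoc, w]
  obtain ⟨e, he⟩ := (bijective_toPullSh h (⟨ηY, hYX⟩ : FibrePts h η) F).2 (gmS _ ηY _ (topPt ηY) ξ)
  refine Eq.trans ?_ (gmS_squareTransport w F ξ ζ hY hYX hXb hbX e he).symm
  let G := (EtDesc.pullSh p).obj F
  let K := (EtDesc.pullSh hb).obj G
  let β := (EtDesc.pullSh h).map ((EtDesc.adjSh p).unit.app F) ≫ EtBC.baseChange0Sh p h pY hb w G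
  let z : EtDesc.sect ((EtDesc.pushSh pY).obj K) (EtCoh.top Y) := β.hom.app (op (EtCoh.top Y)) ξ
  let ξY : FibrePts pY ηY := ⟨ζ, hY⟩
  have hfn : ∀ (V : Y.Etale) (v : (Scheme.pointSmallEtale ηY).fiber.obj V)
      (s : EtDesc.sect ((EtDesc.pushSh pY).obj K) V),
      (fibreNat pY ηY (Type (u + 1)) ξY).app K (gmS ((EtDesc.pushSh pY).obj K) ηY V v s) =
        gmS K ζ _ (bcLift pY ηY ξY V v) s := fun V v s =>
    ConcreteCategory.congr_hom (toPresheafFiber_fibreNat pY ηY (Type (u + 1)) ξY K V v) s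
  change gmS K ζ _ (topPt ζ) (K.obj.map (EtCore.bcTopIso pY).inv.op z) = _
  refine (gmS_map K ζ _ _ _).trans ?_
  rw [show (Scheme.pointSmallEtale ζ).fiber.map (EtCore.bcTopIso pY).inv (topPt ζ) =
    bcLift pY ηY ξY (EtCoh.top Y) (topPt ηY) from
      (bcLiftEquiv pY ηY ξY _).symm.injective (fibre_eq (EtCoh.top Y) _ _)]
  refine (hfn _ (topPt ηY) z).symm.trans ?_
  obtain ⟨V, v, t, rfl⟩ :=
    (Scheme.pointSmallEtale η).toPresheafFiber_jointly_surjective (P := F.obj) e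
  have hz : gmS ((EtDesc.pushSh pY).obj K) ηY _ (topPt ηY) z =
      gmS _ ηY _ (bcLift h η ⟨ηY, hYX⟩ V v)
        (β.hom.app (op ((EtCoh.bc h).obj V)) (((EtDesc.adjSh h).unit.app F).hom.app (op V) t)) := by
    refine (gmS_hom β ηY _ _ ξ).symm.trans ((congrArg ((stalkSh ηY).map β) he.symm).trans ?_)
    refine (congrArg ((stalkSh ηY).map β) (gmS_unit h ⟨ηY, hYX⟩ F V v t).symm).trans ?_
    exact gmS_hom β ηY _ _ _
  refine (congrArg ((fibreNat pY ηY (Type (u + 1)) ξY).app K) hz).trans ((hfn _ _ _).trans ?_)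
  have hβ : β.hom.app (op ((EtCoh.bc h).obj V)) (((EtDesc.adjSh h).unit.app F).hom.app (op V) t) =
      K.obj.map (bcSquareHom p h pY hb w V).op
        (((EtDesc.adjSh hb).unit.app G).hom.app (op ((EtCoh.bc p).obj V))
          (((EtDesc.adjSh p).unit.app F).hom.app (op V) t)) := by
    have h1 := congrArg (fun k => k.hom.app (op V))
      ((EtDesc.adjSh h).unit.naturality ((EtDesc.adjSh p).unit.app F))
    have h2 := ConcreteCategory.congr_hom h1 t
    refine (congrArg ((EtBC.baseChange0Sh p h pY hb w G).hom.app (op ((EtCoh.bc h).obj V))) h2.symm).trans ?_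
    exact ConcreteCategory.congr_hom (unit_baseChange0Sh p h pY hb w G V)
      (((EtDesc.adjSh p).unit.app F).hom.app (op V) t)
  refine (congrArg (gmS K ζ _ _) hβ).trans ((gmS_map K ζ _ _ _).trans ?_)
  let ξp : FibrePts p η := ⟨ηXb, hbX⟩
  let ξh : FibrePts hb ηXb := ⟨ζ, hXb⟩
  refine Eq.trans ?_ ((gmS_unit hb ξh G _ (bcLift p η ξp V v) _).trans
    (congrArg _ (gmS_unit p ξp F V v t)))
  refine congrArg (fun k => gmS K ζ _ k _) ?_
  refine (bcLiftEquiv hb ηXb ξh _).symm.injective ((bcLiftEquiv p η ξp V).symm.injective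
    (Over.OverMorphism.ext ?_))
  change (((bcLift pY ηY ξY _ (bcLift h η ⟨ηY, hYX⟩ V v)).left ≫ (bcSquareHom p h pY hb w V).left) ≫
      EtShriek.prV hb _) ≫ EtShriek.prV p V =
    ((bcLift hb ηXb ξh _ (bcLift p η ξp V v)).left ≫ EtShriek.prV hb _) ≫ EtShriek.prV p V
  simp only [Category.assoc]
  rw [bcSquareHom_fst]
  simp [bcLift]

/-- Descent of injectivity and bijectivity of pull back of sections along a surjective morphism. -/
theorem injective_secPull_of_surjective_baseChange (w : hb ≫ p = pY ≫ h) (hp : Function.Surjective p)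
    (hinj : ∀ Fb : EtDesc.Sh Xb, Function.Injective (EtDesc.secPull hb Fb)) (F : EtDesc.Sh X) :
    Function.Injective (EtDesc.secPull h F) := fun s t hst => by
  refine secPull_injective_of_surjective p hp F (hinj _ ?_)
  rw [← squareTransport_secPull w, ← squareTransport_secPull w, hst]

theorem bijective_secPull_of_surjective_baseChange (w : hb ≫ p = pY ≫ h) (hp : Function.Surjective p)
    (hbij : ∀ Fb : EtDesc.Sh Xb, Function.Bijective (EtDesc.secPull hb Fb))
    (hmono : ∀ Fb : EtDesc.Sh Xb, Mono (EtBC.baseChange0Sh p h pY hb w Fb)) (F : EtDesc.Sh X) :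
    Function.Bijective (EtDesc.secPull h F) := by
  have hinj := injective_secPull_of_surjective_baseChange w hp fun Fb => (hbij Fb).1
  refine ⟨hinj F, fun ξ => ?_⟩
  let G := (EtDesc.pullSh p).obj F
  let u := (EtDesc.adjSh p).unit.app F
  have hu : Mono u := by
    have happ : ∀ U : X.Etaleᵒᵖ, Mono (u.hom.app U) := fun U => (mono_iff_injective _).2 fun s t hst => by
      refine eq_of_gmS F U.unop s t fun z => ?_
      obtain ⟨y, hy⟩ := hp (U.unop.hom z)
      let ζ := algPoint Xb y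
      obtain ⟨r, hr⟩ := exists_fiber_point (ζ ≫ p) U.unop z (by
        rw [Scheme.Hom.comp_apply, algPoint_default, hy])
      refine ⟨_, inferInstance, inferInstance, ζ ≫ p, r, hr, ?_⟩
      refine (bijective_toPullSh p (⟨ζ, rfl⟩ : FibrePts p (ζ ≫ p)) F).1 ?_
      rw [← gmS_unit, ← gmS_unit]
      exact congrArg (gmS G ζ _ _) hst
    have : Mono u.hom := NatTrans.mono_of_mono_app _
    exact (sheafToPresheaf _ _).mono_of_mono_map (f := u) ‹_›
  refine mem_range_secPull_of_mono h hinj u ξ ?_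
  obtain ⟨sb, hsb⟩ := (hbij G).2 (squareTransport w F ξ)
  refine ⟨G.obj.map (EtCore.bcTopIso p).hom.op sb, ?_⟩
  have hm : Mono ((EtBC.baseChange0Sh p h pY hb w G).hom.app (op (EtCoh.top Y))) :=
    have := hmono G
    inferInstanceAs (Mono ((sheafToPresheaf _ _ ⋙ (evaluation _ _).obj (op (EtCoh.top Y))).map
      (EtBC.baseChange0Sh p h pY hb w G)))
  refine (mono_iff_injective _).1 hm ((baseChange0Sh_secPull p h pY hb w G sb).trans ?_)
  rw [hsb, ← baseChange0Sh_unit_app w F ξ, ← ConcreteCategory.comp_apply, ← Functor.map_comp, ← op_comp,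
    Iso.hom_inv_id, op_id, CategoryTheory.Functor.map_id]
  rfl

end Groth.Agent.Et18.H0Lift
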