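import Groth.Agent.Et18.FiniteFibreAffine
import Groth.Agent.Et18.FiniteFibre
import Groth.Agent.Et18.GeomLift
import Mathlib.AlgebraicGeometry.Morphisms.Flat
import Mathlib.AlgebraicGeometry.Morphisms.FinitePresentation

/-!
# A piece of a finite flat morphism with a single geometric point over a point
-/

set_option autoImplicit false
set_option backward.isDefEq.respectTransparency.types false
set_option backward.isDefEq.respectTransparency false

universe u

open CategoryTheory CategoryTheory.Limits AlgebraicGeometry Opposite TopologicalSpace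

namespace Groth.Agent.Et18.H0Lift

/-- Étale locally on the base, a finite flat morphism has a piece with one geometric point over the given
point. -/
theorem exists_unibranch_finite {V S' : Scheme.{u}} (π : V ⟶ S') [IsFinite π] [Flat π]
    [LocallyOfFinitePresentation π] [Surjective π] (s' : S') :
    ∃ (U W : Scheme.{u}) (e : U ⟶ S') (ρ : W ⟶ U) (r : W ⟶ V) (u : U),
      Etale e ∧ e u = s' ∧ IsFinite ρ ∧ Flat ρ ∧ LocallyOfFinitePresentation ρ ∧ r ≫ π = ρ ≫ e ∧
        u ∈ Set.range ρ ∧
        ∀ c : ↑(pullback ρ ρ), (pullback.fst ρ ρ ≫ ρ) c = u → c ∈ Set.range (pullback.diagonal ρ) := by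
  obtain ⟨A, hA, hsA, -⟩ := exists_isAffineOpen_mem_and_subset (X := S') (x := s') (U := ⊤) trivial
  have : IsAffine A.toScheme := hA
  let φ := π ∣_ A
  have : IsFinite φ := MorphismProperty.of_isPullback (P := @IsFinite) (isPullback_morphismRestrict π A).flip ‹_›
  have : Flat φ := MorphismProperty.of_isPullback (P := @Flat) (isPullback_morphismRestrict π A).flip ‹_›
  have : LocallyOfFinitePresentation φ :=
    MorphismProperty.of_isPullback (P := @LocallyOfFinitePresentation) (isPullback_morphismRestrict π A).flip ‹_›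
  have : IsAffine (π ⁻¹ᵁ A).toScheme := isAffine_of_isAffineHom φ
  let a : A.toScheme := ⟨s', hsA⟩
  let η := algPoint A.toScheme a
  let Z := (π ⁻¹ᵁ A).toScheme
  have hfin : Finite (FibrePts φ η) := finite_lifts_of_isFinite φ η
  obtain ⟨y, hy⟩ := π.surjective s'
  let y' : Z := ⟨y, show π y ∈ A by rw [hy]; exact hsA⟩
  obtain ⟨t, ht, -⟩ := exists_lift_of_locallyQuasiFinite φ η y' (by
    rw [algPoint_default]
    exact Subtype.ext ((congrArg (fun k : _ ⟶ S' => k y') (morphismRestrict_ι π A)).trans hy))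
  obtain ⟨U, e, he, v', hv', P, r, l, sq, D, hdisj, hcov, hh, x, hx⟩ :=
    exists_affine_split φ η (fun i : FibrePts φ η => i.1) (fun i => i.2) Subtype.val_injective
      (fun t ht => ⟨⟨t, ht⟩, rfl⟩) (fun _ => Z) (fun _ => 𝟙 Z) (fun i => i.1)
      (fun i => Category.comp_id _)
  let i₀ : FibrePts φ η := ⟨t, ht⟩
  let W := (D i₀).toScheme
  let ρ := (D i₀).ι ≫ l
  have : IsFinite l := MorphismProperty.of_isPullback (P := @IsFinite) sq ‹_›
  have : Flat l := MorphismProperty.of_isPullback (P := @Flat) sq ‹_›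
  have : LocallyOfFinitePresentation l := MorphismProperty.of_isPullback (P := @LocallyOfFinitePresentation) sq ‹_›
  have hcl : IsClosed (D i₀ : Set P) := by
    rw [← isOpen_compl_iff, show ((D i₀ : Set P))ᶜ = ⋃ j ∈ {j | j ≠ i₀}, (D j : Set P) from ?_]
    · exact isOpen_biUnion fun j _ => (D j).2
    · ext z
      simp only [Set.mem_compl_iff, Set.mem_iUnion, Set.mem_ofPred_eq]
      constructor
      · intro hz
        obtain ⟨j, hj⟩ := Opens.mem_iSup.1 (hcov.ge (show z ∈ (⊤ : P.Opens) from trivial))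
        exact ⟨j, fun h => hz (h ▸ hj), hj⟩
      · rintro ⟨j, hj, hzj⟩ hz
        exact Set.disjoint_left.1 (Opens.coe_disjoint.2 (hdisj j i₀ hj)) hzj hz
  have : IsClosedImmersion (D i₀).ι := IsClosedImmersion.of_isPreimmersion _ (by rwa [Scheme.Opens.range_ι])
  have hxl : x i₀ ≫ ρ = v' := (hx i₀).2.1
  have hxr : ∀ i, x i ≫ (D i).ι ≫ r = i.1 := fun i => by
    rw [← (hx i).1, Category.comp_id]
    exact (hx i).2.2
  refine ⟨U, W, e ≫ A.ι, ρ, (D i₀).ι ≫ r ≫ (π ⁻¹ᵁ A).ι, v' default, inferInstance, ?_, inferInstance,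
    inferInstance, inferInstance, ?_, ?_, ?_⟩
  · rw [Scheme.Hom.comp_apply, ← Scheme.Hom.comp_apply v' e, hv', algPoint_default]
    rfl
  · rw [Category.assoc, Category.assoc, ← morphismRestrict_ι, ← Category.assoc r, sq.w]
    simp only [ρ, Category.assoc]
  · exact ⟨x i₀ default, by rw [← Scheme.Hom.comp_apply, hxl]⟩
  intro c hc
  let m := pullback.fst ρ ρ ≫ ρ
  have : IsFinite m := inferInstance
  obtain ⟨z, hz, hzc⟩ := exists_lift_of_locallyQuasiFinite m v' c hc
  have key : ∀ w : Spec (CommRingCat.of (AlgebraicClosure (A.toScheme.residueField a))) ⟶ W,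
      w ≫ ρ = v' → w = x i₀ := by
    intro w hw
    have hwη : (w ≫ (D i₀).ι ≫ r) ≫ φ = η := by
      simp only [Category.assoc]
      rw [sq.w, ← Category.assoc (D i₀).ι, ← Category.assoc w, hw, hv']
    let j : FibrePts φ η := ⟨_, hwη⟩
    have e1 : w ≫ (D i₀).ι = x j ≫ (D j).ι := by
      refine sq.hom_ext ?_ ?_
      · rw [Category.assoc, Category.assoc, hxr j]
      · rw [Category.assoc, Category.assoc, (hx j).2.1]
        exact hw
    have hj : j = i₀ := by
      by_contra hne
      refine Set.disjoint_left.1 (Opens.coe_disjoint.2 (hdisj j i₀ hne)) (x j default).2 ?_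
      have : (x j ≫ (D j).ι) default = (w ≫ (D i₀).ι) default := by rw [e1]
      rw [Scheme.Hom.comp_apply, Scheme.Hom.comp_apply] at this
      exact Eq.mpr (congrArg (· ∈ (D i₀ : Set P)) this) (w default).2
    rw [← cancel_mono (D i₀).ι, e1, hj]
  have e2 : z ≫ pullback.fst ρ ρ = z ≫ pullback.snd ρ ρ := by
    rw [key (z ≫ pullback.fst ρ ρ) (by rw [Category.assoc]; exact hz),
      key (z ≫ pullback.snd ρ ρ) (by rw [Category.assoc, ← pullback.condition]; exact hz)]
  refine ⟨(z ≫ pullback.fst ρ ρ) default, ?_⟩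
  have e3 : (z ≫ pullback.fst ρ ρ) ≫ pullback.diagonal ρ = z := by
    refine pullback.hom_ext ?_ ?_
    · simp
    · simp [e2]
  rw [← hzc, ← Scheme.Hom.comp_apply, e3]

end Groth.Agent.Et18.H0Lift
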